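import Cfsg.Agent.Lib.Concrete.Mathieu

/-!
The groups `Spor.M23`, `Spor.M22`, `Spor.M12`, `Spor.M11` of the target: orders and simplicity.
-/

set_option autoImplicit false

namespace Cfsg.Lib.Concrete

open scoped Pointwise
open MulAction

/-- A subgroup cut out of M24, inside M24 and inside all permutations. -/
def subPermEquiv (H : Subgroup M24) (K : Subgroup (Equiv.Perm GolayPt)) (hK : K ≤ M24)
    (h : ∀ x : M24, x ∈ H ↔ (x : Equiv.Perm GolayPt) ∈ K) : H ≃* K where
  toFun x := ⟨((x : M24) : Equiv.Perm GolayPt), (h x).1 x.2⟩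
  invFun y := ⟨⟨y, hK y.2⟩, (h _).2 y.2⟩
  left_inv _ := rfl
  right_inv _ := rfl
  map_mul' _ _ := rfl

theorem sporM23_le : Spor.M23 ≤ M24 := inf_le_left

theorem sporM22_le : Spor.M22 ≤ M24 := inf_le_left.trans sporM23_le

theorem sporM12_le : Spor.M12 ≤ M24 := inf_le_left

theorem sporM11_le : Spor.M11 ≤ M24 := inf_le_left.trans sporM12_le

theorem none_ne_zeroPt : (none : GolayPt) ≠ some 0 := by decide

theorem zero_mem_squareDodecad : (some 0 : GolayPt) ∈ Spor.squareDodecad := by
  rw [squareDodecad_eq]; decide +kernel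

/-- M23 of the target as a stabiliser in M24. -/
def sporM23Equiv : stabilizer M24 (none : GolayPt) ≃* Spor.M23 :=
  subPermEquiv _ _ sporM23_le fun x => ⟨fun h => ⟨x.2, h⟩, fun h => h.2⟩

/-- M22 of the target as a two-point stabiliser in M24. -/
def sporM22Equiv :
    ↥(stabilizer M24 (none : GolayPt) ⊓ stabilizer M24 (some 0 : GolayPt)) ≃* Spor.M22 :=
  subPermEquiv _ _ sporM22_le fun x => ⟨fun h => ⟨⟨x.2, h.1⟩, h.2⟩, fun h => ⟨h.1.2, h.2⟩⟩

/-- M12 of the target as a dodecad stabiliser in M24. -/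
def sporM12Equiv : stabilizer M24 Spor.squareDodecad ≃* Spor.M12 :=
  subPermEquiv _ _ sporM12_le fun x => ⟨fun h => ⟨x.2, h⟩, fun h => h.2⟩

/-- M11 of the target as a stabiliser of a dodecad and one of its points. -/
def sporM11Equiv :
    ↥(stabilizer M24 Spor.squareDodecad ⊓ stabilizer M24 (some 0 : GolayPt)) ≃* Spor.M11 :=
  subPermEquiv _ _ sporM11_le fun x => ⟨fun h => ⟨⟨x.2, h.1⟩, h.2⟩, fun h => ⟨h.1.2, h.2⟩⟩

theorem card_sporM23 : Nat.card Spor.M23 = 10200960 :=
  (Nat.card_congr sporM23Equiv.toEquiv).symm.trans (card_M24_stabilizer _)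

theorem card_sporM22 : Nat.card Spor.M22 = 443520 :=
  (Nat.card_congr sporM22Equiv.toEquiv).symm.trans (card_two_stabilizer none_ne_zeroPt)

theorem card_sporM12 : Nat.card Spor.M12 = 95040 :=
  (Nat.card_congr sporM12Equiv.toEquiv).symm.trans (card_dod_stabilizer squareDodecad_mem)

theorem card_sporM11 : Nat.card Spor.M11 = 7920 :=
  (Nat.card_congr sporM11Equiv.toEquiv).symm.trans
    (card_dod_point_stabilizer squareDodecad_mem zero_mem_squareDodecad)

theorem isSimple_sporM23 : IsSimpleGroup Spor.M23 :=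
  have := isSimple_stabilizer none
  sporM23Equiv.isSimpleGroup_congr.1 this

theorem isSimple_sporM22 : IsSimpleGroup Spor.M22 :=
  have := isSimple_two_stabilizer none_ne_zeroPt
  sporM22Equiv.isSimpleGroup_congr.1 this

theorem isSimple_sporM12 : IsSimpleGroup Spor.M12 :=
  have := isSimple_dod_stabilizer squareDodecad_mem
  sporM12Equiv.isSimpleGroup_congr.1 this

theorem isSimple_sporM11 : IsSimpleGroup Spor.M11 :=
  have := isSimple_dod_point_stabilizer squareDodecad_mem zero_mem_squareDodecad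
  sporM11Equiv.isSimpleGroup_congr.1 this

theorem perfect_sporM11 : commutator Spor.M11 = ⊤ := by
  refine Subgroup.map_injective (f := sporM11Equiv.symm.toMonoidHom)
    sporM11Equiv.symm.injective ?_
  rw [commutator_def, Subgroup.map_commutator,
    Subgroup.map_top_of_surjective _ sporM11Equiv.symm.surjective, ← commutator_def]
  exact perfect_dod_point_stabilizer squareDodecad_mem zero_mem_squareDodecad

end Cfsg.Lib.Concrete
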