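import Cfsg.Agent.Lib.Concrete.SteinbergRankOne
import Cfsg.Agent.Lib.Linear.SLPerfect
import Cfsg.Agent.Lib.Chev.StStem
import Cfsg.Agent.Lib.Schur.Transfer
import Cfsg.Agent.S3963
import Cfsg.Agent.S3979
import Cfsg.Agent.S3953
import Cfsg.Agent.S0261
import Cfsg.Agent.Lib.Linear.GLTwo

/-!
The multiplier of the special linear group of degree two is trivial outside four and nine elements.
-/

set_option autoImplicit false

namespace Cfsg.Lib.Concrete.SLTwoMult

open scoped commutatorElement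
open Subgroup

universe u

variable {K : Type u} [Field K]


/-- The diagonal element. -/
def tor (a : Kˣ) : (Matrix.SpecialLinearGroup (Fin 2) K) :=
  ⟨!![(a : K), 0; 0, ((a⁻¹ : Kˣ) : K)], by simp [Matrix.det_fin_two_of]⟩

theorem upper_add (t u : K) : StTwo.upper t * StTwo.upper u = StTwo.upper (t + u) := by
  refine Matrix.SpecialLinearGroup.ext _ _ fun i j => ?_
  rw [Matrix.SpecialLinearGroup.coe_mul]
  fin_cases i <;> fin_cases j <;> simp [StTwo.upper, Matrix.mul_apply, Fin.sum_univ_two, add_comm]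

theorem lower_add (t u : K) : StTwo.lower t * StTwo.lower u = StTwo.lower (t + u) := by
  refine Matrix.SpecialLinearGroup.ext _ _ fun i j => ?_
  rw [Matrix.SpecialLinearGroup.coe_mul]
  fin_cases i <;> fin_cases j <;> simp [StTwo.lower, Matrix.mul_apply, Fin.sum_univ_two]

theorem upper_zero : StTwo.upper (0 : K) = 1 := by
  refine Matrix.SpecialLinearGroup.ext _ _ fun i j => ?_
  fin_cases i <;> fin_cases j <;> simp [StTwo.upper]

theorem lower_zero : StTwo.lower (0 : K) = 1 := by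
  refine Matrix.SpecialLinearGroup.ext _ _ fun i j => ?_
  fin_cases i <;> fin_cases j <;> simp [StTwo.lower]

theorem upper_inv (t : K) : (StTwo.upper t)⁻¹ = StTwo.upper (-t) :=
  inv_eq_of_mul_eq_one_right (by rw [upper_add, add_neg_cancel, upper_zero])

theorem lower_inv (t : K) : (StTwo.lower t)⁻¹ = StTwo.lower (-t) :=
  inv_eq_of_mul_eq_one_right (by rw [lower_add, add_neg_cancel, lower_zero])

theorem tor_upper (a : Kˣ) (t : K) : tor a * StTwo.upper t * (tor a)⁻¹ = StTwo.upper ((a : K) ^ 2 * t) := by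
  rw [mul_inv_eq_iff_eq_mul]
  refine Matrix.SpecialLinearGroup.ext _ _ fun i j => ?_
  rw [Matrix.SpecialLinearGroup.coe_mul, Matrix.SpecialLinearGroup.coe_mul]
  fin_cases i <;> fin_cases j <;> simp [tor, StTwo.upper, Matrix.mul_apply, Fin.sum_univ_two]
  field_simp

theorem tor_lower (a : Kˣ) (t : K) : (tor a)⁻¹ * StTwo.lower t * tor a = StTwo.lower ((a : K) ^ 2 * t) := by
  rw [mul_assoc, inv_mul_eq_iff_eq_mul]
  refine Matrix.SpecialLinearGroup.ext _ _ fun i j => ?_
  rw [Matrix.SpecialLinearGroup.coe_mul, Matrix.SpecialLinearGroup.coe_mul]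
  fin_cases i <;> fin_cases j <;> simp [tor, StTwo.lower, Matrix.mul_apply, Fin.sum_univ_two]
  field_simp

/-- The Weyl element over `x t`. -/
def wUp (t : K) : (Matrix.SpecialLinearGroup (Fin 2) K) := StTwo.upper t * StTwo.lower (-t⁻¹) * StTwo.upper t

/-- The Weyl element over `y t`. -/
def wLo (t : K) : (Matrix.SpecialLinearGroup (Fin 2) K) := StTwo.lower t * StTwo.upper (-t⁻¹) * StTwo.lower t

theorem coe_wUp {t : K} (ht : t ≠ 0) : ((wUp t : (Matrix.SpecialLinearGroup (Fin 2) K)) : Matrix (Fin 2) (Fin 2) K) = !![0, t; -t⁻¹, 0] := by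
  rw [wUp, Matrix.SpecialLinearGroup.coe_mul, Matrix.SpecialLinearGroup.coe_mul]
  ext i j
  fin_cases i <;> fin_cases j <;> simp [StTwo.upper, StTwo.lower, Matrix.mul_apply, Fin.sum_univ_two, ht]

theorem coe_wLo {t : K} (ht : t ≠ 0) : ((wLo t : (Matrix.SpecialLinearGroup (Fin 2) K)) : Matrix (Fin 2) (Fin 2) K) = !![0, -t⁻¹; t, 0] := by
  rw [wLo, Matrix.SpecialLinearGroup.coe_mul, Matrix.SpecialLinearGroup.coe_mul]
  ext i j
  fin_cases i <;> fin_cases j <;> simp [StTwo.upper, StTwo.lower, Matrix.mul_apply, Fin.sum_univ_two, ht]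

theorem wUp_tor {t : K} (ht : t ≠ 0) (a : Kˣ) : wUp t * tor a * (wUp t)⁻¹ = (tor a)⁻¹ := by
  rw [mul_inv_eq_iff_eq_mul, eq_inv_mul_iff_mul_eq]
  refine Matrix.SpecialLinearGroup.ext _ _ fun i j => ?_
  simp only [Matrix.SpecialLinearGroup.coe_mul, coe_wUp ht]
  fin_cases i <;> fin_cases j <;> simp [tor, Matrix.mul_apply, Fin.sum_univ_two]
  all_goals field_simp

theorem wLo_tor {t : K} (ht : t ≠ 0) (a : Kˣ) : wLo t * tor a * (wLo t)⁻¹ = (tor a)⁻¹ := by
  rw [mul_inv_eq_iff_eq_mul, eq_inv_mul_iff_mul_eq]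
  refine Matrix.SpecialLinearGroup.ext _ _ fun i j => ?_
  simp only [Matrix.SpecialLinearGroup.coe_mul, coe_wLo ht]
  fin_cases i <;> fin_cases j <;> simp [tor, Matrix.mul_apply, Fin.sum_univ_two]
  all_goals field_simp

theorem wUp_upper {t : K} (ht : t ≠ 0) (u : K) :
    wUp t * StTwo.upper u * (wUp t)⁻¹ = StTwo.lower (-(t⁻¹ ^ 2 * u)) := by
  rw [mul_inv_eq_iff_eq_mul]
  refine Matrix.SpecialLinearGroup.ext _ _ fun i j => ?_
  simp only [Matrix.SpecialLinearGroup.coe_mul, coe_wUp ht]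
  fin_cases i <;> fin_cases j <;> simp [StTwo.upper, StTwo.lower, Matrix.mul_apply, Fin.sum_univ_two]
  all_goals field_simp

theorem wLo_lower {t : K} (ht : t ≠ 0) (u : K) :
    wLo t * StTwo.lower u * (wLo t)⁻¹ = StTwo.upper (-(t⁻¹ ^ 2 * u)) := by
  rw [mul_inv_eq_iff_eq_mul]
  refine Matrix.SpecialLinearGroup.ext _ _ fun i j => ?_
  simp only [Matrix.SpecialLinearGroup.coe_mul, coe_wLo ht]
  fin_cases i <;> fin_cases j <;> simp [StTwo.upper, StTwo.lower, Matrix.mul_apply, Fin.sum_univ_two]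
  all_goals field_simp

theorem closure_upper_lower : Subgroup.closure (Set.range (StTwo.upper (K := K)) ∪ Set.range StTwo.lower) = ⊤ := by
  rw [eq_top_iff, ← Cfsg.Lib.Linear.closure_transvection_eq_top, Subgroup.closure_le]
  rintro _ ⟨i, j, hij, c, rfl⟩
  refine Subgroup.subset_closure ?_
  fin_cases i <;> fin_cases j
  · exact absurd rfl hij
  · refine Or.inl ⟨c, Matrix.SpecialLinearGroup.ext _ _ fun a b => ?_⟩
    fin_cases a <;> fin_cases b <;>
      simp [StTwo.upper, Matrix.SpecialLinearGroup.transvection, Matrix.transvection, Matrix.single]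
  · refine Or.inr ⟨c, Matrix.SpecialLinearGroup.ext _ _ fun a b => ?_⟩
    fin_cases a <;> fin_cases b <;>
      simp [StTwo.lower, Matrix.SpecialLinearGroup.transvection, Matrix.transvection, Matrix.single]
  · exact absurd rfl hij

variable {E : Type*} [Group E] (σ : E →* (Matrix.SpecialLinearGroup (Fin 2) K)) (hc : σ.ker ≤ center E)
include hc

theorem comm_congr {a a' b b' : E} (ha : σ a = σ a') (hb : σ b = σ b') : ⁅a, b⁆ = ⁅a', b'⁆ := by
  have key : ∀ {a a' : E} (b : E), σ a = σ a' → ⁅a, b⁆ = ⁅a', b⁆ := by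
    intro a a' b h
    have hz : a'⁻¹ * a ∈ center E := hc (by rw [MonoidHom.mem_ker, map_mul, map_inv, h, inv_mul_cancel])
    have hz' := mem_center_iff.1 hz b
    have e : a = a' * (a'⁻¹ * a) := by group
    generalize a'⁻¹ * a = z at e hz'
    rw [e, commutatorElement_def, commutatorElement_def, mul_inv_rev]
    calc a' * z * b * (z⁻¹ * a'⁻¹) * b⁻¹ = a' * (z * b) * z⁻¹ * a'⁻¹ * b⁻¹ := by group
      _ = a' * (b * z) * z⁻¹ * a'⁻¹ * b⁻¹ := by rw [hz']
      _ = _ := by group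
  rw [key b ha, ← commutatorElement_inv b a', key a' hb, commutatorElement_inv]

theorem central_of_map_one {a b : E} (h : σ ⁅a, b⁆ = 1) : ⁅a, b⁆ ∈ center E := hc (MonoidHom.mem_ker.2 h)

variable (a : Kˣ) (H : E) (hH : σ H = tor a) (ha : (a : K) ^ 2 ≠ 1) (Lx Ly : K → E)
  (hLx : ∀ t, σ (Lx t) = StTwo.upper t) (hLy : ∀ t, σ (Ly t) = StTwo.lower t)
include hH ha hLx hLy

/-- The canonical lift of an upper root element. -/
def lx (t : K) : E := ⁅H, Lx (t / ((a : K) ^ 2 - 1))⁆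

/-- The canonical lift of a lower root element. -/
def ly (t : K) : E := ⁅H⁻¹, Ly (t / ((a : K) ^ 2 - 1))⁆

omit hc in
theorem map_X (t : K) : σ (lx a H Lx t) = StTwo.upper t := by
  have h := sub_ne_zero.2 ha
  rw [lx, map_commutatorElement, hH, hLx, commutatorElement_def, tor_upper, upper_inv, upper_add]
  congr 1
  field_simp
  ring

omit hc in
theorem map_Y (t : K) : σ (ly a H Ly t) = StTwo.lower t := by
  have h := sub_ne_zero.2 ha
  rw [ly, map_commutatorElement, map_inv, hH, hLy, commutatorElement_def, inv_inv, tor_lower, lower_inv, lower_add]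
  congr 1
  field_simp
  ring

theorem conj_X {t : K} (ht : t ≠ 0) (W : E) (hW : σ W = wUp t) (u : K) :
    W * lx a H Lx u * W⁻¹ = ly a H Ly (-(t⁻¹ ^ 2 * u)) := by
  rw [lx, ly, show W * ⁅H, Lx (u / ((a : K) ^ 2 - 1))⁆ * W⁻¹ = ⁅W * H * W⁻¹, W * Lx (u / ((a : K) ^ 2 - 1)) * W⁻¹⁆ by
    rw [commutatorElement_def, commutatorElement_def]; group]
  refine comm_congr σ hc ?_ ?_
  · rw [map_mul, map_mul, map_inv, map_inv, hW, hH, wUp_tor ht]
  · rw [map_mul, map_mul, map_inv, hW, hLx, hLy, wUp_upper ht]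
    congr 1
    ring

theorem conj_Y {t : K} (ht : t ≠ 0) (W : E) (hW : σ W = wLo t) (u : K) :
    W * ly a H Ly u * W⁻¹ = lx a H Lx (-(t⁻¹ ^ 2 * u)) := by
  rw [lx, ly, show W * ⁅H⁻¹, Ly (u / ((a : K) ^ 2 - 1))⁆ * W⁻¹ = ⁅W * H⁻¹ * W⁻¹, W * Ly (u / ((a : K) ^ 2 - 1)) * W⁻¹⁆ by
    rw [commutatorElement_def, commutatorElement_def]; group]
  refine comm_congr σ hc ?_ ?_
  · rw [map_mul, map_mul, map_inv, map_inv, hW, hH]
    rw [show (wLo t : (Matrix.SpecialLinearGroup (Fin 2) K)) * (tor a)⁻¹ * (wLo t)⁻¹ = (wLo t * tor a * (wLo t)⁻¹)⁻¹ by group, wLo_tor ht, inv_inv]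
  · rw [map_mul, map_mul, map_inv, hW, hLy, hLx, wLo_lower ht]
    congr 1
    ring

omit hH ha hLy in
theorem add_upper (habel : ∀ u v : K, Commute (Lx u) (Lx v)) (hH' : ∃ b : Kˣ, σ H = tor b) (t u : K) :
    lx a H Lx t * lx a H Lx u = lx a H Lx (t + u) := by
  obtain ⟨b, hb⟩ := hH'
  set d := (a : K) ^ 2 - 1
  have e : ⁅H, Lx ((t + u) / d)⁆ = ⁅H, Lx (t / d) * Lx (u / d)⁆ :=
    comm_congr σ hc rfl (by rw [map_mul, hLx, hLx, hLx, upper_add, add_div])
  show ⁅H, Lx (t / d)⁆ * ⁅H, Lx (u / d)⁆ = ⁅H, Lx ((t + u) / d)⁆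
  rw [e]
  have hv : σ (H * Lx (u / d) * H⁻¹) = σ (Lx ((b : K) ^ 2 * (u / d))) := by
    rw [map_mul, map_mul, map_inv, hb, hLx, hLx, tor_upper]
  have hz : H * Lx (u / d) * H⁻¹ * (Lx ((b : K) ^ 2 * (u / d)))⁻¹ ∈ center E :=
    hc (by rw [MonoidHom.mem_ker, map_mul, hv, map_inv, mul_inv_cancel])
  have hcm : Commute (Lx (t / d)) ⁅H, Lx (u / d)⁆ := by
    rw [commutatorElement_def, show H * Lx (u / d) * H⁻¹ * (Lx (u / d))⁻¹ =
      H * Lx (u / d) * H⁻¹ * (Lx ((b : K) ^ 2 * (u / d)))⁻¹ * Lx ((b : K) ^ 2 * (u / d)) * (Lx (u / d))⁻¹ by group]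
    exact (Commute.mul_right (Commute.mul_right ((mem_center_iff.1 hz _) : Commute _ _) (habel _ _))
      (habel _ _).inv_right)
  rw [show ⁅H, Lx (t / d) * Lx (u / d)⁆ = ⁅H, Lx (t / d)⁆ * (Lx (t / d) * ⁅H, Lx (u / d)⁆ * (Lx (t / d))⁻¹) by
    rw [commutatorElement_def, commutatorElement_def, commutatorElement_def]; group, hcm.eq, mul_inv_cancel_right]

omit hH ha hLx in
theorem add_lower (habel : ∀ u v : K, Commute (Ly u) (Ly v)) (hH' : ∃ b : Kˣ, σ H = tor b) (t u : K) :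
    ly a H Ly t * ly a H Ly u = ly a H Ly (t + u) := by
  obtain ⟨b, hb⟩ := hH'
  set d := (a : K) ^ 2 - 1
  have e : ⁅H⁻¹, Ly ((t + u) / d)⁆ = ⁅H⁻¹, Ly (t / d) * Ly (u / d)⁆ :=
    comm_congr σ hc rfl (by rw [map_mul, hLy, hLy, hLy, lower_add, add_div])
  show ⁅H⁻¹, Ly (t / d)⁆ * ⁅H⁻¹, Ly (u / d)⁆ = ⁅H⁻¹, Ly ((t + u) / d)⁆
  rw [e]
  have hv : σ (H⁻¹ * Ly (u / d) * H) = σ (Ly ((b : K) ^ 2 * (u / d))) := by
    rw [map_mul, map_mul, map_inv, hb, hLy, hLy, tor_lower]
  have hz : H⁻¹ * Ly (u / d) * H * (Ly ((b : K) ^ 2 * (u / d)))⁻¹ ∈ center E :=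
    hc (by rw [MonoidHom.mem_ker, map_mul, hv, map_inv, mul_inv_cancel])
  have hcm : Commute (Ly (t / d)) ⁅H⁻¹, Ly (u / d)⁆ := by
    rw [commutatorElement_def, inv_inv, show H⁻¹ * Ly (u / d) * H * (Ly (u / d))⁻¹ =
      H⁻¹ * Ly (u / d) * H * (Ly ((b : K) ^ 2 * (u / d)))⁻¹ * Ly ((b : K) ^ 2 * (u / d)) * (Ly (u / d))⁻¹ by group]
    exact (Commute.mul_right (Commute.mul_right ((mem_center_iff.1 hz _) : Commute _ _) (habel _ _))
      (habel _ _).inv_right)
  rw [show ⁅H⁻¹, Ly (t / d) * Ly (u / d)⁆ = ⁅H⁻¹, Ly (t / d)⁆ * (Ly (t / d) * ⁅H⁻¹, Ly (u / d)⁆ * (Ly (t / d))⁻¹) by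
    rw [commutatorElement_def, commutatorElement_def, commutatorElement_def]; group, hcm.eq, mul_inv_cancel_right]

end Cfsg.Lib.Concrete.SLTwoMult

namespace Cfsg.Lib.Concrete.SLTwoMult

open scoped commutatorElement
open Subgroup

universe u

variable {K : Type u} [Field K] {E : Type*} [Group E]

/-- Lifts of a root group commute, given enough squares. -/
theorem lifts_commute (f : K → E) (hadd : ∀ a b, (f (a + b))⁻¹ * (f a * f b) ∈ center E)
    (hinv : ∀ (c : Kˣ) (u v : K), ⁅f ((c : K) ^ 2 * u), f ((c : K) ^ 2 * v)⁆ = ⁅f u, f v⁆)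
    (hz : ∀ u v, ⁅f u, f v⁆ ∈ center E)
    (hK : (∀ u : K, ∃ n : ℕ, u = n) ∨ ∃ s t : K, s ≠ 0 ∧ t ≠ 0 ∧ s ^ 2 + t ^ 2 = 1 ∧ (s ^ 2) ^ 2 - s ^ 2 + 1 ≠ 0)
    (u v : K) : Commute (f u) (f v) := by
  let β : K → K → center E := fun u v => ⟨_, hz u v⟩
  have hadd₁ : ∀ u₁ u₂ v, β (u₁ + u₂) v = β u₁ v * β u₂ v := by
    intro u₁ u₂ v
    refine Subtype.ext ?_
    show ⁅f (u₁ + u₂), f v⁆ = ⁅f u₁, f v⁆ * ⁅f u₂, f v⁆
    have e : f u₁ * f u₂ = f (u₁ + u₂) * ((f (u₁ + u₂))⁻¹ * (f u₁ * f u₂)) := by group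
    have hz' := mem_center_iff.1 (hadd u₁ u₂) (f v)
    have h1 : ⁅f u₁ * f u₂, f v⁆ = ⁅f (u₁ + u₂), f v⁆ := by
      generalize (f (u₁ + u₂))⁻¹ * (f u₁ * f u₂) = z at e hz'
      rw [e, commutatorElement_def, commutatorElement_def, mul_inv_rev]
      calc f (u₁ + u₂) * z * f v * (z⁻¹ * (f (u₁ + u₂))⁻¹) * (f v)⁻¹
          = f (u₁ + u₂) * (z * f v) * z⁻¹ * (f (u₁ + u₂))⁻¹ * (f v)⁻¹ := by group
        _ = f (u₁ + u₂) * (f v * z) * z⁻¹ * (f (u₁ + u₂))⁻¹ * (f v)⁻¹ := by rw [hz']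
        _ = _ := by group
    rw [← h1, show ⁅f u₁ * f u₂, f v⁆ = f u₁ * ⁅f u₂, f v⁆ * (f u₁)⁻¹ * ⁅f u₁, f v⁆ by
      rw [commutatorElement_def, commutatorElement_def, commutatorElement_def]; group,
      mem_center_iff.1 (hz u₂ v) (f u₁), mul_inv_cancel_right, ← mem_center_iff.1 (hz u₂ v)]
  have hanti : ∀ u v, β u v = (β v u)⁻¹ := fun u v => Subtype.ext (commutatorElement_inv (f v) (f u)).symm
  have hcomm : ∀ a b : center E, a * b = b * a := fun a b => Subtype.ext (mem_center_iff.1 b.2 a)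
  have hadd₂ : ∀ u v₁ v₂, β u (v₁ + v₂) = β u v₁ * β u v₂ := fun u v₁ v₂ => by
    rw [hanti u (v₁ + v₂), hadd₁, mul_inv_rev, ← hanti, ← hanti, hcomm]
  have hz1 : ∀ u, β u 0 = 1 := fun u => by
    have := hadd₂ u 0 0; rw [add_zero] at this; exact mul_eq_left.1 this.symm
  have hz0 : ∀ v, β 0 v = 1 := fun v => by
    have := hadd₁ 0 0 v; rw [add_zero] at this; exact mul_eq_left.1 this.symm
  suffices h : β u v = 1 from commutatorElement_eq_one_iff_commute.1 (congrArg Subtype.val h)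
  rcases hK with hp | ⟨s, t, hs, ht, hst, hne⟩
  · have hn : ∀ (n : ℕ) w, β (n : K) w = β 1 w ^ n := by
      intro n w
      induction n with
      | zero => rw [Nat.cast_zero, hz0, pow_zero]
      | succ n ih => rw [Nat.cast_succ, hadd₁, ih, pow_succ]
    obtain ⟨n, rfl⟩ := hp u
    obtain ⟨m, rfl⟩ := hp v
    rw [hn, hanti 1 (m : K), hn, show β 1 1 = 1 from Subtype.ext (commutatorElement_self (f 1)), one_pow, inv_one,
      one_pow]
  · have hsc : ∀ (c : K), c ≠ 0 → ∀ u v, β (c ^ 2 * u) (c ^ 2 * v) = β u v := fun c hc u v =>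
      Subtype.ext (hinv (Units.mk0 c hc) u v)
    set c := s ^ 2 with hcdef
    have hd : t ^ 2 = 1 - c := by linear_combination hst
    have hc0 : c ≠ 0 := pow_ne_zero 2 hs
    have hswap : ∀ u v, β (c * u) v = β u (c⁻¹ * v) := fun u v => by
      rw [← hsc s hs u (c⁻¹ * v), ← hcdef, ← mul_assoc, mul_inv_cancel₀ hc0, one_mul]
    -- the second square gives the relation killing the form
    have hrel : ∀ u v, β u v = β (c * u) v * β u (c * v) := by
      intro u v
      have h1 : β (c * u + t ^ 2 * u) (c * v + t ^ 2 * v) = β u v := by rw [hd]; ring_nf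
      rw [hadd₁, hadd₂, hadd₂, hcdef, hsc s hs, hsc t ht, ← hcdef] at h1
      have h2 : β (c * u) v = β (c * u) (c * v) * β (c * u) (t ^ 2 * v) := by rw [← hadd₂, hd]; ring_nf
      have h3 : β u (c * v) = β (c * u) (c * v) * β (t ^ 2 * u) (c * v) := by rw [← hadd₁, hd]; ring_nf
      rw [hcdef, hsc s hs, ← hcdef] at h2 h3
      rw [h2, h3]
      let _ : CommGroup (center E) := { (inferInstance : Group (center E)) with mul_comm := hcomm }
      calc β u v = β u v * β (c * u) (t ^ 2 * v) * (β (t ^ 2 * u) (c * v) * β u v) := h1.symm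
        _ = _ := by ac_rfl
    have hk : ∀ u v, β u ((c⁻¹ + c - 1) * v) = 1 := fun u v => by
      have h1 := hrel u v
      rw [hswap, ← hadd₂] at h1
      have h2 := hadd₂ u v ((c⁻¹ + c - 1) * v)
      rw [show v + (c⁻¹ + c - 1) * v = c⁻¹ * v + c * v by ring, ← h1] at h2
      exact mul_eq_left.1 h2.symm
    have hne' : c⁻¹ + c - 1 ≠ 0 := by
      intro h
      refine hne ?_
      field_simp at h
      linear_combination h
    rw [← mul_div_cancel₀ v hne']
    exact hk _ _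

variable [Fintype K]

omit [Fintype K] in
/-- A stem extension of the perfect special linear group with commuting root lifts is trivial. -/
theorem ker_eq_bot_of_commute [Finite K] {σ : E →* Matrix.SpecialLinearGroup (Fin 2) K} (hσ : Cfsg.IsStemExtension σ)
    (hperf : commutator (Matrix.SpecialLinearGroup (Fin 2) K) = ⊤) (a : Kˣ) (ha : (a : K) ^ 2 ≠ 1)
    (hcomm : ∀ (f : K → Matrix.SpecialLinearGroup (Fin 2) K), (f = StTwo.upper ∨ f = StTwo.lower) →
      ∀ g : K → E, (∀ t, σ (g t) = f t) → ∀ u v, Commute (g u) (g v)) : σ.ker = ⊥ := by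
  have hc := hσ.2.1
  choose L hL using hσ.1
  let Lx : K → E := fun t => L (StTwo.upper t)
  let Ly : K → E := fun t => L (StTwo.lower t)
  have hLx : ∀ t, σ (Lx t) = StTwo.upper t := fun t => hL _
  have hLy : ∀ t, σ (Ly t) = StTwo.lower t := fun t => hL _
  let H := L (tor a)
  have hH : σ H = tor a := hL _
  have hmX := map_X σ a H hH ha Lx Ly hLx hLy
  have hmY := map_Y σ a H hH ha Lx Ly hLx hLy
  have hgen : closure (Set.range (lx a H Lx) ∪ Set.range (ly a H Ly)) = ⊤ := by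
    refine Cfsg.Lib.Chev.top_of_stem hσ hperf ?_
    rw [eq_top_iff, ← closure_upper_lower, closure_le]
    rintro _ (⟨t, rfl⟩ | ⟨t, rfl⟩)
    · exact ⟨_, subset_closure (Or.inl ⟨t, rfl⟩), hmX t⟩
    · exact ⟨_, subset_closure (Or.inr ⟨t, rfl⟩), hmY t⟩
  let S : StTwo.Sys K E :=
    { x := lx a H Lx
      y := ly a H Ly
      x_add := add_upper σ hc a H Lx hLx (hcomm _ (Or.inl rfl) Lx hLx) ⟨a, hH⟩
      y_add := add_lower σ hc a H Ly hLy (hcomm _ (Or.inr rfl) Ly hLy) ⟨a, hH⟩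
      conj_x := fun t u ht => conj_X σ hc a H hH ha Lx Ly hLx hLy ht _
        (by rw [map_mul, map_mul, hmX, hmY]; rfl) u
      conj_y := fun t u ht => conj_Y σ hc a H hH ha Lx Ly hLx hLy ht _
        (by rw [map_mul, map_mul, hmX, hmY]; rfl) u
      gen := hgen }
  rw [MonoidHom.ker_eq_bot_iff]
  exact StTwo.injective_of_standard S σ (fun t => congrArg Subtype.val (hmX t)) (fun t => congrArg Subtype.val (hmY t))

/-- The multiplier is trivial for fields with at least four elements with enough squares. -/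
theorem multiplier_of_squares (h4 : 4 ≤ Fintype.card K)
    (hK : (∀ u : K, ∃ n : ℕ, u = n) ∨ ∃ s t : K, s ≠ 0 ∧ t ≠ 0 ∧ s ^ 2 + t ^ 2 = 1 ∧ (s ^ 2) ^ 2 - s ^ 2 + 1 ≠ 0) :
    Cfsg.HasCyclicSchurMultiplier (Matrix.SpecialLinearGroup (Fin 2) K) 1 := by
  classical
  have hperf : commutator (Matrix.SpecialLinearGroup (Fin 2) K) = ⊤ :=
    Cfsg.Lib.Linear.commutator_SL_eq_top' (Or.inr h4)
  obtain ⟨a₀, ha0, ha2⟩ := Cfsg.Lib.Linear.exists_sq_ne_one h4
  refine Cfsg.Lib.Chev.trivial_multiplier fun Γ _ _ σ hσ =>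
    ker_eq_bot_of_commute hσ hperf (Units.mk0 a₀ ha0) (by simpa [pow_two] using ha2) fun f hf g hg u v => ?_
  have hc := hσ.2.1
  choose L hL using hσ.1
  have hfadd : ∀ a b, f a * f b = f (a + b) := by
    rcases hf with rfl | rfl
    · exact upper_add
    · exact lower_add
  refine lifts_commute g (fun a b => hc ?_) (fun c u v => ?_) (fun u v => hc ?_) hK u v
  · rw [MonoidHom.mem_ker, map_mul, map_inv, map_mul, hg, hg, hg, hfadd, inv_mul_cancel]
  · have hcen : ⁅g u, g v⁆ ∈ center Γ := hc (by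
      rw [MonoidHom.mem_ker, map_commutatorElement, hg, hg, commutatorElement_eq_one_iff_commute]
      show f u * f v = f v * f u
      rw [hfadd, hfadd, add_comm])
    have key : ∀ H : Γ, (∀ w, σ (H * g w * H⁻¹) = f ((c : K) ^ 2 * w)) →
        ⁅g ((c : K) ^ 2 * u), g ((c : K) ^ 2 * v)⁆ = ⁅g u, g v⁆ := fun H hH => by
      rw [comm_congr σ hc (show σ (g ((c : K) ^ 2 * u)) = σ (H * g u * H⁻¹) by rw [hg, hH])
        (show σ (g ((c : K) ^ 2 * v)) = σ (H * g v * H⁻¹) by rw [hg, hH]),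
        show ⁅H * g u * H⁻¹, H * g v * H⁻¹⁆ = H * ⁅g u, g v⁆ * H⁻¹ by
          rw [commutatorElement_def, commutatorElement_def]; group,
        mem_center_iff.1 hcen H, mul_inv_cancel_right]
    rcases hf with rfl | rfl
    · exact key (L (tor c)) fun w => by rw [map_mul, map_mul, map_inv, hL, hg, tor_upper]
    · exact key (L (tor c))⁻¹ fun w => by rw [inv_inv, map_mul, map_mul, map_inv, hL, hg, tor_lower]
  · rw [MonoidHom.mem_ker, map_commutatorElement, hg, hg, commutatorElement_eq_one_iff_commute]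
    show f u * f v = f v * f u
    rw [hfadd, hfadd, add_comm]

theorem exists_squares (h : Fintype.card K ≠ 4) (h9 : Fintype.card K ≠ 9) :
    (∀ u : K, ∃ n : ℕ, u = n) ∨ ∃ s t : K, s ≠ 0 ∧ t ≠ 0 ∧ s ^ 2 + t ^ 2 = 1 ∧ (s ^ 2) ^ 2 - s ^ 2 + 1 ≠ 0 := by
  classical
  obtain ⟨p, hp⟩ := CharP.exists K
  obtain ⟨k, hpr, hk⟩ := FiniteField.card K p
  have : Fact p.Prime := ⟨hpr⟩
  by_cases hk1 : (k : ℕ) = 1
  · refine Or.inl fun u => ?_
    obtain ⟨x, rfl⟩ := (ZMod.castHom_bijective K (n := p) (by rw [hk, hk1, pow_one])).2 u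
    exact ⟨x.val, by rw [ZMod.castHom_apply, ← ZMod.natCast_val]⟩
  refine Or.inr ?_
  open Polynomial in
  by_cases hp2 : p = 2
  · subst hp2
    have h2 : (2 : K) = 0 := by exact_mod_cast CharP.cast_eq_zero K 2
    have h8 : 8 ≤ Fintype.card K := by
      rw [hk] at h ⊢
      have : 3 ≤ (k : ℕ) := by
        by_contra hlt
        have : (k : ℕ) = 2 := by have := k.pos; omega
        rw [this] at h; norm_num at h
      exact le_trans (by norm_num) (Nat.pow_le_pow_right two_pos this)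
    set P : K[X] := X * (X - 1) * ((X ^ 2) ^ 2 - X ^ 2 + 1) with hP
    have hPd : P.natDegree = 6 := by
      have : (((X : K[X]) ^ 2) ^ 2 - X ^ 2 + 1).natDegree = 4 := by rw [← pow_mul]; compute_degree!
      rw [hP, natDegree_mul (mul_ne_zero X_ne_zero (X_sub_C_ne_zero (1 : K) |> fun h => by simpa using h))
        (fun e => by rw [e] at this; simp at this), natDegree_mul X_ne_zero (fun e => by
          have := congrArg natDegree e; rw [← map_one C, natDegree_X_sub_C] at this; simp at this),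
        natDegree_X, ← map_one C, natDegree_X_sub_C]
      rw [map_one, this]
    have hP0 : P ≠ 0 := fun e => by rw [e] at hPd; simp at hPd
    obtain ⟨s, hs⟩ : ∃ s : K, ¬ P.IsRoot s := by
      by_contra hall
      push Not at hall
      have : Finset.univ ⊆ P.roots.toFinset := fun x _ => by
        rw [Multiset.mem_toFinset, mem_roots hP0]; exact hall x
      have := (Finset.card_le_card this).trans ((Multiset.toFinset_card_le _).trans (card_roots' P))
      rw [Finset.card_univ, hPd] at this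
      omega
    simp [hP] at hs
    obtain ⟨⟨hs0, hs1⟩, hs2⟩ := hs
    refine ⟨s, s + 1, hs0, fun e => hs1 (by linear_combination e - h2), ?_, hs2⟩
    linear_combination (s ^ 2 + s) * h2
  · have hp3 : 3 ≤ p := by have := hpr.two_le; omega
    have h25 : 25 ≤ Fintype.card K := by
      rw [hk] at h9 ⊢
      by_cases hp3' : p = 3
      · subst hp3'
        have : 3 ≤ (k : ℕ) := by
          by_contra hlt
          have : (k : ℕ) = 2 := by have := k.pos; omega
          rw [this] at h9; norm_num at h9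
        exact le_trans (by norm_num) (Nat.pow_le_pow_right (by norm_num) this)
      · have : p ≠ 4 := fun e => by subst e; norm_num at hpr
        have h5 : 5 ≤ p := by omega
        exact le_trans (Nat.pow_le_pow_left h5 2) (Nat.pow_le_pow_right (by omega) (by have := k.pos; omega))
    have h2 : (2 : K) ≠ 0 := by
      intro e
      have : p ∣ 2 := (CharP.cast_eq_zero_iff K p 2).1 (by exact_mod_cast e)
      exact absurd (Nat.le_of_dvd two_pos this) (by omega)
    set R : K[X] := (2 * X) ^ 4 - (2 * X) ^ 2 * (1 + X ^ 2) ^ 2 + (1 + X ^ 2) ^ 4 with hR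
    set P : K[X] := X * (1 - X ^ 2) * (1 + X ^ 2) * R with hP
    have hR0 : R.eval 0 = 1 := by simp [hR]
    have hP0 : P ≠ 0 := by
      rw [hP]
      refine mul_ne_zero (mul_ne_zero (mul_ne_zero X_ne_zero fun e => ?_) fun e => ?_) fun e => ?_
      · simpa using congrArg (eval 0) e
      · simpa using congrArg (eval 0) e
      · rw [e] at hR0; simp at hR0
    have hPd : P.natDegree ≤ 13 := by rw [hP, hR]; compute_degree
    obtain ⟨m, hm⟩ : ∃ m : K, ¬ P.IsRoot m := by
      by_contra hall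
      push Not at hall
      have : Finset.univ ⊆ P.roots.toFinset := fun x _ => by
        rw [Multiset.mem_toFinset, mem_roots hP0]; exact hall x
      have := (Finset.card_le_card this).trans ((Multiset.toFinset_card_le _).trans (card_roots' P))
      rw [Finset.card_univ] at this
      omega
    simp [hP, hR] at hm
    obtain ⟨⟨⟨hm0, hm1⟩, hm2⟩, hm3⟩ := hm
    refine ⟨2 * m / (1 + m ^ 2), (1 - m ^ 2) / (1 + m ^ 2), div_ne_zero (mul_ne_zero h2 hm0) hm2,
      div_ne_zero hm1 hm2, ?_, ?_⟩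
    · field_simp
      ring
    · intro e
      field_simp at e
      exact hm3 (by linear_combination e)

omit [Fintype K] in
/-- Multipliers are invariant under isomorphism, trivial case. -/
theorem trivial_of_equiv {G H : Type u} [Group G] [Group H] [Finite H] (e : G ≃* H)
    (h : Cfsg.HasCyclicSchurMultiplier G 1) : Cfsg.HasCyclicSchurMultiplier H 1 := by
  refine Cfsg.Lib.Chev.trivial_multiplier fun Γ _ _ σ hσ => ?_
  have hk : (e.symm.toMonoidHom.comp σ).ker = σ.ker := by ext x; simp [MonoidHom.mem_ker]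
  obtain ⟨π, hπ⟩ := h.2 Γ (e.symm.toMonoidHom.comp σ)
    ⟨e.symm.surjective.comp hσ.1, hk ▸ hσ.2.1, hk ▸ hσ.2.2⟩
  haveI : Subsingleton (Multiplicative (ZMod 1)) := inferInstanceAs (Subsingleton (ZMod 1))
  refine eq_bot_iff.2 fun x hx => ?_
  rw [← hk] at hx
  obtain ⟨z, hz⟩ := hπ ⟨x, hx⟩
  rw [Subsingleton.elim z 1, map_one] at hz
  exact (congrArg Subtype.val hz.symm :)

omit [Fintype K] in
theorem trivial_of_sylow {G : Type u} [Group G] [Finite G]
    (h : ∀ (p : ℕ) [Fact p.Prime] (P : Sylow p G), Cfsg.HasCyclicSchurMultiplier (P : Subgroup G) 1) :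
    Cfsg.HasCyclicSchurMultiplier G 1 := by
  rw [Cfsg.Lib.Schur.hasCyclic_one_iff]
  have hF : Finite (Cfsg.Lib.Schur.M G) :=
    Cfsg.Lib.Schur.finite_of_has (Cfsg.Lib.Schur.hasSchurMultiplier (Q := G))
  suffices hall : ∀ x : Cfsg.Lib.Schur.M G, x = 1 from ⟨fun a b => (hall a).trans (hall b).symm⟩
  intro x
  by_contra hx
  obtain ⟨p, hp, hdvd⟩ := Nat.exists_prime_and_dvd (n := orderOf x) (by rwa [ne_eq, orderOf_eq_one_iff])
  have : Fact p.Prime := ⟨hp⟩
  set y := x ^ (orderOf x / p) with hy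
  have hyo : orderOf y = p := orderOf_pow_orderOf_div (orderOf_pos x).ne' hdvd
  obtain ⟨C, D, -, -, ⟨e⟩⟩ := Cfsg.Agent.S3953.result p (default : Sylow p G)
    Cfsg.Lib.Schur.hasSchurMultiplier (h p default)
  haveI : Subsingleton (Multiplicative (ZMod 1)) := inferInstanceAs (Subsingleton (ZMod 1))
  have hy' : y ∈ CommGroup.primaryComponent (Cfsg.Lib.Schur.M G) p := ⟨1, by rw [pow_one, ← hyo, pow_orderOf_eq_one]⟩
  have h1 : (⟨y, hy'⟩ : CommGroup.primaryComponent (Cfsg.Lib.Schur.M G) p) = 1 :=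
    e.injective (Subsingleton.elim _ _)
  rw [show y = 1 from congrArg Subtype.val h1, orderOf_one] at hyo
  exact hp.one_lt.ne hyo

/-- The multiplier of `SL(2, q)` is trivial for `q ≠ 4, 9`. -/
theorem multiplier_sl_two (h4 : Fintype.card K ≠ 4) (h9 : Fintype.card K ≠ 9) :
    Cfsg.HasCyclicSchurMultiplier (Matrix.SpecialLinearGroup (Fin 2) K) 1 := by
  classical
  by_cases hbig : 4 ≤ Fintype.card K
  · exact multiplier_of_squares hbig (exists_squares h4 h9)
  refine trivial_of_sylow fun p hp P => ?_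
  have hcard : Nat.card (Matrix.SpecialLinearGroup (Fin 2) K) = Fintype.card K * (Fintype.card K ^ 2 - 1) :=
    Cfsg.Lib.Linear.Two.card_SL_two
  have h1 := Fintype.one_lt_card (α := K)
  by_cases h23 : p = 2 ∧ Fintype.card K = 3
  · obtain ⟨rfl, h3⟩ := h23
    obtain ⟨k, -, ⟨e⟩⟩ := Cfsg.Agent.S0261.result (F := K) (by rw [h3]; decide) P
    refine trivial_of_equiv (G := ULift.{u} (QuaternionGroup (2 ^ k))) (MulEquiv.ulift.trans e.symm) ?_
    have : Finite (QuaternionGroup (2 ^ k)) := Finite.of_equiv _ e.toEquiv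
    refine Cfsg.Lib.Chev.trivial_multiplier fun Γ _ _ σ hσ => ?_
    have hk : (MulEquiv.ulift.toMonoidHom.comp σ).ker = σ.ker := by ext x; simp [MonoidHom.mem_ker]
    have hsub := (Cfsg.Lib.Schur.hasCyclic_one_iff.1 (Cfsg.Agent.S3963.result (2 ^ k)))
    obtain ⟨π, hπ⟩ := Cfsg.Lib.Schur.exists_mult_surjection (Cfsg.Lib.Schur.canon (QuaternionGroup (2 ^ k)))
      (σ := MulEquiv.ulift.toMonoidHom.comp σ)
      ⟨MulEquiv.ulift.surjective.comp hσ.1, hk ▸ hσ.2.1, hk ▸ hσ.2.2⟩ Cfsg.Lib.Schur.canon_surjective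
    refine eq_bot_iff.2 fun x hx => ?_
    rw [← hk] at hx
    obtain ⟨z, hz⟩ := hπ ⟨x, hx⟩
    rw [Subsingleton.elim z 1, map_one] at hz
    exact (congrArg Subtype.val hz.symm :)
  · have hcyc : IsCyclic (P : Subgroup (Matrix.SpecialLinearGroup (Fin 2) K)) := by
      have hPc := P.card_eq_multiplicity
      by_cases hdvd : p ∣ Nat.card (Matrix.SpecialLinearGroup (Fin 2) K)
      · have hone : (Nat.card (Matrix.SpecialLinearGroup (Fin 2) K)).factorization p ≤ 1 := by
          by_contra hlt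
          have hsq : p ^ 2 ∣ Nat.card (Matrix.SpecialLinearGroup (Fin 2) K) :=
            (hp.out.pow_dvd_iff_le_factorization Nat.card_pos.ne').2 (by omega)
          rw [hcard] at hsq hdvd
          have hle : p ^ 2 ≤ 24 := by
            refine le_trans (Nat.le_of_dvd ?_ hsq) ?_
            · have : 4 ≤ Fintype.card K ^ 2 := Nat.pow_le_pow_left (show 2 ≤ Fintype.card K by omega) 2
              exact Nat.mul_pos (by omega) (by omega)
            · rcases (show Fintype.card K = 2 ∨ Fintype.card K = 3 by omega) with h | h <;> rw [h] <;> norm_num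
          have hp4 : p ≤ 4 := by nlinarith
          have hp2 := hp.out.two_le
          rcases (show Fintype.card K = 2 ∨ Fintype.card K = 3 by omega) with h | h <;>
            rw [h] at hsq h23 <;> interval_cases p <;> revert hsq <;> norm_num at * <;> exact hp.out.ne_one rfl
        rcases Nat.le_one_iff_eq_zero_or_eq_one.1 hone with h | h <;> rw [h] at hPc
        · have := (Nat.card_eq_one_iff_unique.1 (hPc.trans (pow_zero p))).1
          exact isCyclic_of_subsingleton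
        · exact isCyclic_of_prime_card (p := p) (by simpa using hPc)
      · rw [Nat.factorization_eq_zero_of_not_dvd hdvd, pow_zero] at hPc
        have := (Nat.card_eq_one_iff_unique.1 hPc).1
        exact isCyclic_of_subsingleton
    exact Cfsg.Agent.S3979.result

end Cfsg.Lib.Concrete.SLTwoMult
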