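import Mathlib

/-!
Simplicity criteria for perfect permutation groups, used for the Mathieu groups.
-/

set_option autoImplicit false

namespace Cfsg.Lib.Concrete

open MulAction

variable {G : Type*} [Group G] [Finite G]

/-- Frattini: in a perfect group, if a prime `p` divides the group order exactly once and the
centralisers of elements of order `p` are commutative, then a normal subgroup of order divisible
by `p` is everything. -/
theorem normal_eq_top_of_perfect (hperf : commutator G = ⊤) {p : ℕ} [Fact p.Prime]
    (hC : ∀ x : G, orderOf x = p → ∀ a b : G, Commute x a → Commute x b → a * b = b * a)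
    (hp2 : ¬ p ^ 2 ∣ Nat.card G) (N : Subgroup G) [N.Normal] (hpN : p ∣ Nat.card N) : N = ⊤ := by
  obtain ⟨P⟩ : Nonempty (Sylow p N) := inferInstance
  have hfr := Sylow.normalizer_sup_eq_top P
  set Q : Subgroup G := (P : Subgroup N).map N.subtype with hQ
  have hcardQ : Nat.card Q = p := by
    rw [hQ, Subgroup.card_map_of_injective N.subtype_injective]
    obtain ⟨k, hk⟩ := IsPGroup.iff_card.1 P.isPGroup'
    have hdvd : p ∣ Nat.card (P : Subgroup N) := P.dvd_card_of_dvd_card hpN
    have hk2 : k < 2 := by
      by_contra hge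
      apply hp2
      exact dvd_trans (pow_dvd_pow p (by omega : 2 ≤ k))
        (hk ▸ (Subgroup.card_subgroup_dvd_card _).trans N.card_subgroup_dvd_card)
    have hk0 : k ≠ 0 := by
      rintro rfl
      rw [hk, pow_zero, Nat.dvd_one] at hdvd
      exact (Fact.out : p.Prime).one_lt.ne' hdvd
    obtain rfl : k = 1 := by omega
    rw [hk, pow_one]
  have hcyc : IsCyclic Q := isCyclic_of_prime_card hcardQ
  obtain ⟨x, hx⟩ := IsCyclic.exists_generator (α := Q)
  have hxo : orderOf (x : G) = p := by
    rw [Subgroup.orderOf_coe, orderOf_eq_card_of_forall_mem_zpowers hx, hcardQ]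
  have hsol : Group.IsSolvable (Subgroup.normalizer (Q : Set G)) := by
    let f := (IsCyclic.mulAutMulEquiv Q).toMonoidHom.comp Q.normalizerMonoidHom
    have : Group.IsSolvable f.ker := by
      refine Group.isSolvable_of_comm fun a b => Subtype.ext (Subtype.ext ?_)
      have hmem : ∀ c : f.ker, Commute (x : G) ((c : Subgroup.normalizer (Q : Set G)) : G) := by
        intro c
        have hc := c.2
        rw [MonoidHom.mem_ker, MonoidHom.comp_apply] at hc
        have hc' : (c : Subgroup.normalizer (Q : Set G)) ∈ Q.normalizerMonoidHom.ker :=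
          (IsCyclic.mulAutMulEquiv Q).injective (hc.trans (map_one _).symm)
        rw [Subgroup.normalizerMonoidHom_ker, Subgroup.mem_subgroupOf] at hc'
        exact hc' (x : G) x.2
      exact hC x hxo _ _ (hmem a) (hmem b)
    exact Group.isSolvable_of_ker_le_range f.ker.subtype f (by simp)
  have hsurj : Function.Surjective
      ((QuotientGroup.mk' N).comp (Subgroup.normalizer (Q : Set G)).subtype) := by
    intro y
    obtain ⟨g, rfl⟩ := QuotientGroup.mk'_surjective N y
    obtain ⟨a, ha, b, hb, hab⟩ :=
      Subgroup.mem_sup_of_normal_right.1 (hfr ▸ Subgroup.mem_top g)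
    refine ⟨⟨a, ha⟩, ?_⟩
    rw [MonoidHom.comp_apply, ← hab, map_mul]
    simp [(QuotientGroup.eq_one_iff b).2 hb]
  have : Group.IsSolvable (G ⧸ N) := Group.isSolvable_of_surjective hsurj
  by_contra hne
  have : Nontrivial (G ⧸ N) := QuotientGroup.nontrivial_iff.2 hne
  have hlt := Group.IsSolvable.commutator_lt_top_of_nontrivial (G ⧸ N)
  refine hlt.ne ?_
  rw [commutator_def, ← Subgroup.map_top_of_surjective _ (QuotientGroup.mk'_surjective N),
    ← Subgroup.map_commutator, ← commutator_def, hperf]

/-- A perfect primitive faithful group of degree divisible by a prime `p` which divides the group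
order once, with commutative centralisers of elements of order `p`, is simple. -/
theorem isSimple_of_primitive_perfect {α : Type*} [MulAction G α] [FaithfulSMul G α]
    [IsQuasiPreprimitive G α] [Nontrivial G] (hperf : commutator G = ⊤) {p : ℕ} [Fact p.Prime]
    (hdeg : p ∣ Nat.card α) (hp2 : ¬ p ^ 2 ∣ Nat.card G)
    (hC : ∀ x : G, orderOf x = p → ∀ a b : G, Commute x a → Commute x b → a * b = b * a) :
    IsSimpleGroup G := by
  refine ⟨fun N hN => ?_⟩
  by_cases hb : N = ⊥
  · exact Or.inl hb
  refine Or.inr (normal_eq_top_of_perfect hperf hC hp2 N ?_)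
  have hfix : fixedPoints N α ≠ .univ := by
    intro h
    refine hb ((Subgroup.eq_bot_iff_forall N).2 fun g hg => ?_)
    refine eq_of_smul_eq_smul (α := α) fun a => ?_
    have := Set.eq_univ_iff_forall.1 h a ⟨g, hg⟩
    rw [one_smul]
    exact this
  have := IsQuasiPreprimitive.isPretransitive_of_normal hfix
  rcases isEmpty_or_nonempty α with hα | ⟨⟨a⟩⟩
  · exact absurd ((Subgroup.eq_bot_iff_forall N).2 fun g _ =>
      eq_of_smul_eq_smul (α := α) fun a => isEmptyElim a) hb
  refine hdeg.trans ?_
  rw [← MulAction.index_stabilizer_of_transitive N a]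
  exact Subgroup.index_dvd_card _

/-- A doubly transitive faithful group with simple point stabiliser, whose degree has two prime
divisors, is simple, provided its abelian quotients are trivial. -/
theorem isSimple_of_simple_stabilizer {α : Type*} [MulAction G α] [FaithfulSMul G α]
    [Nontrivial α] (h2 : IsMultiplyPretransitive G α 2) (a : α)
    [IsSimpleGroup (stabilizer G a)] {q r : ℕ} (hq : q.Prime) (hr : r.Prime) (hqr : q ≠ r)
    (hqd : q ∣ Nat.card α) (hrd : r ∣ Nat.card α) : IsSimpleGroup G := by
  have hprim : IsPreprimitive G α := isPreprimitive_of_is_two_pretransitive h2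
  have hpt : IsPretransitive G α := hprim.toIsPretransitive
  have : Nontrivial G := by
    obtain ⟨b, c, hbc⟩ := exists_pair_ne α
    obtain ⟨g, hg⟩ := exists_smul_eq G b c
    exact ⟨g, 1, fun h => hbc (by rw [← hg, h, one_smul])⟩
  refine ⟨fun N hN => ?_⟩
  by_cases hb : N = ⊥
  · exact Or.inl hb
  have hfix : fixedPoints N α ≠ .univ := by
    intro h
    refine hb ((Subgroup.eq_bot_iff_forall N).2 fun g hg => ?_)
    refine eq_of_smul_eq_smul (α := α) fun b => ?_
    have := Set.eq_univ_iff_forall.1 h b ⟨g, hg⟩
    rw [one_smul]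
    exact this
  have hNt := IsQuasiPreprimitive.isPretransitive_of_normal hfix
  rcases (inferInstance : (N.subgroupOf (stabilizer G a)).Normal).eq_bot_or_eq_top with h | h
  · exfalso
    have hfree : ∀ n ∈ N, n • a = a → n = 1 := by
      intro n hn hna
      have : (⟨n, hna⟩ : stabilizer G a) ∈ N.subgroupOf (stabilizer G a) :=
        Subgroup.mem_subgroupOf.2 hn
      rw [h, Subgroup.mem_bot] at this
      exact congrArg Subtype.val this
    let e : N ≃ α := Equiv.ofBijective (fun n => (n : G) • a) ⟨fun n m hnm => by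
        have : ((m : G)⁻¹ * n) • a = a := by
          simp only at hnm
          rw [mul_smul, hnm, inv_smul_smul]
        exact Subtype.ext (inv_mul_eq_one.1 (hfree _ (mul_mem (inv_mem m.2) n.2) this)).symm,
      fun b => (exists_smul_eq N a b).imp fun n hn => hn⟩
    have hconj : ∀ n m : N, n ≠ 1 → m ≠ 1 → orderOf n = orderOf m := by
      intro n m hn hm
      have hna : a ≠ (n : G) • a := fun h' => hn (Subtype.ext (hfree _ n.2 h'.symm))
      have hma : a ≠ (m : G) • a := fun h' => hm (Subtype.ext (hfree _ m.2 h'.symm))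
      obtain ⟨g, hga, hgn⟩ := is_two_pretransitive_iff.1 h2 hna hma
      have hmem : g * n * g⁻¹ * (m : G)⁻¹ ∈ N :=
        mul_mem (hN.conj_mem _ n.2 g) (inv_mem m.2)
      have hgi : g⁻¹ • a = a := by rw [inv_smul_eq_iff, hga]
      have h1 : (g * n * g⁻¹) • a = (m : G) • a := by rw [mul_smul, mul_smul, hgi, hgn]
      have h3 : (m : G)⁻¹ * (g * n * g⁻¹) = 1 :=
        hfree _ (mul_mem (inv_mem m.2) (hN.conj_mem _ n.2 g))
          (by rw [mul_smul, h1, inv_smul_smul])
      have h4 : (m : G) = g * n * g⁻¹ := inv_mul_eq_one.1 h3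
      rw [← orderOf_injective N.subtype N.subtype_injective n,
        ← orderOf_injective N.subtype N.subtype_injective m]
      show orderOf (n : G) = orderOf (m : G)
      rw [h4]
      exact (orderOf_injective (MulAut.conj g).toMonoidHom (MulAut.conj g).injective (n : G)).symm
    rw [← Nat.card_congr e] at hqd hrd
    have := Fact.mk hq
    have := Fact.mk hr
    obtain ⟨x, hx⟩ := exists_prime_orderOf_dvd_card' q hqd
    obtain ⟨y, hy⟩ := exists_prime_orderOf_dvd_card' r hrd
    refine hqr ?_
    rw [← hx, ← hy]
    exact hconj x y (fun h => hq.one_lt.ne' (by rw [← hx, h, orderOf_one]))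
      (fun h => hr.one_lt.ne' (by rw [← hy, h, orderOf_one]))
  · refine Or.inr ((Subgroup.eq_top_iff' N).2 fun g => ?_)
    obtain ⟨n, hn⟩ := exists_smul_eq N a (g • a)
    have hs : (n : G)⁻¹ * g ∈ stabilizer G a := by
      rw [mem_stabilizer_iff, mul_smul, ← hn]
      exact inv_smul_smul _ _
    have hm : (⟨_, hs⟩ : stabilizer G a) ∈ N.subgroupOf (stabilizer G a) := by
      rw [h]; exact Subgroup.mem_top _
    have := mul_mem n.2 (Subgroup.mem_subgroupOf.1 hm)
    rwa [mul_inv_cancel_left] at this

end Cfsg.Lib.Concrete
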