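import Cfsg.Agent.Lib.Concrete.MathieuPerfect
import Cfsg.Agent.Lib.Concrete.SimpleTools
import Cfsg.Prelude.Def_Spor_Mathieu

/-!
Orders and simplicity of M24, M23, M22, M12 and M11 (as stabilisers in M24).
-/

set_option autoImplicit false

namespace Cfsg.Lib.Concrete

open scoped Pointwise
open MulAction

set_option maxHeartbeats 1000000

/-- A subgroup of M24 given by a condition conjugate to that of `K`. -/
def conjSubEquiv (K : Subgroup (Equiv.Perm GolayPt)) (hK : K ≤ M24) (H : Subgroup M24)
    (c : Equiv.Perm GolayPt) (hc : c ∈ M24)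
    (h : ∀ x : M24, x ∈ H ↔ c⁻¹ * (x : Equiv.Perm GolayPt) * c ∈ K) : H ≃* K where
  toFun x := ⟨c⁻¹ * ((x : M24) : Equiv.Perm GolayPt) * c, (h x).1 x.2⟩
  invFun y := ⟨⟨c * (y : Equiv.Perm GolayPt) * c⁻¹, mul_mem (mul_mem hc (hK y.2)) (inv_mem hc)⟩,
    (h _).2 (by simp [mul_assoc])⟩
  left_inv x := Subtype.ext (Subtype.ext (by simp [mul_assoc]))
  right_inv y := Subtype.ext (by simp [mul_assoc])
  map_mul' x y := Subtype.ext (by simp [mul_assoc])

theorem commutator_top_of_equiv {A : Type*} [Group A] {K : Subgroup (Equiv.Perm GolayPt)}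
    (e : A ≃* K) (hK : ⁅K, K⁆ = K) : commutator A = ⊤ := by
  refine Subgroup.map_injective
    (f := K.subtype.comp e.toMonoidHom) (K.subtype_injective.comp e.injective) ?_
  rw [commutator_def, Subgroup.map_commutator, ← MonoidHom.range_eq_map]
  have : (K.subtype.comp e.toMonoidHom).range = K := by
    rw [MonoidHom.range_comp, MonoidHom.range_eq_top.2 e.surjective, ← MonoidHom.range_eq_map,
      Subgroup.range_subtype]
  rw [this, hK]

/-- In M24 the centralisers of elements of order 11 and 23 are commutative. -/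
theorem centralizer_comm {p : ℕ} [Fact p.Prime] (hp : 9 ≤ p) {x a b : Equiv.Perm GolayPt}
    (hx : x ∈ M24) (hxo : orderOf x = p) (ha : a ∈ M24) (hb : b ∈ M24) (hxa : Commute x a)
    (hxb : Commute x b) : a * b = b * a := by
  classical
  set C : Subgroup (Equiv.Perm GolayPt) :=
    M24 ⊓ Subgroup.centralizer ({x} : Set (Equiv.Perm GolayPt)) with hC
  have hmem : ∀ c, c ∈ C ↔ c ∈ M24 ∧ Commute x c := by
    intro c
    rw [hC, Subgroup.mem_inf, Subgroup.mem_centralizer_singleton_iff]
    exact ⟨fun h => ⟨h.1, h.2.symm⟩, fun h => ⟨h.1, h.2.symm⟩⟩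
  have hx1 : x ≠ 1 := fun h => by
    rw [h, orderOf_one] at hxo
    exact (Fact.out : p.Prime).one_lt.ne hxo
  obtain ⟨pt, hpt⟩ : ∃ pt, x pt ≠ pt := by
    by_contra hh
    push Not at hh
    exact hx1 (Equiv.ext hh)
  have horb : ∀ c ∈ C, c pt = pt → c = 1 := by
    intro c hc hcp
    obtain ⟨hc24, hcx⟩ := (hmem c).1 hc
    refine eq_one_of_nine_fixed hc24 (s := (Finset.range p).image fun i => (x ^ i) pt) ?_ ?_
    · rw [Finset.card_image_of_injOn, Finset.card_range]
      · exact hp
      · have hper : Function.minimalPeriod (fun y => x y) pt = p := by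
          refine ((Fact.out : p.Prime).eq_one_or_self_of_dvd _ ?_).resolve_left ?_
          · rw [← hxo]
            refine Function.IsPeriodicPt.minimalPeriod_dvd ?_
            show (fun y => x y)^[orderOf x] pt = pt
            rw [← Equiv.Perm.coe_pow, pow_orderOf_eq_one]
            rfl
          · intro h
            exact hpt (Function.minimalPeriod_eq_one_iff_isFixedPt.1 h)
        intro i hi j hj hij
        simp only [Finset.coe_range, Set.mem_Iio] at hi hj
        refine Function.iterate_injOn_Iio_minimalPeriod (f := fun y => x y) (x := pt)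
          (by simpa [hper] using hi) (by simpa [hper] using hj) ?_
        simpa [Equiv.Perm.coe_pow] using hij
    · intro y hy
      obtain ⟨i, -, rfl⟩ := Finset.mem_image.1 hy
      rw [← Equiv.Perm.mul_apply, ← (hcx.pow_left i).eq, Equiv.Perm.mul_apply, hcp]
  have hcard : Nat.card C ≤ 24 := by
    have hinj : Function.Injective fun c : C => (c : Equiv.Perm GolayPt) pt := by
      intro c d h
      simp only at h
      have hh := horb _ (mul_mem (inv_mem d.2) c.2)
        (by rw [Equiv.Perm.mul_apply, h]; exact (d : Equiv.Perm GolayPt).symm_apply_apply _)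
      exact Subtype.ext (inv_mul_eq_one.1 hh).symm
    exact (Nat.card_le_card_of_injective _ hinj).trans
      (by rw [Nat.card_eq_fintype_card]; rfl)
  let xc : C := ⟨x, (hmem x).2 ⟨hx, Commute.refl x⟩⟩
  have hz : Subgroup.zpowers xc ≤ Subgroup.center C := by
    rw [Subgroup.zpowers_le]
    exact Subgroup.mem_center_iff.2 fun c => Subtype.ext ((hmem c).1 c.2).2.eq.symm
  have : (Subgroup.zpowers xc).Normal := ⟨fun n hn g => by
    rw [Subgroup.mem_center_iff.1 (hz hn) g, mul_inv_cancel_right]; exact hn⟩
  have hzc : Nat.card (Subgroup.zpowers xc) = p := by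
    rw [Nat.card_zpowers, ← hxo, ← orderOf_injective C.subtype C.subtype_injective xc]
    rfl
  have hq : Nat.card (C ⧸ Subgroup.zpowers xc) ≤ 2 := by
    have := Subgroup.card_eq_card_quotient_mul_card_subgroup (Subgroup.zpowers xc)
    rw [hzc] at this
    by_contra hh
    push Not at hh
    have : 3 * 9 ≤ Nat.card C := this ▸ Nat.mul_le_mul hh hp
    omega
  have hpos : 0 < Nat.card (C ⧸ Subgroup.zpowers xc) := Nat.card_pos
  have hcyc : IsCyclic (C ⧸ Subgroup.zpowers xc) := by
    interval_cases hh : Nat.card (C ⧸ Subgroup.zpowers xc)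
    · have : Subsingleton (C ⧸ Subgroup.zpowers xc) := (Nat.card_eq_one_iff_unique.1 hh).1
      infer_instance
    · have := Fact.mk Nat.prime_two
      exact isCyclic_of_prime_card hh
  have hcomm := MonoidHom.isMulCommutative_of_isCyclic_of_ker_le_center
    (QuotientGroup.mk' (Subgroup.zpowers xc)) (by rw [QuotientGroup.ker_mk']; exact hz)
  exact congrArg Subtype.val
    (hcomm.is_comm.comm ⟨a, (hmem a).2 ⟨ha, hxa⟩⟩ ⟨b, (hmem b).2 ⟨hb, hxb⟩⟩)

/-- The centraliser condition in a group embedded in M24. -/
theorem centralizer_comm_of_embedding {A : Type*} [Group A] (f : A →* M24)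
    (hf : Function.Injective f) {p : ℕ} [Fact p.Prime] (hp : 9 ≤ p) :
    ∀ x : A, orderOf x = p → ∀ a b : A, Commute x a → Commute x b → a * b = b * a := by
  intro x hxo a b ha hb
  refine hf (Subtype.ext ?_)
  rw [map_mul, map_mul]
  refine centralizer_comm hp (f x).2 ?_ (f a).2 (f b).2 ?_ ?_
  · rw [← hxo, ← orderOf_injective f hf x]
    exact orderOf_injective M24.subtype M24.subtype_injective (f x)
  · exact (ha.map f).map M24.subtype
  · exact (hb.map f).map M24.subtype

theorem nat_card_golayPt : Nat.card GolayPt = 24 := by rw [Nat.card_eq_fintype_card]; rfl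

theorem M24_pretransitive_le (k : ℕ) (hk : k ≤ 5) : IsMultiplyPretransitive M24 GolayPt k := by
  have := M24_five_transitive
  exact isMultiplyPretransitive_of_le hk (by
    rw [nat_card_golayPt]; norm_num)

theorem M24_isPretransitive : IsPretransitive M24 GolayPt :=
  have := M24_pretransitive_le 2 (by norm_num)
  isPretransitive_of_is_two_pretransitive

theorem card_M24_stabilizer (p : GolayPt) : Nat.card (stabilizer M24 p) = 10200960 := by
  have := M24_isPretransitive
  have h := Subgroup.card_mul_index (stabilizer M24 p)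
  rw [index_stabilizer_of_transitive, nat_card_golayPt, card_M24] at h
  omega

theorem stabilizer_four_transitive (p : GolayPt) :
    IsMultiplyPretransitive (stabilizer M24 p) (SubMulAction.ofStabilizer M24 p) 4 := by
  have := M24_isPretransitive
  exact SubMulAction.ofStabilizer.isMultiplyPretransitive.1 M24_five_transitive

theorem card_ofStabilizer (p : GolayPt) : Nat.card (SubMulAction.ofStabilizer M24 p) = 23 := by
  rw [SubMulAction.nat_card_ofStabilizer_eq, nat_card_golayPt]

theorem stabilizer_two_transitive (p : GolayPt) :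
    IsMultiplyPretransitive (stabilizer M24 p) (SubMulAction.ofStabilizer M24 p) 2 := by
  have := stabilizer_four_transitive p
  exact isMultiplyPretransitive_of_le (n := 4) (by norm_num) (by
    rw [card_ofStabilizer]; norm_num)

theorem fixB_le_M24 (k : ℕ) : fixB k ≤ M24 := fun _ h => h.1

theorem perfect_stabilizer (p : GolayPt) : commutator (stabilizer M24 p) = ⊤ := by
  have := M24_isPretransitive
  obtain ⟨c, hc⟩ := exists_smul_eq M24 (bp 0) p
  refine commutator_top_of_equiv (conjSubEquiv (fixB 1) (fixB_le_M24 1) _ _ c.2 fun x => ?_)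
    perfect_fixB_one
  have hcp : (c : Equiv.Perm GolayPt) (bp 0) = p := hc
  constructor
  · intro hx
    refine ⟨mul_mem (mul_mem (inv_mem c.2) x.2) c.2, fun j hj => ?_⟩
    obtain rfl : j = 0 := by omega
    rw [Equiv.Perm.mul_apply, Equiv.Perm.mul_apply, hcp,
      show (x : Equiv.Perm GolayPt) p = p from hx, ← hcp]
    exact (c : Equiv.Perm GolayPt).symm_apply_apply _
  · intro hx
    have h0 := hx.2 0 one_pos
    rw [Equiv.Perm.mul_apply, Equiv.Perm.mul_apply, hcp, Equiv.Perm.inv_def,
      Equiv.symm_apply_eq, hcp] at h0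
    exact h0

/-- M23 is simple. -/
theorem isSimple_stabilizer (p : GolayPt) : IsSimpleGroup (stabilizer M24 p) := by
  have := Fact.mk (show Nat.Prime 23 by norm_num)
  have h2 := stabilizer_two_transitive p
  have : IsPreprimitive (stabilizer M24 p) (SubMulAction.ofStabilizer M24 p) :=
    isPreprimitive_of_is_two_pretransitive h2
  have : Nontrivial (stabilizer M24 p) :=
    Finite.one_lt_card_iff_nontrivial.1 (by rw [card_M24_stabilizer]; norm_num)
  have : FaithfulSMul (stabilizer M24 p) (SubMulAction.ofStabilizer M24 p) := by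
    refine ⟨fun {g h} hgh => Subtype.ext (Subtype.ext (Equiv.ext fun y => ?_))⟩
    by_cases hy : y = p
    · subst hy; exact g.2.trans h.2.symm
    · exact congrArg Subtype.val (hgh ⟨y, hy⟩)
  exact isSimple_of_primitive_perfect (α := SubMulAction.ofStabilizer M24 p) (p := 23)
    (perfect_stabilizer p) (by rw [card_ofStabilizer]) (by rw [card_M24_stabilizer]; norm_num)
    (centralizer_comm_of_embedding (stabilizer M24 p).subtype (Subgroup.subtype_injective _)
      (by norm_num))

/-- M24 is simple. -/
theorem isSimple_M24 : IsSimpleGroup M24 :=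
  have := isSimple_stabilizer none
  isSimple_of_simple_stabilizer (G := M24) (M24_pretransitive_le 2 (by norm_num)) none
    Nat.prime_two Nat.prime_three (by norm_num)
    (by rw [nat_card_golayPt]; norm_num) (by rw [nat_card_golayPt]; norm_num)

theorem card_two_stabilizer {p q : GolayPt} (hpq : p ≠ q) :
    Nat.card ↥(stabilizer M24 p ⊓ stabilizer M24 q) = 443520 := by
  have := stabilizer_two_transitive p
  have : IsPretransitive (stabilizer M24 p) (SubMulAction.ofStabilizer M24 p) :=
    isPretransitive_of_is_two_pretransitive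
  let y : SubMulAction.ofStabilizer M24 p := ⟨q, hpq.symm⟩
  have h := Subgroup.card_mul_index (stabilizer (stabilizer M24 p) y)
  rw [index_stabilizer_of_transitive, card_ofStabilizer, card_M24_stabilizer] at h
  let e : ↥(stabilizer (stabilizer M24 p) y) ≃ ↥(stabilizer M24 p ⊓ stabilizer M24 q) :=
    { toFun := fun g => ⟨g.1.1, g.1.2, congrArg Subtype.val g.2⟩
      invFun := fun g => ⟨⟨g.1, g.2.1⟩, Subtype.ext g.2.2⟩
      left_inv := fun g => rfl
      right_inv := fun g => rfl }
  rw [← Nat.card_congr e]
  omega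

theorem perfect_two_stabilizer {p q : GolayPt} (hpq : p ≠ q) :
    commutator ↥(stabilizer M24 p ⊓ stabilizer M24 q) = ⊤ := by
  obtain ⟨c, hc⟩ := (is_two_pretransitive_iff (G := M24) (α := GolayPt)).1
    (M24_pretransitive_le 2 (by norm_num)) (show bp 0 ≠ bp 1 by decide +kernel) hpq
  have h0 : (c : Equiv.Perm GolayPt) (bp 0) = p := hc.1
  have h1 : (c : Equiv.Perm GolayPt) (bp 1) = q := hc.2
  refine commutator_top_of_equiv (conjSubEquiv (fixB 2) (fixB_le_M24 2) _ _ c.2 fun x => ?_)
    perfect_fixB_two
  constructor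
  · rintro ⟨hxp, hxq⟩
    refine ⟨mul_mem (mul_mem (inv_mem c.2) x.2) c.2, fun j hj => ?_⟩
    interval_cases j
    · rw [Equiv.Perm.mul_apply, Equiv.Perm.mul_apply, h0,
        show (x : Equiv.Perm GolayPt) p = p from hxp, ← h0]
      exact (c : Equiv.Perm GolayPt).symm_apply_apply _
    · rw [Equiv.Perm.mul_apply, Equiv.Perm.mul_apply, h1,
        show (x : Equiv.Perm GolayPt) q = q from hxq, ← h1]
      exact (c : Equiv.Perm GolayPt).symm_apply_apply _
  · intro hx
    have a0 := hx.2 0 (by norm_num)
    have a1 := hx.2 1 (by norm_num)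
    rw [Equiv.Perm.mul_apply, Equiv.Perm.mul_apply, h0, Equiv.Perm.inv_def,
      Equiv.symm_apply_eq, h0] at a0
    rw [Equiv.Perm.mul_apply, Equiv.Perm.mul_apply, h1, Equiv.Perm.inv_def,
      Equiv.symm_apply_eq, h1] at a1
    exact ⟨a0, a1⟩

/-- M22 is simple. -/
theorem isSimple_two_stabilizer {p q : GolayPt} (hpq : p ≠ q) :
    IsSimpleGroup ↥(stabilizer M24 p ⊓ stabilizer M24 q) := by
  have := Fact.mk (show Nat.Prime 11 by norm_num)
  have h4 := stabilizer_four_transitive p
  let y : SubMulAction.ofStabilizer M24 p := ⟨q, hpq.symm⟩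
  have : IsPretransitive (stabilizer M24 p) (SubMulAction.ofStabilizer M24 p) :=
    have := stabilizer_two_transitive p
    isPretransitive_of_is_two_pretransitive
  have h3 : IsMultiplyPretransitive (stabilizer (stabilizer M24 p) y)
      (SubMulAction.ofStabilizer (stabilizer M24 p) y) 3 :=
    SubMulAction.ofStabilizer.isMultiplyPretransitive.1 h4
  have hc22 : Nat.card (SubMulAction.ofStabilizer (stabilizer M24 p) y) = 22 := by
    rw [SubMulAction.nat_card_ofStabilizer_eq, card_ofStabilizer]
  have h2 : IsMultiplyPretransitive (stabilizer (stabilizer M24 p) y)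
      (SubMulAction.ofStabilizer (stabilizer M24 p) y) 2 :=
    isMultiplyPretransitive_of_le (n := 3) (by norm_num) (by
      rw [hc22]; norm_num)
  have : IsPreprimitive (stabilizer (stabilizer M24 p) y)
      (SubMulAction.ofStabilizer (stabilizer M24 p) y) :=
    isPreprimitive_of_is_two_pretransitive h2
  let e : ↥(stabilizer (stabilizer M24 p) y) ≃* ↥(stabilizer M24 p ⊓ stabilizer M24 q) :=
    { toFun := fun g => ⟨g.1.1, g.1.2, congrArg Subtype.val g.2⟩
      invFun := fun g => ⟨⟨g.1, g.2.1⟩, Subtype.ext g.2.2⟩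
      left_inv := fun g => rfl
      right_inv := fun g => rfl
      map_mul' := fun g h => rfl }
  have hcard : Nat.card (stabilizer (stabilizer M24 p) y) = 443520 := by
    rw [Nat.card_congr e.toEquiv]; exact card_two_stabilizer hpq
  have : Nontrivial (stabilizer (stabilizer M24 p) y) :=
    Finite.one_lt_card_iff_nontrivial.1 (by rw [hcard]; norm_num)
  have : FaithfulSMul (stabilizer (stabilizer M24 p) y)
      (SubMulAction.ofStabilizer (stabilizer M24 p) y) := by
    refine ⟨fun {g h} hgh => Subtype.ext (Subtype.ext (Subtype.ext (Equiv.ext fun z => ?_)))⟩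
    by_cases hz : z = p
    · subst hz; exact g.1.2.trans h.1.2.symm
    by_cases hzq : z = q
    · subst hzq; exact (congrArg Subtype.val g.2).trans (congrArg Subtype.val h.2).symm
    · exact congrArg (fun w => w.1.1)
        (hgh ⟨⟨z, hz⟩, fun e' => hzq (congrArg Subtype.val e')⟩)
  have hperf : commutator (stabilizer (stabilizer M24 p) y) = ⊤ := by
    refine Subgroup.map_injective (f := e.toMonoidHom) e.injective ?_
    rw [commutator_def, Subgroup.map_commutator, Subgroup.map_top_of_surjective _ e.surjective,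
      ← commutator_def]
    exact perfect_two_stabilizer hpq
  exact e.isSimpleGroup_congr.1 (isSimple_of_primitive_perfect
    (α := SubMulAction.ofStabilizer (stabilizer M24 p) y) (p := 11) hperf
    (by rw [hc22]; norm_num) (by rw [hcard]; norm_num)
    (centralizer_comm_of_embedding
      ((stabilizer M24 p).subtype.comp (stabilizer (stabilizer M24 p) y).subtype)
      ((Subgroup.subtype_injective _).comp (Subgroup.subtype_injective _)) (by norm_num)))

/-- A dodecad as a subset stable under its stabiliser. -/
def dodPoints (d : Finset GolayPt) : SubMulAction (stabilizer M24 d) GolayPt where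
  carrier := d
  smul_mem' g x hx := by
    have := Finset.smul_mem_smul_finset (a := ((g : M24) : Equiv.Perm GolayPt)) hx
    rwa [show ((g : M24) : Equiv.Perm GolayPt) • d = d from g.2] at this

theorem card_dodPoints {d : Finset GolayPt} (hd : d ∈ dodecads) :
    Nat.card (dodPoints d) = 12 := by
  rw [← hd.2, ← Nat.card_eq_finsetCard]
  rfl

theorem dod_five_transitive {d : Finset GolayPt} (hd : d ∈ dodecads) :
    IsMultiplyPretransitive (stabilizer M24 d) (dodPoints d) 5 := by
  rw [MulAction.isMultiplyPretransitive_iff]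
  intro x y
  obtain ⟨g, hg, hgd, hgx⟩ := exists_dodecad_map hd
    (x.trans (Function.Embedding.subtype _)) fun i => (x i).2
  obtain ⟨h, hh, hhd, hhy⟩ := exists_dodecad_map hd
    (y.trans (Function.Embedding.subtype _)) fun i => (y i).2
  refine ⟨⟨⟨h * g⁻¹, mul_mem hh (inv_mem hg)⟩, ?_⟩, ?_⟩
  · show (h * g⁻¹) • d = d
    conv_lhs => rw [← hgd]
    rw [mul_smul, inv_smul_smul, hhd]
  · ext i : 1
    refine Subtype.ext ?_
    show (h * g⁻¹) (x i : GolayPt) = (y i : GolayPt)
    have hx : g (bp i.val) = (x i : GolayPt) := hgx i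
    have hy : h (bp i.val) = (y i : GolayPt) := hhy i
    rw [← hx, Equiv.Perm.mul_apply, ← hy]
    congr 1
    exact g.symm_apply_apply _

theorem dod_two_transitive {d : Finset GolayPt} (hd : d ∈ dodecads) :
    IsMultiplyPretransitive (stabilizer M24 d) (dodPoints d) 2 := by
  have := dod_five_transitive hd
  exact isMultiplyPretransitive_of_le (n := 5) (by norm_num) (by
    rw [card_dodPoints hd]; norm_num)

theorem dodecads_ncard : dodecads.ncard = 2576 := by
  have h : dodecads.ncard = dodList.length := by
    refine ncard_of_masks (codeList_nodup.filter _) (fun m hm => ?_)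
      fun m hm => mset_mem_dodecads_iff hm
    exact codeList_lt (List.mem_filter.1 hm).1
  rw [h]
  decide +kernel

theorem card_dod_stabilizer {d : Finset GolayPt} (hd : d ∈ dodecads) :
    Nat.card (stabilizer M24 d) = 95040 := by
  have horb : orbit M24 d = dodecads := by
    ext e
    constructor
    · rintro ⟨g, rfl⟩; exact smul_dodecad_mem g.2 hd
    · intro he
      obtain ⟨g, hg, hge⟩ := M24_dodecad_transitive hd he
      exact ⟨⟨g, hg⟩, hge⟩
  have h := Subgroup.card_mul_index (stabilizer M24 d)
  rw [index_stabilizer, horb, dodecads_ncard, card_M24] at h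
  omega

theorem card_dod_point_stabilizer {d : Finset GolayPt} (hd : d ∈ dodecads) {p : GolayPt}
    (hp : p ∈ d) : Nat.card ↥(stabilizer M24 d ⊓ stabilizer M24 p) = 7920 := by
  have : IsPretransitive (stabilizer M24 d) (dodPoints d) :=
    have := dod_two_transitive hd
    isPretransitive_of_is_two_pretransitive
  let y : dodPoints d := ⟨p, hp⟩
  have h := Subgroup.card_mul_index (stabilizer (stabilizer M24 d) y)
  rw [index_stabilizer_of_transitive, card_dodPoints hd, card_dod_stabilizer hd] at h
  let e : ↥(stabilizer (stabilizer M24 d) y) ≃ ↥(stabilizer M24 d ⊓ stabilizer M24 p) :=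
    { toFun := fun g => ⟨g.1.1, g.1.2, congrArg Subtype.val g.2⟩
      invFun := fun g => ⟨⟨g.1, g.2.1⟩, Subtype.ext g.2.2⟩
      left_inv := fun g => rfl
      right_inv := fun g => rfl }
  rw [← Nat.card_congr e]
  omega

theorem mSub_le_M24 (k : ℕ) (D : Finset GolayPt) : mSub k D ≤ M24 := fun _ h => h.1.1

theorem perfect_dod_point_stabilizer {d : Finset GolayPt} (hd : d ∈ dodecads) {p : GolayPt}
    (hp : p ∈ d) : commutator ↥(stabilizer M24 d ⊓ stabilizer M24 p) = ⊤ := by
  obtain ⟨g, hg, hgd⟩ := M24_dodecad_transitive baseDodecad_mem hd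
  have : IsPretransitive (stabilizer M24 d) (dodPoints d) :=
    have := dod_two_transitive hd
    isPretransitive_of_is_two_pretransitive
  have hgb : g (bp 0) ∈ d :=
    hgd ▸ Finset.smul_mem_smul_finset (bp_mem_baseDodecad 0 (by norm_num))
  obtain ⟨k, hk⟩ := exists_smul_eq (stabilizer M24 d)
    (⟨g (bp 0), hgb⟩ : dodPoints d) ⟨p, hp⟩
  set c := ((k : M24) : Equiv.Perm GolayPt) * g with hcdef
  have hc : c ∈ M24 := mul_mem (k : M24).2 hg
  have hc0 : c (bp 0) = p := congrArg Subtype.val hk
  have hcd : c • baseDodecad = d := by rw [hcdef, mul_smul, hgd]; exact k.2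
  refine commutator_top_of_equiv
    (conjSubEquiv (mSub 1 baseDodecad) (mSub_le_M24 _ _) _ c hc fun x => ?_) perfect_dod_one
  rw [mem_mSub]
  constructor
  · rintro ⟨hxd, hxp⟩
    refine ⟨mul_mem (mul_mem (inv_mem hc) x.2) hc, fun j hj => ?_, ?_⟩
    · obtain rfl : j = 0 := by omega
      rw [Equiv.Perm.mul_apply, Equiv.Perm.mul_apply, hc0,
        show (x : Equiv.Perm GolayPt) p = p from hxp, ← hc0]
      exact c.symm_apply_apply _
    · rw [mul_smul, mul_smul, hcd, show (x : Equiv.Perm GolayPt) • d = d from hxd, ← hcd,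
        inv_smul_smul]
  · rintro ⟨-, hf, hs⟩
    have h0 := hf 0 one_pos
    rw [Equiv.Perm.mul_apply, Equiv.Perm.mul_apply, hc0, Equiv.Perm.inv_def,
      Equiv.symm_apply_eq, hc0] at h0
    rw [mul_smul, mul_smul, hcd, inv_smul_eq_iff, hcd] at hs
    exact ⟨hs, h0⟩

theorem dod_action_faithful {d : Finset GolayPt} (hd : d ∈ dodecads) :
    FaithfulSMul (stabilizer M24 d) (dodPoints d) := by
  refine ⟨fun {g h} hgh => ?_⟩
  have hone : ((h : M24) : Equiv.Perm GolayPt)⁻¹ * ((g : M24) : Equiv.Perm GolayPt) = 1 := by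
    refine eq_one_of_nine_fixed (mul_mem (inv_mem (h : M24).2) (g : M24).2)
      (s := d) (by rw [hd.2]; norm_num) fun x hx => ?_
    have e : ((g : M24) : Equiv.Perm GolayPt) x = ((h : M24) : Equiv.Perm GolayPt) x :=
      congrArg Subtype.val (hgh ⟨x, hx⟩)
    rw [Equiv.Perm.mul_apply, e]
    exact ((h : M24) : Equiv.Perm GolayPt).symm_apply_apply x
  exact Subtype.ext (Subtype.ext (inv_mul_eq_one.1 hone).symm)

/-- M11 is simple. -/
theorem isSimple_dod_point_stabilizer {d : Finset GolayPt} (hd : d ∈ dodecads) {p : GolayPt}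
    (hp : p ∈ d) : IsSimpleGroup ↥(stabilizer M24 d ⊓ stabilizer M24 p) := by
  have := Fact.mk (show Nat.Prime 11 by norm_num)
  let y : dodPoints d := ⟨p, hp⟩
  have h5 := dod_five_transitive hd
  have : IsPretransitive (stabilizer M24 d) (dodPoints d) :=
    have := dod_two_transitive hd
    isPretransitive_of_is_two_pretransitive
  have h4 : IsMultiplyPretransitive (stabilizer (stabilizer M24 d) y)
      (SubMulAction.ofStabilizer (stabilizer M24 d) y) 4 :=
    SubMulAction.ofStabilizer.isMultiplyPretransitive.1 h5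
  have hc11 : Nat.card (SubMulAction.ofStabilizer (stabilizer M24 d) y) = 11 := by
    rw [SubMulAction.nat_card_ofStabilizer_eq, card_dodPoints hd]
  have h2 : IsMultiplyPretransitive (stabilizer (stabilizer M24 d) y)
      (SubMulAction.ofStabilizer (stabilizer M24 d) y) 2 :=
    isMultiplyPretransitive_of_le (n := 4) (by norm_num) (by
      rw [hc11]; norm_num)
  have : IsPreprimitive (stabilizer (stabilizer M24 d) y)
      (SubMulAction.ofStabilizer (stabilizer M24 d) y) :=
    isPreprimitive_of_is_two_pretransitive h2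
  let e : ↥(stabilizer (stabilizer M24 d) y) ≃* ↥(stabilizer M24 d ⊓ stabilizer M24 p) :=
    { toFun := fun g => ⟨g.1.1, g.1.2, congrArg Subtype.val g.2⟩
      invFun := fun g => ⟨⟨g.1, g.2.1⟩, Subtype.ext g.2.2⟩
      left_inv := fun g => rfl
      right_inv := fun g => rfl
      map_mul' := fun g h => rfl }
  have hcard : Nat.card (stabilizer (stabilizer M24 d) y) = 7920 := by
    rw [Nat.card_congr e.toEquiv]; exact card_dod_point_stabilizer hd hp
  have : Nontrivial (stabilizer (stabilizer M24 d) y) :=
    Finite.one_lt_card_iff_nontrivial.1 (by rw [hcard]; norm_num)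
  have := dod_action_faithful hd
  have : FaithfulSMul (stabilizer (stabilizer M24 d) y)
      (SubMulAction.ofStabilizer (stabilizer M24 d) y) := by
    refine ⟨fun {g h} hgh => Subtype.ext (eq_of_smul_eq_smul (α := dodPoints d) fun z => ?_)⟩
    by_cases hz : z = y
    · subst hz; exact g.2.trans h.2.symm
    · exact congrArg Subtype.val (hgh ⟨z, hz⟩)
  have hperf : commutator (stabilizer (stabilizer M24 d) y) = ⊤ := by
    refine Subgroup.map_injective (f := e.toMonoidHom) e.injective ?_
    rw [commutator_def, Subgroup.map_commutator, Subgroup.map_top_of_surjective _ e.surjective,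
      ← commutator_def]
    exact perfect_dod_point_stabilizer hd hp
  exact e.isSimpleGroup_congr.1 (isSimple_of_primitive_perfect
    (α := SubMulAction.ofStabilizer (stabilizer M24 d) y) (p := 11) hperf
    (by rw [hc11]) (by rw [hcard]; norm_num)
    (centralizer_comm_of_embedding
      ((stabilizer M24 d).subtype.comp (stabilizer (stabilizer M24 d) y).subtype)
      ((Subgroup.subtype_injective _).comp (Subgroup.subtype_injective _)) (by norm_num)))

/-- M12 is simple. -/
theorem isSimple_dod_stabilizer {d : Finset GolayPt} (hd : d ∈ dodecads) :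
    IsSimpleGroup (stabilizer M24 d) := by
  obtain ⟨p, hp⟩ : d.Nonempty := Finset.card_pos.1 (by rw [hd.2]; norm_num)
  let y : dodPoints d := ⟨p, hp⟩
  let e : ↥(stabilizer (stabilizer M24 d) y) ≃* ↥(stabilizer M24 d ⊓ stabilizer M24 p) :=
    { toFun := fun g => ⟨g.1.1, g.1.2, congrArg Subtype.val g.2⟩
      invFun := fun g => ⟨⟨g.1, g.2.1⟩, Subtype.ext g.2.2⟩
      left_inv := fun g => rfl
      right_inv := fun g => rfl
      map_mul' := fun g h => rfl }
  have : IsSimpleGroup (stabilizer (stabilizer M24 d) y) :=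
    e.isSimpleGroup_congr.2 (isSimple_dod_point_stabilizer hd hp)
  have := dod_action_faithful hd
  have : Nontrivial (dodPoints d) :=
    Finite.one_lt_card_iff_nontrivial.1 (by rw [card_dodPoints hd]; norm_num)
  exact isSimple_of_simple_stabilizer (dod_two_transitive hd) y Nat.prime_two Nat.prime_three
    (by norm_num) (by rw [card_dodPoints hd]; norm_num) (by rw [card_dodPoints hd]; norm_num)

theorem squareDodecad_eq : Spor.squareDodecad = mset 340831 := by decide +kernel

theorem squareDodecad_mem : Spor.squareDodecad ∈ dodecads := by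
  rw [squareDodecad_eq]
  exact (mset_mem_dodecads_iff (by norm_num)).2 (by decide +kernel)

end Cfsg.Lib.Concrete
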