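import Cfsg.Agent.Lib.Concrete.OrbitData

/-!
Ranks, transitivity and counts for stabilisers in M24 of octads, dodecads and points.
-/

set_option autoImplicit false

namespace Cfsg.Lib.Concrete

open scoped Pointwise
open MulAction

/-- Intersection numbers with the masks, as one number. -/
def invs : List ℕ → ℕ → ℕ
  | [], _ => 0
  | a :: L, m => Nat.add (pcnt (Nat.land a m)) (Nat.mul 32 (invs L m))

/-- The base octad. -/
def mO : ℕ := m24BaseOctad
/-- The base dodecad. -/
def mD : ℕ := 11472927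
/-- The first base point. -/
def mP : ℕ := 8388608
/-- The second base point. -/
def mQ : ℕ := 1
/-- The third base point. -/
def mR : ℕ := 2
/-- A point outside the base octad. -/
def mOut : ℕ := 16
/-- A point outside the base dodecad. -/
def mX : ℕ := 32
/-- Another point outside the base dodecad. -/
def mY : ℕ := 64

theorem Std.extendCl {cfg : List (Finset GolayPt)} {ms : List ℕ} (hs : Std cfg ms) {X : Finset GolayPt}
    {gens : List (ℕ × ℕ)} {os : List OrbCert} {cands : List ℕ} {inv : ℕ → ℕ}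
    {idx : ℕ} (h : orbsOk ms gens os = true) (hc : classesOk cands inv os idx = true) {o : OrbCert} (ho : o ∈ os)
    (hX : ∀ g ∈ M24, cfg.map (fun A => g • A) = ms.map mset →
      ∃ m ∈ cands, g • X = mset m ∧ inv m = inv o.root) :
    Std (cfg ++ [X]) (ms ++ [o.root]) :=
  hs.extend h ho fun g hg he => by
    obtain ⟨m, hm, hgX, hi⟩ := hX g hg he
    exact ⟨m, classes_mem hc ho hm hi, hgX⟩

theorem ncard_std {cfg : List (Finset GolayPt)} {ms : List ℕ} (hs : Std cfg ms) {cands : List ℕ}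
    (hnd : cands.Nodup) (hlt : ∀ m ∈ cands, m < 2 ^ 24) (Q P : Finset GolayPt → Prop) (p : ℕ → Bool)
    (hQ : ∀ X, Q X ↔ ∃ m ∈ cands, X = mset m) (hinv : ∀ g ∈ M24, ∀ X, Q (g • X) ↔ Q X)
    (h : ∀ g ∈ M24, cfg.map (fun A => g • A) = ms.map mset → ∀ X, ∀ m ∈ cands, g • X = mset m →
      (P X ↔ p m = true)) :
    {X | Q X ∧ P X}.ncard = (cands.filter p).length := by
  obtain ⟨g, hg, he⟩ := hs
  rw [← ncard_eq_of_smul (S := {Y | Q Y ∧ P (g⁻¹ • Y)}) (T := {X | Q X ∧ P X}) g
    (fun X => by simp [hinv g hg])]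
  refine ncard_of_masks (hnd.filter _) (fun m hm => hlt m (List.mem_filter.1 hm).1) fun m hm => ?_
  rw [Set.mem_setOf_eq, List.mem_filter]
  constructor
  · rintro ⟨h1, h2⟩
    obtain ⟨m', hm', e⟩ := (hQ _).1 h1
    obtain rfl : m = m' := mset_inj hm (hlt m' hm') e
    exact ⟨hm', (h g hg he _ m hm' (smul_inv_smul g _)).1 h2⟩
  · rintro ⟨h1, h2⟩
    exact ⟨(hQ _).2 ⟨m, h1, rfl⟩, (h g hg he _ m h1 (smul_inv_smul g _)).2 h2⟩

theorem oct_cands (X : Finset GolayPt) : X ∈ octads ↔ ∃ m ∈ octList, X = mset m :=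
  ⟨exists_oct_mask, fun ⟨_, hm, e⟩ => e ▸ (mset_mem_octads_iff (octList_lt hm)).2 hm⟩

theorem dodList_lt {m : ℕ} (hm : m ∈ dodList) : m < 2 ^ 24 := codeList_lt (List.mem_filter.1 hm).1

theorem dod_cands (X : Finset GolayPt) : X ∈ dodecads ↔ ∃ m ∈ dodList, X = mset m :=
  ⟨exists_dod_mask, fun ⟨_, hm, e⟩ => e ▸ (mset_mem_dodecads_iff (dodList_lt hm)).2 hm⟩

theorem pcnt_point {g : Equiv.Perm GolayPt} {A : Finset GolayPt} {a : ℕ} {x : GolayPt} {m : ℕ}
    (ha : g • A = mset a) (hm : g • ({x} : Finset GolayPt) = mset m) :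
    pcnt (Nat.land a m) = if x ∈ A then 1 else 0 := by
  rw [← inter_card_of_smul ha hm]
  split_ifs with h <;> simp [h]

theorem exists_image_pt (g : Equiv.Perm GolayPt) (x : GolayPt) :
    ∃ m ∈ ptMasks, g • ({x} : Finset GolayPt) = mset m := by
  rw [smul_singleton_perm]; exact exists_pt_mask _

theorem exists_image_oct {g : Equiv.Perm GolayPt} (hg : g ∈ M24) {o : Finset GolayPt} (ho : o ∈ octads) :
    ∃ m ∈ octList, g • o = mset m := exists_oct_mask (smul_octad_mem hg ho)

theorem exists_image_dod {g : Equiv.Perm GolayPt} (hg : g ∈ M24) {o : Finset GolayPt} (ho : o ∈ dodecads) :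
    ∃ m ∈ dodList, g • o = mset m := exists_dod_mask (smul_dodecad_mem hg ho)

theorem std_point (p : GolayPt) : Std [{p}] [mP] := by
  have h : Std ([] : List (Finset GolayPt)) [] := ⟨1, one_mem _, rfl⟩
  refine h.extendCl (inv := invs []) (gens := oTopGens) (os := oTopPt) (idx := oTopPtIx) (cands := ptMasks)
    (by decide +kernel) (by decide +kernel) (o := oTopPt0) (List.mem_cons_self ..) fun g hg he => ?_
  obtain ⟨m, hm, e⟩ := exists_image_pt g p
  exact ⟨m, hm, e, rfl⟩

theorem std_two_points {p q : GolayPt} (hpq : p ≠ q) : Std [{p}, {q}] [mP, mQ] := by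
  refine (std_point p).extendCl (inv := invs [mP]) (gens := oPGens) (os := oPPt) (idx := oPPtIx) (cands := ptMasks)
    (by decide +kernel) (by decide +kernel) (o := oPPt0) (List.mem_cons_self ..) fun g hg he => ?_
  simp only [List.map_cons, List.map_nil, List.cons.injEq, and_true] at he
  obtain ⟨m, hm, e⟩ := exists_image_pt g q
  refine ⟨m, hm, e, ?_⟩
  simp only [invs, pcnt_point he e, Finset.mem_singleton, if_neg (Ne.symm hpq)]
  decide +kernel

theorem std_oct_in {o : Finset GolayPt} (ho : o ∈ octads) {x : GolayPt} (hx : x ∈ o) :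
    Std [o, {x}] [mO, mP] := by
  refine (std_octad ho).extendCl (inv := invs [mO]) (gens := oOGens) (os := oOPt) (idx := oOPtIx) (cands := ptMasks)
    (by decide +kernel) (by decide +kernel) (o := oOPt0) (List.mem_cons_self ..) fun g hg he => ?_
  simp only [List.map_cons, List.map_nil, List.cons.injEq, and_true] at he
  obtain ⟨m, hm, e⟩ := exists_image_pt g x
  refine ⟨m, hm, e, ?_⟩
  simp only [invs, mO, pcnt_point he e, if_pos hx]
  decide +kernel

theorem std_oct_out {o : Finset GolayPt} (ho : o ∈ octads) {x : GolayPt} (hx : x ∉ o) :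
    Std [o, {x}] [mO, mOut] := by
  refine (std_octad ho).extendCl (inv := invs [mO]) (gens := oOGens) (os := oOPt) (idx := oOPtIx) (cands := ptMasks)
    (by decide +kernel) (by decide +kernel) (o := oOPt1) (List.mem_cons_of_mem _ (List.mem_cons_self ..))
    fun g hg he => ?_
  simp only [List.map_cons, List.map_nil, List.cons.injEq, and_true] at he
  obtain ⟨m, hm, e⟩ := exists_image_pt g x
  refine ⟨m, hm, e, ?_⟩
  simp only [invs, mO, pcnt_point he e, if_neg hx]
  decide +kernel

theorem std_dod_in {d : Finset GolayPt} (hd : d ∈ dodecads) {x : GolayPt} (hx : x ∈ d) :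
    Std [d, {x}] [mD, mP] := by
  refine (std_dodecad hd).extendCl (inv := invs [mD]) (gens := oDGens) (os := oDPt) (idx := oDPtIx) (cands := ptMasks)
    (by decide +kernel) (by decide +kernel) (o := oDPt0) (List.mem_cons_self ..) fun g hg he => ?_
  simp only [List.map_cons, List.map_nil, List.cons.injEq, and_true] at he
  obtain ⟨m, hm, e⟩ := exists_image_pt g x
  refine ⟨m, hm, e, ?_⟩
  simp only [invs, mD, pcnt_point he e, if_pos hx]
  decide +kernel

/-- Orbits of an octad stabiliser on octads. -/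
theorem octad_rank {o o' o'' : Finset GolayPt} (ho : o ∈ octads) (ho' : o' ∈ octads) (ho'' : o'' ∈ octads)
    (h : (o ∩ o').card = (o ∩ o'').card) : ∃ g ∈ M24, g • o = o ∧ g • o' = o'' := by
  obtain ⟨g, hg, hfix, he⟩ := (std_octad ho).rank (X := o') (Y := o'') (inv := invs [mO])
    (gens := oOGens) (os := oOOct) (idx := oOOctIx) (cands := octList) (by decide +kernel) (by decide +kernel)
    fun g hg he => by
      simp only [List.map_cons, List.map_nil, List.cons.injEq, and_true] at he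
      obtain ⟨m, hm, e⟩ := exists_image_oct hg ho'
      obtain ⟨m', hm', e'⟩ := exists_image_oct hg ho''
      refine ⟨m, hm, m', hm', e, e', ?_⟩
      simp only [invs, mO, ← inter_card_of_smul he e, ← inter_card_of_smul he e', h]
  exact ⟨g, hg, hfix o (List.mem_cons_self ..), he⟩

/-- Orbits of a dodecad stabiliser on dodecads. -/
theorem dodecad_rank {d d' d'' : Finset GolayPt} (hd : d ∈ dodecads) (hd' : d' ∈ dodecads)
    (hd'' : d'' ∈ dodecads) (h : (d ∩ d').card = (d ∩ d'').card) :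
    ∃ g ∈ M24, g • d = d ∧ g • d' = d'' := by
  obtain ⟨g, hg, hfix, he⟩ := (std_dodecad hd).rank (X := d') (Y := d'') (inv := invs [mD])
    (gens := oDGens) (os := oDDod) (idx := oDDodIx) (cands := dodList) (by decide +kernel) (by decide +kernel)
    fun g hg he => by
      simp only [List.map_cons, List.map_nil, List.cons.injEq, and_true] at he
      obtain ⟨m, hm, e⟩ := exists_image_dod hg hd'
      obtain ⟨m', hm', e'⟩ := exists_image_dod hg hd''
      refine ⟨m, hm, m', hm', e, e', ?_⟩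
      simp only [invs, mD, ← inter_card_of_smul he e, ← inter_card_of_smul he e', h]
  exact ⟨g, hg, hfix d (List.mem_cons_self ..), he⟩

/-- Octads through a point of an octad. -/
theorem m23_heptads {x : GolayPt} {o : Finset GolayPt} (ho : o ∈ octads) (hx : x ∈ o) (k : ℕ) :
    {o' : Finset GolayPt | o' ∈ octads ∧ x ∈ o' ∧ (o ∩ o').card = k}.ncard =
      (octList.filter fun m => Nat.beq (pcnt (Nat.land mP m)) 1 && Nat.beq (pcnt (Nat.land mO m)) k).length := by
  refine ncard_std (std_oct_in ho hx) octList_nodup (fun m hm => octList_lt hm) (fun X => X ∈ octads)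
    (fun X => x ∈ X ∧ (o ∩ X).card = k) _ oct_cands (fun g hg X => smul_mem_octads_iff hg X)
    fun g hg he X m hm e => ?_
  simp only [List.map_cons, List.map_nil, List.cons.injEq, and_true] at he
  rw [Bool.and_eq_true, Nat.beq_eq, Nat.beq_eq, ← inter_card_of_smul he.2 e, ← inter_card_of_smul he.1 e,
    ← mem_iff_inter_card]

theorem m23_heptads_rank {x : GolayPt} {o o' o'' : Finset GolayPt} (ho : o ∈ octads) (hx : x ∈ o)
    (ho' : o' ∈ octads) (ho'' : o'' ∈ octads) (hx' : x ∈ o') (hx'' : x ∈ o'')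
    (h : (o ∩ o').card = (o ∩ o'').card) : ∃ g ∈ M24, g x = x ∧ g • o = o ∧ g • o' = o'' := by
  obtain ⟨g, hg, hfix, he⟩ := (std_oct_in ho hx).rank (X := o') (Y := o'') (inv := invs [mO, mP])
    (gens := oOPGens) (os := oOPOct) (idx := oOPOctIx)
    (cands := octList.filter fun m => Nat.beq (pcnt (Nat.land mP m)) 1)
    (by decide +kernel) (by decide +kernel) fun g hg he => by
      simp only [List.map_cons, List.map_nil, List.cons.injEq, and_true] at he
      obtain ⟨m, hm, e⟩ := exists_image_oct hg ho'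
      obtain ⟨m', hm', e'⟩ := exists_image_oct hg ho''
      have h1 := mem_iff_inter_card.1 hx'
      have h1' := mem_iff_inter_card.1 hx''
      rw [inter_card_of_smul he.2 e] at h1
      rw [inter_card_of_smul he.2 e'] at h1'
      refine ⟨m, List.mem_filter.2 ⟨hm, by rw [Nat.beq_eq]; exact h1⟩, m',
        List.mem_filter.2 ⟨hm', by rw [Nat.beq_eq]; exact h1'⟩, e, e', ?_⟩
      simp only [invs, ← inter_card_of_smul he.1 e, ← inter_card_of_smul he.1 e', h, h1, h1']
  exact ⟨g, hg, apply_of_smul_singleton (hfix _ (by simp)), hfix o (List.mem_cons_self ..), he⟩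

/-- Octads avoiding a point outside an octad. -/
theorem m23_octads_avoid {x : GolayPt} {o : Finset GolayPt} (ho : o ∈ octads) (hx : x ∉ o) (k : ℕ) :
    {o' : Finset GolayPt | o' ∈ octads ∧ x ∉ o' ∧ (o ∩ o').card = k}.ncard =
      (octList.filter fun m => Nat.beq (pcnt (Nat.land mOut m)) 0 && Nat.beq (pcnt (Nat.land mO m)) k).length := by
  refine ncard_std (std_oct_out ho hx) octList_nodup (fun m hm => octList_lt hm) (fun X => X ∈ octads)
    (fun X => x ∉ X ∧ (o ∩ X).card = k) _ oct_cands (fun g hg X => smul_mem_octads_iff hg X)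
    fun g hg he X m hm e => ?_
  simp only [List.map_cons, List.map_nil, List.cons.injEq, and_true] at he
  rw [Bool.and_eq_true, Nat.beq_eq, Nat.beq_eq, ← inter_card_of_smul he.2 e, ← inter_card_of_smul he.1 e,
    ← not_mem_iff_inter_card]

theorem m23_octads_avoid_rank {x : GolayPt} {o o' o'' : Finset GolayPt} (ho : o ∈ octads) (hx : x ∉ o)
    (ho' : o' ∈ octads) (ho'' : o'' ∈ octads) (hx' : x ∉ o') (hx'' : x ∉ o'')
    (h : (o ∩ o').card = (o ∩ o'').card) : ∃ g ∈ M24, g x = x ∧ g • o = o ∧ g • o' = o'' := by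
  obtain ⟨g, hg, hfix, he⟩ := (std_oct_out ho hx).rank (X := o') (Y := o'') (inv := invs [mO, mOut])
    (gens := oOQGens) (os := oOQOct) (idx := oOQOctIx)
    (cands := octList.filter fun m => Nat.beq (pcnt (Nat.land mOut m)) 0)
    (by decide +kernel) (by decide +kernel) fun g hg he => by
      simp only [List.map_cons, List.map_nil, List.cons.injEq, and_true] at he
      obtain ⟨m, hm, e⟩ := exists_image_oct hg ho'
      obtain ⟨m', hm', e'⟩ := exists_image_oct hg ho''
      have h1 := not_mem_iff_inter_card.1 hx'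
      have h1' := not_mem_iff_inter_card.1 hx''
      rw [inter_card_of_smul he.2 e] at h1
      rw [inter_card_of_smul he.2 e'] at h1'
      refine ⟨m, List.mem_filter.2 ⟨hm, by rw [Nat.beq_eq]; exact h1⟩, m',
        List.mem_filter.2 ⟨hm', by rw [Nat.beq_eq]; exact h1'⟩, e, e', ?_⟩
      simp only [invs, ← inter_card_of_smul he.1 e, ← inter_card_of_smul he.1 e', h, h1, h1']
  exact ⟨g, hg, apply_of_smul_singleton (hfix _ (by simp)), hfix o (List.mem_cons_self ..), he⟩

/-- Dodecads through a point of a dodecad. -/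
theorem m23_dodecads {x : GolayPt} {d : Finset GolayPt} (hd : d ∈ dodecads) (hx : x ∈ d) (k : ℕ) :
    {d' : Finset GolayPt | d' ∈ dodecads ∧ x ∈ d' ∧ (d ∩ d').card = k}.ncard =
      (dodList.filter fun m => Nat.beq (pcnt (Nat.land mP m)) 1 && Nat.beq (pcnt (Nat.land mD m)) k).length := by
  refine ncard_std (std_dod_in hd hx) (codeList_nodup.filter _) (fun m hm => dodList_lt hm)
    (fun X => X ∈ dodecads) (fun X => x ∈ X ∧ (d ∩ X).card = k) _ dod_cands
    (fun g hg X => smul_mem_dodecads_iff hg X) fun g hg he X m hm e => ?_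
  simp only [List.map_cons, List.map_nil, List.cons.injEq, and_true] at he
  rw [Bool.and_eq_true, Nat.beq_eq, Nat.beq_eq, ← inter_card_of_smul he.2 e, ← inter_card_of_smul he.1 e,
    ← mem_iff_inter_card]

theorem m23_dodecads_rank {x : GolayPt} {d d' d'' : Finset GolayPt} (hd : d ∈ dodecads) (hx : x ∈ d)
    (hd' : d' ∈ dodecads) (hd'' : d'' ∈ dodecads) (hx' : x ∈ d') (hx'' : x ∈ d'')
    (h : (d ∩ d').card = (d ∩ d'').card) : ∃ g ∈ M24, g x = x ∧ g • d = d ∧ g • d' = d'' := by
  obtain ⟨g, hg, hfix, he⟩ := (std_dod_in hd hx).rank (X := d') (Y := d'') (inv := invs [mD, mP])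
    (gens := oDPGens) (os := oDPDod) (idx := oDPDodIx)
    (cands := dodList.filter fun m => Nat.beq (pcnt (Nat.land mP m)) 1)
    (by decide +kernel) (by decide +kernel) fun g hg he => by
      simp only [List.map_cons, List.map_nil, List.cons.injEq, and_true] at he
      obtain ⟨m, hm, e⟩ := exists_image_dod hg hd'
      obtain ⟨m', hm', e'⟩ := exists_image_dod hg hd''
      have h1 := mem_iff_inter_card.1 hx'
      have h1' := mem_iff_inter_card.1 hx''
      rw [inter_card_of_smul he.2 e] at h1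
      rw [inter_card_of_smul he.2 e'] at h1'
      refine ⟨m, List.mem_filter.2 ⟨hm, by rw [Nat.beq_eq]; exact h1⟩, m',
        List.mem_filter.2 ⟨hm', by rw [Nat.beq_eq]; exact h1'⟩, e, e', ?_⟩
      simp only [invs, ← inter_card_of_smul he.1 e, ← inter_card_of_smul he.1 e', h, h1, h1']
  exact ⟨g, hg, apply_of_smul_singleton (hfix _ (by simp)), hfix d (List.mem_cons_self ..), he⟩

/-- A hexad of the base pair of points. -/
def mBoth : ℕ := 13062145
/-- An octad on the first base point avoiding the second. -/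
def mOne : ℕ := 13938692
/-- A pair of points avoiding the base pair. -/
def mDuad : ℕ := 6

/-- The octads on both base points. -/
def bothList : List ℕ :=
  octList.filter fun m => Nat.beq (pcnt (Nat.land mP m)) 1 && Nat.beq (pcnt (Nat.land mQ m)) 1

/-- The octads on the first base point avoiding the second. -/
def oneList : List ℕ :=
  octList.filter fun m => Nat.beq (pcnt (Nat.land mP m)) 1 && Nat.beq (pcnt (Nat.land mQ m)) 0

theorem exists_image_both {g : Equiv.Perm GolayPt} (hg : g ∈ M24) {p q : GolayPt} {o : Finset GolayPt}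
    (hp : g • ({p} : Finset GolayPt) = mset mP) (hq : g • ({q} : Finset GolayPt) = mset mQ)
    (ho : o ∈ octads) (hpo : p ∈ o) (hqo : q ∈ o) :
    ∃ m ∈ bothList, g • o = mset m ∧ pcnt (Nat.land mP m) = 1 ∧ pcnt (Nat.land mQ m) = 1 := by
  obtain ⟨m, hm, e⟩ := exists_image_oct hg ho
  have h1 := mem_iff_inter_card.1 hpo
  have h2 := mem_iff_inter_card.1 hqo
  rw [inter_card_of_smul hp e] at h1
  rw [inter_card_of_smul hq e] at h2
  exact ⟨m, List.mem_filter.2 ⟨hm, by rw [Bool.and_eq_true, Nat.beq_eq, Nat.beq_eq]; exact ⟨h1, h2⟩⟩,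
    e, h1, h2⟩

theorem exists_image_one {g : Equiv.Perm GolayPt} (hg : g ∈ M24) {p q : GolayPt} {o : Finset GolayPt}
    (hp : g • ({p} : Finset GolayPt) = mset mP) (hq : g • ({q} : Finset GolayPt) = mset mQ)
    (ho : o ∈ octads) (hpo : p ∈ o) (hqo : q ∉ o) :
    ∃ m ∈ oneList, g • o = mset m ∧ pcnt (Nat.land mP m) = 1 ∧ pcnt (Nat.land mQ m) = 0 := by
  obtain ⟨m, hm, e⟩ := exists_image_oct hg ho
  have h1 := mem_iff_inter_card.1 hpo
  have h2 := not_mem_iff_inter_card.1 hqo
  rw [inter_card_of_smul hp e] at h1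
  rw [inter_card_of_smul hq e] at h2
  exact ⟨m, List.mem_filter.2 ⟨hm, by rw [Bool.and_eq_true, Nat.beq_eq, Nat.beq_eq]; exact ⟨h1, h2⟩⟩,
    e, h1, h2⟩

theorem std_both {p q : GolayPt} (hpq : p ≠ q) {o : Finset GolayPt} (ho : o ∈ octads) (hp : p ∈ o)
    (hq : q ∈ o) : Std [{p}, {q}, o] [mP, mQ, mBoth] := by
  refine (std_two_points hpq).extendCl (inv := invs [mP, mQ]) (gens := oPQGens) (os := oPQBoth)
    (idx := oPQBothIx) (cands := bothList) (by decide +kernel) (by decide +kernel) (o := oPQBoth0)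
    (List.mem_cons_self ..) fun g hg he => ?_
  simp only [List.map_cons, List.map_nil, List.cons.injEq, and_true] at he
  obtain ⟨m, hm, e, h1, h2⟩ := exists_image_both hg he.1 he.2 ho hp hq
  refine ⟨m, hm, e, ?_⟩
  simp only [invs, h1, h2]
  decide +kernel

theorem std_one {p q : GolayPt} (hpq : p ≠ q) {o : Finset GolayPt} (ho : o ∈ octads) (hp : p ∈ o)
    (hq : q ∉ o) : Std [{p}, {q}, o] [mP, mQ, mOne] := by
  refine (std_two_points hpq).extendCl (inv := invs [mP, mQ]) (gens := oPQGens) (os := oPQOne)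
    (idx := oPQOneIx) (cands := oneList) (by decide +kernel) (by decide +kernel) (o := oPQOne0)
    (List.mem_cons_self ..) fun g hg he => ?_
  simp only [List.map_cons, List.map_nil, List.cons.injEq, and_true] at he
  obtain ⟨m, hm, e, h1, h2⟩ := exists_image_one hg he.1 he.2 ho hp hq
  refine ⟨m, hm, e, ?_⟩
  simp only [invs, h1, h2]
  decide +kernel

theorem m22_hexads {p q : GolayPt} (hpq : p ≠ q) {o : Finset GolayPt} (ho : o ∈ octads) (hp : p ∈ o)
    (hq : q ∈ o) (k : ℕ) :
    {x : Finset GolayPt | x ∈ octads ∧ p ∈ x ∧ q ∈ x ∧ (o ∩ x).card = k}.ncard =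
      (octList.filter fun m => Nat.beq (pcnt (Nat.land mP m)) 1 && Nat.beq (pcnt (Nat.land mQ m)) 1 &&
        Nat.beq (pcnt (Nat.land mBoth m)) k).length := by
  refine ncard_std (std_both hpq ho hp hq) octList_nodup (fun m hm => octList_lt hm) (fun X => X ∈ octads)
    (fun X => p ∈ X ∧ q ∈ X ∧ (o ∩ X).card = k) _ oct_cands (fun g hg X => smul_mem_octads_iff hg X)
    fun g hg he X m hm e => ?_
  simp only [List.map_cons, List.map_nil, List.cons.injEq, and_true] at he
  rw [Bool.and_eq_true, Bool.and_eq_true, Nat.beq_eq, Nat.beq_eq, Nat.beq_eq, ← inter_card_of_smul he.1 e,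
    ← inter_card_of_smul he.2.1 e, ← inter_card_of_smul he.2.2 e, ← mem_iff_inter_card, ← mem_iff_inter_card,
    and_assoc]

theorem m22_hexads_rank {p q : GolayPt} (hpq : p ≠ q) {o o' o'' : Finset GolayPt} (ho : o ∈ octads)
    (ho' : o' ∈ octads) (ho'' : o'' ∈ octads) (hp : p ∈ o ∧ p ∈ o' ∧ p ∈ o'') (hq : q ∈ o ∧ q ∈ o' ∧ q ∈ o'')
    (h : (o ∩ o').card = (o ∩ o'').card) :
    ∃ g ∈ M24, g p = p ∧ g q = q ∧ g • o = o ∧ g • o' = o'' := by
  obtain ⟨g, hg, hfix, he⟩ := (std_both hpq ho hp.1 hq.1).rank (X := o') (Y := o'')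
    (inv := invs [mP, mQ, mBoth]) (gens := oPQBGens) (os := oPQBBoth) (idx := oPQBBothIx) (cands := bothList)
    (by decide +kernel) (by decide +kernel) fun g hg he => by
      simp only [List.map_cons, List.map_nil, List.cons.injEq, and_true] at he
      obtain ⟨m, hm, e, h1, h2⟩ := exists_image_both hg he.1 he.2.1 ho' hp.2.1 hq.2.1
      obtain ⟨m', hm', e', h1', h2'⟩ := exists_image_both hg he.1 he.2.1 ho'' hp.2.2 hq.2.2
      refine ⟨m, hm, m', hm', e, e', ?_⟩
      simp only [invs, h1, h2, h1', h2', ← inter_card_of_smul he.2.2 e, ← inter_card_of_smul he.2.2 e', h]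
  exact ⟨g, hg, apply_of_smul_singleton (hfix _ (by simp)), apply_of_smul_singleton (hfix _ (by simp)),
    hfix o (by simp), he⟩

theorem m22_heptads_card {p q : GolayPt} (hpq : p ≠ q) :
    {x : Finset GolayPt | x ∈ octads ∧ p ∈ x ∧ q ∉ x}.ncard = oneList.length := by
  refine ncard_std (std_two_points hpq) octList_nodup (fun m hm => octList_lt hm) (fun X => X ∈ octads)
    (fun X => p ∈ X ∧ q ∉ X) _ oct_cands (fun g hg X => smul_mem_octads_iff hg X)
    fun g hg he X m hm e => ?_
  simp only [List.map_cons, List.map_nil, List.cons.injEq, and_true] at he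
  rw [Bool.and_eq_true, Nat.beq_eq, Nat.beq_eq, ← inter_card_of_smul he.1 e,
    ← inter_card_of_smul he.2 e, ← mem_iff_inter_card, ← not_mem_iff_inter_card]

theorem m22_heptads {p q : GolayPt} (hpq : p ≠ q) {o : Finset GolayPt} (ho : o ∈ octads) (hp : p ∈ o)
    (hq : q ∉ o) (k : ℕ) :
    {x : Finset GolayPt | (x ∈ octads ∧ p ∈ x ∧ q ∉ x) ∧ (o ∩ x).card = k}.ncard =
      (octList.filter fun m => Nat.beq (pcnt (Nat.land mP m)) 1 && Nat.beq (pcnt (Nat.land mQ m)) 0 &&
        Nat.beq (pcnt (Nat.land mOne m)) k).length := by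
  have hset : {x : Finset GolayPt | (x ∈ octads ∧ p ∈ x ∧ q ∉ x) ∧ (o ∩ x).card = k} =
      {x | x ∈ octads ∧ p ∈ x ∧ q ∉ x ∧ (o ∩ x).card = k} := by
    ext x; simp only [Set.mem_setOf_eq, and_assoc]
  rw [hset]
  refine ncard_std (std_one hpq ho hp hq) octList_nodup (fun m hm => octList_lt hm) (fun X => X ∈ octads)
    (fun X => p ∈ X ∧ q ∉ X ∧ (o ∩ X).card = k) _ oct_cands (fun g hg X => smul_mem_octads_iff hg X)
    fun g hg he X m hm e => ?_
  simp only [List.map_cons, List.map_nil, List.cons.injEq, and_true] at he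
  rw [Bool.and_eq_true, Bool.and_eq_true, Nat.beq_eq, Nat.beq_eq, Nat.beq_eq, ← inter_card_of_smul he.1 e,
    ← inter_card_of_smul he.2.1 e, ← inter_card_of_smul he.2.2 e, ← mem_iff_inter_card, ← not_mem_iff_inter_card,
    and_assoc]

theorem m22_heptads_trans {p q : GolayPt} (hpq : p ≠ q) {o o' : Finset GolayPt} (ho : o ∈ octads)
    (ho' : o' ∈ octads) (hp : p ∈ o) (hp' : p ∈ o') (hq : q ∉ o) (hq' : q ∉ o') :
    ∃ g ∈ M24, g p = p ∧ g q = q ∧ g • o = o' := by
  obtain ⟨g, hg, hfix, he⟩ := (std_two_points hpq).rank (X := o) (Y := o')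
    (inv := invs [mP, mQ]) (gens := oPQGens) (os := oPQOne) (idx := oPQOneIx) (cands := oneList)
    (by decide +kernel) (by decide +kernel) fun g hg he => by
      simp only [List.map_cons, List.map_nil, List.cons.injEq, and_true] at he
      obtain ⟨m, hm, e, h1, h2⟩ := exists_image_one hg he.1 he.2 ho hp hq
      obtain ⟨m', hm', e', h1', h2'⟩ := exists_image_one hg he.1 he.2 ho' hp' hq'
      exact ⟨m, hm, m', hm', e, e', by simp only [invs, h1, h2, h1', h2']⟩
  exact ⟨g, hg, apply_of_smul_singleton (hfix _ (by simp)), apply_of_smul_singleton (hfix _ (by simp)), he⟩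

theorem m22_heptads_rank {p q : GolayPt} (hpq : p ≠ q) {o o' o'' : Finset GolayPt} (ho : o ∈ octads)
    (ho' : o' ∈ octads) (ho'' : o'' ∈ octads) (hp : p ∈ o ∧ p ∈ o' ∧ p ∈ o'') (hq : q ∉ o ∧ q ∉ o' ∧ q ∉ o'')
    (h : (o ∩ o').card = (o ∩ o'').card) :
    ∃ g ∈ M24, g p = p ∧ g q = q ∧ g • o = o ∧ g • o' = o'' := by
  obtain ⟨g, hg, hfix, he⟩ := (std_one hpq ho hp.1 hq.1).rank (X := o') (Y := o'')
    (inv := invs [mP, mQ, mOne]) (gens := oPQOGens) (os := oPQOOne) (idx := oPQOOneIx) (cands := oneList)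
    (by decide +kernel) (by decide +kernel) fun g hg he => by
      simp only [List.map_cons, List.map_nil, List.cons.injEq, and_true] at he
      obtain ⟨m, hm, e, h1, h2⟩ := exists_image_one hg he.1 he.2.1 ho' hp.2.1 hq.2.1
      obtain ⟨m', hm', e', h1', h2'⟩ := exists_image_one hg he.1 he.2.1 ho'' hp.2.2 hq.2.2
      refine ⟨m, hm, m', hm', e, e', ?_⟩
      simp only [invs, h1, h2, h1', h2', ← inter_card_of_smul he.2.2 e, ← inter_card_of_smul he.2.2 e', h]
  exact ⟨g, hg, apply_of_smul_singleton (hfix _ (by simp)), apply_of_smul_singleton (hfix _ (by simp)),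
    hfix o (by simp), he⟩

/-- The masks of the pairs of points. -/
def duadMasks : List ℕ := bits24.flatMap fun i =>
  (bits24.filter fun j => Nat.blt i j).map fun j => Nat.lor (Nat.shiftLeft 1 i) (Nat.shiftLeft 1 j)

theorem duadMasks_lt : ∀ m ∈ duadMasks, m < 2 ^ 24 := by decide +kernel

theorem duadMasks_nodup : duadMasks.Nodup := by decide +kernel

theorem duadMasks_pcnt : ∀ m ∈ duadMasks, pcnt m = 2 := by decide +kernel

theorem duadMasks_cover : ∀ i j : Fin 24, i ≠ j →
    Nat.lor (Nat.shiftLeft 1 i.val) (Nat.shiftLeft 1 j.val) ∈ duadMasks := by decide +kernel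

theorem duad_cands (X : Finset GolayPt) : X.card = 2 ↔ ∃ m ∈ duadMasks, X = mset m := by
  constructor
  · intro h
    obtain ⟨a, b, hab, rfl⟩ := Finset.card_eq_two.1 h
    refine ⟨_, duadMasks_cover (gidx a) (gidx b) (fun e => hab (gidx_injective e)), ?_⟩
    ext y
    simp only [Finset.mem_insert, Finset.mem_singleton, mem_mset]
    show _ ↔ ((1 <<< (gidx a).val) ||| (1 <<< (gidx b).val)).testBit (gidx y).val = true
    rw [Nat.testBit_or, Nat.one_shiftLeft, Nat.one_shiftLeft, Nat.testBit_two_pow, Nat.testBit_two_pow,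
      Bool.or_eq_true, decide_eq_true_eq, decide_eq_true_eq]
    exact ⟨fun h => h.imp (fun e => by rw [e]) (fun e => by rw [e]),
      fun h => h.imp (fun e => gidx_injective (Fin.ext e.symm)) (fun e => gidx_injective (Fin.ext e.symm))⟩
  · rintro ⟨m, hm, rfl⟩
    rw [mset_card, mcnt_eq_pcnt, duadMasks_pcnt m hm]

theorem ncard_duads_eq {g : Equiv.Perm GolayPt} (_hg : g ∈ M24) (X : Finset GolayPt) :
    (g • X).card = 2 ↔ X.card = 2 := by rw [Finset.card_smul_finset]

/-- The pairs avoiding the base pair. -/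
def freeDuads : List ℕ :=
  duadMasks.filter fun m => Nat.beq (pcnt (Nat.land mP m)) 0 && Nat.beq (pcnt (Nat.land mQ m)) 0

theorem exists_image_duad {g : Equiv.Perm GolayPt} {p q : GolayPt} {t : Finset GolayPt}
    (hp : g • ({p} : Finset GolayPt) = mset mP) (hq : g • ({q} : Finset GolayPt) = mset mQ)
    (ht : t.card = 2 ∧ p ∉ t ∧ q ∉ t) :
    ∃ m ∈ freeDuads, g • t = mset m ∧ pcnt (Nat.land mP m) = 0 ∧ pcnt (Nat.land mQ m) = 0 := by
  obtain ⟨m, hm, e⟩ := (duad_cands (g • t)).1 (by rw [Finset.card_smul_finset, ht.1])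
  have h1 := not_mem_iff_inter_card.1 ht.2.1
  have h2 := not_mem_iff_inter_card.1 ht.2.2
  rw [inter_card_of_smul hp e] at h1
  rw [inter_card_of_smul hq e] at h2
  exact ⟨m, List.mem_filter.2 ⟨hm, by rw [Bool.and_eq_true, Nat.beq_eq, Nat.beq_eq]; exact ⟨h1, h2⟩⟩,
    e, h1, h2⟩

theorem std_duad {p q : GolayPt} (hpq : p ≠ q) {s : Finset GolayPt} (hs : s.card = 2 ∧ p ∉ s ∧ q ∉ s) :
    Std [{p}, {q}, s] [mP, mQ, mDuad] := by
  refine (std_two_points hpq).extendCl (inv := invs [mP, mQ]) (gens := oPQGens) (os := oPQDuad)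
    (idx := oPQDuadIx) (cands := freeDuads) (by decide +kernel) (by decide +kernel) (o := oPQDuad0)
    (List.mem_cons_self ..) fun g hg he => ?_
  simp only [List.map_cons, List.map_nil, List.cons.injEq, and_true] at he
  obtain ⟨m, hm, e, h1, h2⟩ := exists_image_duad he.1 he.2 hs
  refine ⟨m, hm, e, ?_⟩
  simp only [invs, h1, h2]
  decide +kernel

/-- The pair lies in a hexad with the base pair of points and the standard pair. -/
def coplanar (m : ℕ) : Bool := bothList.any fun o => Nat.beq (Nat.land o (Nat.lor mDuad m)) (Nat.lor mDuad m)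

/-- The invariant of a pair relative to the standard pair. -/
def duadInv (m : ℕ) : ℕ := Nat.add (Nat.mul 2 (pcnt (Nat.land mDuad m))) (if coplanar m then 1 else 0)

theorem coplanar_iff {g : Equiv.Perm GolayPt} (hg : g ∈ M24) {p q : GolayPt} {s t : Finset GolayPt} {m : ℕ}
    (hp : g • ({p} : Finset GolayPt) = mset mP) (hq : g • ({q} : Finset GolayPt) = mset mQ)
    (hs : g • s = mset mDuad) (ht : g • t = mset m) (hlt24 : m < 2 ^ 24) :
    (∃ o ∈ octads, p ∈ o ∧ q ∈ o ∧ s ∪ t ⊆ o) ↔ coplanar m = true := by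
  have hsub : ∀ a b : ℕ, mset a ⊆ mset b ↔ mset (b &&& a) = mset a := fun a b => by
    rw [mset_and]; exact Finset.inter_eq_right.symm
  have hu : g • (s ∪ t) = mset (mDuad ||| m) := by rw [Finset.smul_finset_union, hs, ht, mset_or]
  simp only [coplanar, List.any_eq_true, Nat.beq_eq]
  constructor
  · rintro ⟨o, ho, hpo, hqo, hsub'⟩
    obtain ⟨m', hm', e, -, -⟩ := exists_image_both hg hp hq ho hpo hqo
    have h1 : g • (s ∪ t) ⊆ g • o := Finset.smul_finset_subset_smul_finset_iff.2 hsub'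
    rw [hu, e] at h1
    refine ⟨m', hm', ?_⟩
    apply Nat.eq_of_testBit_eq
    intro i
    show (m' &&& (mDuad ||| m)).testBit i = (mDuad ||| m).testBit i
    by_cases hi : i < 24
    · have h2 := Finset.ext_iff.1 ((hsub _ _).1 h1) (gpt ⟨i, hi⟩)
      simp only [mem_mset, gidx_gpt] at h2
      exact Bool.eq_iff_iff.2 h2
    · have h3 : m'.testBit i = false := Nat.testBit_lt_two_pow
        (lt_of_lt_of_le (octList_lt (List.mem_filter.1 hm').1) (Nat.pow_le_pow_right (by norm_num) (by omega)))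
      have h4 : (mDuad ||| m).testBit i = false := Nat.testBit_lt_two_pow
        (lt_of_lt_of_le (Nat.or_lt_two_pow (show mDuad < 2 ^ 24 by decide) hlt24)
          (Nat.pow_le_pow_right (by norm_num) (by omega)))
      rw [Nat.testBit_and, h3, h4, Bool.false_and]
  · rintro ⟨o, ho, hsb⟩
    obtain ⟨hoc, hpq'⟩ := List.mem_filter.1 ho
    rw [Bool.and_eq_true, Nat.beq_eq, Nat.beq_eq] at hpq'
    have e : g • (g⁻¹ • mset o) = mset o := smul_inv_smul g _
    refine ⟨g⁻¹ • mset o, smul_octad_mem (inv_mem hg) ((oct_cands _).2 ⟨o, hoc, rfl⟩), ?_, ?_, ?_⟩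
    · rw [mem_iff_inter_card, inter_card_of_smul hp e]; exact hpq'.1
    · rw [mem_iff_inter_card, inter_card_of_smul hq e]; exact hpq'.2
    · rw [← Finset.smul_finset_subset_smul_finset_iff (a := g), hu, e]
      exact (hsub _ _).2 (congrArg mset hsb)

theorem freeDuad_lt {m : ℕ} (hm : m ∈ freeDuads) : m < 2 ^ 24 := duadMasks_lt m (List.mem_filter.1 hm).1

theorem m22_duads {p q : GolayPt} (hpq : p ≠ q) {s : Finset GolayPt} (hs : s.card = 2 ∧ p ∉ s ∧ q ∉ s)
    (P : Finset GolayPt → Prop) (pb : ℕ → Bool)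
    (hP : ∀ g ∈ M24, g • ({p} : Finset GolayPt) = mset mP → g • ({q} : Finset GolayPt) = mset mQ →
      g • s = mset mDuad → ∀ X, ∀ m ∈ freeDuads, g • X = mset m → (P X ↔ pb m = true)) :
    {t : Finset GolayPt | (t.card = 2 ∧ p ∉ t ∧ q ∉ t) ∧ P t}.ncard = (freeDuads.filter pb).length := by
  have hlen : (freeDuads.filter pb).length = (duadMasks.filter fun m =>
      (Nat.beq (pcnt (Nat.land mP m)) 0 && Nat.beq (pcnt (Nat.land mQ m)) 0) && pb m).length := by
    rw [freeDuads, List.filter_filter]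
    congr 1
    exact List.filter_congr fun m _ => Bool.and_comm _ _
  have hset : {t : Finset GolayPt | (t.card = 2 ∧ p ∉ t ∧ q ∉ t) ∧ P t} =
      {t | t.card = 2 ∧ ((p ∉ t ∧ q ∉ t) ∧ P t)} := by
    ext t; simp only [Set.mem_setOf_eq, and_assoc]
  rw [hset, hlen]
  refine ncard_std (std_duad hpq hs) duadMasks_nodup duadMasks_lt (fun X => X.card = 2)
    (fun X => (p ∉ X ∧ q ∉ X) ∧ P X) _ duad_cands (fun g hg X => ncard_duads_eq hg X)
    fun g hg he X m hm e => ?_
  simp only [List.map_cons, List.map_nil, List.cons.injEq, and_true] at he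
  rw [Bool.and_eq_true, Bool.and_eq_true, Nat.beq_eq, Nat.beq_eq, ← inter_card_of_smul he.1 e,
    ← inter_card_of_smul he.2.1 e, ← not_mem_iff_inter_card, ← not_mem_iff_inter_card]
  refine and_congr_right fun hfree => ?_
  refine hP g hg he.1 he.2.1 he.2.2 X m (List.mem_filter.2 ⟨hm, ?_⟩) e
  rw [Bool.and_eq_true, Nat.beq_eq, Nat.beq_eq, ← inter_card_of_smul he.1 e, ← inter_card_of_smul he.2.1 e,
    ← not_mem_iff_inter_card, ← not_mem_iff_inter_card]
  exact hfree

theorem disjoint_iff_pcnt {g : Equiv.Perm GolayPt} {A B : Finset GolayPt} {a b : ℕ}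
    (ha : g • A = mset a) (hb : g • B = mset b) : Disjoint A B ↔ pcnt (Nat.land a b) = 0 := by
  rw [← inter_card_of_smul ha hb, Finset.card_eq_zero, Finset.disjoint_iff_inter_eq_empty]

theorem m22_duads_coplanar {p q : GolayPt} (hpq : p ≠ q) {s : Finset GolayPt}
    (hs : s.card = 2 ∧ p ∉ s ∧ q ∉ s) :
    {t : Finset GolayPt | (t.card = 2 ∧ p ∉ t ∧ q ∉ t) ∧ Disjoint s t ∧
      (∃ o ∈ octads, p ∈ o ∧ q ∈ o ∧ s ∪ t ⊆ o)}.ncard = 30 := by
  refine (m22_duads hpq hs _ (fun m => Nat.beq (pcnt (Nat.land mDuad m)) 0 && coplanar m)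
    fun g hg hgp hgq hgs X m hm e => ?_).trans (by decide +kernel)
  rw [Bool.and_eq_true, Nat.beq_eq, disjoint_iff_pcnt hgs e, coplanar_iff hg hgp hgq hgs e (freeDuad_lt hm)]

theorem m22_duads_skew {p q : GolayPt} (hpq : p ≠ q) {s : Finset GolayPt}
    (hs : s.card = 2 ∧ p ∉ s ∧ q ∉ s) :
    {t : Finset GolayPt | (t.card = 2 ∧ p ∉ t ∧ q ∉ t) ∧ Disjoint s t ∧
      ¬ (∃ o ∈ octads, p ∈ o ∧ q ∈ o ∧ s ∪ t ⊆ o)}.ncard = 160 := by
  refine (m22_duads hpq hs _ (fun m => Nat.beq (pcnt (Nat.land mDuad m)) 0 && !coplanar m)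
    fun g hg hgp hgq hgs X m hm e => ?_).trans (by decide +kernel)
  rw [Bool.and_eq_true, Nat.beq_eq, disjoint_iff_pcnt hgs e, coplanar_iff hg hgp hgq hgs e (freeDuad_lt hm),
    Bool.not_eq_true', Bool.not_eq_true]

theorem m22_duads_rank {p q : GolayPt} (hpq : p ≠ q) {s t t' : Finset GolayPt}
    (hs : s.card = 2 ∧ p ∉ s ∧ q ∉ s) (ht : t.card = 2 ∧ p ∉ t ∧ q ∉ t) (ht' : t'.card = 2 ∧ p ∉ t' ∧ q ∉ t')
    (h : (s ∩ t).card = (s ∩ t').card)
    (hc : (∃ o ∈ octads, p ∈ o ∧ q ∈ o ∧ s ∪ t ⊆ o) ↔ (∃ o ∈ octads, p ∈ o ∧ q ∈ o ∧ s ∪ t' ⊆ o)) :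
    ∃ g ∈ M24, g p = p ∧ g q = q ∧ g • s = s ∧ g • t = t' := by
  obtain ⟨g, hg, hfix, he⟩ := (std_duad hpq hs).rank (X := t) (Y := t')
    (inv := duadInv) (gens := oPQSGens) (os := oPQSDuad) (idx := oPQSDuadIx) (cands := freeDuads)
    (by decide +kernel) (by decide +kernel) fun g hg he => by
      simp only [List.map_cons, List.map_nil, List.cons.injEq, and_true] at he
      obtain ⟨m, hm, e, -, -⟩ := exists_image_duad he.1 he.2.1 ht
      obtain ⟨m', hm', e', -, -⟩ := exists_image_duad he.1 he.2.1 ht'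
      refine ⟨m, hm, m', hm', e, e', ?_⟩
      have hcc : coplanar m = coplanar m' := Bool.eq_iff_iff.2
        ((coplanar_iff hg he.1 he.2.1 he.2.2 e (freeDuad_lt hm)).symm.trans
          (hc.trans (coplanar_iff hg he.1 he.2.1 he.2.2 e' (freeDuad_lt hm'))))
      simp only [duadInv, ← inter_card_of_smul he.2.2 e, ← inter_card_of_smul he.2.2 e', h, hcc]
  exact ⟨g, hg, apply_of_smul_singleton (hfix _ (by simp)), apply_of_smul_singleton (hfix _ (by simp)),
    hfix s (by simp), he⟩

theorem std_dod_out {d : Finset GolayPt} (hd : d ∈ dodecads) {p x : GolayPt} (hp : p ∈ d) (hx : x ∉ d) :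
    Std [d, {p}, {x}] [mD, mP, mX] := by
  refine (std_dod_in hd hp).extendCl (inv := invs [mD, mP]) (gens := oDPGens) (os := oDPPt) (idx := oDPPtIx)
    (cands := ptMasks) (by decide +kernel) (by decide +kernel) (o := oDPPt0) (List.mem_cons_self ..)
    fun g hg he => ?_
  simp only [List.map_cons, List.map_nil, List.cons.injEq, and_true] at he
  obtain ⟨m, hm, e⟩ := exists_image_pt g x
  refine ⟨m, hm, e, ?_⟩
  simp only [invs, pcnt_point he.1 e, pcnt_point he.2 e, if_neg hx, Finset.mem_singleton,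
    if_neg (fun h : x = p => hx (h.symm ▸ hp))]
  decide +kernel

theorem std_dod_two_out {d : Finset GolayPt} (hd : d ∈ dodecads) {p x y : GolayPt} (hp : p ∈ d) (hx : x ∉ d)
    (hy : y ∉ d) (hxy : x ≠ y) : Std [d, {p}, {x}, {y}] [mD, mP, mX, mY] := by
  refine (std_dod_out hd hp hx).extendCl (inv := invs [mD, mP, mX]) (gens := oDPXGens) (os := oDPXPt)
    (idx := oDPXPtIx) (cands := ptMasks) (by decide +kernel) (by decide +kernel) (o := oDPXPt0)
    (List.mem_cons_self ..) fun g hg he => ?_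
  simp only [List.map_cons, List.map_nil, List.cons.injEq, and_true] at he
  obtain ⟨m, hm, e⟩ := exists_image_pt g y
  refine ⟨m, hm, e, ?_⟩
  simp only [invs, pcnt_point he.1 e, pcnt_point he.2.1 e, pcnt_point he.2.2 e, if_neg hy,
    Finset.mem_singleton, if_neg (fun h : y = p => hy (h.symm ▸ hp)), if_neg (Ne.symm hxy)]
  decide +kernel

/-- A third point outside the base dodecad. -/
def mZ : ℕ := 128

/-- The remaining points outside the base dodecad. -/
def outRest : List ℕ := ptMasks.filter fun m => Nat.beq (invs [mD, mP, mX, mY] m) 0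

theorem std_dod_three_out {d : Finset GolayPt} (hd : d ∈ dodecads) {p x y z : GolayPt} (hp : p ∈ d)
    (hx : x ∉ d) (hy : y ∉ d) (hz : z ∉ d) (hxy : x ≠ y) (hxz : x ≠ z) (hyz : y ≠ z) :
    Std [d, {p}, {x}, {y}, {z}] [mD, mP, mX, mY, mZ] := by
  refine (std_dod_two_out hd hp hx hy hxy).extendCl (inv := invs [mD, mP, mX, mY]) (gens := oDPXYGens)
    (os := oDPXYPt) (idx := oDPXYPtIx) (cands := outRest) (by decide +kernel) (by decide +kernel)
    (o := oDPXYPt0) (List.mem_cons_self ..) fun g hg he => ?_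
  simp only [List.map_cons, List.map_nil, List.cons.injEq, and_true] at he
  obtain ⟨m, hm, e⟩ := exists_image_pt g z
  have hi : invs [mD, mP, mX, mY] m = 0 := by
    simp only [invs, pcnt_point he.1 e, pcnt_point he.2.1 e, pcnt_point he.2.2.1 e, pcnt_point he.2.2.2 e,
      if_neg hz, Finset.mem_singleton, if_neg (fun h : z = p => hz (h.symm ▸ hp)), if_neg (Ne.symm hxz),
      if_neg (Ne.symm hyz)]
  refine ⟨m, List.mem_filter.2 ⟨hm, by rw [Nat.beq_eq]; exact hi⟩, e, hi.trans ?_⟩
  decide +kernel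

theorem m11_three_transitive {d : Finset GolayPt} (hd : d ∈ dodecads) {p : GolayPt} (hp : p ∈ d)
    (x y : Fin 3 ↪ GolayPt) (hx : ∀ i, x i ∉ d) (hy : ∀ i, y i ∉ d) :
    ∃ g ∈ M24, g • d = d ∧ g p = p ∧ ∀ i, g (x i) = y i := by
  have hne : ∀ (e : Fin 3 ↪ GolayPt) (i j : Fin 3), i ≠ j → e i ≠ e j := fun e i j h he => h (e.injective he)
  obtain ⟨g, hg, hge⟩ := std_dod_three_out hd hp (hx 0) (hx 1) (hx 2) (hne x 0 1 (by decide))
    (hne x 0 2 (by decide)) (hne x 1 2 (by decide))
  obtain ⟨k, hk, hke⟩ := std_dod_three_out hd hp (hy 0) (hy 1) (hy 2) (hne y 0 1 (by decide))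
    (hne y 0 2 (by decide)) (hne y 1 2 (by decide))
  simp only [List.map_cons, List.map_nil, List.cons.injEq, and_true] at hge hke
  have key : ∀ {A B : Finset GolayPt} {m : ℕ}, g • A = mset m → k • B = mset m → (k⁻¹ * g) • A = B := by
    intro A B m h1 h2
    rw [mul_smul, h1, ← h2, inv_smul_smul]
  obtain ⟨g1, g2, g3, g4, g5⟩ := hge
  obtain ⟨k1, k2, k3, k4, k5⟩ := hke
  refine ⟨k⁻¹ * g, mul_mem (inv_mem hk) hg, key g1 k1, apply_of_smul_singleton (key g2 k2), fun i => ?_⟩
  fin_cases i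
  exacts [apply_of_smul_singleton (key g3 k3), apply_of_smul_singleton (key g4 k4),
    apply_of_smul_singleton (key g5 k5)]

theorem std_dod_two_in {d : Finset GolayPt} (hd : d ∈ dodecads) {p q : GolayPt} (hp : p ∈ d) (hq : q ∈ d)
    (hpq : p ≠ q) : Std [d, {p}, {q}] [mD, mP, mQ] := by
  refine (std_dod_in hd hp).extendCl (inv := invs [mD, mP]) (gens := oDPGens) (os := oDPPt) (idx := oDPPtIx)
    (cands := ptMasks) (by decide +kernel) (by decide +kernel) (o := oDPPt1)
    (List.mem_cons_of_mem _ (List.mem_cons_self ..)) fun g hg he => ?_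
  simp only [List.map_cons, List.map_nil, List.cons.injEq, and_true] at he
  obtain ⟨m, hm, e⟩ := exists_image_pt g q
  refine ⟨m, hm, e, ?_⟩
  simp only [invs, pcnt_point he.1 e, pcnt_point he.2 e, if_pos hq, Finset.mem_singleton, if_neg (Ne.symm hpq)]
  decide +kernel

theorem std_dod_three_in {d : Finset GolayPt} (hd : d ∈ dodecads) {p q r : GolayPt} (hp : p ∈ d) (hq : q ∈ d)
    (hr : r ∈ d) (hpq : p ≠ q) (hpr : p ≠ r) (hqr : q ≠ r) : Std [d, {p}, {q}, {r}] [mD, mP, mQ, mR] := by
  refine (std_dod_two_in hd hp hq hpq).extendCl (inv := invs [mD, mP, mQ]) (gens := oDPQGens) (os := oDPQPt)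
    (idx := oDPQPtIx) (cands := ptMasks) (by decide +kernel) (by decide +kernel) (o := oDPQPt0)
    (List.mem_cons_self ..) fun g hg he => ?_
  simp only [List.map_cons, List.map_nil, List.cons.injEq, and_true] at he
  obtain ⟨m, hm, e⟩ := exists_image_pt g r
  refine ⟨m, hm, e, ?_⟩
  simp only [invs, pcnt_point he.1 e, pcnt_point he.2.1 e, pcnt_point he.2.2 e, if_pos hr,
    Finset.mem_singleton, if_neg (Ne.symm hpr), if_neg (Ne.symm hqr)]
  decide +kernel

/-- The points outside the base dodecad. -/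
def outList : List ℕ := ptMasks.filter fun m => Nat.beq (pcnt (Nat.land mD m)) 0

theorem m12_three_point_transitive {d : Finset GolayPt} (hd : d ∈ dodecads) {p q r : GolayPt} (hp : p ∈ d)
    (hq : q ∈ d) (hr : r ∈ d) (hpq : p ≠ q) (hpr : p ≠ r) (hqr : q ≠ r) {x y : GolayPt} (hx : x ∉ d)
    (hy : y ∉ d) : ∃ g ∈ M24, g • d = d ∧ g p = p ∧ g q = q ∧ g r = r ∧ g x = y := by
  obtain ⟨g, hg, hfix, he⟩ := (std_dod_three_in hd hp hq hr hpq hpr hqr).rank (X := {x}) (Y := {y})
    (inv := invs [mD]) (gens := oDPQRGens) (os := oDPQRPt) (idx := oDPQRPtIx) (cands := outList)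
    (by decide +kernel) (by decide +kernel) fun g hg he => by
      simp only [List.map_cons, List.map_nil, List.cons.injEq, and_true] at he
      obtain ⟨m, hm, e⟩ := exists_image_pt g x
      obtain ⟨m', hm', e'⟩ := exists_image_pt g y
      have h1 : pcnt (Nat.land mD m) = 0 := by rw [pcnt_point he.1 e, if_neg hx]
      have h2 : pcnt (Nat.land mD m') = 0 := by rw [pcnt_point he.1 e', if_neg hy]
      exact ⟨m, List.mem_filter.2 ⟨hm, by rw [Nat.beq_eq]; exact h1⟩, m',
        List.mem_filter.2 ⟨hm', by rw [Nat.beq_eq]; exact h2⟩, e, e', by simp only [invs, h1, h2]⟩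
  exact ⟨g, hg, hfix d (by simp), apply_of_smul_singleton (hfix _ (by simp)),
    apply_of_smul_singleton (hfix _ (by simp)), apply_of_smul_singleton (hfix _ (by simp)),
    apply_of_smul_singleton he⟩

theorem invs_image {ms : List ℕ} {m m' : ℕ} :
    ∀ {L : List ℕ}, (∀ a ∈ L, a ∈ ms) → (∀ a ∈ ms, pcnt (Nat.land a m') = pcnt (Nat.land a m)) →
      invs L m' = invs L m := by
  intro L
  induction L with
  | nil => intro _ _; rfl
  | cons a L ih =>
    intro hL h
    rw [invs, invs, h a (hL a (List.mem_cons_self ..)),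
      ih (fun b hb => hL b (List.mem_cons_of_mem _ hb)) h]

theorem card_pt_step {ms : List ℕ} {gens : List (ℕ × ℕ)} {os : List OrbCert} {idx : ℕ}
    (h : orbsOk ms gens os = true) (hc : classesOk ptMasks (invs ms) os idx = true) {o : OrbCert}
    (ho : o ∈ os) (hroot : o.root ∈ ptMasks) :
    Nat.card (stabMasks ms) = (ptMasks.filter fun m => Nat.beq (invs ms m) (invs ms o.root)).length *
      Nat.card (stabMasks (ms ++ [o.root])) :=
  card_stabMasks_step h hc ho (by decide +kernel) (by decide +kernel) fun g hg => by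
    obtain ⟨m', hm', he, hpc⟩ := pt_image hg hroot
    exact ⟨m', hm', he, invs_image (fun a ha => ha) hpc⟩

theorem card_stab_dod : Nat.card (stabMasks [mD]) = 95040 := by
  obtain ⟨e⟩ := (std_dodecad baseDodecad_mem).equiv (stabilizer M24 baseDodecad) fun x => by
    simp only [List.mem_singleton, forall_eq]
    exact Iff.rfl
  exact (Nat.card_congr e.toEquiv).symm.trans (card_dod_stabilizer baseDodecad_mem)

theorem card_stab_dod_point : Nat.card (stabMasks [mD, mP]) = 7920 := by
  have h : Nat.card (stabMasks [mD]) = (ptMasks.filter fun m => Nat.beq (invs [mD] m) (invs [mD] oDPt0.root)).length *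
      Nat.card (stabMasks [mD, mP]) :=
    card_pt_step (gens := oDGens) (os := oDPt) (idx := oDPtIx) (by decide +kernel) (by decide +kernel)
      (o := oDPt0) (List.mem_cons_self ..) (by decide +kernel)
  rw [card_stab_dod, show (ptMasks.filter fun m => Nat.beq (invs [mD] m) (invs [mD] oDPt0.root)).length = 12
    by decide +kernel] at h
  omega

theorem card_stab_dod_three : Nat.card (stabMasks [mD, mP, mQ, mR]) = 72 := by
  have h : Nat.card (stabMasks [mD, mP]) =
      (ptMasks.filter fun m => Nat.beq (invs [mD, mP] m) (invs [mD, mP] oDPPt1.root)).length *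
      Nat.card (stabMasks [mD, mP, mQ]) :=
    card_pt_step (gens := oDPGens) (os := oDPPt) (idx := oDPPtIx) (by decide +kernel) (by decide +kernel)
      (o := oDPPt1) (List.mem_cons_of_mem _ (List.mem_cons_self ..)) (by decide +kernel)
  have h' : Nat.card (stabMasks [mD, mP, mQ]) =
      (ptMasks.filter fun m => Nat.beq (invs [mD, mP, mQ] m) (invs [mD, mP, mQ] oDPQPt0.root)).length *
      Nat.card (stabMasks [mD, mP, mQ, mR]) :=
    card_pt_step (gens := oDPQGens) (os := oDPQPt) (idx := oDPQPtIx) (by decide +kernel) (by decide +kernel)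
      (o := oDPQPt0) (List.mem_cons_self ..) (by decide +kernel)
  rw [card_stab_dod_point,
    show (ptMasks.filter fun m => Nat.beq (invs [mD, mP] m) (invs [mD, mP] oDPPt1.root)).length = 11
      by decide +kernel] at h
  rw [show (ptMasks.filter fun m => Nat.beq (invs [mD, mP, mQ] m) (invs [mD, mP, mQ] oDPQPt0.root)).length = 10
      by decide +kernel] at h'
  omega

theorem card_three_point_stabilizer {d : Finset GolayPt} (hd : d ∈ dodecads) {p q r : GolayPt} (hp : p ∈ d)
    (hq : q ∈ d) (hr : r ∈ d) (hpq : p ≠ q) (hpr : p ≠ r) (hqr : q ≠ r) :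
    Nat.card ↥(stabilizer M24 d ⊓ stabilizer M24 p ⊓ stabilizer M24 q ⊓ stabilizer M24 r) = 72 := by
  obtain ⟨e⟩ := (std_dod_three_in hd hp hq hr hpq hpr hqr).equiv
    (stabilizer M24 d ⊓ stabilizer M24 p ⊓ stabilizer M24 q ⊓ stabilizer M24 r) fun x => by
    simp only [List.mem_cons, List.not_mem_nil, or_false, forall_eq_or_imp, forall_eq, Subgroup.mem_inf,
      mem_stabilizer_iff, smul_singleton_perm, Finset.singleton_inj]
    constructor
    · rintro ⟨⟨⟨a, b⟩, c⟩, e⟩; exact ⟨a, b, c, e⟩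
    · rintro ⟨a, b, c, e⟩; exact ⟨⟨⟨a, b⟩, c⟩, e⟩
  exact (Nat.card_congr e.toEquiv).trans card_stab_dod_three

end Cfsg.Lib.Concrete
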