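import Cfsg.Agent.Lib.Concrete.Octad

/-!
Standard configurations of octads, dodecads and points, and orbits of their stabilisers in M24.
-/

set_option autoImplicit false

namespace Cfsg.Lib.Concrete

open scoped Pointwise
open MulAction

/-- An orbit certificate: root, number of members, the members in fields of 24 bits and their
derivations in fields of 16 bits (parent times 16 plus generator). -/
structure OrbCert where
  root : ℕ
  n : ℕ
  Lp : ℕ
  Dp : ℕ

/-- A field of a packed table. -/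
def field (w t i : ℕ) : ℕ := Nat.land (Nat.shiftRight t (Nat.mul w i)) (Nat.sub (Nat.pow 2 w) 1)

/-- A member of an orbit. -/
def OrbCert.mem (o : OrbCert) (i : ℕ) : ℕ := field 24 o.Lp i

/-- The members. -/
def OrbCert.L (o : OrbCert) : List ℕ := (List.range o.n).map o.mem

/-- Validity of the derivations. -/
def derivOk (gens : List (ℕ × ℕ)) (o : OrbCert) : Bool :=
  Nat.beq (o.mem 0) o.root && (List.range o.n).all fun i => Nat.beq i 0 ||
    (Nat.blt (field 16 o.Dp i / 16) i && Nat.blt (field 16 o.Dp i % 16) gens.length &&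
      Nat.beq (o.mem i) (pimg (gens.getD (field 16 o.Dp i % 16) (0, 0)).1 (o.mem (field 16 o.Dp i / 16))))

/-- Generators and orbits inside the stabiliser of the masks `ms`. -/
def orbsOk (ms : List ℕ) (gens : List (ℕ × ℕ)) (os : List OrbCert) : Bool :=
  gensCheck gens (fun p => ms.all fun m => Nat.beq (pimg p m) m) && os.all (derivOk gens)

/-- Position in the table `idx` shows the membership of every candidate. -/
def coverAux (inv : ℕ → ℕ) (os : List OrbCert) (idx : ℕ) : List ℕ → ℕ → Bool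
  | [], _ => true
  | m :: rest, k =>
    (os.any fun o => Nat.beq (inv o.root) (inv m) && Nat.blt (field 12 idx k) o.n &&
      Nat.beq (o.mem (field 12 idx k)) m) && coverAux inv os idx rest (k + 1)

/-- The orbits cover the candidates, separated by an invariant. -/
def classesOk (cands : List ℕ) (inv : ℕ → ℕ) (os : List OrbCert) (idx : ℕ) : Bool :=
  decide ((os.map fun o => inv o.root).Nodup) && coverAux inv os idx cands 0

theorem coverAux_sound {inv : ℕ → ℕ} {os : List OrbCert} {idx : ℕ} :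
    ∀ (cands : List ℕ) (k : ℕ), coverAux inv os idx cands k = true →
      ∀ m ∈ cands, ∃ o ∈ os, inv o.root = inv m ∧ m ∈ o.L := by
  intro cands
  induction cands with
  | nil => intro k _ m hm; simp at hm
  | cons a rest ih =>
    intro k h m hm
    simp only [coverAux, Bool.and_eq_true, List.any_eq_true, Nat.beq_eq, Nat.blt_eq] at h
    rcases List.mem_cons.1 hm with rfl | hm
    · obtain ⟨o, ho, ⟨h1, h2⟩, h3⟩ := h.1
      exact ⟨o, ho, h1, List.mem_map.2 ⟨_, List.mem_range.2 h2, h3⟩⟩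
    · exact ih _ h.2 m hm

theorem orb_sound {ms : List ℕ} {gens : List (ℕ × ℕ)} {os : List OrbCert}
    (h : orbsOk ms gens os = true) {o : OrbCert} (ho : o ∈ os) {m : ℕ} (hm : m ∈ o.L) :
    ∃ g ∈ stabMasks ms, g • mset o.root = mset m := by
  simp only [orbsOk, Bool.and_eq_true, List.all_eq_true] at h
  have hd := h.2 o ho
  simp only [derivOk, Bool.and_eq_true, List.all_eq_true, List.mem_range, Bool.or_eq_true, Nat.beq_eq,
    Nat.blt_eq] at hd
  obtain ⟨h0, hd⟩ := hd
  have key : ∀ i < o.n, ∃ g ∈ stabMasks ms, g • mset o.root = mset (o.mem i) := by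
    intro i
    induction i using Nat.strong_induction_on with
    | _ i ih =>
      intro hi
      rcases hd i hi with rfl | ⟨⟨h1, h2⟩, h3⟩
      · exact ⟨1, one_mem _, by rw [one_smul, h0]⟩
      · obtain ⟨g, hg, hgs⟩ := ih _ h1 (lt_trans h1 hi)
        obtain ⟨s, hs, hsr⟩ := gens_mem_stabMasks h.1 (gens.getD (field 16 o.Dp i % 16) (0, 0))
          (by rw [List.getD_eq_getElem _ _ h2]; exact List.getElem_mem _)
        exact ⟨s * g, mul_mem hs hg, by rw [mul_smul, hgs, hsr.smul_mset, h3]⟩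
  obtain ⟨i, hi, rfl⟩ := List.mem_map.1 hm
  exact key i (List.mem_range.1 hi)

theorem classes_mem {cands : List ℕ} {inv : ℕ → ℕ} {os : List OrbCert} {idx : ℕ}
    (hc : classesOk cands inv os idx = true) {o : OrbCert} (ho : o ∈ os) {m : ℕ} (hm : m ∈ cands)
    (hi : inv m = inv o.root) : m ∈ o.L := by
  simp only [classesOk, Bool.and_eq_true, decide_eq_true_eq] at hc
  obtain ⟨o', ho', hoi, hx⟩ := coverAux_sound _ _ hc.2 m hm
  obtain rfl : o = o' := List.inj_on_of_nodup_map hc.1 ho ho' (by rw [hoi, hi])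
  exact hx

theorem classes_sound {ms cands : List ℕ} {gens : List (ℕ × ℕ)} {os : List OrbCert} {inv : ℕ → ℕ}
    {idx : ℕ} (h : orbsOk ms gens os = true) (hc : classesOk cands inv os idx = true) {m m' : ℕ}
    (hm : m ∈ cands) (hm' : m' ∈ cands) (he : inv m = inv m') :
    ∃ g ∈ stabMasks ms, g • mset m = mset m' := by
  have hcc := hc
  simp only [classesOk, Bool.and_eq_true, decide_eq_true_eq] at hcc
  obtain ⟨o, ho, hoi, hx⟩ := coverAux_sound _ _ hcc.2 m hm
  obtain ⟨g, hg, hgm⟩ := orb_sound h ho hx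
  obtain ⟨g', hg', hgm'⟩ := orb_sound h ho (classes_mem hc ho hm' (by rw [hoi, he]))
  exact ⟨g' * g⁻¹, mul_mem hg' (inv_mem hg), by rw [mul_smul, ← hgm, inv_smul_smul, hgm']⟩

/-- The configuration can be moved to the masks by an element of M24. -/
def Std (cfg : List (Finset GolayPt)) (ms : List ℕ) : Prop :=
  ∃ g ∈ M24, cfg.map (fun A => g • A) = ms.map mset

theorem map_fix {ms : List ℕ} {h : Equiv.Perm GolayPt} (hh : h ∈ stabMasks ms) :
    (ms.map mset).map (fun A => h • A) = ms.map mset := by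
  rw [List.map_map]
  exact List.map_congr_left fun m hm => hh.2 m hm

theorem map_mul_smul (h g : Equiv.Perm GolayPt) (cfg : List (Finset GolayPt)) :
    cfg.map (fun A => (h * g) • A) = (cfg.map fun A => g • A).map (fun A => h • A) := by
  rw [List.map_map]
  exact List.map_congr_left fun A _ => mul_smul h g A

theorem Std.extend {cfg : List (Finset GolayPt)} {ms : List ℕ} (hs : Std cfg ms) {X : Finset GolayPt}
    {gens : List (ℕ × ℕ)} {os : List OrbCert} (h : orbsOk ms gens os = true) {o : OrbCert} (ho : o ∈ os)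
    (hX : ∀ g ∈ M24, cfg.map (fun A => g • A) = ms.map mset → ∃ m ∈ o.L, g • X = mset m) :
    Std (cfg ++ [X]) (ms ++ [o.root]) := by
  obtain ⟨g, hg, he⟩ := hs
  obtain ⟨m, hm, hgX⟩ := hX g hg he
  obtain ⟨k, hk, hkm⟩ := orb_sound h ho hm
  have hk' : k⁻¹ ∈ stabMasks ms := inv_mem hk
  refine ⟨k⁻¹ * g, mul_mem hk'.1 hg, ?_⟩
  rw [List.map_append, List.map_append, map_mul_smul, he, map_fix hk']
  congr 1
  simp only [List.map_cons, List.map_nil]
  rw [mul_smul, hgX, ← hkm, inv_smul_smul]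

theorem Std.of_cons_nil {X : Finset GolayPt} {m : ℕ} (h : ∃ g ∈ M24, g • mset m = X) : Std [X] [m] := by
  obtain ⟨g, hg, rfl⟩ := h
  exact ⟨g⁻¹, inv_mem hg, by simp⟩

theorem Std.rank {cfg : List (Finset GolayPt)} {ms : List ℕ} (hs : Std cfg ms)
    {gens : List (ℕ × ℕ)} {os : List OrbCert} {cands : List ℕ} {inv : ℕ → ℕ}
    {idx : ℕ} (h : orbsOk ms gens os = true) (hc : classesOk cands inv os idx = true) {X Y : Finset GolayPt}
    (hmem : ∀ g ∈ M24, cfg.map (fun A => g • A) = ms.map mset →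
      ∃ m ∈ cands, ∃ m' ∈ cands, g • X = mset m ∧ g • Y = mset m' ∧ inv m = inv m') :
    ∃ g ∈ M24, (∀ A ∈ cfg, g • A = A) ∧ g • X = Y := by
  obtain ⟨g, hg, he⟩ := hs
  obtain ⟨m, hm, m', hm', hX, hY, hi⟩ := hmem g hg he
  obtain ⟨k, hk, hkm⟩ := classes_sound h hc hm hm' hi
  refine ⟨g⁻¹ * k * g, mul_mem (mul_mem (inv_mem hg) hk.1) hg, fun A hA => ?_, ?_⟩
  · have : g • A ∈ ms.map mset := he ▸ List.mem_map.2 ⟨A, hA, rfl⟩
    obtain ⟨a, ha, hae⟩ := List.mem_map.1 this
    rw [mul_smul, mul_smul, ← hae, hk.2 a ha, hae, inv_smul_smul]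
  · rw [mul_smul, mul_smul, hX, hkm, ← hY, inv_smul_smul]

theorem std_octad {o : Finset GolayPt} (ho : o ∈ octads) : Std [o] [m24BaseOctad] :=
  Std.of_cons_nil (exists_octad_std ho)

theorem std_dodecad {d : Finset GolayPt} (hd : d ∈ dodecads) : Std [d] [11472927] :=
  Std.of_cons_nil (exists_dodecad_std hd)

/-- The masks of the points. -/
def ptMasks : List ℕ := bits24.map fun i => Nat.shiftLeft 1 i

theorem exists_pt_mask (x : GolayPt) : ∃ m ∈ ptMasks, ({x} : Finset GolayPt) = mset m := by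
  refine ⟨_, List.mem_map.2 ⟨(gidx x).val, mem_bits24.2 (gidx x).isLt, rfl⟩, ?_⟩
  ext y
  rw [Finset.mem_singleton, mem_mset, Nat.shiftLeft_eq', Nat.one_shiftLeft, Nat.testBit_two_pow,
    decide_eq_true_eq]
  exact ⟨fun h => by rw [h], fun h => gidx_injective (Fin.ext h.symm)⟩

theorem exists_oct_mask {o : Finset GolayPt} (ho : o ∈ octads) : ∃ m ∈ octList, o = mset m :=
  ⟨fmask o, (mset_mem_octads_iff (fmask_lt o)).1 (by rwa [mset_fmask]), (mset_fmask o).symm⟩

theorem exists_dod_mask {d : Finset GolayPt} (hd : d ∈ dodecads) : ∃ m ∈ dodList, d = mset m :=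
  ⟨fmask d, (mset_mem_dodecads_iff (fmask_lt d)).1 (by rwa [mset_fmask]), (mset_fmask d).symm⟩

theorem inter_card_of_smul {g : Equiv.Perm GolayPt} {A B : Finset GolayPt} {a b : ℕ}
    (ha : g • A = mset a) (hb : g • B = mset b) : (A ∩ B).card = pcnt (Nat.land a b) := by
  rw [← card_mset_inter, ← ha, ← hb, ← Finset.smul_finset_inter, Finset.card_smul_finset]

theorem mem_iff_inter_card {x : GolayPt} {A : Finset GolayPt} :
    x ∈ A ↔ (({x} : Finset GolayPt) ∩ A).card = 1 := by
  by_cases h : x ∈ A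
  · simp [h]
  · simp [h]

theorem not_mem_iff_inter_card {x : GolayPt} {A : Finset GolayPt} :
    x ∉ A ↔ (({x} : Finset GolayPt) ∩ A).card = 0 := by
  by_cases h : x ∈ A
  · simp [h]
  · simp [h]

theorem apply_of_smul_singleton {g : Equiv.Perm GolayPt} {x y : GolayPt}
    (h : g • ({x} : Finset GolayPt) = {y}) : g x = y := by
  rw [Finset.smul_finset_singleton, Finset.singleton_inj] at h
  exact h

theorem smul_singleton_perm (g : Equiv.Perm GolayPt) (x : GolayPt) :
    g • ({x} : Finset GolayPt) = {g x} := Finset.smul_finset_singleton x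

/-- A stabiliser in M24 of a configuration, moved to standard position. -/
theorem Std.equiv {cfg : List (Finset GolayPt)} {ms : List ℕ} (hs : Std cfg ms) (H : Subgroup M24)
    (hH : ∀ x : M24, x ∈ H ↔ ∀ A ∈ cfg, (x : Equiv.Perm GolayPt) • A = A) :
    Nonempty (H ≃* stabMasks ms) := by
  obtain ⟨g, hg, he⟩ := hs
  refine ⟨conjSubEquiv (stabMasks ms) (fun x hx => hx.1) H g⁻¹ (inv_mem hg) fun x => ?_⟩
  rw [hH, inv_inv]
  constructor
  · intro h
    refine ⟨mul_mem (mul_mem hg x.2) (inv_mem hg), fun m hm => ?_⟩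
    have : mset m ∈ cfg.map (fun A => g • A) := he ▸ List.mem_map.2 ⟨m, hm, rfl⟩
    obtain ⟨A, hA, hAm⟩ := List.mem_map.1 this
    rw [← hAm, mul_smul, mul_smul, inv_smul_smul, h A hA]
  · intro h A hA
    have : g • A ∈ ms.map mset := he ▸ List.mem_map.2 ⟨A, hA, rfl⟩
    obtain ⟨m, hm, hmA⟩ := List.mem_map.1 this
    have h2 := h.2 m hm
    rw [hmA, mul_smul, mul_smul, inv_smul_smul, smul_left_cancel_iff] at h2
    exact h2

/-- Orbit and stabiliser for one more mask. -/
theorem card_stabMasks_step {ms : List ℕ} {gens : List (ℕ × ℕ)} {os : List OrbCert} {cands : List ℕ}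
    {inv : ℕ → ℕ} {idx : ℕ} (h : orbsOk ms gens os = true) (hc : classesOk cands inv os idx = true)
    {o : OrbCert} (ho : o ∈ os) (hnd : cands.Nodup) (hlt : ∀ m ∈ cands, m < 2 ^ 24)
    (hcl : ∀ g ∈ stabMasks ms, ∃ m ∈ cands, g • mset o.root = mset m ∧ inv m = inv o.root) :
    Nat.card (stabMasks ms) = (cands.filter fun m => Nat.beq (inv m) (inv o.root)).length *
      Nat.card (stabMasks (ms ++ [o.root])) := by
  set L := cands.filter fun m => Nat.beq (inv m) (inv o.root) with hL
  have horb : MulAction.orbit (stabMasks ms) (mset o.root) = ↑(L.toFinset.image mset) := by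
    ext s
    rw [Finset.mem_coe, Finset.mem_image]
    constructor
    · rintro ⟨⟨g, hg⟩, rfl⟩
      obtain ⟨m, hm, he, hi⟩ := hcl g hg
      exact ⟨m, List.mem_toFinset.2 (List.mem_filter.2 ⟨hm, by rw [Nat.beq_eq]; exact hi⟩), he.symm⟩
    · rintro ⟨m, hm, rfl⟩
      obtain ⟨hm1, hm2⟩ := List.mem_filter.1 (List.mem_toFinset.1 hm)
      rw [Nat.beq_eq] at hm2
      obtain ⟨g, hg, he⟩ := orb_sound h ho (classes_mem hc ho hm1 hm2)
      exact ⟨⟨g, hg⟩, he⟩
  have hcard : (MulAction.orbit (stabMasks ms) (mset o.root)).ncard = L.length := by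
    rw [horb, Set.ncard_coe_finset, Finset.card_image_of_injOn,
      List.toFinset_card_of_nodup (hnd.filter _)]
    intro a ha b hb
    exact mset_inj (hlt a (List.mem_filter.1 (List.mem_toFinset.1 ha)).1)
      (hlt b (List.mem_filter.1 (List.mem_toFinset.1 hb)).1)
  have hst : Nat.card (stabilizer (stabMasks ms) (mset o.root)) =
      Nat.card (stabMasks (ms ++ [o.root])) := by
    refine Nat.card_congr ⟨fun x => ⟨x.1.1, x.1.2.1, fun m hm => ?_⟩,
      fun y => ⟨⟨y.1, y.2.1, fun m hm => y.2.2 m (List.mem_append_left _ hm)⟩,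
        y.2.2 _ (List.mem_append_right _ (List.mem_singleton_self _))⟩, fun x => rfl, fun y => rfl⟩
    rcases List.mem_append.1 hm with hm | hm
    · exact x.1.2.2 m hm
    · rw [List.mem_singleton.1 hm]; exact x.2
  rw [← hst, ← hcard, ← Nat.card_coe_set_eq, ← Nat.card_prod,
    Nat.card_congr (MulAction.orbitProdStabilizerEquivGroup (stabMasks ms) (mset o.root))]

theorem stabMasks_nil : stabMasks [] = M24 := by
  ext g
  exact ⟨fun h => h.1, fun h => ⟨h, fun m hm => by simp at hm⟩⟩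

/-- Images of members of a candidate list under a stabiliser. -/
theorem oct_image {ms : List ℕ} {g : Equiv.Perm GolayPt} (hg : g ∈ stabMasks ms) {m : ℕ} (hm : m ∈ octList) :
    ∃ m' ∈ octList, g • mset m = mset m' ∧ ∀ a ∈ ms, pcnt (Nat.land a m') = pcnt (Nat.land a m) := by
  obtain ⟨m', hm', he⟩ :=
    exists_oct_mask (smul_octad_mem hg.1 ((mset_mem_octads_iff (octList_lt hm)).2 hm))
  refine ⟨m', hm', he, fun a ha => ?_⟩
  rw [← inter_card_of_smul (hg.2 a ha) he, card_mset_inter]

theorem pt_image {ms : List ℕ} {g : Equiv.Perm GolayPt} (hg : g ∈ stabMasks ms) {m : ℕ} (hm : m ∈ ptMasks) :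
    ∃ m' ∈ ptMasks, g • mset m = mset m' ∧ ∀ a ∈ ms, pcnt (Nat.land a m') = pcnt (Nat.land a m) := by
  obtain ⟨i, hi, rfl⟩ := List.mem_map.1 hm
  have hs : mset (Nat.shiftLeft 1 i) = {gpt (Fin.ofNat 24 i)} := by
    obtain ⟨j, rfl⟩ : ∃ j : Fin 24, j.val = i := ⟨⟨i, mem_bits24.1 hi⟩, rfl⟩
    revert j; decide +kernel
  obtain ⟨m', hm', he⟩ := exists_pt_mask (g (gpt (Fin.ofNat 24 i)))
  refine ⟨m', hm', by rw [hs, smul_singleton_perm, he], fun a ha => ?_⟩
  rw [← inter_card_of_smul (hg.2 a ha) (show g • mset (Nat.shiftLeft 1 i) = mset m' by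
    rw [hs, smul_singleton_perm, he]), card_mset_inter]

end Cfsg.Lib.Concrete
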