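import Cfsg.Agent.Lib.Concrete.Sextet
import Cfsg.Agent.Lib.Concrete.OrbitStd
import Cfsg.Agent.Lib.Concrete.TrioSextData

/-!
Sextets and trios as families of masks.
-/

set_option autoImplicit false

namespace Cfsg.Lib.Concrete

open scoped Pointwise
open Finset

/-- A key separating families of masks: the sum of the squares. -/
def fkey : List ℕ → ℕ
  | [] => 0
  | a :: l => Nat.add (Nat.mul a a) (fkey l)

/-- Strictly increasing keys above a bound. -/
def keysInc : List (List ℕ) → ℕ → Bool
  | [], _ => true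
  | l :: rest, b => Nat.blt b (fkey l) && keysInc rest (fkey l)

/-- Distinct small members. -/
def famOk : List ℕ → Bool
  | [] => true
  | a :: l => Nat.blt a 16777216 && !(l.any (Nat.beq a)) && famOk l

theorem famOk_sound {l : List ℕ} (h : famOk l = true) : l.Nodup ∧ ∀ a ∈ l, a < 2 ^ 24 := by
  induction l with
  | nil => exact ⟨List.nodup_nil, fun a ha => absurd ha List.not_mem_nil⟩
  | cons a l ih =>
    simp only [famOk, Bool.and_eq_true, Nat.blt_eq, Bool.not_eq_true', List.any_eq_false, Nat.beq_eq] at h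
    obtain ⟨⟨h1, h2⟩, h3⟩ := h
    obtain ⟨i1, i2⟩ := ih h3
    refine ⟨List.nodup_cons.2 ⟨fun hm => h2 a hm rfl, i1⟩, fun b hb => ?_⟩
    rcases List.mem_cons.1 hb with rfl | hb
    · exact h1
    · exact i2 b hb

theorem fkey_eq_sum (l : List ℕ) : fkey l = (l.map fun a => a * a).sum := by
  induction l with
  | nil => rfl
  | cons a l ih => rw [fkey, ih, List.map_cons, List.sum_cons]; rfl

theorem keysInc_sound {L : List (List ℕ)} {b : ℕ} (h : keysInc L b = true) :
    (L.map fkey).Pairwise (· < ·) ∧ ∀ l ∈ L, b < fkey l := by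
  induction L generalizing b with
  | nil => exact ⟨List.Pairwise.nil, fun l hl => absurd hl List.not_mem_nil⟩
  | cons l rest ih =>
    simp only [keysInc, Bool.and_eq_true, Nat.blt_eq] at h
    obtain ⟨i1, i2⟩ := ih h.2
    refine ⟨List.pairwise_cons.2 ⟨fun k hk => ?_, i1⟩, fun m hm => ?_⟩
    · obtain ⟨m, hm, rfl⟩ := List.mem_map.1 hk
      exact i2 m hm
    · rcases List.mem_cons.1 hm with rfl | hm
      · exact h.1
      · exact h.1.trans (i2 m hm)

theorem lset_card {l : List ℕ} (h : famOk l = true) : (lset l).card = l.length := by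
  obtain ⟨h1, h2⟩ := famOk_sound h
  rw [lset, List.toFinset_card_of_nodup, List.length_map]
  exact List.Nodup.map_on (fun a ha b hb => mset_inj (h2 a ha) (h2 b hb)) h1

theorem mem_of_mset_mem {l : List ℕ} (h : ∀ a ∈ l, a < 2 ^ 24) {m : ℕ} (hm : m < 2 ^ 24)
    (he : mset m ∈ lset l) : m ∈ l := by
  obtain ⟨a, ha, e⟩ := List.mem_map.1 (List.mem_toFinset.1 he)
  rwa [← mset_inj (h a ha) hm e]

theorem perm_of_lset_eq {a b : List ℕ} (ha : famOk a = true) (hb : famOk b = true)
    (h : lset a = lset b) : a.Perm b := by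
  obtain ⟨a1, a2⟩ := famOk_sound ha
  obtain ⟨b1, b2⟩ := famOk_sound hb
  refine (List.perm_ext_iff_of_nodup a1 b1).2 fun m => ⟨fun hm => ?_, fun hm => ?_⟩
  · exact mem_of_mset_mem b2 (a2 m hm) (h ▸ List.mem_toFinset.2 (List.mem_map.2 ⟨m, hm, rfl⟩))
  · exact mem_of_mset_mem a2 (b2 m hm) (h.symm ▸ List.mem_toFinset.2 (List.mem_map.2 ⟨m, hm, rfl⟩))

/-- A family list: each member distinct, separated by keys. -/
def famsOk (L : List (List ℕ)) : Bool := keysInc L 0 && L.all famOk

theorem fams_nodup {L : List (List ℕ)} (h : famsOk L = true) : (L.map lset).Nodup := by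
  simp only [famsOk, Bool.and_eq_true, List.all_eq_true] at h
  have hk : (L.map fkey).Nodup := (keysInc_sound h.1).1.imp (fun hlt => Nat.ne_of_lt hlt)
  refine List.Nodup.map_on (fun a ha b hb e => ?_) hk.of_map
  refine List.inj_on_of_nodup_map hk ha hb ?_
  rw [fkey_eq_sum, fkey_eq_sum]
  exact ((perm_of_lset_eq (h.2 a ha) (h.2 b hb) e).map _).sum_eq

/-- An octad as a mask. -/
def octMask (m : ℕ) : Bool := isCode m && Nat.beq (pcnt m) 8

theorem octMask_sound {m : ℕ} (hlt : m < 2 ^ 24) (h : octMask m = true) : mset m ∈ octads := by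
  simp only [octMask, Bool.and_eq_true, Nat.beq_eq] at h
  exact ⟨(mset_mem_supports_iff hlt).2 h.1, by rw [mset_card, mcnt_eq_pcnt, h.2]⟩

/-- A sextet as masks. -/
def sextOk (l : List ℕ) : Bool :=
  Nat.beq l.length 6 && l.all fun t => Nat.beq (pcnt t) 4 &&
    l.all fun u => Nat.beq t u || octMask (Nat.lor t u)

/-- A trio as masks. -/
def trioOk (l : List ℕ) : Bool :=
  Nat.beq l.length 3 && l.all fun o => octMask o && l.all fun o' => Nat.beq o o' || Nat.beq (Nat.land o o') 0

theorem sextFams : famsOk sextList = true := by decide +kernel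
theorem sextList_ok : sextList.all sextOk = true := by decide +kernel
theorem sextList_length : sextList.length = 1771 := by decide +kernel
theorem trioFams : famsOk trioList = true := by decide +kernel
theorem trioList_ok : trioList.all trioOk = true := by decide +kernel
theorem trioList_length : trioList.length = 3795 := by decide +kernel

theorem famOk_sext {l : List ℕ} (h : l ∈ sextList) : famOk l = true := by
  have := sextFams
  simp only [famsOk, Bool.and_eq_true, List.all_eq_true] at this
  exact this.2 l h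

theorem famOk_trio {l : List ℕ} (h : l ∈ trioList) : famOk l = true := by
  have := trioFams
  simp only [famsOk, Bool.and_eq_true, List.all_eq_true] at this
  exact this.2 l h

theorem lset_mem_sextets {l : List ℕ} (h : l ∈ sextList) : lset l ∈ sextets := by
  have hok := List.all_eq_true.1 sextList_ok l h
  simp only [sextOk, Bool.and_eq_true, List.all_eq_true, Nat.beq_eq, Bool.or_eq_true] at hok
  have hlt := (famOk_sound (famOk_sext h)).2
  refine ⟨(lset_card (famOk_sext h)).trans hok.1, fun t ht => ?_, fun t ht u hu hne => ?_⟩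
  · obtain ⟨a, ha, rfl⟩ := List.mem_map.1 (List.mem_toFinset.1 ht)
    rw [mset_card, mcnt_eq_pcnt, (hok.2 a ha).1]
  · obtain ⟨a, ha, rfl⟩ := List.mem_map.1 (List.mem_toFinset.1 ht)
    obtain ⟨b, hb, rfl⟩ := List.mem_map.1 (List.mem_toFinset.1 hu)
    rw [← mset_or]
    exact octMask_sound (Nat.or_lt_two_pow (hlt a ha) (hlt b hb))
      (((hok.2 a ha).2 b hb).resolve_left fun e => hne (e ▸ rfl))

theorem lset_mem_trios {l : List ℕ} (h : l ∈ trioList) : lset l ∈ trios := by
  have hok := List.all_eq_true.1 trioList_ok l h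
  simp only [trioOk, Bool.and_eq_true, List.all_eq_true, Nat.beq_eq, Bool.or_eq_true] at hok
  have hlt := (famOk_sound (famOk_trio h)).2
  refine ⟨(lset_card (famOk_trio h)).trans hok.1, fun t ht => ?_, fun t ht u hu hne => ?_⟩
  · obtain ⟨a, ha, rfl⟩ := List.mem_map.1 (List.mem_toFinset.1 ht)
    exact octMask_sound (hlt a ha) (hok.2 a ha).1
  · obtain ⟨a, ha, rfl⟩ := List.mem_map.1 (List.mem_toFinset.1 ht)
    obtain ⟨b, hb, rfl⟩ := List.mem_map.1 (List.mem_toFinset.1 hu)
    rw [disjoint_iff_inter_eq_empty, ← mset_and,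
      show a &&& b = 0 from (((hok.2 a ha).2 b hb).resolve_left fun e => hne (e ▸ rfl)), mset_zero]

/-- A family as a finset. -/
def famSet (L : List (List ℕ)) : Finset (Finset (Finset GolayPt)) := (L.map lset).toFinset

theorem famSet_card {L : List (List ℕ)} (h : famsOk L = true) : (famSet L).card = L.length := by
  rw [famSet, List.toFinset_card_of_nodup (fams_nodup h), List.length_map]

theorem mem_famSet {L : List (List ℕ)} {S : Finset (Finset GolayPt)} :
    S ∈ famSet L ↔ ∃ l ∈ L, S = lset l := by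
  simp [famSet, eq_comm]

theorem sextets_eq : sextets = ↑(famSet sextList) := by
  refine (Set.eq_of_subset_of_ncard_le ?_ ?_ (Set.toFinite _)).symm
  · intro S hS
    obtain ⟨l, hl, rfl⟩ := mem_famSet.1 hS
    exact lset_mem_sextets hl
  · rw [sextets_ncard, Set.ncard_coe_finset, famSet_card sextFams, sextList_length]

theorem card_disjoint_octads {o : Finset GolayPt} (ho : o ∈ octads) :
    {o' : Finset GolayPt | o' ∈ octads ∧ Disjoint o o'}.ncard = 30 := by
  obtain ⟨g, hg, rfl⟩ := exists_octad_std ho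
  rw [← ncard_eq_of_smul (T := {o' : Finset GolayPt | o' ∈ octads ∧ Disjoint (g • baseOctad) o'})
    (S := {o' : Finset GolayPt | o' ∈ octads ∧ Disjoint baseOctad o'}) g⁻¹ fun s => by
      show g⁻¹ • s ∈ octads ∧ Disjoint baseOctad (g⁻¹ • s) ↔ s ∈ octads ∧ Disjoint (g • baseOctad) s
      rw [smul_mem_octads_iff (inv_mem hg), disjoint_iff_inter_eq_empty, disjoint_iff_inter_eq_empty,
        ← card_eq_zero, ← card_eq_zero]
      conv_lhs => rw [← card_smul_finset g, smul_finset_inter, smul_inv_smul]]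
  refine (ncard_octads _ (fun m => Nat.beq (pcnt (Nat.land m24BaseOctad m)) 0) fun m _ => ?_).trans
    (by decide +kernel)
  rw [Nat.beq_eq, ← card_mset_inter, card_eq_zero, disjoint_iff_inter_eq_empty]
  rfl

theorem trio_union {T : Finset (Finset GolayPt)} (hT : T ∈ trios) {a b c : Finset GolayPt}
    (ha : a ∈ T) (hb : b ∈ T) (hc : c ∈ T) (hab : a ≠ b) (hac : a ≠ c) (hbc : b ≠ c) :
    c = (a ∪ b)ᶜ := by
  obtain ⟨-, hoct, hdis⟩ := hT
  refine eq_of_subset_of_card_le (fun x hx => ?_) ?_
  · rw [mem_compl, mem_union]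
    rintro (h | h)
    · exact disjoint_left.1 (hdis a ha c hc hac) h hx
    · exact disjoint_left.1 (hdis b hb c hc hbc) h hx
  · rw [card_compl, card_union_of_disjoint (hdis a ha b hb hab), (hoct a ha).2, (hoct b hb).2,
      (hoct c hc).2]
    rfl

theorem compl_union_octad {a b : Finset GolayPt} (ha : a ∈ octads) (hb : b ∈ octads) (h : Disjoint a b) :
    (a ∪ b)ᶜ ∈ octads := by
  have hu : (univ : Finset GolayPt) ∈ supports (golayCode : Set (GolayPt → ZMod 2)) :=
    mset_full ▸ (mset_mem_supports_iff (by norm_num)).2 (by decide +kernel)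
  refine ⟨?_, ?_⟩
  · have := symmDiff_mem_supports hu (symmDiff_mem_supports ha.1 hb.1)
    rwa [symmDiff_def a b, h.sdiff_eq_left, h.sdiff_eq_right, ← top_eq_univ, top_symmDiff] at this
  · rw [card_compl, card_union_of_disjoint h, ha.2, hb.2]
    rfl

theorem trios_ncard : trios.ncard = 3795 := by
  classical
  have hfin : trios.Finite := Set.toFinite _
  set P := ((blocksFinset octads) ×ˢ (blocksFinset octads)).filter fun q => Disjoint q.1 q.2 with hP
  let f : Finset GolayPt × Finset GolayPt → Finset (Finset GolayPt) := fun q => {q.1, q.2, (q.1 ∪ q.2)ᶜ}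
  have hne : ∀ {a b : Finset GolayPt}, a ∈ octads → Disjoint a b → a ≠ b := fun {a b} ha hd e => by
    subst e
    have := ha.2
    rw [disjoint_self] at hd
    subst hd
    simp at this
  have hPmem : ∀ q, q ∈ P ↔ q.1 ∈ octads ∧ q.2 ∈ octads ∧ Disjoint q.1 q.2 := fun q => by
    simp [hP, mem_blocksFinset, and_assoc]
  have hmaps : ∀ q ∈ P, f q ∈ hfin.toFinset := by
    intro q hq
    obtain ⟨h1, h2, h3⟩ := (hPmem q).1 hq
    rw [Set.Finite.mem_toFinset]
    have h4 := compl_union_octad h1 h2 h3
    have d1 : Disjoint q.1 (q.1 ∪ q.2)ᶜ := disjoint_compl_right.mono_left subset_union_left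
    have d2 : Disjoint q.2 (q.1 ∪ q.2)ᶜ := disjoint_compl_right.mono_left subset_union_right
    refine ⟨?_, ?_, ?_⟩
    · exact card_eq_three.2 ⟨_, _, _, hne h1 h3, hne h1 d1, hne h2 d2, rfl⟩
    · intro o ho
      simp only [f, mem_insert, mem_singleton] at ho
      rcases ho with rfl | rfl | rfl <;> assumption
    · intro o ho o' ho' hno
      simp only [f, mem_insert, mem_singleton] at ho ho'
      rcases ho with rfl | rfl | rfl <;> rcases ho' with rfl | rfl | rfl <;>
        first | exact absurd rfl hno | assumption | exact h3.symm | exact d1.symm | exact d2.symm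
  have hfib : ∀ T ∈ hfin.toFinset, (P.filter fun q => f q = T).card = 6 := by
    intro T hT
    rw [Set.Finite.mem_toFinset] at hT
    rw [show P.filter (fun q => f q = T) = T.offDiag from ?_, offDiag_card, hT.1]
    ext q
    rw [mem_filter, hPmem, mem_offDiag]
    constructor
    · rintro ⟨⟨h1, -, h3⟩, rfl⟩
      exact ⟨by simp [f], by simp [f], hne h1 h3⟩
    · rintro ⟨h1, h2, h3⟩
      refine ⟨⟨hT.2.1 _ h1, hT.2.1 _ h2, hT.2.2 _ h1 _ h2 h3⟩, ?_⟩
      obtain ⟨c, hc, hc1, hc2⟩ : ∃ c ∈ T, c ≠ q.1 ∧ c ≠ q.2 := by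
        by_contra hcon
        push Not at hcon
        have : T ⊆ {q.1, q.2} := fun x hx => by
          by_cases hx1 : x = q.1
          · simp [hx1]
          · simp [hcon x hx hx1]
        have := (card_le_card this).trans (card_le_two)
        rw [hT.1] at this
        omega
      have hce := trio_union hT h1 h2 hc h3 hc1.symm hc2.symm
      refine eq_of_subset_of_card_le (fun x hx => ?_) ?_
      · simp only [f, mem_insert, mem_singleton] at hx
        rcases hx with rfl | rfl | rfl
        exacts [h1, h2, hce ▸ hc]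
      · rw [hT.1]
        simp only [f, ← hce]
        exact le_of_eq (card_eq_three.2 ⟨_, _, _, h3, hc1.symm, hc2.symm, rfl⟩).symm
  have h1 := card_eq_sum_card_fiberwise hmaps
  rw [sum_const_nat hfib] at h1
  have h2 : P.card = 759 * 30 := by
    have hm : ∀ q ∈ P, q.1 ∈ blocksFinset octads := fun q hq => mem_blocksFinset.2 ((hPmem q).1 hq).1
    rw [card_eq_sum_card_fiberwise hm, sum_const_nat (m := 30) fun o ho => ?_]
    · congr 1
      rw [← octads_ncard, ← Set.ncard_coe_finset]
      congr 1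
      ext x; simp [mem_blocksFinset]
    · have ho' := mem_blocksFinset.1 ho
      rw [← card_disjoint_octads ho', ← Set.ncard_coe_finset]
      refine Set.BijOn.ncard_eq (f := Prod.snd) ⟨fun q hq => ?_, fun q hq q' hq' e => ?_, fun x hx => ?_⟩
      · simp only [coe_filter, Set.mem_setOf_eq] at hq
        obtain ⟨hqP, rfl⟩ := hq
        exact ((hPmem q).1 hqP).2
      · simp only [coe_filter, Set.mem_setOf_eq] at hq hq'
        exact Prod.ext (hq.2.trans hq'.2.symm) e
      · refine ⟨(o, x), ?_, rfl⟩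
        simp only [coe_filter, Set.mem_setOf_eq, hPmem]
        exact ⟨⟨ho', hx.1, hx.2⟩, trivial⟩
  rw [Set.ncard_eq_toFinset_card _ hfin]
  omega

theorem trios_eq : trios = ↑(famSet trioList) := by
  refine (Set.eq_of_subset_of_ncard_le ?_ ?_ (Set.toFinite _)).symm
  · intro S hS
    obtain ⟨l, hl, rfl⟩ := mem_famSet.1 hS
    exact lset_mem_trios hl
  · rw [trios_ncard, Set.ncard_coe_finset, famSet_card trioFams, trioList_length]

theorem smul_mem_sextets {g : Equiv.Perm GolayPt} (hg : g ∈ M24) {S : Finset (Finset GolayPt)}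
    (hS : S ∈ sextets) : g • S ∈ sextets := by
  refine ⟨(card_smul_finset g S).trans hS.1, fun t ht => ?_, fun t ht u hu hne => ?_⟩
  · obtain ⟨a, ha, rfl⟩ := mem_smul_finset.1 ht
    exact (card_smul_finset g a).trans (hS.2.1 a ha)
  · obtain ⟨a, ha, rfl⟩ := mem_smul_finset.1 ht
    obtain ⟨b, hb, rfl⟩ := mem_smul_finset.1 hu
    rw [← smul_finset_union]
    exact smul_octad_mem hg (hS.2.2 a ha b hb fun e => hne (e ▸ rfl))

theorem smul_mem_trios {g : Equiv.Perm GolayPt} (hg : g ∈ M24) {S : Finset (Finset GolayPt)}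
    (hS : S ∈ trios) : g • S ∈ trios := by
  refine ⟨(card_smul_finset g S).trans hS.1, fun t ht => ?_, fun t ht u hu hne => ?_⟩
  · obtain ⟨a, ha, rfl⟩ := mem_smul_finset.1 ht
    exact smul_octad_mem hg (hS.2.1 a ha)
  · obtain ⟨a, ha, rfl⟩ := mem_smul_finset.1 ht
    obtain ⟨b, hb, rfl⟩ := mem_smul_finset.1 hu
    rw [disjoint_iff_inter_eq_empty, ← smul_finset_inter, disjoint_iff_inter_eq_empty.1
      (hS.2.2 a ha b hb fun e => hne (e ▸ rfl)), smul_finset_empty]

theorem smul_mem_sextets_iff {g : Equiv.Perm GolayPt} (hg : g ∈ M24) (S : Finset (Finset GolayPt)) :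
    g • S ∈ sextets ↔ S ∈ sextets :=
  ⟨fun h => by simpa using smul_mem_sextets (inv_mem hg) h, smul_mem_sextets hg⟩

theorem smul_mem_trios_iff {g : Equiv.Perm GolayPt} (hg : g ∈ M24) (S : Finset (Finset GolayPt)) :
    g • S ∈ trios ↔ S ∈ trios :=
  ⟨fun h => by simpa using smul_mem_trios (inv_mem hg) h, smul_mem_trios hg⟩

end Cfsg.Lib.Concrete
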