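import Cfsg.Prelude.Def_SporadicCombinatorics
import Cfsg.Agent.Lib.Concrete.QuartetData
import Cfsg.Agent.Lib.Concrete.OrbitFacts
import Cfsg.Agent.Lib.Concrete.TrioSext

/-!
The quartets of a dodecad.
-/

set_option autoImplicit false

namespace Cfsg.Lib.Concrete

open scoped Pointwise
open Finset

/-- The test for hexads of the base dodecad. -/
def hexQ (m : ℕ) : Bool :=
  Nat.beq (Nat.land (Nat.shiftRight hexBits (Nat.mod m hexMod)) 1) 1 && hexM.any (Nat.beq m)

/-- The triples of the base dodecad. -/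
def tripM : List ℕ :=
  bits24.flatMap fun i => (bits24.filter fun j => Nat.blt i j).flatMap fun j =>
    (bits24.filter fun k => Nat.blt j k).filterMap fun k =>
      let m := Nat.lor (Nat.shiftLeft 1 i) (Nat.lor (Nat.shiftLeft 1 j) (Nat.shiftLeft 1 k))
      bif Nat.beq (Nat.land m 11472927) m then some m else none

theorem hexM_check : hexM.all (fun m => hexQ m && decide (m < 16777216)) = true ∧
    ((octList.map fun o => Nat.land o 11472927).all fun m => !(Nat.beq (pcnt m) 6) || hexQ m) = true ∧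
    hexM.all (fun h => Nat.beq (pcnt h) 6 && octList.any fun o => Nat.beq (Nat.land o 11472927) h) = true := by
  decide +kernel

theorem hexQ_iff {m : ℕ} (hm : m < 2 ^ 24) : mset m ∈ hexadsOn baseDodecad ↔ hexQ m = true := by
  constructor
  · rintro ⟨hc, o, ho, e⟩
    obtain ⟨a, ha, rfl⟩ := exists_oct_mask ho
    rw [baseDodecad, ← mset_and] at e
    have hlt : a &&& 11472927 < 2 ^ 24 := lt_of_le_of_lt Nat.and_le_right (by norm_num)
    have hm' := mset_inj hlt hm e
    have := List.all_eq_true.1 hexM_check.2.1 m (List.mem_map.2 ⟨a, ha, hm'⟩)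
    simp only [Bool.or_eq_true, Bool.not_eq_true'] at this
    rcases this with h | h
    · rw [mset_card, mcnt_eq_pcnt] at hc
      rw [hc] at h
      exact absurd h (by decide)
    · exact h
  · intro h
    simp only [hexQ, Bool.and_eq_true, List.any_eq_true, Nat.beq_eq] at h
    obtain ⟨-, x, hx, rfl⟩ := h
    have h3 := List.all_eq_true.1 hexM_check.2.2 m hx
    simp only [Bool.and_eq_true, List.any_eq_true, Nat.beq_eq] at h3
    obtain ⟨h6, o, ho, hoe⟩ := h3
    refine ⟨by rw [mset_card, mcnt_eq_pcnt, h6], mset o, (mset_mem_octads_iff (octList_lt ho)).2 ho, ?_⟩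
    rw [baseDodecad, ← mset_and]
    exact congrArg mset hoe

/-- The partners of a triple. -/
def partners (t : ℕ) : List ℕ := tripM.filter fun u => hexQ (Nat.lor t u)

theorem tripM_check : tripM.length = 220 ∧ tripM.Nodup ∧
    tripM.all (fun m => Nat.beq (pcnt m) 3 && decide (m < 16777216) && Nat.beq (Nat.land m 11472927) m) = true := by
  decide +kernel

theorem tripM_spec {m : ℕ} (hm : m ∈ tripM) : pcnt m = 3 ∧ m < 2 ^ 24 ∧ mset m ⊆ baseDodecad := by
  have h := List.all_eq_true.1 tripM_check.2.2 m hm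
  simp only [Bool.and_eq_true, Nat.beq_eq, decide_eq_true_eq] at h
  refine ⟨h.1.1, h.1.2, Finset.inter_eq_left.1 ?_⟩
  rw [baseDodecad, ← mset_and]
  exact congrArg mset h.2

/-- The fourth triple completes a listed quartet. -/
def fourTest (t u v w : ℕ) : Bool :=
  !(hexQ (Nat.lor t w)) || !(hexQ (Nat.lor u w)) || !(hexQ (Nat.lor v w)) ||
    qList.any fun q => sameList [t, u, v, w] q

/-- Every partition into triples on a first triple is listed. -/
def coverTest : Bool :=
  tripM.all fun t => Nat.beq (Nat.land t 1) 0 || (partners t).all fun u => (partners t).all fun v =>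
    !(hexQ (Nat.lor u v)) || fourTest t u v (Nat.xor 11472927 (Nat.lor t (Nat.lor u v)))

theorem quartet_cover : coverTest = true := by decide +kernel

theorem qList_ok : famsOk qList = true ∧ qList.length = 220 ∧
    qList.all (fun q => Nat.beq q.length 4 && q.all fun t => tripM.any (Nat.beq t) &&
      q.all fun u => Nat.beq t u || hexQ (Nat.lor t u)) = true := by
  decide +kernel

theorem exists_trip_mask {t : Finset GolayPt} (ht : t.card = 3) (hsub : t ⊆ baseDodecad) :
    ∃ m ∈ tripM, t = mset m := by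
  classical
  have hcard : (baseDodecad.powersetCard 3).card = 220 := by
    rw [Finset.card_powersetCard, baseDodecad_mem.2]; rfl
  have heq : tripM.toFinset.image mset = baseDodecad.powersetCard 3 := by
    refine Finset.eq_of_subset_of_card_le (fun s hs => ?_) (le_of_eq ?_)
    · obtain ⟨m, hm, rfl⟩ := Finset.mem_image.1 hs
      obtain ⟨h3, -, hsub⟩ := tripM_spec (List.mem_toFinset.1 hm)
      exact Finset.mem_powersetCard.2 ⟨hsub, by rw [mset_card, mcnt_eq_pcnt, h3]⟩
    · rw [hcard, Finset.card_image_of_injOn fun a ha b hb h =>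
        mset_inj (tripM_spec (List.mem_toFinset.1 ha)).2.1 (tripM_spec (List.mem_toFinset.1 hb)).2.1 h,
        List.toFinset_card_of_nodup tripM_check.2.1, tripM_check.1]
  obtain ⟨m, hm, e⟩ := Finset.mem_image.1 (heq.symm ▸ Finset.mem_powersetCard.2 ⟨hsub, ht⟩ : t ∈ tripM.toFinset.image mset)
  exact ⟨m, List.mem_toFinset.1 hm, e.symm⟩

theorem smul_mem_hexadsOn {g : Equiv.Perm GolayPt} (hg : g ∈ M24) {d h : Finset GolayPt}
    (hh : h ∈ hexadsOn d) : g • h ∈ hexadsOn (g • d) := by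
  obtain ⟨hc, o, ho, e⟩ := hh
  exact ⟨by rw [Finset.card_smul_finset, hc], g • o, smul_octad_mem hg ho, by rw [← Finset.smul_finset_inter, e]⟩

theorem smul_mem_quartets {g : Equiv.Perm GolayPt} (hg : g ∈ M24) {d : Finset GolayPt}
    {Q : Finset (Finset GolayPt)} (hQ : Q ∈ quartets d) : g • Q ∈ quartets (g • d) := by
  refine ⟨(Finset.card_smul_finset g Q).trans hQ.1, fun t ht => ?_, fun t ht u hu hne => ?_⟩
  · obtain ⟨s, hs, rfl⟩ := Finset.mem_smul_finset.1 ht
    exact ⟨by rw [Finset.card_smul_finset, (hQ.2.1 s hs).1], Finset.smul_finset_subset_smul_finset (hQ.2.1 s hs).2⟩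
  · obtain ⟨s, hs, rfl⟩ := Finset.mem_smul_finset.1 ht
    obtain ⟨r, hr, rfl⟩ := Finset.mem_smul_finset.1 hu
    rw [← Finset.smul_finset_union]
    exact smul_mem_hexadsOn hg (hQ.2.2 s hs r hr fun e => hne (by rw [e]))

theorem lor_eq_union (a b : ℕ) : mset (Nat.lor a b) = mset a ∪ mset b := mset_or a b

theorem lset_mem_quartets {q : List ℕ} (hq : q ∈ qList) : lset q ∈ quartets baseDodecad := by
  have hok : famOk q = true := by
    have := qList_ok.1
    simp only [famsOk, Bool.and_eq_true, List.all_eq_true] at this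
    exact this.2 q hq
  have h := List.all_eq_true.1 qList_ok.2.2 q hq
  simp only [Bool.and_eq_true, List.all_eq_true, Nat.beq_eq, List.any_eq_true, Bool.or_eq_true] at h
  refine ⟨by rw [lset_card hok, h.1], fun t ht => ?_, fun t ht u hu hne => ?_⟩
  · obtain ⟨a, ha, rfl⟩ := List.mem_map.1 (List.mem_toFinset.1 ht)
    obtain ⟨⟨x, hx, rfl⟩, -⟩ := h.2 a ha
    obtain ⟨h3, -, hsub⟩ := tripM_spec hx
    exact ⟨by rw [mset_card, mcnt_eq_pcnt, h3], hsub⟩
  · obtain ⟨a, ha, rfl⟩ := List.mem_map.1 (List.mem_toFinset.1 ht)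
    obtain ⟨b, hb, rfl⟩ := List.mem_map.1 (List.mem_toFinset.1 hu)
    obtain ⟨⟨x, hx, rfl⟩, h2⟩ := h.2 a ha
    obtain ⟨⟨y, hy, rfl⟩, -⟩ := h.2 b hb
    rcases h2 b hb with e | e
    · exact absurd (congrArg mset e) hne
    · rw [← lor_eq_union]
      exact (hexQ_iff (Nat.or_lt_two_pow (tripM_spec hx).2.1 (tripM_spec hy).2.1)).2 e

theorem symmDiff_fourth {α : Type*} [DecidableEq α] {A T U V W : Finset α} (h : A = T ∪ (U ∪ (V ∪ W)))
    (d1 : Disjoint T W) (d2 : Disjoint U W) (d3 : Disjoint V W) : symmDiff A (T ∪ (U ∪ V)) = W := by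
  subst h
  ext p
  have e1 : p ∈ T → p ∉ W := fun h => Finset.disjoint_left.1 d1 h
  have e2 : p ∈ U → p ∉ W := fun h => Finset.disjoint_left.1 d2 h
  have e3 : p ∈ V → p ∉ W := fun h => Finset.disjoint_left.1 d3 h
  simp only [Finset.mem_symmDiff, Finset.mem_union]
  tauto

theorem quartets_base_eq : quartets baseDodecad = ↑(famSet qList) := by
  refine Set.Subset.antisymm (fun Q hQ => ?_) (fun Q hQ => ?_)
  swap
  · obtain ⟨q, hq, rfl⟩ := mem_famSet.1 hQ
    exact lset_mem_quartets hq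
  have hdis : ∀ t ∈ Q, ∀ u ∈ Q, t ≠ u → Disjoint t u := fun t ht u hu hne => by
    rw [← Finset.card_union_eq_card_add_card, (hQ.2.2 t ht u hu hne).1, (hQ.2.1 t ht).1, (hQ.2.1 u hu).1]
  have hcov : Q.biUnion id = baseDodecad := by
    refine Finset.eq_of_subset_of_card_le (Finset.biUnion_subset.2 fun t ht => (hQ.2.1 t ht).2) (le_of_eq ?_)
    show _ = (Q.biUnion fun t => t).card
    rw [Finset.card_biUnion (fun t ht u hu hne => hdis t ht u hu hne), Finset.sum_congr rfl fun t ht => show t.card = 3 from (hQ.2.1 t ht).1,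
      Finset.sum_const, hQ.1, baseDodecad_mem.2]
    rfl
  have h0 : gpt 0 ∈ Q.biUnion id := by rw [hcov]; decide +kernel
  obtain ⟨T, hT, h0T⟩ := Finset.mem_biUnion.1 h0
  have h3 : (Q.erase T).card = 3 := by rw [Finset.card_erase_of_mem hT, hQ.1]
  obtain ⟨U, V, W, hUV, hUW, hVW, he⟩ := Finset.card_eq_three.1 h3
  have hQe : Q = {T, U, V, W} := by rw [← Finset.insert_erase hT, he]
  have hmem : U ∈ Q.erase T ∧ V ∈ Q.erase T ∧ W ∈ Q.erase T := by simp [he]
  obtain ⟨⟨hUT, hU⟩, ⟨hVT, hV⟩, hWT, hW⟩ := And.intro (Finset.mem_erase.1 hmem.1)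
    (And.intro (Finset.mem_erase.1 hmem.2.1) (Finset.mem_erase.1 hmem.2.2))
  obtain ⟨t, ht, rfl⟩ := exists_trip_mask (hQ.2.1 T hT).1 (hQ.2.1 T hT).2
  obtain ⟨u, hu, rfl⟩ := exists_trip_mask (hQ.2.1 U hU).1 (hQ.2.1 U hU).2
  obtain ⟨v, hv, rfl⟩ := exists_trip_mask (hQ.2.1 V hV).1 (hQ.2.1 V hV).2
  obtain ⟨w, hw, rfl⟩ := exists_trip_mask (hQ.2.1 W hW).1 (hQ.2.1 W hW).2
  have hhex : ∀ {a b : ℕ}, a ∈ tripM → b ∈ tripM → mset a ∈ Q → mset b ∈ Q → mset a ≠ mset b → hexQ (Nat.lor a b) = true :=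
    fun {a b} ha hb hA hB hne => (hexQ_iff (Nat.or_lt_two_pow (tripM_spec ha).2.1 (tripM_spec hb).2.1)).1
      (by show mset (a ||| b) ∈ _; rw [mset_or]; exact hQ.2.2 _ hA _ hB hne)
  have hwe : Nat.xor 11472927 (Nat.lor t (Nat.lor u v)) = w := by
    have hlt : Nat.xor 11472927 (Nat.lor t (Nat.lor u v)) < 2 ^ 24 := Nat.xor_lt_two_pow (by norm_num)
      (Nat.or_lt_two_pow (tripM_spec ht).2.1 (Nat.or_lt_two_pow (tripM_spec hu).2.1 (tripM_spec hv).2.1))
    refine mset_inj hlt (tripM_spec hw).2.1 ?_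
    rw [show Nat.xor 11472927 (Nat.lor t (Nat.lor u v)) = 11472927 ^^^ Nat.lor t (Nat.lor u v) from rfl, mset_xor,
      lor_eq_union, lor_eq_union]
    refine symmDiff_fourth ?_ (hdis _ hT _ hW hWT.symm) (hdis _ hU _ hW hUW) (hdis _ hV _ hW hVW)
    show baseDodecad = _
    rw [← hcov, hQe]
    simp only [Finset.biUnion_insert, Finset.singleton_biUnion, id_eq]
  have h := List.all_eq_true.1 (show coverTest = true from quartet_cover) t ht
  simp only [Bool.or_eq_true, Nat.beq_eq] at h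
  rcases h with h | h
  · exfalso
    have hb := mem_mset.1 h0T
    rw [show (gidx (gpt 0)).val = 0 by rw [gidx_gpt]; rfl, Nat.testBit_zero] at hb
    have h' : t &&& 1 = 0 := h
    rw [Nat.and_one_is_mod] at h'
    simp [h'] at hb
  have hup : u ∈ partners t := List.mem_filter.2 ⟨hu, hhex ht hu hT hU hUT.symm⟩
  have hvp : v ∈ partners t := List.mem_filter.2 ⟨hv, hhex ht hv hT hV hVT.symm⟩
  have h := List.all_eq_true.1 (List.all_eq_true.1 h u hup) v hvp
  rw [hwe, fourTest] at h
  simp only [Bool.or_eq_true, Bool.not_eq_true', List.any_eq_true] at h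
  rcases h with h | ((h | h) | h) | ⟨q, hq, hsame⟩
  · rw [hhex hu hv hU hV hUV] at h; exact Bool.noConfusion h
  · rw [hhex ht hw hT hW hWT.symm] at h; exact Bool.noConfusion h
  · rw [hhex hu hw hU hW hUW] at h; exact Bool.noConfusion h
  · rw [hhex hv hw hV hW hVW] at h; exact Bool.noConfusion h
  · refine mem_famSet.2 ⟨q, hq, ?_⟩
    rw [← sameList_sound _ _ hsame, hQe]
    simp [lset]

theorem quartets_transfer {d : Finset GolayPt} (hd : d ∈ dodecads) :
    ∃ g ∈ M24, g • baseDodecad = d ∧ quartets d = (fun Q => g • Q) '' (↑(famSet qList) : Set (Finset (Finset GolayPt))) := by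
  obtain ⟨g, hg, rfl⟩ := exists_dodecad_std hd
  refine ⟨g, hg, rfl, Set.Subset.antisymm (fun Q hQ => ⟨g⁻¹ • Q, ?_, smul_inv_smul g Q⟩) ?_⟩
  · rw [← quartets_base_eq]
    simpa using smul_mem_quartets (inv_mem hg) hQ
  · rintro _ ⟨Q, hQ, rfl⟩
    rw [← quartets_base_eq] at hQ
    exact smul_mem_quartets hg hQ

theorem quartets_ncard {d : Finset GolayPt} (hd : d ∈ dodecads) : (quartets d).ncard = 220 := by
  obtain ⟨g, -, -, he⟩ := quartets_transfer hd
  rw [he, Set.ncard_image_of_injective _ (MulAction.injective g), Set.ncard_coe_finset, famSet_card qList_ok.1, qList_ok.2.1]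

theorem qOrbit_check : orbitCheck (fun p l => l.map (pimg p)) sameList oDGens (qOrbit.getD 0 []) qOrbit qDeriv = true ∧
    gensCheck oDGens (fun p => [11472927].all fun m => Nat.beq (pimg p m) m) = true ∧
    qList.all (fun q => qOrbit.any fun r => sameList q r) = true := by
  decide +kernel

theorem quartets_transitive {d : Finset GolayPt} (hd : d ∈ dodecads) {Q Q' : Finset (Finset GolayPt)}
    (hQ : Q ∈ quartets d) (hQ' : Q' ∈ quartets d) : ∃ g : Equiv.Perm GolayPt, g ∈ M24 ∧ g • d = d ∧ g • Q = Q' := by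
  obtain ⟨k, hk, hkd, he⟩ := quartets_transfer hd
  rw [he] at hQ hQ'
  obtain ⟨A, hA, rfl⟩ := hQ
  obtain ⟨B, hB, rfl⟩ := hQ'
  have key : ∀ X ∈ famSet qList, ∃ g ∈ stabMasks [11472927], g • lset (qOrbit.getD 0 []) = X := by
    intro X hX
    obtain ⟨q, hq, rfl⟩ := mem_famSet.1 hX
    obtain ⟨r, hr, hs⟩ := List.any_eq_true.1 (List.all_eq_true.1 qOrbit_check.2.2 q hq)
    obtain ⟨g, hg, hgr⟩ := orbitCheck_sound (sem := lset) sameList_sound (fun g p a h => lmap_sound g p a h)
      (gens_mem_stabMasks qOrbit_check.2.1) qOrbit_check.1 r hr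
    exact ⟨g, hg, by rw [sameList_sound _ _ hs]; exact hgr⟩
  obtain ⟨a, ha, rfl⟩ := key A hA
  obtain ⟨b, hb, rfl⟩ := key B hB
  have hbd : ∀ x ∈ stabMasks [11472927], x • baseDodecad = baseDodecad := fun x hx => hx.2 _ (List.mem_singleton.2 rfl)
  refine ⟨k * (b * a⁻¹) * k⁻¹, mul_mem (mul_mem hk (mul_mem hb.1 (inv_mem ha.1))) (inv_mem hk), ?_, ?_⟩
  · rw [← hkd, mul_smul, inv_smul_smul, mul_smul k, hbd _ (mul_mem hb (inv_mem ha))]
  · simp only [mul_smul, inv_smul_smul]

theorem pair_check : tripM.all (fun t =>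
    (qList.filter fun q => q.any (Nat.beq t)).all (fun q => q.length == 4) &&
      tripM.all fun u => !(hexQ (Nat.lor t u)) || !(Nat.beq (Nat.land t u) 0) ||
        Nat.beq ((qList.filter fun q => q.any (Nat.beq t)).countP fun q => q.any (Nat.beq u)) 1) = true := by
  decide +kernel

theorem two_triples_unique {d : Finset GolayPt} (hd : d ∈ dodecads) {t u : Finset GolayPt} (ht : t.card = 3)
    (hu : u.card = 3) (htu : Disjoint t u) (hh : t ∪ u ∈ hexadsOn d) :
    ∃! Q : Finset (Finset GolayPt), Q ∈ quartets d ∧ t ∈ Q ∧ u ∈ Q := by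
  obtain ⟨k, hk, hkd, he⟩ := quartets_transfer hd
  have hsub : t ∪ u ⊆ d := by
    obtain ⟨-, o, -, e⟩ := hh
    rw [← e]; exact Finset.inter_subset_right
  have hbase : k⁻¹ • d = baseDodecad := by rw [← hkd, inv_smul_smul]
  obtain ⟨a, ha, hta⟩ := exists_trip_mask (t := k⁻¹ • t) (by rw [Finset.card_smul_finset, ht])
    (hbase ▸ Finset.smul_finset_subset_smul_finset (Finset.union_subset_left hsub))
  obtain ⟨b, hb, hub⟩ := exists_trip_mask (t := k⁻¹ • u) (by rw [Finset.card_smul_finset, hu])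
    (hbase ▸ Finset.smul_finset_subset_smul_finset (Finset.union_subset_right hsub))
  have hlt := Nat.or_lt_two_pow (tripM_spec ha).2.1 (tripM_spec hb).2.1
  have hhex : hexQ (Nat.lor a b) = true := (hexQ_iff hlt).1 (by
    show mset (a ||| b) ∈ _
    rw [mset_or, ← hta, ← hub, ← Finset.smul_finset_union, ← hbase]
    exact smul_mem_hexadsOn (inv_mem hk) hh)
  have hdis : Nat.land a b = 0 := by
    have hd' : Disjoint (mset a) (mset b) := by
      rw [← hta, ← hub, Finset.disjoint_iff_inter_eq_empty, ← Finset.smul_finset_inter, Finset.disjoint_iff_inter_eq_empty.1 htu,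
        Finset.smul_finset_empty]
    refine mset_inj (lt_of_le_of_lt Nat.and_le_left (tripM_spec ha).2.1) (by norm_num) ?_
    rw [mset_zero, show Nat.land a b = a &&& b from rfl, mset_and, Finset.disjoint_iff_inter_eq_empty.1 hd']
  have hc := List.all_eq_true.1 pair_check a ha
  simp only [Bool.and_eq_true, List.all_eq_true] at hc
  have hc2 := hc.2 b hb
  rw [hhex, hdis] at hc2
  simp only [Bool.not_true, Bool.false_or, Nat.beq_eq, Bool.or_eq_true, Bool.not_eq_true'] at hc2
  have hone : ((qList.filter fun q => q.any (Nat.beq a)).filter fun q => q.any (Nat.beq b)).length = 1 := by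
    rw [← List.countP_eq_length_filter]
    rcases hc2 with h | h
    · exact absurd h (by decide)
    · exact h
  obtain ⟨q, hq⟩ := List.length_eq_one_iff.1 hone
  have hqmem : ∀ r, r ∈ qList → (k⁻¹ • t ∈ lset r ∧ k⁻¹ • u ∈ lset r ↔ r = q) := by
    intro r hr
    have hok : famOk r = true := by
      have := qList_ok.1
      simp only [famsOk, Bool.and_eq_true, List.all_eq_true] at this
      exact this.2 r hr
    have hiff : ∀ x ∈ tripM, mset x ∈ lset r ↔ r.any (Nat.beq x) = true := fun x hx => by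
      rw [List.any_eq_true]
      exact ⟨fun h => ⟨x, mem_of_mset_mem (famOk_sound hok).2 (tripM_spec hx).2.1 h, by rw [Nat.beq_eq]⟩,
        fun ⟨y, hy, e⟩ => by rw [Nat.eq_of_beq_eq_true e]; exact List.mem_toFinset.2 (List.mem_map.2 ⟨y, hy, rfl⟩)⟩
    rw [hta, hub, hiff a ha, hiff b hb]
    constructor
    · rintro ⟨h1, h2⟩
      have h3 : r ∈ qList.filter fun q => q.any (Nat.beq a) := List.mem_filter.2 ⟨hr, h1⟩
      have h4 : r ∈ (qList.filter fun q => q.any (Nat.beq a)).filter fun q => q.any (Nat.beq b) := List.mem_filter.2 ⟨h3, h2⟩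
      rwa [hq, List.mem_singleton] at h4
    · rintro rfl
      have : r ∈ ((qList.filter fun q => q.any (Nat.beq a)).filter fun q => q.any (Nat.beq b)) := by rw [hq]; simp
      exact ⟨(List.mem_filter.1 (List.mem_filter.1 this).1).2, (List.mem_filter.1 this).2⟩
  have hqL : q ∈ qList := by
    have : q ∈ ((qList.filter fun q => q.any (Nat.beq a)).filter fun q => q.any (Nat.beq b)) := by rw [hq]; simp
    exact (List.mem_filter.1 (List.mem_filter.1 this).1).1
  refine ⟨k • lset q, ⟨by rw [he]; exact ⟨_, mem_famSet.2 ⟨q, hqL, rfl⟩, rfl⟩, ?_, ?_⟩, ?_⟩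
  · exact Finset.inv_smul_mem_iff.1 ((hqmem q hqL).2 rfl).1
  · exact Finset.inv_smul_mem_iff.1 ((hqmem q hqL).2 rfl).2
  · rintro Q ⟨hQ, htQ, huQ⟩
    rw [he] at hQ
    obtain ⟨R, hR, rfl⟩ := hQ
    obtain ⟨r, hr, rfl⟩ := mem_famSet.1 hR
    rw [(hqmem r hr).1 ⟨Finset.inv_smul_mem_iff.2 htQ, Finset.inv_smul_mem_iff.2 huQ⟩]

end Cfsg.Lib.Concrete
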