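import Cfsg.Agent.Lib.Concrete.SteinerExtend
import Cfsg.Prelude.Def_Sporadic

/-!
Uniqueness and automorphism groups of S(5, 8, 24), S(4, 7, 23) and S(3, 6, 22).
-/

set_option autoImplicit false

namespace Cfsg.Lib.Concrete

open Finset
open scoped symmDiff Pointwise
open MulAction (mem_stabilizer_iff IsMultiplyPretransitive)

variable {α β : Type*} [DecidableEq α] [DecidableEq β]

theorem image_permCongr (e : α ≃ β) (σ : Equiv.Perm α) (b : Finset α) :
    (e.permCongr σ) • b.image e = (σ • b).image e := by
  ext x
  simp only [Finset.smul_finset_def, image_image, mem_image]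
  constructor
  · rintro ⟨a, ha, rfl⟩; exact ⟨a, ha, by simp⟩
  · rintro ⟨a, ha, rfl⟩; exact ⟨a, ha, by simp⟩

/-- A permutation mapping a finite family into itself stabilises it. -/
theorem mem_setSystemAut_of_subset [Fintype α] {B : Set (Finset α)} {σ : Equiv.Perm α} (h : ∀ b ∈ B, σ • b ∈ B) :
    σ ∈ setSystemAut B := by
  refine mem_stabilizer_iff.2 (Set.eq_of_subset_of_ncard_le ?_ (Set.ncard_smul_set _ _).ge (Set.toFinite _))
  rintro _ ⟨b, hb, rfl⟩
  exact h b hb

theorem smul_mem_of_setSystemAut {B : Set (Finset α)} {σ : Equiv.Perm α} (hσ : σ ∈ setSystemAut B) {b : Finset α}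
    (hb : b ∈ B) : σ • b ∈ B := by
  rw [← mem_stabilizer_iff.1 hσ]
  exact Set.smul_mem_smul_set hb

theorem mem_setSystemAut_congr (e : α ≃ β) {B : Set (Finset α)} {B' : Set (Finset β)}
    (h : (fun b => b.image e) '' B = B') (σ : Equiv.Perm α) :
    σ ∈ setSystemAut B ↔ e.permCongr σ ∈ setSystemAut B' := by
  have key : e.permCongr σ • B' = (fun b => b.image e) '' (σ • B) := by
    subst h
    rw [← Set.image_smul, ← Set.image_smul, Set.image_image, Set.image_image]
    exact Set.image_congr fun b _ => image_permCongr e σ b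
  rw [mem_stabilizer_iff, mem_stabilizer_iff, key, ← h, (image_injective e.injective).image_injective.eq_iff]

/-! ### S(5, 8, 24) -/

theorem M24_eq_setSystemAut : setSystemAut octads = M24 := by
  ext g
  constructor
  · intro hg
    refine mem_M24_of_family (G := octads) (fun o ho => ho.1) (separatesSmall_824 card_golayPt octads_steiner) ?_
    exact fun o ho => (smul_mem_of_setSystemAut hg ho).1
  · exact fun hg => mem_setSystemAut_of_subset fun o ho => smul_octad_mem hg ho

theorem steiner_824_iso [Fintype α] [Fintype β] (hα : Fintype.card α = 24) (hβ : Fintype.card β = 24)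
    {B : Set (Finset α)} {B' : Set (Finset β)} (hB : IsSteinerSystem 5 8 B) (hB' : IsSteinerSystem 5 8 B') :
    SetSystemIso B B' := by
  obtain ⟨e, he⟩ := steiner_824_octads hα hB
  obtain ⟨e', he'⟩ := steiner_824_octads hβ hB'
  refine ⟨e.trans e'.symm, ?_⟩
  apply (image_injective e'.injective).image_injective
  rw [Set.image_image]
  refine Eq.trans (Eq.trans (Set.image_congr fun b _ => ?_) he) he'.symm
  rw [image_image]
  congr 1
  funext a
  simp

theorem steiner_824_symmDiff [Fintype α] (hα : Fintype.card α = 24) {B : Set (Finset α)}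
    (hB : IsSteinerSystem 5 8 B) {b c : Finset α} (hb : b ∈ B) (hc : c ∈ B) (h4 : (b ∩ c).card = 4) :
    b ∆ c ∈ B := by
  obtain ⟨e, he⟩ := steiner_824_octads hα hB
  have hmb : b.image e ∈ octads := he ▸ Set.mem_image_of_mem _ hb
  have hmc : c.image e ∈ octads := he ▸ Set.mem_image_of_mem _ hc
  have hcard : (b ∆ c).card = 8 := by
    rw [symmDiff_def, sup_eq_union, card_union_of_disjoint disjoint_sdiff_sdiff]
    have e1 := card_sdiff_add_card_inter b c
    have e2 := card_sdiff_add_card_inter c b
    rw [inter_comm c b] at e2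
    rw [hB.1 b hb] at e1
    rw [hB.1 c hc] at e2
    omega
  have h : (b ∆ c).image e ∈ octads := ⟨by
    rw [image_symmDiff _ _ e.injective]
    exact symmDiff_mem_supports hmb.1 hmc.1, by rw [card_image_of_injective _ e.injective, hcard]⟩
  rw [← he] at h
  obtain ⟨d, hd, hde⟩ := h
  exact image_injective e.injective hde ▸ hd

theorem steiner_824_aut [Fintype α] (hα : Fintype.card α = 24) {B : Set (Finset α)} (hB : IsSteinerSystem 5 8 B) :
    IsM24 (setSystemAut B) ∧ IsMultiplyPretransitive (setSystemAut B) α 5 := by
  obtain ⟨e, he⟩ := steiner_824_octads hα hB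
  have hmem : ∀ σ, σ ∈ setSystemAut B ↔ e.permCongr σ ∈ M24 := fun σ => by
    rw [← M24_eq_setSystemAut]; exact mem_setSystemAut_congr e he σ
  let Φ : setSystemAut B ≃* M24 :=
    { toFun := fun σ => ⟨e.permCongr σ.1, (hmem _).1 σ.2⟩
      invFun := fun g => ⟨e.permCongr.symm g.1, (hmem _).2 (by rw [Equiv.apply_symm_apply]; exact g.2)⟩
      left_inv := fun σ => Subtype.ext (e.permCongr.symm_apply_apply _)
      right_inv := fun g => Subtype.ext (e.permCongr.apply_symm_apply _)
      map_mul' := fun σ τ => Subtype.ext (e.permCongrHom.map_mul σ.1 τ.1) }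
  refine ⟨⟨?_, ?_⟩, ?_⟩
  · have := isSimple_M24
    exact Φ.isSimpleGroup_congr.2 this
  · rw [Nat.card_congr Φ.toEquiv, card_M24]
  · have := M24_five_transitive
    rw [MulAction.isMultiplyPretransitive_iff]
    intro x y
    obtain ⟨g, hg⟩ := MulAction.exists_smul_eq M24 (x.trans e.toEmbedding) (y.trans e.toEmbedding)
    refine ⟨Φ.symm g, ?_⟩
    ext i
    have h : (g : Equiv.Perm GolayPt) (e (x i)) = e (y i) := congrArg (fun f : Fin 5 ↪ GolayPt => f i) hg
    show (e.permCongr.symm g.1) (x i) = y i
    rw [Equiv.permCongr_symm, Equiv.permCongr_apply]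
    simp [h]

/-! ### S(4, 7, 23) -/

theorem image_insertNone_optionCongr (σ : Equiv.Perm α) (b : Finset α) :
    (σ.optionCongr : Equiv.Perm (Option α)) • insertNone b = insertNone (σ • b) := by
  ext x
  simp only [Finset.smul_finset_def, mem_image, mem_insertNone]
  constructor
  · rintro ⟨a, ha, rfl⟩ i hi
    cases a with
    | none => simp at hi
    | some a => exact ⟨a, ha a rfl, by simpa using hi⟩
  · intro h
    cases x with
    | none => exact ⟨none, by simp, rfl⟩
    | some x => obtain ⟨a, ha, hax⟩ := h x rfl; exact ⟨some a, by simpa using ha, by simpa using hax⟩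

/-- The lift of a permutation to the 24 points through a chosen bijection. -/
def lift23 (e : Option α ≃ GolayPt) : Equiv.Perm α →* Equiv.Perm GolayPt where
  toFun σ := e.permCongr σ.optionCongr
  map_one' := Equiv.ext fun x => by cases h : e.symm x <;> simp [h, ← Equiv.eq_symm_apply]
  map_mul' σ τ := Equiv.ext fun x => by cases h : e.symm x <;> simp [h]

theorem lift23_apply (e : Option α ≃ GolayPt) (σ : Equiv.Perm α) : lift23 e σ = e.permCongr σ.optionCongr := rfl

theorem lift23_injective (e : Option α ≃ GolayPt) : Function.Injective (lift23 e) := fun σ τ h => by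
  refine Equiv.ext fun a => ?_
  have := Equiv.congr_fun (e.permCongr.injective h) (some a)
  simpa using this

theorem exists_lift23 (e : Option α ≃ GolayPt) {g : Equiv.Perm GolayPt} (hg : g (e none) = e none) :
    ∃ σ, lift23 e σ = g := by
  refine ⟨Equiv.removeNone (e.permCongr.symm g), ?_⟩
  have h0 : (e.permCongr.symm g) none = none := by rw [Equiv.permCongr_symm, Equiv.permCongr_apply]; simp [hg]
  have : (Equiv.removeNone (e.permCongr.symm g)).optionCongr = e.permCongr.symm g := by
    ext1 x
    cases x with
    | none => rw [Equiv.optionCongr_apply, Option.map_none, h0]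
    | some a =>
      rw [Equiv.optionCongr_apply, Option.map_some, Equiv.removeNone_some]
      by_contra hc
      obtain ⟨b, hb⟩ : ∃ b, (e.permCongr.symm g) (some a) = some b := Option.ne_none_iff_exists'.1 fun hn =>
        Option.some_ne_none a ((e.permCongr.symm g).injective (hn.trans h0.symm))
      exact hc ⟨b, hb⟩
  rw [lift23_apply, this, Equiv.apply_symm_apply]

theorem lift23_mem_iff [Fintype α] (hα : Fintype.card α = 23) {B : Set (Finset α)} (hB : IsSteinerSystem 4 7 B)
    {e : Option α ≃ GolayPt}
    (he : (fun b => (insertNone b).image e) '' B = {o | o ∈ octads ∧ e none ∈ o}) (σ : Equiv.Perm α) :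
    σ ∈ setSystemAut B ↔ lift23 e σ ∈ M24 := by
  have himg : ∀ b, lift23 e σ • (insertNone b).image e = (insertNone (σ • b)).image e := fun b => by
    rw [lift23_apply, image_permCongr, image_insertNone_optionCongr]
  constructor
  · intro hσ
    refine mem_M24_of_family (G := (fun b => (insertNone b).image e) '' B) ?_ ?_ ?_
    · rw [he]; exact fun o ho => ho.1.1
    · have := separatesSmall_image (separatesSmall_723 hα hB) e
      rwa [Set.image_image] at this
    · rintro _ ⟨b, hb, rfl⟩
      rw [himg]
      exact (he.subset ⟨_, smul_mem_of_setSystemAut hσ hb, rfl⟩).1.1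
  · intro hg
    refine mem_setSystemAut_of_subset fun b hb => ?_
    have hm : (insertNone (σ • b)).image e ∈ {o | o ∈ octads ∧ e none ∈ o} :=
      ⟨himg b ▸ smul_octad_mem hg (he.subset ⟨b, hb, rfl⟩).1, mem_image.2 ⟨none, none_mem_insertNone, rfl⟩⟩
    rw [← he] at hm
    obtain ⟨c, hc, hce⟩ := hm
    exact insertNone.injective (image_injective e.injective hce) ▸ hc

theorem steiner_723_iso [Fintype α] [Fintype β] (hα : Fintype.card α = 23) (hβ : Fintype.card β = 23)
    {B : Set (Finset α)} {B' : Set (Finset β)} (hB : IsSteinerSystem 4 7 B) (hB' : IsSteinerSystem 4 7 B') :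
    SetSystemIso B B' := by
  obtain ⟨e, he⟩ := steiner_723_octads hα hB
  obtain ⟨e', he'⟩ := steiner_723_octads hβ hB'
  have := M24_isPretransitive
  obtain ⟨⟨g, hg⟩, hge⟩ := MulAction.exists_smul_eq M24 (e none) (e' none)
  set f : Option α ≃ Option β := (e.trans g).trans e'.symm
  have hf0 : f none = none := by
    show e'.symm (g (e none)) = none
    rw [show g (e none) = e' none from hge, Equiv.symm_apply_apply]
  refine ⟨Equiv.removeNone f, ?_⟩
  have hfs : ∀ a, some (Equiv.removeNone f a) = f (some a) := fun a =>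
    Equiv.removeNone_some f (Option.ne_none_iff_exists'.1 fun hn => Option.some_ne_none a (f.injective (hn.trans hf0.symm)))
  have hins : ∀ b : Finset α, (insertNone (b.image (Equiv.removeNone f))).image e' = g • (insertNone b).image e := by
    intro b
    have h1 : insertNone (b.image (Equiv.removeNone f)) = (insertNone b).image f := by
      ext x
      cases x with
      | none => simpa using ⟨none, by simp, hf0⟩
      | some y =>
        simp only [some_mem_insertNone, mem_image]
        constructor
        · rintro ⟨a, ha, rfl⟩; exact ⟨some a, by simpa using ha, (hfs a).symm⟩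
        · rintro ⟨a, ha, hay⟩
          cases a with
          | none => simp [hf0] at hay
          | some a => exact ⟨a, by simpa using ha, Option.some_injective _ ((hfs a).trans hay)⟩
    rw [h1, Finset.smul_finset_def, image_image, image_image]
    exact image_congr fun a _ => by simp [f]
  apply ((image_injective e'.injective).comp insertNone.injective).image_injective
  rw [Set.image_image]
  refine Eq.trans (Set.image_congr fun b _ => hins b) ?_
  show (fun b => g • (insertNone b).image e) '' B = (fun b => (insertNone b).image e') '' B'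
  rw [← Set.image_image (fun o => g • o), he, he']
  ext o
  simp only [Set.mem_image, Set.mem_setOf_eq]
  constructor
  · rintro ⟨o, ⟨ho, hp⟩, rfl⟩
    exact ⟨smul_octad_mem hg ho, by rw [← hge]; exact Finset.smul_mem_smul_finset hp⟩
  · rintro ⟨ho, hp⟩
    refine ⟨g⁻¹ • o, ⟨smul_octad_mem (inv_mem hg) ho, ?_⟩, smul_inv_smul _ _⟩
    rw [Finset.mem_inv_smul_finset_iff]
    exact hge.symm ▸ hp

theorem steiner_723_aut [Fintype α] (hα : Fintype.card α = 23) {B : Set (Finset α)} (hB : IsSteinerSystem 4 7 B) :
    IsM23 (setSystemAut B) ∧ IsMultiplyPretransitive (setSystemAut B) α 4 := by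
  obtain ⟨e, he⟩ := steiner_723_octads hα hB
  have hiff := lift23_mem_iff hα hB he
  let φ : setSystemAut B →* MulAction.stabilizer M24 (e none) :=
    { toFun := fun σ => ⟨⟨lift23 e σ.1, (hiff _).1 σ.2⟩, by
        show lift23 e σ.1 (e none) = e none
        simp [lift23_apply]⟩
      map_one' := Subtype.ext (Subtype.ext (map_one _))
      map_mul' := fun σ τ => Subtype.ext (Subtype.ext (map_mul _ _ _)) }
  have hbij : Function.Bijective φ := by
    refine ⟨fun σ τ h => Subtype.ext (lift23_injective e (congrArg (fun x : MulAction.stabilizer M24 (e none) => x.1.1) h)),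
      fun g => ?_⟩
    obtain ⟨σ, hσ⟩ := exists_lift23 e (g := g.1.1) g.2
    exact ⟨⟨σ, (hiff σ).2 (hσ.symm ▸ g.1.2)⟩, Subtype.ext (Subtype.ext hσ)⟩
  let Φ := MulEquiv.ofBijective φ hbij
  refine ⟨⟨?_, ?_⟩, ?_⟩
  · have := isSimple_stabilizer (e none)
    exact Φ.isSimpleGroup_congr.2 this
  · rw [Nat.card_congr Φ.toEquiv, card_M24_stabilizer]
  · have := M24_five_transitive
    rw [MulAction.isMultiplyPretransitive_iff]
    intro x y
    let extend : (Fin 4 ↪ α) → (Fin 5 ↪ GolayPt) := fun z =>
      ⟨Fin.cons (e none) (fun i => e (some (z i))), Fin.cons_injective_iff.2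
        ⟨by rintro ⟨i, hi⟩; exact Option.some_ne_none _ (e.injective hi),
          fun i j h => z.injective (Option.some_injective _ (e.injective h))⟩⟩
    obtain ⟨⟨g, hgM⟩, hg⟩ := MulAction.exists_smul_eq M24 (extend x) (extend y)
    have hpt : ∀ i, g (extend x i) = extend y i := fun i => congrArg (fun f : Fin 5 ↪ GolayPt => f i) hg
    obtain ⟨σ, hσ⟩ := exists_lift23 e (g := g) (by simpa [extend] using hpt 0)
    refine ⟨⟨σ, (hiff σ).2 (hσ.symm ▸ hgM)⟩, ?_⟩
    ext i
    show σ (x i) = y i
    have := hpt i.succ
    simp [extend, ← hσ, lift23_apply] at this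
    exact this

/-! ### S(3, 6, 22) -/

/-- The lift of a permutation of 22 points. -/
def lift22 (e : Option (Option α) ≃ GolayPt) : Equiv.Perm α →* Equiv.Perm GolayPt :=
  (lift23 e).comp
    { toFun := fun σ => σ.optionCongr
      map_one' := Equiv.optionCongr_refl
      map_mul' := fun σ τ => Equiv.ext fun x => by cases x <;> simp }

theorem lift22_apply (e : Option (Option α) ≃ GolayPt) (σ : Equiv.Perm α) :
    lift22 e σ = e.permCongr σ.optionCongr.optionCongr := rfl

theorem lift22_injective (e : Option (Option α) ≃ GolayPt) : Function.Injective (lift22 e) := fun σ τ h =>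
  Equiv.optionCongr_injective (lift23_injective e h)

theorem lift22_fix (e : Option (Option α) ≃ GolayPt) (σ : Equiv.Perm α) :
    lift22 e σ (e none) = e none ∧ lift22 e σ (e (some none)) = e (some none) := by
  constructor <;> simp [lift22_apply]

theorem exists_lift22 (e : Option (Option α) ≃ GolayPt) {g : Equiv.Perm GolayPt} (hg : g (e none) = e none)
    (hg' : g (e (some none)) = e (some none)) : ∃ σ, lift22 e σ = g := by
  obtain ⟨ρ, rfl⟩ := exists_lift23 e hg
  have hρ : ρ none = none := by simpa [lift23_apply] using hg'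
  refine ⟨Equiv.removeNone ρ, ?_⟩
  have : (Equiv.removeNone ρ).optionCongr = ρ := by
    ext1 x
    cases x with
    | none => simp [hρ]
    | some a =>
      rw [Equiv.optionCongr_apply, Option.map_some, Equiv.removeNone_some]
      exact Option.ne_none_iff_exists'.1 fun hn => Option.some_ne_none a (ρ.injective (hn.trans hρ.symm))
  show lift23 e (Equiv.removeNone ρ).optionCongr = _
  rw [this]

theorem lift22_smul (e : Option (Option α) ≃ GolayPt) (σ : Equiv.Perm α) (b : Finset α) :
    lift22 e σ • (ins2 b).image e = (ins2 (σ • b)).image e := by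
  rw [lift22_apply, image_permCongr, ins2, ins2, image_insertNone_optionCongr, image_insertNone_optionCongr]

/-- A permutation of the 22 points, with the two further points fixed or exchanged, lies in M24. -/
theorem lift22_dichotomy [Fintype α] (hα : Fintype.card α = 22) {B : Set (Finset α)} (hB : IsSteinerSystem 3 6 B)
    {e : Option (Option α) ≃ GolayPt} {X : Finset GolayPt}
    (he : (fun b => (ins2 b).image e) '' B = {o | o ∈ octads ∧ e none ∈ o ∧ e (some none) ∈ o})
    (hX : X ∈ supports (golayCode : Set (GolayPt → ZMod 2))) (hXd : Odd (X ∩ {e none, e (some none)}).card)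
    (hsep : SeparatesSmall ((fun b => (ins2 b).image e) '' B ∪ {X}))
    {σ : Equiv.Perm α} (hσ : σ ∈ setSystemAut B) :
    lift22 e σ ∈ M24 ∨ Equiv.swap (e none) (e (some none)) * lift22 e σ ∈ M24 := by
  set p := e none
  set q := e (some none)
  have hpq : p ≠ q := fun h => Option.some_ne_none _ (e.injective h).symm
  set sw := Equiv.swap p q
  have hG : (fun b => (ins2 b).image e) '' B ∪ {X} ⊆ supports (golayCode : Set (GolayPt → ZMod 2)) := by
    rintro o (ho | rfl)
    · exact (he.subset ho).1.1
    · exact hX
  set τ := lift22 e σ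
  have himg : ∀ b ∈ B, τ • (ins2 b).image e ∈ supports (golayCode : Set (GolayPt → ZMod 2)) := fun b hb => by
    rw [lift22_smul]
    exact hG (Or.inl ⟨_, smul_mem_of_setSystemAut hσ hb, rfl⟩)
  have hswo : ∀ o : Finset GolayPt, p ∈ o → q ∈ o → sw • o = o := fun o hp hq => by
    apply eq_of_subset_of_card_le _ (card_smul_points sw o).ge
    intro x hx
    obtain ⟨a, ha, rfl⟩ := mem_image.1 hx
    rcases eq_or_ne a p with rfl | hap
    · simpa [sw] using hq
    rcases eq_or_ne a q with rfl | haq
    · simpa [sw] using hp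
    simpa [sw, Equiv.swap_apply_of_ne_of_ne hap haq] using ha
  have hfamI : ∀ o ∈ (fun b => (ins2 b).image e) '' B, Even ((τ • X) ∩ o).card := by
    intro o ho
    obtain ⟨ho8, -, -⟩ := he.subset ho
    obtain ⟨c, hc, rfl⟩ := ho
    have hc' : σ⁻¹ • c ∈ B := smul_mem_of_setSystemAut (inv_mem hσ) hc
    have h := supports_even_inter hX (hG (Or.inl ⟨_, hc', rfl⟩))
    show Even ((τ • X) ∩ (ins2 c).image e).card
    rw [show (ins2 c).image e = τ • (ins2 (σ⁻¹ • c)).image e by rw [lift22_smul, smul_inv_smul],
      ← Finset.smul_finset_inter, card_smul_points]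
    exact h
  rcases Nat.even_or_odd ((τ • X) ∩ X).card with hev | hod
  · refine Or.inl (mem_M24_of_family hG hsep ?_)
    rintro o (⟨b, hb, rfl⟩ | rfl)
    · exact himg b hb
    · refine mem_supports_of_even hG hsep ?_
      rintro g (hg | rfl)
      · exact hfamI g hg
      · exact hev
  · refine Or.inr (mem_M24_of_family hG hsep ?_)
    rintro o (⟨b, hb, rfl⟩ | rfl)
    · rw [mul_smul, lift22_smul]
      rw [hswo ((ins2 (σ • b)).image e) (mem_image.2 ⟨none, by simp [ins2], rfl⟩) (mem_image.2 ⟨some none, by simp [ins2], rfl⟩),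
        ← lift22_smul]
      exact himg b hb
    · refine mem_supports_of_even hG hsep ?_
      rintro g (hg | rfl)
      · obtain ⟨-, hp, hq⟩ := he.subset hg
        rw [← hswo g hp hq, mul_smul, ← Finset.smul_finset_inter, card_smul_points]
        exact hfamI g hg
      · obtain ⟨hτp, hτq⟩ := lift22_fix e σ
        have hSp : ∀ x, (x = p ∨ x = q) → (x ∈ τ • g ↔ x ∈ g) := by
          intro x hx
          have hfix : τ x = x := by rcases hx with rfl | rfl <;> assumption
          conv_lhs => rw [← hfix]
          exact Finset.smul_mem_smul_finset_iff (a := τ)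
        set S := τ • g with hS
        have hXone : (p ∈ g ↔ q ∉ g) := by
          by_cases h1 : p ∈ g <;> by_cases h2 : q ∈ g
          · rw [inter_eq_right.2 (by simp [insert_subset_iff, h1, h2]), card_pair hpq] at hXd
            exact absurd hXd (by decide)
          · simp [h1, h2]
          · simp [h1, h2]
          · rw [show g ∩ {p, q} = ∅ by ext x; simp; rintro hx; constructor <;> rintro rfl <;> contradiction] at hXd
            simp at hXd
        have hkey : ∀ a b : GolayPt, a ≠ b → a ∈ g → b ∉ g → a ∈ S → b ∉ S →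
            (((Equiv.swap a b) • S) ∩ g).card + 1 = (S ∩ g).card := by
          intro a b hab ha hb haS hbS
          have hset : ((Equiv.swap a b) • S) ∩ g = (S ∩ g).erase a := by
            ext x
            simp only [mem_inter, mem_erase, Finset.smul_finset_def, mem_image]
            constructor
            · rintro ⟨⟨y, hy, rfl⟩, hx⟩
              rcases eq_or_ne y a with rfl | hya
              · simp [hb] at hx
              rcases eq_or_ne y b with rfl | hyb
              · exact absurd hy hbS
              simp only [Equiv.Perm.smul_def, Equiv.swap_apply_of_ne_of_ne hya hyb] at hx ⊢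
              exact ⟨hya, hy, hx⟩
            · rintro ⟨hxa, hxS, hx⟩
              exact ⟨⟨x, hxS, Equiv.swap_apply_of_ne_of_ne hxa fun h => hbS (h ▸ hxS)⟩, hx⟩
          rw [hset, card_erase_add_one (mem_inter.2 ⟨haS, ha⟩)]
        rw [mul_smul, ← hS]
        rw [Nat.odd_iff] at hod
        rw [Nat.even_iff]
        by_cases hp : p ∈ g
        · have := hkey p q hpq hp (hXone.1 hp) ((hSp p (Or.inl rfl)).2 hp) fun h => hXone.1 hp ((hSp q (Or.inr rfl)).1 h)
          change (sw • S ∩ g).card + 1 = _ at this
          omega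
        · have hq : q ∈ g := not_not.1 fun h => hp (hXone.2 h)
          have := hkey q p hpq.symm hq hp ((hSp q (Or.inr rfl)).2 hq) fun h => hp ((hSp p (Or.inl rfl)).1 h)
          rw [Equiv.swap_comm q p] at this
          change (sw • S ∩ g).card + 1 = _ at this
          omega

/-- A permutation in M24 moving the pair of a first system to that of a second gives an isomorphism. -/
theorem aut_of_M24_pair [Fintype α] {B : Set (Finset α)} {e : Option (Option α) ≃ GolayPt}
    (he : (fun b => (ins2 b).image e) '' B = {o | o ∈ octads ∧ e none ∈ o ∧ e (some none) ∈ o})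
    {σ : Equiv.Perm α} {g : Equiv.Perm GolayPt} (hg : g ∈ M24)
    (h : lift22 e σ = g ∨ lift22 e σ = Equiv.swap (e none) (e (some none)) * g) : σ ∈ setSystemAut B := by
  refine mem_setSystemAut_of_subset fun b hb => ?_
  have hp : e none ∈ (ins2 (σ • b)).image e := mem_image.2 ⟨none, by simp [ins2], rfl⟩
  have hq : e (some none) ∈ (ins2 (σ • b)).image e := mem_image.2 ⟨some none, by simp [ins2], rfl⟩
  have hm : (ins2 (σ • b)).image e ∈ octads := by
    have ho := smul_octad_mem hg (he.subset ⟨b, hb, rfl⟩).1
    rcases h with h | h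
    · rwa [← h, lift22_smul] at ho
    · have heq : g = Equiv.swap (e none) (e (some none)) * lift22 e σ := by
        rw [h, ← mul_assoc, Equiv.swap_mul_self, one_mul]
      rw [heq, mul_smul, lift22_smul] at ho
      rwa [show Equiv.swap (e none) (e (some none)) • (ins2 (σ • b)).image e = (ins2 (σ • b)).image e from by
        apply eq_of_subset_of_card_le _ (card_smul_points _ _).ge
        intro x hx
        obtain ⟨a, ha, rfl⟩ := mem_image.1 hx
        rcases eq_or_ne a (e none) with rfl | hap
        · simpa using hq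
        rcases eq_or_ne a (e (some none)) with rfl | haq
        · simpa using hp
        simpa [Equiv.swap_apply_of_ne_of_ne hap haq] using ha] at ho
  have hmem : (ins2 (σ • b)).image e ∈ {o | o ∈ octads ∧ e none ∈ o ∧ e (some none) ∈ o} := ⟨hm, hp, hq⟩
  rw [← he] at hmem
  obtain ⟨c, hc, hce⟩ := hmem
  exact insertNone.injective (insertNone.injective (image_injective e.injective hce)) ▸ hc

theorem steiner_622_iso [Fintype α] [Fintype β] (hα : Fintype.card α = 22) (hβ : Fintype.card β = 22)
    {B : Set (Finset α)} {B' : Set (Finset β)} (hB : IsSteinerSystem 3 6 B) (hB' : IsSteinerSystem 3 6 B') :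
    SetSystemIso B B' := by
  obtain ⟨e, X, he, -⟩ := steiner_622_octads hα hB
  obtain ⟨e', X', he', -⟩ := steiner_622_octads hβ hB'
  have := M24_pretransitive_le 2 (by norm_num)
  have hne : e none ≠ e (some none) := fun h => Option.some_ne_none _ (e.injective h).symm
  have hne' : e' none ≠ e' (some none) := fun h => Option.some_ne_none _ (e'.injective h).symm
  obtain ⟨g, hg1, hg2⟩ := MulAction.is_two_pretransitive_iff.1 this hne hne'
  obtain ⟨g, hg⟩ := g
  have hg1' : g (e none) = e' none := hg1
  have hg2' : g (e (some none)) = e' (some none) := hg2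
  set f : Option (Option α) ≃ Option (Option β) := (e.trans g).trans e'.symm
  have hf0 : f none = none := by
    show e'.symm (g (e none)) = none; rw [hg1', Equiv.symm_apply_apply]
  have hf1 : f (some none) = some none := by
    show e'.symm (g (e (some none))) = some none; rw [hg2', Equiv.symm_apply_apply]
  have hfs : ∀ a, some (Equiv.removeNone f a) = f (some a) := fun a =>
    Equiv.removeNone_some f (Option.ne_none_iff_exists'.1 fun hn => Option.some_ne_none a (f.injective (hn.trans hf0.symm)))
  set f1 := Equiv.removeNone f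
  have hf10 : f1 none = none := Option.some_injective _ ((hfs none).trans hf1)
  have hfs1 : ∀ a, some (Equiv.removeNone f1 a) = f1 (some a) := fun a =>
    Equiv.removeNone_some f1 (Option.ne_none_iff_exists'.1 fun hn => Option.some_ne_none a (f1.injective (hn.trans hf10.symm)))
  refine ⟨Equiv.removeNone f1, ?_⟩
  have hins : ∀ b : Finset α, (ins2 (b.image (Equiv.removeNone f1))).image e' = g • (ins2 b).image e := by
    intro b
    have h1 : ins2 (b.image (Equiv.removeNone f1)) = (ins2 b).image f := by
      ext x
      simp only [ins2, mem_image]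
      constructor
      · intro hx
        rcases x with _ | _ | y
        · exact ⟨none, by simp, hf0⟩
        · exact ⟨some none, by simp, hf1⟩
        · simp only [some_mem_insertNone, mem_image] at hx
          obtain ⟨a, ha, rfl⟩ := hx
          exact ⟨some (some a), by simpa using ha, by rw [← hfs, hfs1]⟩
      · rintro ⟨a, ha, rfl⟩
        rcases a with _ | _ | a
        · simp [hf0]
        · simp [hf1]
        · rw [← hfs, ← hfs1]
          simp only [some_mem_insertNone, mem_image] at ha ⊢
          exact ⟨a, ha, rfl⟩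
    rw [h1, Finset.smul_finset_def, image_image, image_image]
    exact image_congr fun a _ => by simp [f]
  apply ((image_injective e'.injective).comp (insertNone.injective.comp insertNone.injective)).image_injective
  rw [Set.image_image]
  refine Eq.trans (Set.image_congr fun b _ => hins b) ?_
  show (fun b => g • (ins2 b).image e) '' B = (fun b => (ins2 b).image e') '' B'
  rw [← Set.image_image (fun o => g • o), he, he']
  ext o
  simp only [Set.mem_image, Set.mem_setOf_eq]
  constructor
  · rintro ⟨o, ⟨ho, hp, hq⟩, rfl⟩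
    exact ⟨smul_octad_mem hg ho, hg1' ▸ Finset.smul_mem_smul_finset hp, hg2' ▸ Finset.smul_mem_smul_finset hq⟩
  · rintro ⟨ho, hp, hq⟩
    refine ⟨g⁻¹ • o, ⟨smul_octad_mem (inv_mem hg) ho, ?_, ?_⟩, smul_inv_smul _ _⟩ <;>
      rw [Finset.mem_inv_smul_finset_iff]
    · exact (show g • e none = e' none from hg1') ▸ hp
    · exact (show g • e (some none) = e' (some none) from hg2') ▸ hq

theorem steiner_622_aut [Fintype α] (hα : Fintype.card α = 22) {B : Set (Finset α)} (hB : IsSteinerSystem 3 6 B) :
    Nat.card (setSystemAut B) = 887040 ∧ IsMultiplyPretransitive (setSystemAut B) α 3 ∧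
      ∃ H : Subgroup (setSystemAut B), H.index = 2 ∧ IsM22 H := by
  obtain ⟨e, X, he, hX, hXd, hsep⟩ := steiner_622_octads hα hB
  set p := e none with hp
  set q := e (some none) with hq
  have hpq : p ≠ q := fun h => Option.some_ne_none _ (e.injective h).symm
  set sw := Equiv.swap p q with hsw
  set L : setSystemAut B →* Equiv.Perm GolayPt := (lift22 e).comp (setSystemAut B).subtype with hL
  set H : Subgroup (setSystemAut B) := M24.comap L with hH
  have hswM : sw ∉ M24 := by
    intro h
    have h4 : {o | o ∈ octads ∧ ({p} : Finset GolayPt) ⊆ o}.ncard ≠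
        {o | o ∈ octads ∧ ({p, q} : Finset GolayPt) ⊆ o}.ncard := by
      rw [octads_count (by simp), octads_count (by rw [card_pair hpq]; norm_num), card_pair hpq, card_singleton]
      decide
    obtain ⟨o, ho, hpo, hqo⟩ : ∃ o ∈ octads, p ∈ o ∧ q ∉ o := by
      by_contra hall
      push Not at hall
      exact h4 (congrArg Set.ncard (Set.ext fun o => by
        simp only [Set.mem_setOf_eq, singleton_subset_iff, insert_subset_iff]
        exact ⟨fun ⟨a, b⟩ => ⟨a, b, hall o a b⟩, fun ⟨a, b, _⟩ => ⟨a, b⟩⟩))
    have hint : ((sw • o) ∩ o).card = 7 := by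
      have : (sw • o) ∩ o = o.erase p := by
        ext x
        simp only [mem_inter, mem_erase, Finset.smul_finset_def, mem_image]
        constructor
        · rintro ⟨⟨y, hy, rfl⟩, hx⟩
          rcases eq_or_ne y p with rfl | hyp
          · simp [sw, hqo] at hx
          have hyq : y ≠ q := fun h => hqo (h ▸ hy)
          simp only [Equiv.Perm.smul_def, sw, Equiv.swap_apply_of_ne_of_ne hyp hyq] at hx ⊢
          exact ⟨hyp, hx⟩
        · rintro ⟨hxp, hx⟩
          exact ⟨⟨x, hx, Equiv.swap_apply_of_ne_of_ne hxp fun h => hqo (h ▸ hx)⟩, hx⟩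
      rw [this, card_erase_of_mem hpo, ho.2]
    exact (by decide : ¬ Even 7) (hint ▸ supports_even_inter (smul_octad_mem h ho).1 ho.1)
  have hcomm : ∀ σ, sw * lift22 e σ = lift22 e σ * sw := fun σ => by
    obtain ⟨h1, h2⟩ := lift22_fix e σ
    rw [hsw, Equiv.mul_swap_eq_swap_mul, h1, h2]
  have hdich : ∀ σ : setSystemAut B, L σ ∈ M24 ∨ sw * L σ ∈ M24 := fun σ => lift22_dichotomy hα hB he hX hXd hsep σ.2
  have htr := M24_pretransitive_le 2 (by norm_num)
  obtain ⟨⟨g0, hg0⟩, h0p, h0q⟩ := MulAction.is_two_pretransitive_iff.1 htr hpq hpq.symm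
  have h0p' : g0 p = q := h0p
  have h0q' : g0 q = p := h0q
  obtain ⟨σ0, hσ0⟩ := exists_lift22 e (g := sw * g0)
    (by show sw (g0 p) = p; rw [h0p', hsw, Equiv.swap_apply_right])
    (by show sw (g0 q) = q; rw [h0q', hsw, Equiv.swap_apply_left])
  have hσ0mem : σ0 ∈ setSystemAut B := aut_of_M24_pair he hg0 (Or.inr hσ0)
  have hindex : H.index = 2 := by
    rw [Subgroup.index_eq_two_iff]
    refine ⟨⟨σ0, hσ0mem⟩, fun b => ?_⟩
    simp only [hH, Subgroup.mem_comap, map_mul]
    have hL0 : L ⟨σ0, hσ0mem⟩ = sw * g0 := hσ0
    rw [hL0]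
    rcases hdich b with hb | hb
    · refine Or.inr ⟨hb, fun h => hswM ?_⟩
      have := mul_mem (inv_mem hb) h
      rw [inv_mul_cancel_left] at this
      simpa using mul_mem this (inv_mem hg0)
    · refine Or.inl ⟨?_, fun h => hswM ?_⟩
      · rw [← mul_assoc, show L b * sw = sw * L b from (hcomm _).symm]
        exact mul_mem hb hg0
      · simpa using mul_mem hb (inv_mem h)
  let ψ : H →* ↥(MulAction.stabilizer M24 p ⊓ MulAction.stabilizer M24 q) :=
    { toFun := fun σ => ⟨⟨L σ.1, σ.2⟩, (lift22_fix e σ.1.1).1, (lift22_fix e σ.1.1).2⟩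
      map_one' := Subtype.ext (Subtype.ext (map_one L))
      map_mul' := fun σ τ => Subtype.ext (Subtype.ext (map_mul L _ _)) }
  have hψ : Function.Bijective ψ := by
    refine ⟨fun σ τ h => Subtype.ext (Subtype.ext (lift22_injective e
      (congrArg (fun x : ↥(MulAction.stabilizer M24 p ⊓ MulAction.stabilizer M24 q) => x.1.1) h))), fun g => ?_⟩
    obtain ⟨σ, hσ⟩ := exists_lift22 e (g := g.1.1) g.2.1 g.2.2
    refine ⟨⟨⟨σ, aut_of_M24_pair he g.1.2 (Or.inl hσ)⟩, ?_⟩, Subtype.ext (Subtype.ext hσ)⟩
    show lift22 e σ ∈ M24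
    rw [hσ]; exact g.1.2
  let Ψ := MulEquiv.ofBijective ψ hψ
  have hHM : IsM22 H := by
    refine ⟨?_, ?_⟩
    · have := isSimple_two_stabilizer hpq
      exact Ψ.isSimpleGroup_congr.2 this
    · rw [Nat.card_congr Ψ.toEquiv, card_two_stabilizer hpq]
  refine ⟨?_, ?_, H, hindex, hHM⟩
  · rw [← Subgroup.card_mul_index H, hindex, hHM.2]
  · have := M24_five_transitive
    rw [MulAction.isMultiplyPretransitive_iff]
    intro x y
    let extend : (Fin 3 ↪ α) → (Fin 5 ↪ GolayPt) := fun z =>
      ⟨Fin.cons (e none) (Fin.cons (e (some none)) fun i => e (some (some (z i)))), Fin.cons_injective_iff.2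
        ⟨by
          rintro ⟨i, hi⟩
          rcases Fin.eq_zero_or_eq_succ i with rfl | ⟨j, rfl⟩
          · exact Option.some_ne_none _ (e.injective hi)
          · exact Option.some_ne_none _ (e.injective hi),
        Fin.cons_injective_iff.2
        ⟨by rintro ⟨i, hi⟩; exact Option.some_ne_none _ (Option.some_injective _ (e.injective hi)),
          fun i j h => z.injective (Option.some_injective _ (Option.some_injective _ (e.injective h)))⟩⟩⟩
    obtain ⟨⟨g, hgM⟩, hg⟩ := MulAction.exists_smul_eq M24 (extend x) (extend y)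
    have hpt : ∀ i, g (extend x i) = extend y i := fun i => congrArg (fun f : Fin 5 ↪ GolayPt => f i) hg
    obtain ⟨σ, hσ⟩ := exists_lift22 e (g := g) (by simpa [extend] using hpt 0) (by simpa [extend] using hpt 1)
    refine ⟨⟨σ, aut_of_M24_pair he hgM (Or.inl hσ)⟩, ?_⟩
    ext i
    show σ (x i) = y i
    have := hpt i.succ.succ
    simp [extend, ← hσ, lift22_apply] at this
    exact this

end Cfsg.Lib.Concrete
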