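import Cfsg.Agent.Lib.Concrete.MTwelveSearch
import Cfsg.Agent.Lib.Concrete.SteinerAut
import Cfsg.Agent.Lib.Concrete.Quartets
import Cfsg.Agent.Lib.Concrete.Mathieu

/-!
Uniqueness and automorphism groups of S(5, 6, 12) and S(4, 5, 11).
-/

set_option autoImplicit false
set_option maxRecDepth 20000

namespace Cfsg.Lib.Concrete

open Finset
open scoped Pointwise
open MulAction (stabilizer)

/-- A mask of twelve places as a set of labels. -/
def set12 (m : ℕ) : Finset (Fin 12) := univ.filter fun i => m.testBit i.val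

theorem mem_set12 {m : ℕ} {i : Fin 12} : i ∈ set12 m ↔ m.testBit i.val = true := by simp [set12]

/-- The mask of a set of labels. -/
def mask12 (S : Finset (Fin 12)) : ℕ := orMask bits24 (fun i => decide (i < 12 ∧ Fin.ofNat 12 i ∈ S)) id

theorem mask12_lt (S : Finset (Fin 12)) : mask12 S < 4096 := by
  show _ < 2 ^ 12
  apply orMask_lt
  intro i _ hi
  exact (of_decide_eq_true hi).1

theorem testBit_mask12 (S : Finset (Fin 12)) (i : Fin 12) : (mask12 S).testBit i.val = true ↔ i ∈ S := by
  rw [mask12, testBit_orMask]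
  constructor
  · rintro ⟨j, _, hj, he⟩
    obtain ⟨hlt, hj⟩ := of_decide_eq_true hj
    convert hj using 1
    exact Fin.ext (by simp only [id_eq] at he; simp [he, Nat.mod_eq_of_lt i.isLt])
  · intro hi
    exact ⟨i.val, mem_bits24.2 (by omega), decide_eq_true ⟨i.isLt, by convert hi using 1; exact Fin.ext (by simp)⟩, rfl⟩

theorem set12_mask12 (S : Finset (Fin 12)) : set12 (mask12 S) = S := by
  ext i; rw [mem_set12, testBit_mask12]

theorem set12_inj {a b : ℕ} (ha : a < 4096) (hb : b < 4096) (h : set12 a = set12 b) : a = b := by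
  apply Nat.eq_of_testBit_eq
  intro i
  by_cases hi : i < 12
  · have := Finset.ext_iff.1 h ⟨i, hi⟩
    simp only [mem_set12] at this
    exact Bool.eq_iff_iff.2 this
  · have hle : 2 ^ 12 ≤ 2 ^ i := Nat.pow_le_pow_right (by norm_num) (by omega)
    rw [Nat.testBit_lt_two_pow (lt_of_lt_of_le (show a < 2 ^ 12 from ha) hle),
      Nat.testBit_lt_two_pow (lt_of_lt_of_le (show b < 2 ^ 12 from hb) hle)]

theorem set12_and (a b : ℕ) : set12 (a &&& b) = set12 a ∩ set12 b := by
  ext i; simp [mem_set12]

theorem card_set12 {m : ℕ} (hm : m < 4096) : (set12 m).card = pcnt m := by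
  rw [← mcnt_eq_pcnt, mcnt, List.countP_eq_length_filter,
    ← List.toFinset_card_of_nodup ((show bits24.Nodup by decide).filter _)]
  refine card_bij (fun i _ => i.val) (fun i hi => ?_) (fun a _ b _ h => Fin.ext h) fun i hi => ?_
  · simp only [List.mem_toFinset, List.mem_filter, mem_bits24]
    exact ⟨by omega, mem_set12.1 hi⟩
  · simp only [List.mem_toFinset, List.mem_filter, mem_bits24] at hi
    have h12 : i < 12 := by
      by_contra h
      rw [Nat.testBit_lt_two_pow (lt_of_lt_of_le (show m < 2 ^ 12 from hm)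
        (Nat.pow_le_pow_right (by norm_num) (not_lt.1 h)))] at hi
      exact Bool.false_ne_true hi.2
    exact ⟨⟨i, h12⟩, mem_set12.2 hi.2, rfl⟩

theorem card_mask12 (S : Finset (Fin 12)) : pcnt (mask12 S) = S.card := by
  rw [← card_set12 (mask12_lt S), set12_mask12]

/-- The tabulated S(5, 6, 12). -/
def hexStd : Set (Finset (Fin 12)) := set12 '' {m | m ∈ hex132}

theorem hex132_check : hex132.Nodup ∧ hex132.length = 132 ∧
    (hex132.all fun m => decide (m < 4096) && Nat.beq (pcnt m) 6) = true := by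
  refine ⟨by decide +kernel, rfl, by decide +kernel⟩

theorem hexStd_ncard : hexStd.ncard = 132 := by
  have h : hexStd = (hex132.toFinset.image set12 : Finset (Finset (Fin 12))) := by ext s; simp [hexStd]
  have hlt : ∀ m ∈ hex132, m < 4096 := fun m hm => by
    have := List.all_eq_true.1 hex132_check.2.2 m hm
    simp only [Bool.and_eq_true, decide_eq_true_eq] at this
    exact this.1
  rw [h, Set.ncard_coe_finset, card_image_of_injOn, List.toFinset_card_of_nodup hex132_check.1, hex132_check.2.1]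
  intro a ha b hb
  exact set12_inj (hlt a (by simpa using ha)) (hlt b (by simpa using hb))

/-- A table as a map of labels. -/
def tabFun (g : List ℕ) (i : Fin 12) : Fin 12 := Fin.ofNat 12 (g.getD i.val 0)

theorem tables_check : ((hexPerms ++ hexAuts).all fun g =>
      decide (Function.Injective (tabFun g)) && (List.range 12).all fun i => Nat.blt (g.getD i 0) 12) = true ∧
    (hexAuts.all fun g => hex132.all fun b => hex132.any (Nat.beq (img12 g b))) = true ∧
    (hexPerms.all fun g => hexAuts.any fun h => (List.range 5).all fun i => Nat.beq (h.getD (g.getD i 0) 0) i) = true := by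
  unfold Function.Injective
  decide +kernel

theorem exists_perm_tab {g : List ℕ} (hg : g ∈ hexPerms ++ hexAuts) :
    ∃ π : Equiv.Perm (Fin 12), (∀ i, (π i).val = g.getD i.val 0) ∧
      ∀ m, (set12 m).image π = set12 (img12 g m) := by
  have h := List.all_eq_true.1 tables_check.1 g hg
  simp only [Bool.and_eq_true, decide_eq_true_eq, List.all_eq_true, List.mem_range, Nat.blt_eq] at h
  refine ⟨Equiv.ofBijective (tabFun g) h.1.bijective_of_finite, fun i => Nat.mod_eq_of_lt (h.2 i i.isLt), fun m => ?_⟩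
  ext y
  rw [mem_image, mem_set12, img12, testBit_orMask]
  simp only [Bool.and_eq_true, Nat.blt_eq, mem_set12]
  constructor
  · rintro ⟨a, ha, rfl⟩
    exact ⟨a.val, mem_bits24.2 (by omega), ⟨a.isLt, ha⟩, (Nat.mod_eq_of_lt (h.2 a a.isLt)).symm⟩
  · rintro ⟨i, -, ⟨hi, hm⟩, hy⟩
    exact ⟨⟨i, hi⟩, hm, Fin.ext ((Nat.mod_eq_of_lt (h.2 i hi)).trans hy)⟩

variable {α : Type*} [Fintype α] [DecidableEq α]

theorem l5612_spec (hα : Fintype.card α = 12) : ∀ i ≤ 5, (fun i => [132, 66, 30, 12, 4, 1].getD i 0) i * (6 - i).choose (5 - i) =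
    (Fintype.card α - i).choose (5 - i) ∧ 0 < (6 - i).choose (5 - i) := by
  rw [hα]; decide

theorem steiner_5612_ncard (hα : Fintype.card α = 12) {B : Set (Finset α)} (hB : IsSteinerSystem 5 6 B) :
    B.ncard = 132 := by
  simpa using blocks_ncard hB _ (l5612_spec hα) (s := ∅) (by simp)

set_option maxHeartbeats 2000000 in
/-- Five distinct points extend to ten labelled points carrying four of the blocks. -/
theorem exists_labelling (hα : Fintype.card α = 12) {B : Set (Finset α)} (hB : IsSteinerSystem 5 6 B)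
    {a b c p q : α} (hab : a ≠ b) (hac : a ≠ c) (hap : a ≠ p) (haq : a ≠ q) (hbc : b ≠ c) (hbp : b ≠ p)
    (hbq : b ≠ q) (hcp : c ≠ p) (hcq : c ≠ q) (hpq : p ≠ q) :
    ∃ f : Fin 10 ↪ α, (f 0 = a ∧ f 1 = b ∧ f 2 = c ∧ f 3 = p ∧ f 4 = q) ∧
      ∀ L ∈ ([[0, 1, 2, 3, 4, 5], [0, 1, 2, 3, 6, 7], [0, 1, 2, 4, 6, 9], [0, 1, 2, 5, 6, 8]] : List (List (Fin 10))),
        (L.map f).toFinset ∈ B := by
  classical
  have six : ∀ F : Finset α, F.card = 5 → ∃ z, z ∉ F ∧ insert z F ∈ B ∧ ∀ b ∈ B, F ⊆ b → b = insert z F := by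
    intro F hF
    obtain ⟨b, ⟨hb, hFb⟩, hu⟩ := hB.2 F hF
    have hc : (b \ F).card = 1 := by rw [card_sdiff_of_subset hFb, hB.1 b hb, hF]
    obtain ⟨z, hz⟩ := card_eq_one.1 hc
    have hz' : z ∈ b \ F := hz ▸ mem_singleton_self z
    have he : insert z F = b := eq_of_subset_of_card_le (insert_subset (mem_sdiff.1 hz').1 hFb)
      (by rw [hB.1 b hb, card_insert_of_notMem (mem_sdiff.1 hz').2, hF])
    exact ⟨z, (mem_sdiff.1 hz').2, he.symm ▸ hb, fun c hc hFc => (hu c ⟨hc, hFc⟩).trans he.symm⟩
  -- two blocks with five common points are equal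
  have meet : ∀ b ∈ B, ∀ c ∈ B, ∀ F : Finset α, F.card = 5 → F ⊆ b → F ⊆ c → b = c := by
    intro b hb c hc F hF h1 h2
    obtain ⟨z, -, -, hu⟩ := six F hF
    exact (hu b hb h1).trans (hu c hc h2).symm
  obtain ⟨r, hr, h1, -⟩ := six {a, b, c, p, q} (by simp [*])
  simp only [mem_insert, mem_singleton, not_or] at hr
  obtain ⟨s, hs⟩ : ∃ s, s ∉ insert r ({a, b, c, p, q} : Finset α) := by
    by_contra h
    push Not at h
    have := card_le_card (fun z _ => h z : (univ : Finset α) ⊆ _)
    rw [card_univ, hα, hB.1 _ h1] at this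
    omega
  simp only [mem_insert, mem_singleton, not_or] at hs
  obtain ⟨hsr, hsa, hsb, hsc, hsp, hsq⟩ := hs
  obtain ⟨hra, hrb, hrc, hrp, hrq⟩ := hr
  obtain ⟨t, ht, h2, -⟩ := six {a, b, c, p, s} (by simp [*, Ne.symm hsa, Ne.symm hsb, Ne.symm hsc, Ne.symm hsp])
  obtain ⟨u, hu, h3, -⟩ := six {a, b, c, q, s} (by simp [*, Ne.symm hsa, Ne.symm hsb, Ne.symm hsc, Ne.symm hsq])
  obtain ⟨v, hv, h4, -⟩ := six {a, b, c, r, s}
    (by simp [*, Ne.symm hsa, Ne.symm hsb, Ne.symm hsc, Ne.symm hsr, Ne.symm hra, Ne.symm hrb, Ne.symm hrc])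
  simp only [mem_insert, mem_singleton, not_or] at ht hu hv
  obtain ⟨hta, htb, htc, htp, hts⟩ := ht
  obtain ⟨hua, hub, huc, huq, hus⟩ := hu
  obtain ⟨hva, hvb, hvc, hvr, hvs⟩ := hv
  have notboth : ∀ {X Y : Finset α}, X ∈ B → Y ∈ B → ∀ {y : α}, y ∈ Y → y ∉ X → ∀ {F : Finset α}, F.card = 5 →
      F ⊆ X → F ⊆ Y → False := fun hX hY y hy hyX F hF hFX hFY => hyX (meet _ hX _ hY F hF hFX hFY ▸ hy)
  have htq : t ≠ q := fun e => notboth h1 h2 (y := s) (by simp) (by simp [*]) (F := {a, b, c, p, q}) (by simp [*])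
    (subset_insert _ _) (by subst e; simp [insert_subset_iff])
  have htr : t ≠ r := fun e => notboth h1 h2 (y := s) (by simp) (by simp [*]) (F := {a, b, c, p, r})
    (by simp [*, Ne.symm hra, Ne.symm hrb, Ne.symm hrc, Ne.symm hrp]) (by simp [insert_subset_iff])
    (by subst e; simp [insert_subset_iff])
  have hup : u ≠ p := fun e => notboth h1 h3 (y := s) (by simp) (by simp [*]) (F := {a, b, c, p, q}) (by simp [*])
    (subset_insert _ _) (by subst e; simp [insert_subset_iff])
  have hur : u ≠ r := fun e => notboth h1 h3 (y := s) (by simp) (by simp [*]) (F := {a, b, c, q, r})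
    (by simp [*, Ne.symm hra, Ne.symm hrb, Ne.symm hrc, Ne.symm hrq]) (by simp [insert_subset_iff])
    (by subst e; simp [insert_subset_iff])
  have hut : u ≠ t := fun e => notboth h2 h3 (y := q) (by simp)
    (by simp [*, Ne.symm haq, Ne.symm hbq, Ne.symm hcq, Ne.symm hpq, Ne.symm htq, Ne.symm hsq]) (F := {a, b, c, s, t})
    (by simp [*, Ne.symm hsa, Ne.symm hsb, Ne.symm hsc, Ne.symm hta, Ne.symm htb, Ne.symm htc, Ne.symm hts])
    (by simp [insert_subset_iff]) (by subst e; simp [insert_subset_iff])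
  have hvp : v ≠ p := fun e => notboth h1 h4 (y := s) (by simp) (by simp [*]) (F := {a, b, c, p, r})
    (by simp [*, Ne.symm hra, Ne.symm hrb, Ne.symm hrc, Ne.symm hrp]) (by simp [insert_subset_iff])
    (by subst e; simp [insert_subset_iff])
  have hvq : v ≠ q := fun e => notboth h1 h4 (y := s) (by simp) (by simp [*]) (F := {a, b, c, q, r})
    (by simp [*, Ne.symm hra, Ne.symm hrb, Ne.symm hrc, Ne.symm hrq]) (by simp [insert_subset_iff])
    (by subst e; simp [insert_subset_iff])
  have hvt : v ≠ t := fun e => notboth h2 h4 (y := r) (by simp)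
    (by simp [*, Ne.symm htr, Ne.symm hsr]) (F := {a, b, c, s, t})
    (by simp [*, Ne.symm hsa, Ne.symm hsb, Ne.symm hsc, Ne.symm hta, Ne.symm htb, Ne.symm htc, Ne.symm hts])
    (by simp [insert_subset_iff]) (by subst e; simp [insert_subset_iff])
  have hvu : v ≠ u := fun e => notboth h3 h4 (y := r) (by simp)
    (by simp [*, Ne.symm hur, Ne.symm hsr]) (F := {a, b, c, s, u})
    (by simp [*, Ne.symm hsa, Ne.symm hsb, Ne.symm hsc, Ne.symm hua, Ne.symm hub, Ne.symm huc, Ne.symm hus])
    (by simp [insert_subset_iff]) (by subst e; simp [insert_subset_iff])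
  -- the labels
  let pts : List α := [a, b, c, p, q, r, s, t, v, u]
  have hnd : pts.Nodup := by
    simp [pts, *, Ne.symm hra, Ne.symm hrb, Ne.symm hrc, Ne.symm hrp, Ne.symm hrq, Ne.symm hsa, Ne.symm hsb,
      Ne.symm hsc, Ne.symm hsp, Ne.symm hsq, Ne.symm hsr, Ne.symm hta, Ne.symm htb, Ne.symm htc, Ne.symm htp,
      Ne.symm htq, Ne.symm htr, Ne.symm hts, Ne.symm hua, Ne.symm hub, Ne.symm huc, Ne.symm hup, Ne.symm huq,
      Ne.symm hur, Ne.symm hus, Ne.symm hva, Ne.symm hvb, Ne.symm hvc, Ne.symm hvp, Ne.symm hvq, Ne.symm hvr,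
      Ne.symm hvs, Ne.symm hvt, Ne.symm hut]
  let f : Fin 10 ↪ α := ⟨fun i => pts[i.val]'(show i.val < 10 from i.isLt),
    fun i j h => Fin.ext (hnd.getElem_inj_iff.1 h)⟩
  refine ⟨f, ⟨rfl, rfl, rfl, rfl, rfl⟩, ?_⟩
  simp only [List.forall_mem_cons, List.not_mem_nil, false_imp_iff, implies_true, and_true]
  refine ⟨?_, ?_, ?_, ?_⟩
  · convert h1 using 1; ext y; simp [f, pts]; tauto
  · convert h2 using 1; ext y; simp [f, pts]; tauto
  · convert h3 using 1; ext y; simp [f, pts]; tauto
  · convert h4 using 1; ext y; simp [f, pts]; tauto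

/-- Every S(5, 6, 12) is the tabulated one, with any five distinct points as the first five labels. -/
theorem hex_model (hα : Fintype.card α = 12) {B : Set (Finset α)} (hB : IsSteinerSystem 5 6 B) (x : Fin 5 ↪ α) :
    ∃ e : α ≃ Fin 12, (fun b => b.image e) '' B = hexStd ∧ ∀ i : Fin 5, (e (x i)).val = i.val := by
  classical
  have six : ∀ F : Finset α, F.card = 5 → ∃ z, z ∉ F ∧ insert z F ∈ B ∧ ∀ b ∈ B, F ⊆ b → b = insert z F := by
    intro F hF
    obtain ⟨b, ⟨hb, hFb⟩, hu⟩ := hB.2 F hF
    have hc : (b \ F).card = 1 := by rw [card_sdiff_of_subset hFb, hB.1 b hb, hF]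
    obtain ⟨z, hz⟩ := card_eq_one.1 hc
    have hz' : z ∈ b \ F := hz ▸ mem_singleton_self z
    have he : insert z F = b := eq_of_subset_of_card_le (insert_subset (mem_sdiff.1 hz').1 hFb)
      (by rw [hB.1 b hb, card_insert_of_notMem (mem_sdiff.1 hz').2, hF])
    exact ⟨z, (mem_sdiff.1 hz').2, he.symm ▸ hb, fun c hc hFc => (hu c ⟨hc, hFc⟩).trans he.symm⟩
  -- two blocks with five common points are equal
  have meet : ∀ b ∈ B, ∀ c ∈ B, ∀ F : Finset α, F.card = 5 → F ⊆ b → F ⊆ c → b = c := by
    intro b hb c hc F hF h1 h2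
    obtain ⟨z, -, -, hu⟩ := six F hF
    exact (hu b hb h1).trans (hu c hc h2).symm
  obtain ⟨f, ⟨hf0, hf1, hf2, hf3, hf4⟩, hblk⟩ := exists_labelling hα hB
    (a := x 0) (b := x 1) (c := x 2) (p := x 3) (q := x 4)
    (x.injective.ne (by decide)) (x.injective.ne (by decide)) (x.injective.ne (by decide)) (x.injective.ne (by decide))
    (x.injective.ne (by decide)) (x.injective.ne (by decide)) (x.injective.ne (by decide))
    (x.injective.ne (by decide)) (x.injective.ne (by decide)) (x.injective.ne (by decide))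
  let lab : Fin 10 ↪ Fin 12 := ⟨![0, 1, 2, 3, 4, 5, 6, 9, 10, 11], by decide⟩
  let e₀ : α ≃ Fin 12 := (Fintype.equivFin α).trans (finCongr hα)
  have := Equiv.Perm.isMultiplyPretransitive (Fin 12) 10
  obtain ⟨π, hπ⟩ := MulAction.exists_smul_eq (Equiv.Perm (Fin 12)) (f.trans e₀.toEmbedding) lab
  set e : α ≃ Fin 12 := e₀.trans π
  have hlab : ∀ i : Fin 10, e (f i) = lab i := fun i => congrArg (fun k : Fin 10 ↪ Fin 12 => k i) hπ
  set S : Finset ℕ := B.toFinite.toFinset.image fun z => mask12 (z.image e) with hS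
  have hinj : Function.Injective fun z : Finset α => mask12 (z.image e) := fun z w h =>
    image_injective e.injective (by rw [← set12_mask12 (z.image e), ← set12_mask12 (w.image e)]; exact congrArg set12 h)
  have hmem : ∀ m, m ∈ S ↔ ∃ z ∈ B, mask12 (z.image e) = m := fun m => by simp [hS]
  have hsys : Sys12 S := by
    refine ⟨fun T hT hT5 => ?_, fun m hm m' hm' hne' => ?_, ?_⟩
    · have hc : ((set12 T).image e.symm).card = 5 := by
        rw [card_image_of_injective _ e.symm.injective, card_set12 hT, hT5]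
      obtain ⟨z, hz, hzB, -⟩ := six _ hc
      have he : (insert z ((set12 T).image e.symm)).image e = insert (e z) (set12 T) := by
        rw [image_insert, image_image]; simp [Function.comp_def]
      have hzT : e z ∉ set12 T := fun h => hz (mem_image.2 ⟨_, h, e.symm_apply_apply z⟩)
      refine ⟨(e z).val, (e z).isLt, Bool.eq_false_iff.2 fun h => hzT (mem_set12.2 h),
        (hmem _).2 ⟨_, hzB, set12_inj (mask12_lt _) ?_ ?_⟩⟩
      · exact Nat.or_lt_two_pow (show T < 2 ^ 12 from hT) (Nat.pow_lt_pow_right (by norm_num) (e z).isLt)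
      · rw [set12_mask12, he]
        ext i
        simp only [mem_insert, mem_set12, Nat.testBit_or, Nat.testBit_two_pow, Bool.or_eq_true, decide_eq_true_eq,
          Fin.val_inj]
        tauto
    · obtain ⟨z, hz, rfl⟩ := (hmem m).1 hm
      obtain ⟨w, hw, rfl⟩ := (hmem m').1 hm'
      rw [← card_set12 (lt_of_le_of_lt Nat.and_le_left (mask12_lt _)), set12_and, set12_mask12, set12_mask12,
        ← image_inter _ _ e.injective, card_image_of_injective _ e.injective]
      by_contra hlt
      obtain ⟨F, hF, hF5⟩ := exists_subset_card_eq (show 5 ≤ (z ∩ w).card by omega)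
      exact hne' (by rw [meet z hz w hw F hF5 (hF.trans inter_subset_left) (hF.trans inter_subset_right)])
    · rw [hS, card_image_of_injective _ hinj, ← Set.ncard_eq_toFinset_card B, steiner_5612_ncard hα hB]
  have hblock : ∀ (m : ℕ) (L : List (Fin 10)), (L.map f).toFinset ∈ B → m < 4096 →
      set12 m = (L.map lab).toFinset → m ∈ S := fun m L hL hm he =>
    (hmem m).2 ⟨_, hL, set12_inj (mask12_lt _) hm (by
      rw [set12_mask12, he]
      ext i
      simp [hlab])⟩
  have hbase : ∀ m ∈ hexBase, m ∈ S := by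
    simp only [hexBase, List.forall_mem_cons, List.not_mem_nil, false_imp_iff, implies_true, and_true]
    exact ⟨hblock _ [0, 1, 2, 3, 4, 5] (hblk _ (by simp)) (by norm_num) (by decide +kernel),
      hblock _ [0, 1, 2, 3, 6, 7] (hblk _ (by simp)) (by norm_num) (by decide +kernel),
      hblock _ [0, 1, 2, 4, 6, 9] (hblk _ (by simp)) (by norm_num) (by decide +kernel),
      hblock _ [0, 1, 2, 5, 6, 8] (hblk _ (by simp)) (by norm_num) (by decide +kernel)⟩
  obtain ⟨g, hg, hgS⟩ := sys12_unique hsys hbase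
  obtain ⟨σ, hσ, hσi⟩ := exists_perm_tab (List.mem_append_left _ hg)
  obtain ⟨h, hh, hfix⟩ := List.any_eq_true.1 (List.all_eq_true.1 tables_check.2.2 g hg)
  obtain ⟨τ, hτ, hτi⟩ := exists_perm_tab (List.mem_append_right _ hh)
  refine ⟨(e.trans σ).trans τ, Set.eq_of_subset_of_ncard_le ?_ ?_ (Set.toFinite _), fun i => ?_⟩
  · rintro _ ⟨z, hz, rfl⟩
    show z.image ((e.trans σ).trans τ) ∈ hexStd
    have h1' := hgS _ ((hmem _).2 ⟨z, hz, rfl⟩)
    obtain ⟨y, hy, hye⟩ := List.any_eq_true.1 (List.all_eq_true.1 (List.all_eq_true.1 tables_check.2.1 h hh) _ h1')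
    rw [Nat.beq_eq] at hye
    refine ⟨y, hy, ?_⟩
    rw [← hye, ← hτi, ← hσi, set12_mask12, image_image, image_image]
    rfl
  · rw [Set.ncard_image_of_injective B (image_injective ((e.trans σ).trans τ).injective),
      steiner_5612_ncard hα hB, hexStd_ncard]
  · have hfi := List.all_eq_true.1 hfix i.val (List.mem_range.2 i.isLt)
    rw [Nat.beq_eq] at hfi
    have hei : e (x i) = lab ⟨i.val, by omega⟩ := by
      rw [← hlab]
      congr 1
      fin_cases i
      exacts [hf0.symm, hf1.symm, hf2.symm, hf3.symm, hf4.symm]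
    show (τ (σ (e (x i)))).val = _
    rw [hτ, hσ, hei, show (lab ⟨i.val, by omega⟩).val = i.val by fin_cases i <;> rfl, hfi]

/-- Uniqueness of S(5, 6, 12). -/
theorem steiner_5612_iso {β : Type*} [Fintype β] [DecidableEq β] (hα : Fintype.card α = 12) (hβ : Fintype.card β = 12)
    {B : Set (Finset α)} {B' : Set (Finset β)} (hB : IsSteinerSystem 5 6 B) (hB' : IsSteinerSystem 5 6 B') :
    SetSystemIso B B' := by
  obtain ⟨x⟩ := Function.Embedding.nonempty_of_card_le (α := Fin 5) (β := α) (by simp [hα])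
  obtain ⟨y⟩ := Function.Embedding.nonempty_of_card_le (α := Fin 5) (β := β) (by simp [hβ])
  obtain ⟨e, he, -⟩ := hex_model hα hB x
  obtain ⟨e', he', -⟩ := hex_model hβ hB' y
  refine ⟨e.trans e'.symm, (image_injective e'.injective).image_injective ?_⟩
  rw [Set.image_image, he', ← he]
  refine Set.image_congr fun z _ => ?_
  rw [image_image]
  exact image_congr fun w _ => by simp

/-! ### The automorphism group -/

/-- The lists of distinct entries of a given length. -/
def seqs : ℕ → List ℕ → List (List ℕ)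
  | 0, _ => [[]]
  | n + 1, av => av.flatMap fun a => (seqs n (av.erase a)).map (a :: ·)

theorem mem_seqs : ∀ (l av : List ℕ), l.Nodup → l ⊆ av → l ∈ seqs l.length av := by
  intro l
  induction l with
  | nil => intro av _ _; simp [seqs]
  | cons a l ih =>
    intro av hnd hs
    rw [List.length_cons, seqs, List.mem_flatMap]
    refine ⟨a, hs List.mem_cons_self, List.mem_map.2 ⟨l, ih _ (List.nodup_cons.1 hnd).2 fun y hy => ?_, rfl⟩⟩
    refine (List.mem_erase_of_ne ?_).2 (hs (List.mem_cons_of_mem _ hy))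
    rintro rfl
    exact (List.nodup_cons.1 hnd).1 hy

theorem sharp_check : ((seqs 7 [5, 6, 7, 8, 9, 10, 11]).all fun l => l == [5, 6, 7, 8, 9, 10, 11] ||
    hex132.any fun b => !hex132.any (Nat.beq (img12 ([0, 1, 2, 3, 4] ++ l) b))) = true := by
  decide +kernel

theorem hexStd_rigid {g : Equiv.Perm (Fin 12)} (hg : g ∈ setSystemAut hexStd) (hfix : ∀ i : Fin 12, i.val < 5 → g i = i) :
    g = 1 := by
  set l := [(g 5).val, (g 6).val, (g 7).val, (g 8).val, (g 9).val, (g 10).val, (g 11).val] with hl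
  have hmem : l ∈ seqs 7 [5, 6, 7, 8, 9, 10, 11] := by
    refine mem_seqs l _ ?_ ?_
    · simp only [hl, List.nodup_cons, List.mem_cons, List.not_mem_nil, or_false, not_or, Fin.val_inj, g.injective.eq_iff]
      decide
    · have hge : ∀ i : Fin 12, 5 ≤ i.val → (g i).val ∈ [5, 6, 7, 8, 9, 10, 11] := fun i hi => by
        have h5 : 5 ≤ (g i).val := by
          by_contra hlt
          have := g.injective (hfix (g i) (by omega))
          omega
        have := (g i).isLt
        simp only [List.mem_cons, List.not_mem_nil, or_false]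
        omega
      intro y hy
      simp only [hl, List.mem_cons, List.not_mem_nil, or_false] at hy
      rcases hy with rfl | rfl | rfl | rfl | rfl | rfl | rfl <;> exact hge _ (by decide)
  have htab : ∀ i : Fin 12, (g i).val = ([0, 1, 2, 3, 4] ++ l).getD i.val 0 := by
    intro i
    by_cases hi : i.val < 5
    · rw [hfix i hi]
      fin_cases i <;> simp_all
    · fin_cases i <;> simp_all
  have hc := List.all_eq_true.1 sharp_check l hmem
  rw [Bool.or_eq_true, beq_iff_eq] at hc
  rcases hc with h | h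
  · refine Equiv.ext fun i => Fin.ext ?_
    rw [htab, h]
    fin_cases i <;> rfl
  · exfalso
    obtain ⟨b, hb, hno⟩ := List.any_eq_true.1 h
    obtain ⟨m, hm, hme⟩ := smul_mem_of_setSystemAut hg (⟨b, hb, rfl⟩ : set12 b ∈ hexStd)
    have himg : g • set12 b = set12 (img12 ([0, 1, 2, 3, 4] ++ l) b) := by
      ext y
      rw [Finset.smul_finset_def, mem_image, mem_set12, img12, testBit_orMask]
      simp only [Bool.and_eq_true, Nat.blt_eq, mem_set12]
      constructor
      · rintro ⟨z, hz, rfl⟩
        exact ⟨z.val, mem_bits24.2 (by omega), ⟨z.isLt, hz⟩, (htab z).symm⟩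
      · rintro ⟨k, -, ⟨hk, hkb⟩, hky⟩
        exact ⟨⟨k, hk⟩, hkb, Fin.ext ((htab ⟨k, hk⟩).trans hky)⟩
    have hlt : img12 ([0, 1, 2, 3, 4] ++ l) b < 2 ^ 12 := orMask_lt _ _ _ fun k _ hk => by
      rw [Bool.and_eq_true, Nat.blt_eq] at hk
      rw [← htab ⟨k, hk.1⟩]
      exact (g _).isLt
    have hm4 := List.all_eq_true.1 hex132_check.2.2 m hm
    simp only [Bool.and_eq_true, decide_eq_true_eq] at hm4
    rw [Bool.not_eq_true', ← Bool.not_eq_true, List.any_eq_true] at hno
    exact hno ⟨m, hm, Nat.beq_eq ▸ (set12_inj hlt hm4.1 (himg.symm.trans hme.symm))⟩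

theorem hexStd_sharp : ∀ x : Fin 5 ↪ α, ∀ {B : Set (Finset α)}, Fintype.card α = 12 → IsSteinerSystem 5 6 B →
    stabilizer (setSystemAut B) x = ⊥ := by
  intro x B hα hB
  obtain ⟨e, he, hx⟩ := hex_model hα hB x
  refine (Subgroup.eq_bot_iff_forall _).2 fun g hg => Subtype.ext ?_
  have hg' : ∀ i, g.1 (x i) = x i := fun i => congrArg (fun k : Fin 5 ↪ α => k i) hg
  have h1 := hexStd_rigid ((mem_setSystemAut_congr e he g.1).1 g.2) fun i hi => by
    have h : e.symm i = x ⟨i.val, hi⟩ := by
      rw [Equiv.symm_apply_eq]; exact Fin.ext (hx ⟨i.val, hi⟩).symm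
    rw [Equiv.permCongr_apply, h, hg', ← h, Equiv.apply_symm_apply]
  exact e.permCongr.injective (h1.trans (Equiv.ext fun i => by simp))

theorem hex_transitive (hα : Fintype.card α = 12) {B : Set (Finset α)} (hB : IsSteinerSystem 5 6 B) :
    MulAction.IsMultiplyPretransitive (setSystemAut B) α 5 := by
  rw [MulAction.isMultiplyPretransitive_iff]
  intro x y
  obtain ⟨e, he, hx⟩ := hex_model hα hB x
  obtain ⟨e', he', hy⟩ := hex_model hα hB y
  have hmem : e.trans e'.symm ∈ setSystemAut B := by
    refine mem_setSystemAut_of_subset fun z hz => ?_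
    obtain ⟨w, hw, hwe⟩ : z.image e ∈ (fun z => z.image e') '' B := by rw [he', ← he]; exact ⟨z, hz, rfl⟩
    convert hw using 1
    apply image_injective e'.injective
    rw [show w.image e' = z.image e from hwe, Finset.smul_finset_def, image_image]
    exact image_congr fun u _ => by simp
  refine ⟨⟨_, hmem⟩, ?_⟩
  ext i
  show e'.symm (e (x i)) = y i
  rw [Equiv.symm_apply_eq]
  exact Fin.ext ((hx i).trans (hy i).symm)

theorem card_hex_aut (hα : Fintype.card α = 12) {B : Set (Finset α)} (hB : IsSteinerSystem 5 6 B) :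
    Nat.card (setSystemAut B) = 95040 := by
  obtain ⟨x⟩ := Function.Embedding.nonempty_of_card_le (α := Fin 5) (β := α) (by simp [hα])
  have := hex_transitive hα hB
  have horb : MulAction.orbit (setSystemAut B) x = Set.univ :=
    Set.eq_univ_of_forall fun y => MulAction.isMultiplyPretransitive_iff.1 this (x := x) (y := y)
  have h := Subgroup.card_mul_index (stabilizer (setSystemAut B) x)
  rw [hexStd_sharp x hα hB, Subgroup.card_bot, one_mul, ← hexStd_sharp x hα hB,
    MulAction.index_stabilizer] at h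
  have h2 : Nat.card (setSystemAut B) = (Set.univ : Set (Fin 5 ↪ α)).ncard :=
    h.symm.trans (congrArg Set.ncard horb)
  rw [h2, Set.ncard_univ, Nat.card_eq_fintype_card, Fintype.card_embedding_eq, hα, Fintype.card_fin]
  decide

/-- The labelled points of the base dodecad. -/
def dodPt (i : Fin 12) : GolayPt := gpt (Fin.ofNat 24 (dodLab.getD i.val 0))

theorem dodPt_check : Function.Injective dodPt ∧ (∀ i, dodPt i ∈ baseDodecad) ∧
    ((List.range 4096).all fun m => hexQ (img12 dodLab m) == hex132.any (Nat.beq m)) = true := by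
  refine ⟨by unfold Function.Injective; decide +kernel, by decide +kernel, by decide +kernel⟩

theorem dodLab_lt : ∀ i : Fin 12, dodLab.getD i.val 0 < 24 ∧ (gidx (dodPt i)).val = dodLab.getD i.val 0 := by
  decide +kernel

/-- The labelling of the base dodecad. -/
noncomputable def dodEquiv : Fin 12 ≃ ↥baseDodecad :=
  Equiv.ofBijective (fun i => ⟨dodPt i, dodPt_check.2.1 i⟩) ((Fintype.bijective_iff_injective_and_card _).2
    ⟨fun i j h => dodPt_check.1 (congrArg Subtype.val h), by
      rw [Fintype.card_fin, Fintype.card_coe, baseDodecad_mem.2]⟩)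

theorem hexadsOn_base_image (s : Finset (Fin 12)) : s.image dodPt ∈ hexadsOn baseDodecad ↔ s ∈ hexStd := by
  have hlt : img12 dodLab (mask12 s) < 2 ^ 24 := orMask_lt _ _ _ fun k _ hk => by
    rw [Bool.and_eq_true, Nat.blt_eq] at hk
    exact (dodLab_lt ⟨k, hk.1⟩).1
  have himg : s.image dodPt = mset (img12 dodLab (mask12 s)) := by
    ext y
    rw [mem_image, mem_mset, img12, testBit_orMask]
    simp only [Bool.and_eq_true, Nat.blt_eq]
    constructor
    · rintro ⟨i, hi, rfl⟩
      exact ⟨i.val, mem_bits24.2 (by omega), ⟨i.isLt, (testBit_mask12 s i).2 hi⟩, (dodLab_lt i).2.symm⟩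
    · rintro ⟨k, -, ⟨hk, hks⟩, hky⟩
      exact ⟨⟨k, hk⟩, (testBit_mask12 s ⟨k, hk⟩).1 hks,
        gidx_injective (Fin.ext ((dodLab_lt ⟨k, hk⟩).2.trans hky))⟩
  rw [himg, hexQ_iff hlt, eq_of_beq (List.all_eq_true.1 dodPt_check.2.2 _ (List.mem_range.2 (mask12_lt s))),
    List.any_eq_true]
  constructor
  · rintro ⟨m, hm, he⟩
    rw [Nat.beq_eq] at he
    exact ⟨m, hm, by rw [← he, set12_mask12]⟩
  · rintro ⟨m, hm, rfl⟩
    have hm4 := List.all_eq_true.1 hex132_check.2.2 m hm
    simp only [Bool.and_eq_true, decide_eq_true_eq] at hm4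
    exact ⟨m, hm, Nat.beq_eq ▸ set12_inj (mask12_lt _) hm4.1 (set12_mask12 _)⟩

/-- The labels of the dodecad points permuted by its stabiliser. -/
noncomputable def dodToStd : stabilizer M24 baseDodecad →* Equiv.Perm (Fin 12) where
  toFun g := dodEquiv.symm.permCongr (g.1.1.subtypePerm fun x => by
    have he : g.1.1 • baseDodecad = baseDodecad := g.2
    exact (Finset.ext_iff.1 he (g.1.1 x)).symm.trans (Finset.smul_mem_smul_finset_iff g.1.1))
  map_one' := Equiv.ext fun i => by simp [Equiv.permCongr_apply]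
  map_mul' a b := Equiv.ext fun i => by
    simp only [Equiv.permCongr_apply, Equiv.Perm.mul_apply, Equiv.symm_symm, Equiv.apply_symm_apply]
    rfl

theorem dodToStd_spec (g : stabilizer M24 baseDodecad) (i : Fin 12) : dodPt (dodToStd g i) = g.1.1 (dodPt i) := by
  have h : ∀ y : ↥baseDodecad, dodPt (dodEquiv.symm y) = y.1 := fun y =>
    congrArg Subtype.val (dodEquiv.apply_symm_apply y)
  show dodPt (dodEquiv.symm _) = _
  rw [h]
  rfl

theorem hexStd_steiner : IsSteinerSystem 5 6 hexStd := by
  refine ⟨?_, fun s hs => ?_⟩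
  · rintro _ ⟨m, hm, rfl⟩
    have hm4 := List.all_eq_true.1 hex132_check.2.2 m hm
    simp only [Bool.and_eq_true, decide_eq_true_eq, Nat.beq_eq] at hm4
    rw [card_set12 hm4.1, hm4.2]
  · have hchk : ((List.range 4096).all fun T => !Nat.beq (pcnt T) 5 ||
        Nat.beq (hex132.filter fun b => Nat.beq (Nat.land b T) T).length 1) = true := by decide +kernel
    have h := List.all_eq_true.1 hchk (mask12 s) (List.mem_range.2 (mask12_lt s))
    rw [Bool.or_eq_true, Bool.not_eq_true', ← Bool.not_eq_true, Nat.beq_eq, Nat.beq_eq, card_mask12] at h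
    obtain ⟨b, hb⟩ := List.length_eq_one_iff.1 (h.resolve_left fun hn => hn hs)
    have hiff : ∀ m ∈ hex132, (s ⊆ set12 m ↔ Nat.land m (mask12 s) = mask12 s) := fun m _ => by
      rw [← inter_eq_right]
      constructor
      · intro he
        refine set12_inj (lt_of_le_of_lt Nat.and_le_right (mask12_lt s)) (mask12_lt s) ?_
        rw [show Nat.land m (mask12 s) = m &&& mask12 s from rfl, set12_and, set12_mask12, he]
      · intro he
        conv_rhs => rw [← set12_mask12 s, ← he]
        rw [show Nat.land m (mask12 s) = m &&& mask12 s from rfl, set12_and, set12_mask12]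
    have hbm : b ∈ hex132.filter fun b => Nat.beq (Nat.land b (mask12 s)) (mask12 s) := by
      rw [hb]; exact List.mem_singleton_self b
    simp only [List.mem_filter, Nat.beq_eq] at hbm
    refine ⟨set12 b, ⟨⟨b, hbm.1, rfl⟩, (hiff b hbm.1).2 hbm.2⟩, ?_⟩
    rintro _ ⟨⟨m, hm, rfl⟩, hsm⟩
    have : m ∈ hex132.filter fun b => Nat.beq (Nat.land b (mask12 s)) (mask12 s) :=
      List.mem_filter.2 ⟨hm, Nat.beq_eq ▸ (hiff m hm).1 hsm⟩
    rw [hb, List.mem_singleton] at this
    rw [this]

theorem dodToStd_mem (g : stabilizer M24 baseDodecad) : dodToStd g ∈ setSystemAut hexStd := by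
  refine mem_setSystemAut_of_subset fun s hs => (hexadsOn_base_image _).1 ?_
  have h := smul_mem_hexadsOn g.1.2 ((hexadsOn_base_image s).2 hs)
  rw [show g.1.1 • baseDodecad = baseDodecad from g.2] at h
  convert h using 1
  rw [Finset.smul_finset_def, Finset.smul_finset_def, image_image, image_image]
  exact image_congr fun i _ => dodToStd_spec g i

theorem dodToStd_injective : Function.Injective dodToStd := by
  refine (injective_iff_map_eq_one _).2 fun g hg => Subtype.ext (Subtype.ext ?_)
  refine eq_one_of_nine_fixed g.1.2 (s := baseDodecad) (by rw [baseDodecad_mem.2]; norm_num) fun y hy => ?_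
  obtain ⟨i, hi⟩ := dodEquiv.surjective ⟨y, hy⟩
  have hy' : dodPt i = y := congrArg Subtype.val hi
  rw [← hy', ← dodToStd_spec, hg]
  rfl

/-- The stabiliser of a dodecad is the automorphism group of the tabulated system. -/
noncomputable def dodStdEquiv : stabilizer M24 baseDodecad ≃* setSystemAut hexStd :=
  MulEquiv.ofBijective (dodToStd.codRestrict _ dodToStd_mem) (by
    refine Function.Injective.bijective_of_nat_card_le
      (fun a b h => dodToStd_injective (congrArg Subtype.val h)) ?_
    rw [card_dod_stabilizer baseDodecad_mem, card_hex_aut (Fintype.card_fin 12) hexStd_steiner])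

/-- Conjugating the automorphism groups along an isomorphism. -/
def autEquivOfIso {β : Type*} [Fintype β] [DecidableEq β] (e : α ≃ β) {B : Set (Finset α)} {B' : Set (Finset β)}
    (he : (fun b => b.image e) '' B = B') : setSystemAut B ≃* setSystemAut B' where
  toFun σ := ⟨e.permCongr σ.1, (mem_setSystemAut_congr e he σ.1).1 σ.2⟩
  invFun g := ⟨e.permCongr.symm g.1, (mem_setSystemAut_congr e he _).2 (by rw [Equiv.apply_symm_apply]; exact g.2)⟩
  left_inv σ := Subtype.ext (e.permCongr.symm_apply_apply _)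
  right_inv g := Subtype.ext (e.permCongr.apply_symm_apply _)
  map_mul' σ τ := Subtype.ext (e.permCongrHom.map_mul σ.1 τ.1)

/-- The automorphism group of an S(5, 6, 12). -/
theorem steiner_5612_aut (hα : Fintype.card α = 12) {B : Set (Finset α)} (hB : IsSteinerSystem 5 6 B) :
    IsM12 (setSystemAut B) ∧ MulAction.IsMultiplyPretransitive (setSystemAut B) α 5 ∧
      ∀ x : Fin 5 ↪ α, stabilizer (setSystemAut B) x = ⊥ := by
  obtain ⟨x⟩ := Function.Embedding.nonempty_of_card_le (α := Fin 5) (β := α) (by simp [hα])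
  obtain ⟨e, he, -⟩ := hex_model hα hB x
  refine ⟨⟨?_, card_hex_aut hα hB⟩, hex_transitive hα hB, fun x => hexStd_sharp x hα hB⟩
  have := isSimple_dod_stabilizer baseDodecad_mem
  exact ((autEquivOfIso e he).trans dodStdEquiv.symm).isSimpleGroup_congr.2 this

/-! ### S(4, 5, 11) -/

/-- The extension of an S(4, 5, 11). -/
def ext11 (B : Set (Finset α)) : Set (Finset (Option α)) :=
  (fun b => insertNone b) '' B ∪ (fun b => bᶜ.map Function.Embedding.some) '' B

theorem disjoint_count (hα : Fintype.card α = 11) {B : Set (Finset α)} (hB : IsSteinerSystem 4 5 B) {T : Finset α}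
    (hT : T.card = 5) : ((blocksFinset B).filter fun b => Disjoint T b).card +
      ((blocksFinset B).filter fun b => T ⊆ b).card = 1 := by
  have hl : ∀ i ≤ 4, (fun i => [66, 30, 12, 4, 1].getD i 0) i * (5 - i).choose (4 - i) =
      (Fintype.card α - i).choose (4 - i) ∧ 0 < (5 - i).choose (4 - i) := by rw [hα]; decide
  have key : (((blocksFinset B).filter fun b => Disjoint T b).card : ℤ) =
      ∑ U ∈ T.powerset, (-1 : ℤ) ^ U.card * (((blocksFinset B).filter fun b => U ⊆ b).card : ℤ) := by
    simp only [card_filter, Nat.cast_sum, Finset.mul_sum]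
    rw [sum_comm]
    refine sum_congr rfl fun b _ => ?_
    have hpart : ∑ U ∈ T.powerset, (-1 : ℤ) ^ U.card * ((if U ⊆ b then 1 else 0 : ℕ) : ℤ) =
        ∑ U ∈ (T ∩ b).powerset, (-1 : ℤ) ^ U.card := by
      have hset : (T ∩ b).powerset = T.powerset.filter (· ⊆ b) := by
        ext U; simp only [mem_powerset, mem_filter, subset_inter_iff]
      rw [hset, sum_filter]
      exact sum_congr rfl fun U _ => by split_ifs <;> simp
    rw [hpart, sum_powerset_neg_one_pow_card]
    by_cases h : Disjoint T b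
    · rw [if_pos h, if_pos (disjoint_iff_inter_eq_empty.1 h)]; simp
    · rw [if_neg h, if_neg (fun he => h (disjoint_iff_inter_eq_empty.2 he))]; simp
  rw [sum_powerset, hT] at key
  simp only [sum_range_succ, sum_range_zero, zero_add] at key
  have hsum : ∀ j ≤ 4, ∑ U ∈ T.powersetCard j, (-1 : ℤ) ^ U.card * (((blocksFinset B).filter fun b => U ⊆ b).card : ℤ) =
      ((5).choose j : ℤ) * ((-1 : ℤ) ^ j * (([66, 30, 12, 4, 1].getD j 0 : ℕ) : ℤ)) := by
    intro j hj
    rw [sum_congr rfl (fun U hU => by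
      rw [(mem_powersetCard.1 hU).2, blocks_count hB _ hl (by rw [(mem_powersetCard.1 hU).2]; exact hj),
        (mem_powersetCard.1 hU).2]), sum_const, card_powersetCard, hT, nsmul_eq_mul]
  rw [hsum 0 (by norm_num), hsum 1 (by norm_num), hsum 2 (by norm_num), hsum 3 (by norm_num), hsum 4 le_rfl,
    show T.powersetCard 5 = {T} by rw [← hT, powersetCard_self], sum_singleton, hT] at key
  norm_num [show Nat.choose 5 2 = 10 from rfl, show Nat.choose 5 3 = 10 from rfl,
    show Nat.choose 5 4 = 5 from rfl] at key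
  omega

theorem ext11_steiner (hα : Fintype.card α = 11) {B : Set (Finset α)} (hB : IsSteinerSystem 4 5 B) :
    IsSteinerSystem 5 6 (ext11 B) := by
  classical
  refine ⟨?_, fun S hS => ?_⟩
  · rintro _ (⟨b, hb, rfl⟩ | ⟨b, hb, rfl⟩)
    · rw [card_insertNone, hB.1 b hb]
    · rw [card_map, card_compl, hB.1 b hb, hα]
  by_cases hn : (none : Option α) ∈ S
  · obtain ⟨b, ⟨hb, hsb⟩, hu⟩ := hB.2 (eraseNone S) (by
      have := card_eraseNone_add S
      rw [if_pos hn] at this
      omega)
    refine ⟨insertNone b, ⟨Or.inl ⟨b, hb, rfl⟩, ?_⟩, ?_⟩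
    · rintro (_ | z) hz
      · simp
      · simpa using hsb (mem_eraseNone.2 hz)
    · rintro _ ⟨(⟨c, hc, rfl⟩ | ⟨c, hc, rfl⟩), hSc⟩
      · refine congrArg _ (hu c ⟨hc, fun z hz => ?_⟩)
        simpa using hSc (mem_eraseNone.1 hz)
      · have := hSc hn
        simp at this
  · set T := eraseNone S with hTdef
    have hT : T.card = 5 := by
      have := card_eraseNone_add S
      rw [if_neg hn] at this
      rw [hTdef]; omega
    have hST : S = T.map Function.Embedding.some := by
      ext z; rcases z with _ | z <;> simp [hTdef, hn]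
    have h1 : ∀ c, S ⊆ insertNone c ↔ T ⊆ c := fun c => by
      constructor
      · intro h z hz; simpa using h (mem_eraseNone.1 hz)
      · intro h z hz
        rcases z with _ | z
        · exact absurd hz hn
        · simpa using h (mem_eraseNone.2 hz)
    have h2 : ∀ c : Finset α, S ⊆ cᶜ.map Function.Embedding.some ↔ Disjoint T c := fun c => by
      rw [hST, map_subset_map, subset_compl_iff_disjoint_right]
    have hcnt := disjoint_count hα hB hT
    rcases Nat.eq_zero_or_pos ((blocksFinset B).filter fun b => T ⊆ b).card with h0 | h0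
    · obtain ⟨b, hb⟩ := card_eq_one.1 (show ((blocksFinset B).filter fun b => Disjoint T b).card = 1 by omega)
      have hbm := mem_filter.1 (hb ▸ mem_singleton_self b : b ∈ (blocksFinset B).filter fun b => Disjoint T b)
      refine ⟨bᶜ.map Function.Embedding.some, ⟨Or.inr ⟨b, mem_blocksFinset.1 hbm.1, rfl⟩, (h2 b).2 hbm.2⟩, ?_⟩
      rintro _ ⟨(⟨c, hc, rfl⟩ | ⟨c, hc, rfl⟩), hSc⟩
      · exact absurd (mem_filter.2 ⟨mem_blocksFinset.2 hc, (h1 c).1 hSc⟩ : c ∈ _)
          (by rw [card_eq_zero.1 h0]; exact notMem_empty _)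
      · have : c ∈ (blocksFinset B).filter fun b => Disjoint T b := mem_filter.2 ⟨mem_blocksFinset.2 hc, (h2 c).1 hSc⟩
        rw [hb, mem_singleton] at this
        rw [this]
    · obtain ⟨b, hb⟩ := card_eq_one.1 (show ((blocksFinset B).filter fun b => T ⊆ b).card = 1 by omega)
      have hbm := mem_filter.1 (hb ▸ mem_singleton_self b : b ∈ (blocksFinset B).filter fun b => T ⊆ b)
      refine ⟨insertNone b, ⟨Or.inl ⟨b, mem_blocksFinset.1 hbm.1, rfl⟩, (h1 b).2 hbm.2⟩, ?_⟩
      rintro _ ⟨(⟨c, hc, rfl⟩ | ⟨c, hc, rfl⟩), hSc⟩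
      · have : c ∈ (blocksFinset B).filter fun b => T ⊆ b := mem_filter.2 ⟨mem_blocksFinset.2 hc, (h1 c).1 hSc⟩
        rw [hb, mem_singleton] at this
        rw [this]
      · exact absurd (mem_filter.2 ⟨mem_blocksFinset.2 hc, (h2 c).1 hSc⟩ : c ∈ _)
          (by rw [card_eq_zero.1 (show ((blocksFinset B).filter fun b => Disjoint T b).card = 0 by omega)]; exact notMem_empty _)

theorem mem_of_insertNone {B : Set (Finset α)} {b : Finset α} (h : insertNone b ∈ ext11 B) : b ∈ B := by
  rcases h with ⟨c, hc, he⟩ | ⟨c, _, he⟩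
  · exact insertNone.injective he ▸ hc
  · have : (none : Option α) ∈ cᶜ.map Function.Embedding.some := by
      show none ∈ (fun b : Finset α => bᶜ.map Function.Embedding.some) c
      rw [he]; simp
    simp at this

/-- Five labels starting at the extra point. -/
def consNone (x : Fin 4 ↪ α) : Fin 5 ↪ Option α :=
  ⟨Fin.cons none fun i => some (x i), Fin.cons_injective_iff.2 ⟨by simp, (Option.some_injective α).comp x.injective⟩⟩

/-- Uniqueness of S(4, 5, 11). -/
theorem steiner_4511_iso {β : Type*} [Fintype β] [DecidableEq β] (hα : Fintype.card α = 11) (hβ : Fintype.card β = 11)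
    {B : Set (Finset α)} {B' : Set (Finset β)} (hB : IsSteinerSystem 4 5 B) (hB' : IsSteinerSystem 4 5 B') :
    SetSystemIso B B' := by
  obtain ⟨x⟩ := Function.Embedding.nonempty_of_card_le (α := Fin 4) (β := α) (by simp [hα])
  obtain ⟨y⟩ := Function.Embedding.nonempty_of_card_le (α := Fin 4) (β := β) (by simp [hβ])
  obtain ⟨e, he, hx⟩ := hex_model (by simp [hα]) (ext11_steiner hα hB) (consNone x)
  obtain ⟨e', he', hy⟩ := hex_model (by simp [hβ]) (ext11_steiner hβ hB') (consNone y)
  set f : Option α ≃ Option β := e.trans e'.symm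
  have hf0 : f none = none := by
    show e'.symm (e none) = none
    rw [Equiv.symm_apply_eq]
    exact Fin.ext ((hx 0).trans (hy 0).symm)
  have hfs : ∀ a, some (Equiv.removeNone f a) = f (some a) := fun a =>
    Equiv.removeNone_some f (Option.ne_none_iff_exists'.1 fun hn => Option.some_ne_none a (f.injective (hn.trans hf0.symm)))
  refine ⟨Equiv.removeNone f, Set.eq_of_subset_of_ncard_le ?_ ?_ (Set.toFinite _)⟩
  · rintro _ ⟨b, hb, rfl⟩
    refine mem_of_insertNone ?_
    have h1 : (insertNone b).image e ∈ hexStd := by rw [← he]; exact ⟨_, Or.inl ⟨b, hb, rfl⟩, rfl⟩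
    rw [← he'] at h1
    obtain ⟨c, hc, hce⟩ := h1
    convert hc using 1
    apply image_injective e'.injective
    rw [show c.image e' = (insertNone b).image e from hce]
    ext z
    simp only [mem_image]
    constructor
    · rintro ⟨w, hw, rfl⟩
      rcases w with _ | w
      · exact ⟨none, by simp, by simpa [f] using congrArg e' hf0⟩
      · simp only [some_mem_insertNone, mem_image] at hw
        obtain ⟨a, ha, rfl⟩ := hw
        exact ⟨some a, by simpa using ha, by rw [hfs]; simp [f]⟩
    · rintro ⟨w, hw, rfl⟩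
      rcases w with _ | a
      · exact ⟨none, by simp, by simpa [f] using (congrArg e' hf0).symm⟩
      · refine ⟨f (some a), ?_, by simp [f]⟩
        rw [← hfs]
        simp only [some_mem_insertNone] at hw ⊢
        exact mem_image_of_mem _ hw
  · rw [Set.ncard_image_of_injective B (image_injective (Equiv.removeNone f).injective)]
    have h1 := blocks_ncard hB (fun i => [66, 30, 12, 4, 1].getD i 0) (by rw [hα]; decide) (s := ∅) (by simp)
    have h2 := blocks_ncard hB' (fun i => [66, 30, 12, 4, 1].getD i 0) (by rw [hβ]; decide) (s := ∅) (by simp)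
    simp only [empty_subset, and_true] at h1 h2
    exact (h2.trans h1.symm).le

theorem lift_mem_ext11 {B : Set (Finset α)} {σ : Equiv.Perm α} (hσ : σ ∈ setSystemAut B) :
    (σ.optionCongr : Equiv.Perm (Option α)) ∈ setSystemAut (ext11 B) := by
  refine mem_setSystemAut_of_subset ?_
  rintro _ (⟨b, hb, rfl⟩ | ⟨b, hb, rfl⟩)
  · exact Or.inl ⟨σ • b, smul_mem_of_setSystemAut hσ hb, (image_insertNone_optionCongr σ b).symm⟩
  · refine Or.inr ⟨σ • b, smul_mem_of_setSystemAut hσ hb, ?_⟩
    ext z
    simp only [Finset.smul_finset_def, mem_map, mem_compl, mem_image, Function.Embedding.some_apply]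
    constructor
    · rintro ⟨w, hw, rfl⟩
      refine ⟨some (σ.symm w), ⟨σ.symm w, fun h => hw ⟨_, h, σ.apply_symm_apply w⟩, rfl⟩, ?_⟩
      show σ.optionCongr (some (σ.symm w)) = some w
      simp
    · rintro ⟨w, ⟨a, ha, rfl⟩, rfl⟩
      refine ⟨σ a, ?_, ?_⟩
      · rintro ⟨c, hc, hce⟩
        exact ha (σ.injective hce ▸ hc)
      · show some (σ a) = σ.optionCongr (some a)
        simp

theorem exists_of_ext11 {B : Set (Finset α)} {g : Equiv.Perm (Option α)} (hg : g ∈ setSystemAut (ext11 B))
    (h0 : g none = none) : ∃ σ ∈ setSystemAut B, σ.optionCongr = g := by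
  have hs : ∀ a, some (Equiv.removeNone g a) = g (some a) := fun a =>
    Equiv.removeNone_some g (Option.ne_none_iff_exists'.1 fun hn => Option.some_ne_none a (g.injective (hn.trans h0.symm)))
  have heq : (Equiv.removeNone g).optionCongr = g := Equiv.ext fun z => by
    rcases z with _ | a
    · simp [h0]
    · rw [Equiv.optionCongr_apply, Option.map_some, hs]
  refine ⟨Equiv.removeNone g, mem_setSystemAut_of_subset fun b hb => mem_of_insertNone ?_, heq⟩
  rw [← image_insertNone_optionCongr, heq]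
  exact smul_mem_of_setSystemAut hg (Or.inl ⟨b, hb, rfl⟩)

/-- The automorphism group of an S(4, 5, 11). -/
theorem steiner_4511_aut (hα : Fintype.card α = 11) {B : Set (Finset α)} (hB : IsSteinerSystem 4 5 B) :
    IsM11 (setSystemAut B) ∧ MulAction.IsMultiplyPretransitive (setSystemAut B) α 4 ∧
      ∀ x : Fin 4 ↪ α, stabilizer (setSystemAut B) x = ⊥ := by
  have h12 : Fintype.card (Option α) = 12 := by simp [hα]
  have hE := ext11_steiner hα hB
  obtain ⟨-, htr, hsharp⟩ := steiner_5612_aut h12 hE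
  obtain ⟨x₀⟩ := Function.Embedding.nonempty_of_card_le (α := Fin 4) (β := α) (by simp [hα])
  obtain ⟨e, he, hx⟩ := hex_model h12 hE (consNone x₀)
  have he0 : e none = 0 := Fin.ext (hx 0)
  have hsome : ∀ (g : setSystemAut hexStd), g.1 0 = 0 →
      ((autEquivOfIso e he).symm g).1 none = none := fun g hg => by
    show (e.permCongr.symm g.1) none = none
    rw [Equiv.permCongr_symm, Equiv.permCongr_apply, Equiv.symm_symm, he0, hg, ← he0, Equiv.symm_apply_apply]
  let L : setSystemAut B →* setSystemAut (ext11 B) :=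
    { toFun := fun σ => ⟨σ.1.optionCongr, lift_mem_ext11 σ.2⟩
      map_one' := Subtype.ext (Equiv.ext fun z => by rcases z with _ | a <;> simp)
      map_mul' := fun σ τ => Subtype.ext (Equiv.ext fun z => by rcases z with _ | a <;> simp) }
  have hLinj : Function.Injective L := fun σ τ h => Subtype.ext (Equiv.ext fun a => Option.some_injective α (by
    simpa [L] using congrArg (fun g : setSystemAut (ext11 B) => g.1 (some a)) h))
  let Ψ : setSystemAut B →* stabilizer M24 baseDodecad :=
    (dodStdEquiv.symm.toMonoidHom.comp (autEquivOfIso e he).toMonoidHom).comp L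
  have hΨ : ∀ σ, dodPt 0 = (Ψ σ).1.1 (dodPt 0) := fun σ => by
    rw [← dodToStd_spec]
    congr 1
    have h : dodToStd (Ψ σ) = e.permCongr (L σ).1 :=
      congrArg Subtype.val (dodStdEquiv.apply_symm_apply ((autEquivOfIso e he) (L σ)))
    rw [h, Equiv.permCongr_apply, show e.symm 0 = none by rw [← he0, Equiv.symm_apply_apply]]
    show (0 : Fin 12) = e (σ.1.optionCongr none)
    simp [he0]
  have hmem : ∀ σ, (Ψ σ).1 ∈ stabilizer M24 baseDodecad ⊓ stabilizer M24 (dodPt 0) :=
    fun σ => ⟨(Ψ σ).2, (hΨ σ).symm⟩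
  let Θ : setSystemAut B →* ↥(stabilizer M24 baseDodecad ⊓ stabilizer M24 (dodPt 0)) :=
    (((stabilizer M24 baseDodecad).subtype).comp Ψ).codRestrict _ hmem
  have hΘ : Function.Bijective Θ := by
    refine ⟨fun σ τ h => ?_, fun g => ?_⟩
    · have h1 : Ψ σ = Ψ τ := Subtype.ext (congrArg (fun k : ↥(stabilizer M24 baseDodecad ⊓ stabilizer M24 (dodPt 0)) => k.1) h)
      exact hLinj ((autEquivOfIso e he).injective (dodStdEquiv.symm.injective h1))
    · set k := dodStdEquiv ⟨g.1, g.2.1⟩ with hk
      have hk0 : k.1 0 = 0 := dodPt_check.1 (by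
        show dodPt (dodToStd ⟨g.1, g.2.1⟩ 0) = _
        rw [dodToStd_spec]; exact g.2.2)
      obtain ⟨σ, hσ, hσe⟩ := exists_of_ext11 ((autEquivOfIso e he).symm k).2 (hsome k hk0)
      refine ⟨⟨σ, hσ⟩, Subtype.ext ?_⟩
      have hL : L ⟨σ, hσ⟩ = (autEquivOfIso e he).symm k := Subtype.ext hσe
      show (dodStdEquiv.symm ((autEquivOfIso e he) (L ⟨σ, hσ⟩))).1 = g.1
      rw [hL, MulEquiv.apply_symm_apply, hk, MulEquiv.symm_apply_apply]
  let E := MulEquiv.ofBijective Θ hΘ
  refine ⟨⟨?_, ?_⟩, ?_, fun x => ?_⟩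
  · have := isSimple_dod_point_stabilizer baseDodecad_mem (dodPt_check.2.1 0)
    exact E.isSimpleGroup_congr.2 this
  · rw [Nat.card_congr E.toEquiv, card_dod_point_stabilizer baseDodecad_mem (dodPt_check.2.1 0)]
  · rw [MulAction.isMultiplyPretransitive_iff]
    intro x y
    obtain ⟨g, hg⟩ := MulAction.exists_smul_eq (setSystemAut (ext11 B)) (consNone x) (consNone y)
    have hgi : ∀ i, g.1 (consNone x i) = consNone y i := fun i => congrArg (fun k : Fin 5 ↪ Option α => k i) hg
    obtain ⟨σ, hσ, hσe⟩ := exists_of_ext11 g.2 (hgi 0)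
    refine ⟨⟨σ, hσ⟩, ?_⟩
    ext i
    apply Option.some_injective α
    have h := hgi i.succ
    rw [← hσe] at h
    simpa [consNone] using h
  · refine (Subgroup.eq_bot_iff_forall _).2 fun σ hσ => hLinj ?_
    rw [map_one]
    refine (Subgroup.eq_bot_iff_forall _).1 (hsharp (consNone x)) _ ?_
    rw [MulAction.mem_stabilizer_iff]
    ext i : 1
    show (σ.1.optionCongr : Equiv.Perm (Option α)) (consNone x i) = consNone x i
    induction i using Fin.cases with
    | zero => simp [consNone]
    | succ j =>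
      have := congrArg (fun k : Fin 4 ↪ α => k j) hσ
      simp [consNone]
      exact this

end Cfsg.Lib.Concrete
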