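import Cfsg.Agent.Lib.Concrete.PlaneHyperoval
import Cfsg.Agent.Lib.Concrete.MTwelve
import Cfsg.Agent.Lib.Concrete.Mathieu
import Cfsg.Agent.Lib.Linear.SLBasic

/-!
The three point stabiliser of M24 and PSL(3, 4), through the projective plane of order four.
-/

set_option autoImplicit false

namespace Cfsg.Lib.Concrete.MTwentyOne

open MulAction Finset Projectivization
open scoped Pointwise LinearAlgebra.Projectivization

/-! ### The automorphism group of the plane -/

theorem card_plane_aut_le {α : Type*} [Fintype α] [DecidableEq α] (hα : Fintype.card α = 21) {L : Set (Finset α)}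
    (hL : IsSteinerSystem 2 5 L) : Nat.card (setSystemAut L) ≤ 120960 := by
  classical
  obtain ⟨-, h168', -⟩ := plane_arcs hα hL
  set A : Set (Finset α) := {H : Finset α | H.card = 6 ∧ ∀ l ∈ L, (l ∩ H).card ≤ 2} with hA
  have h168 : A.ncard = 168 := h168'
  obtain ⟨H, hH⟩ : A.Nonempty := Set.nonempty_of_ncard_ne_zero (by rw [h168]; norm_num)
  have hinv : orbit (setSystemAut L) H ⊆ A := by
    rintro _ ⟨σ, rfl⟩
    refine ⟨(Finset.card_smul_finset _ _).trans hH.1, fun l hl => ?_⟩
    have hl' : σ.1⁻¹ • l ∈ L := smul_mem_of_setSystemAut (inv_mem σ.2) hl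
    show (l ∩ σ.1 • H).card ≤ 2
    rw [← smul_inv_smul σ.1 l, ← Finset.smul_finset_inter, Finset.card_smul_finset]
    exact hH.2 _ hl'
  have horb : (orbit (setSystemAut L) H).ncard ≤ 168 := h168 ▸ Set.ncard_le_ncard hinv (Set.toFinite _)
  have hst : Nat.card (stabilizer (setSystemAut L) H) ≤ 720 := by
    have hpres : ∀ (g : stabilizer (setSystemAut L) H) (x : α), g.1.1 x ∈ H ↔ x ∈ H := fun g x => by
      have he : g.1.1 • H = H := g.2
      exact (Finset.ext_iff.1 he (g.1.1 x)).symm.trans (Finset.smul_mem_smul_finset_iff g.1.1)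
    let r : stabilizer (setSystemAut L) H → Equiv.Perm ↥H := fun g => g.1.1.subtypePerm fun x => hpres g x
    have hr : Function.Injective r := by
      intro a b hab
      obtain ⟨g, -, hu⟩ := plane_extend hα hL hH.1 hH.2 (r a)
      have ha := hu a.1.1 ⟨a.1.2, fun p => rfl⟩
      have hb := hu b.1.1 ⟨b.1.2, fun p => by rw [hab]; rfl⟩
      exact Subtype.ext (Subtype.ext (ha.trans hb.symm))
    refine (Nat.card_le_card_of_injective r hr).trans (le_of_eq ?_)
    rw [Nat.card_eq_fintype_card, Fintype.card_perm, Fintype.card_coe, hH.1]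
    rfl
  rw [← Subgroup.card_mul_index (stabilizer (setSystemAut L) H), MulAction.index_stabilizer]
  exact (Nat.mul_le_mul hst horb).trans (by norm_num)

/-! ### The plane through three points -/

variable (T : Finset GolayPt)

/-- The points outside the triple. -/
abbrev Rest : Type := {x : GolayPt // x ∉ T}

/-- A set of outside points as a set of points. -/
def widen (b : Finset (Rest T)) : Finset GolayPt := b.map (Function.Embedding.subtype _)

/-- The lines of the plane. -/
def planeLines : Set (Finset (Rest T)) := {b | widen T b ∪ T ∈ octads}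

theorem disjoint_widen (b : Finset (Rest T)) : Disjoint (widen T b) T := by
  rw [Finset.disjoint_left]
  intro x hx
  obtain ⟨y, -, rfl⟩ := Finset.mem_map.1 hx
  exact y.2

theorem planeLines_steiner (hT : T.card = 3) : IsSteinerSystem 2 5 (planeLines T) := by
  classical
  refine ⟨fun b hb => ?_, fun s hs => ?_⟩
  · have h : (widen T b ∪ T).card = 8 := octads_steiner.1 _ hb
    rw [Finset.card_union_of_disjoint (disjoint_widen T b), widen, Finset.card_map, hT] at h
    omega
  · obtain ⟨o, ⟨ho, hso⟩, hu⟩ := octads_steiner.2 (widen T s ∪ T)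
      (by rw [Finset.card_union_of_disjoint (disjoint_widen T s), widen, Finset.card_map, hT, hs])
    have he : widen T (o.subtype fun x => x ∉ T) ∪ T = o := by
      ext x
      simp only [widen, Finset.mem_union, Finset.mem_map, Finset.mem_subtype, Function.Embedding.coe_subtype]
      constructor
      · rintro (⟨y, hy, rfl⟩ | hx)
        · exact hy
        · exact hso (Finset.mem_union_right _ hx)
      · intro hx
        by_cases hT' : x ∈ T
        · exact Or.inr hT'
        · exact Or.inl ⟨⟨x, hT'⟩, hx, rfl⟩
    refine ⟨o.subtype _, ⟨by show _ ∈ octads; rw [he]; exact ho, fun y hy => ?_⟩, ?_⟩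
    · exact Finset.mem_subtype.2 (hso (Finset.mem_union_left _ (Finset.mem_map.2 ⟨y, hy, rfl⟩)))
    · rintro b ⟨hb, hsb⟩
      have hbo := hu _ ⟨hb, Finset.union_subset_union (Finset.map_subset_map.2 hsb) subset_rfl⟩
      ext y
      rw [Finset.mem_subtype, ← hbo, Finset.mem_union, widen, Finset.mem_map]
      exact ⟨fun hy => Or.inl ⟨y, hy, rfl⟩,
        fun h => h.elim (fun ⟨z, hz, e⟩ => Subtype.ext e ▸ hz) (fun h => absurd h y.2)⟩

theorem card_rest (hT : T.card = 3) : Fintype.card (Rest T) = 21 := by
  rw [Fintype.card_subtype_compl, Fintype.card_coe, hT]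
  rfl

/-- The action of the stabiliser of the triple on the outside points. -/
def restHom : stabilizer M24 T →* Equiv.Perm (Rest T) where
  toFun g := g.1.1.subtypePerm fun x => by
    have he : g.1.1 • T = T := g.2
    exact not_congr ((Finset.ext_iff.1 he (g.1.1 x)).symm.trans (Finset.smul_mem_smul_finset_iff g.1.1))
  map_one' := Equiv.ext fun _ => rfl
  map_mul' _ _ := Equiv.ext fun _ => rfl

theorem restHom_mem (g : stabilizer M24 T) : restHom T g ∈ setSystemAut (planeLines T) := by
  classical
  refine mem_setSystemAut_of_subset fun b hb => ?_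
  show widen T (restHom T g • b) ∪ T ∈ octads
  have h : g.1.1 • (widen T b ∪ T) = widen T (restHom T g • b) ∪ T := by
    rw [Finset.smul_finset_union, show g.1.1 • T = T from g.2]
    congr 1
    simp only [widen, Finset.smul_finset_def, Finset.map_eq_image, Finset.image_image]
    exact Finset.image_congr fun _ _ => rfl
  rw [← h]
  exact smul_octad_mem g.1.2 hb

theorem restHom_injective (hT : T.card = 3) : Function.Injective (restHom T) := by
  refine (injective_iff_map_eq_one _).2 fun g hg => Subtype.ext (Subtype.ext ?_)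
  refine eq_one_of_nine_fixed g.1.2 (s := Tᶜ) (by rw [Finset.card_compl, hT]; decide) fun y hy => ?_
  exact congrArg (fun σ : Equiv.Perm (Rest T) => (σ ⟨y, Finset.mem_compl.1 hy⟩).1) hg

/-- The pointwise stabiliser. -/
def fix3 (p q r : GolayPt) : Subgroup M24 := stabilizer M24 p ⊓ stabilizer M24 q ⊓ stabilizer M24 r

theorem fix3_le {p q r : GolayPt} : fix3 p q r ≤ stabilizer M24 ({p, q, r} : Finset GolayPt) := by
  rintro g ⟨⟨hp, hq⟩, hr⟩
  show g • ({p, q, r} : Finset GolayPt) = {p, q, r}
  rw [Finset.smul_finset_insert, Finset.smul_finset_insert, Finset.smul_finset_singleton,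
    mem_stabilizer_iff.1 hp, mem_stabilizer_iff.1 hq, mem_stabilizer_iff.1 hr]

theorem card_fix3 {p q r : GolayPt} (hpq : p ≠ q) (hpr : p ≠ r) (hqr : q ≠ r) :
    Nat.card (fix3 p q r) = 20160 := by
  classical
  let x : Fin 3 ↪ GolayPt := ⟨![p, q, r], by
    intro i j h; fin_cases i <;> fin_cases j <;> simp_all⟩
  have hst : stabilizer M24 x = fix3 p q r := by
    ext g
    constructor
    · intro h
      exact ⟨⟨congrArg (fun k : Fin 3 ↪ GolayPt => k 0) h, congrArg (fun k : Fin 3 ↪ GolayPt => k 1) h⟩,
        congrArg (fun k : Fin 3 ↪ GolayPt => k 2) h⟩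
    · rintro ⟨⟨h1, h2⟩, h3⟩
      refine mem_stabilizer_iff.2 (Function.Embedding.ext fun i => ?_)
      fin_cases i
      exacts [h1, h2, h3]
  have : IsPretransitive M24 (Fin 3 ↪ GolayPt) :=
    ⟨fun a b => isMultiplyPretransitive_iff.1 (M24_pretransitive_le 3 (by norm_num)) (x := a) (y := b)⟩
  have h := Subgroup.card_mul_index (stabilizer M24 x)
  have hidx : (stabilizer M24 x).index = Nat.card (Fin 3 ↪ GolayPt) := by
    refine (index_stabilizer M24 x).trans ((congrArg Set.ncard (Set.eq_univ_of_forall fun b =>
      isMultiplyPretransitive_iff.1 (M24_pretransitive_le 3 (by norm_num)) (x := x) (y := b))).trans (Set.ncard_univ _))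
  have hc : Nat.card (Fin 3 ↪ GolayPt) = 12144 := by
    rw [Nat.card_eq_fintype_card, Fintype.card_embedding_eq, ← Nat.card_eq_fintype_card (α := GolayPt),
      nat_card_golayPt, Fintype.card_fin]
    rfl
  rw [hidx, hst, card_M24, hc] at h
  omega

theorem card_set_stabilizer (hT : T.card = 3) : Nat.card (stabilizer M24 T) = 120960 := by
  classical
  have horb : orbit M24 T = {s : Finset GolayPt | s.card = 3} := by
    ext s
    constructor
    · rintro ⟨g, rfl⟩
      exact (Finset.card_smul_finset _ _).trans hT
    · intro hs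
      have := M24_pretransitive_le 3 (by norm_num)
      obtain ⟨x, hx⟩ : ∃ x : Fin 3 ↪ GolayPt, Finset.univ.map x = T :=
        ⟨(T.equivFinOfCardEq hT).symm.toEmbedding.trans (Function.Embedding.subtype _), by
          ext y; simp only [Finset.mem_map, Finset.mem_univ, true_and, Function.Embedding.trans_apply,
            Equiv.coe_toEmbedding, Function.Embedding.coe_subtype]
          exact ⟨fun ⟨i, hi⟩ => hi ▸ Subtype.coe_prop _, fun hy => ⟨T.equivFinOfCardEq hT ⟨y, hy⟩, by simp⟩⟩⟩
      obtain ⟨y, hy⟩ : ∃ x : Fin 3 ↪ GolayPt, Finset.univ.map x = s :=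
        ⟨(s.equivFinOfCardEq hs).symm.toEmbedding.trans (Function.Embedding.subtype _), by
          ext z; simp only [Finset.mem_map, Finset.mem_univ, true_and, Function.Embedding.trans_apply,
            Equiv.coe_toEmbedding, Function.Embedding.coe_subtype]
          exact ⟨fun ⟨i, hi⟩ => hi ▸ Subtype.coe_prop _, fun hz => ⟨s.equivFinOfCardEq hs ⟨z, hz⟩, by simp⟩⟩⟩
      obtain ⟨g, hg⟩ := isMultiplyPretransitive_iff.1 this (x := x) (y := y)
      refine ⟨g, ?_⟩
      rw [← hx, ← hy, ← hg]
      ext z
      simp only [Finset.smul_finset_def, Finset.mem_image, Finset.mem_map, Finset.mem_univ, true_and,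
        exists_exists_eq_and, Function.Embedding.smul_apply]
  have h := Subgroup.card_mul_index (stabilizer M24 T)
  have hcount : {s : Finset GolayPt | s.card = 3}.ncard = 2024 := by
    rw [show {s : Finset GolayPt | s.card = 3} = ↑((Finset.univ : Finset GolayPt).powersetCard 3) by
      ext s; simp, Set.ncard_coe_finset, Finset.card_powersetCard, Finset.card_univ,
      ← Nat.card_eq_fintype_card, nat_card_golayPt]
    rfl
  rw [index_stabilizer, horb, hcount, card_M24] at h
  omega

/-- The stabiliser of the triple is the automorphism group of its plane. -/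
noncomputable def restEquiv (hT : T.card = 3) : stabilizer M24 T ≃* setSystemAut (planeLines T) :=
  MulEquiv.ofBijective ((restHom T).codRestrict _ (restHom_mem T)) (by
    refine Function.Injective.bijective_of_nat_card_le
      (fun a b h => restHom_injective T hT (congrArg Subtype.val h)) ?_
    rw [card_set_stabilizer T hT]
    exact card_plane_aut_le (card_rest T hT) (planeLines_steiner T hT))

/-! ### The projective plane over the field with four elements -/

variable (F : Type) [Field F] [Fintype F]

/-- The points of the plane over the field. -/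
abbrev PPt : Type := ℙ F (Fin 3 → F)

/-- The lines of the plane over the field. -/
def projLines [Fintype (PPt F)] : Set (Finset (PPt F)) :=
  {l | ∃ W : Submodule F (Fin 3 → F), Module.finrank F W = 2 ∧ ∀ x, x ∈ l ↔ x.submodule ≤ W}

theorem card_PPt (hF : Fintype.card F = 4) [Fintype (PPt F)] : Fintype.card (PPt F) = 21 := by
  rw [← Nat.card_eq_fintype_card, Projectivization.card_of_finrank F _ (n := 3) (by simp),
    Nat.card_eq_fintype_card, hF]
  rfl

theorem card_line_points (hF : Fintype.card F = 4) {W : Submodule F (Fin 3 → F)} (hW : Module.finrank F W = 2) :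
    Nat.card {x : PPt F // x.submodule ≤ W} = 5 := by
  let f : ℙ F W → {x : PPt F // x.submodule ≤ W} := fun y =>
    ⟨Projectivization.map W.subtype W.subtype_injective y, by
      induction y using Projectivization.ind with
      | _ v hv =>
        rw [Projectivization.map_mk, Projectivization.submodule_mk, Submodule.span_singleton_le_iff_mem]
        exact v.2⟩
  have hf : Function.Bijective f := by
    refine ⟨fun a b h => Projectivization.map_injective W.subtype W.subtype_injective (congrArg Subtype.val h), fun x => ?_⟩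
    obtain ⟨x, hx⟩ := x
    induction x using Projectivization.ind with
    | _ v hv =>
      rw [Projectivization.submodule_mk, Submodule.span_singleton_le_iff_mem] at hx
      exact ⟨Projectivization.mk F (⟨v, hx⟩ : W) (fun h => hv (congrArg Subtype.val h)),
        Subtype.ext (Projectivization.map_mk W.subtype W.subtype_injective _ _)⟩
  rw [← Nat.card_eq_of_bijective f hf, Projectivization.card_of_finrank F W hW, Nat.card_eq_fintype_card, hF]
  rfl

theorem projLines_steiner (hF : Fintype.card F = 4) [Fintype (PPt F)] [DecidableEq (PPt F)] :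
    IsSteinerSystem 2 5 (projLines F) := by
  classical
  refine ⟨?_, fun s hs => ?_⟩
  · rintro l ⟨W, hW, hl⟩
    rw [← card_line_points F hF hW, ← Nat.subtype_card l hl]
  · obtain ⟨x, y, hxy, rfl⟩ := Finset.card_eq_two.1 hs
    set W := x.submodule ⊔ y.submodule with hW
    have hW2 : Module.finrank F W = 2 := by
      have hinf : x.submodule ⊓ y.submodule = ⊥ := by
        by_contra h
        have h1 : Module.finrank F ↥(x.submodule ⊓ y.submodule) = 1 := by
          have hle := Submodule.finrank_mono (inf_le_left : x.submodule ⊓ y.submodule ≤ x.submodule)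
          rw [x.finrank_submodule] at hle
          have hne : Module.finrank F ↥(x.submodule ⊓ y.submodule) ≠ 0 := fun h0 => h (Submodule.finrank_eq_zero.1 h0)
          omega
        have e1 := Submodule.eq_of_le_of_finrank_eq (inf_le_left : x.submodule ⊓ y.submodule ≤ x.submodule)
          (h1.trans x.finrank_submodule.symm)
        have e2 := Submodule.eq_of_le_of_finrank_eq (inf_le_right : x.submodule ⊓ y.submodule ≤ y.submodule)
          (h1.trans y.finrank_submodule.symm)
        exact hxy (Projectivization.submodule_injective (e1.symm.trans e2))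
      have := Submodule.finrank_sup_add_finrank_inf_eq x.submodule y.submodule
      rw [hinf, finrank_bot, x.finrank_submodule, y.finrank_submodule] at this
      omega
    refine ⟨Finset.univ.filter fun z => z.submodule ≤ W, ⟨⟨W, hW2, fun z => by simp⟩, ?_⟩, ?_⟩
    · intro z hz
      rcases Finset.mem_insert.1 hz with rfl | hz
      · simp [hW]
      · rw [Finset.mem_singleton.1 hz]; simp [hW]
    · rintro l ⟨⟨W', hW', hl⟩, hsub⟩
      have hle : W ≤ W' := sup_le ((hl x).1 (hsub (by simp))) ((hl y).1 (hsub (by simp)))
      have := Submodule.eq_of_le_of_finrank_eq hle (hW2.trans hW'.symm)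
      ext z
      rw [hl, ← this, Finset.mem_filter, and_iff_right (Finset.mem_univ z)]

/-- The action of PSL on the points. -/
noncomputable def pslPerm : Matrix.ProjectiveSpecialLinearGroup (Fin 3) F →* Equiv.Perm (PPt F) :=
  MulAction.toPermHom _ _

theorem pslPerm_injective : Function.Injective (pslPerm F) := MulAction.toPerm_injective

theorem pslPerm_mem [Fintype (PPt F)] [DecidableEq (PPt F)] (g : Matrix.ProjectiveSpecialLinearGroup (Fin 3) F) :
    pslPerm F g ∈ setSystemAut (projLines F) := by
  refine mem_setSystemAut_of_subset fun l hl => ?_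
  obtain ⟨W, hW, hl⟩ := hl
  obtain ⟨A, rfl⟩ := QuotientGroup.mk_surjective g
  let A' : (Fin 3 → F) ≃ₗ[F] (Fin 3 → F) := Matrix.SpecialLinearGroup.toLin' A
  refine ⟨W.map A'.toLinearMap, (LinearEquiv.finrank_map_eq A' W).trans hW, fun x => ?_⟩
  rw [Finset.smul_finset_def, Finset.mem_image]
  have key : ∀ z : PPt F, (pslPerm F (A : Matrix.ProjectiveSpecialLinearGroup (Fin 3) F) • z).submodule =
      z.submodule.map A'.toLinearMap := by
    intro z
    induction z using Projectivization.ind with
    | _ v hv =>
      show ((A : Matrix.ProjectiveSpecialLinearGroup (Fin 3) F) • Projectivization.mk F v hv).submodule = _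
      rw [Matrix.ProjectiveSpecialLinearGroup.smul_proj_mk, Projectivization.matrixSpecialLinearGroup_smul_def,
        Projectivization.smul_mk, Projectivization.submodule_mk, Projectivization.submodule_mk, Submodule.map_span,
        Set.image_singleton]
      rfl
  constructor
  · rintro ⟨z, hz, rfl⟩
    rw [key]
    exact Submodule.map_mono ((hl z).1 hz)
  · intro hx
    obtain ⟨z, rfl⟩ := MulAction.surjective (pslPerm F (A : Matrix.ProjectiveSpecialLinearGroup (Fin 3) F)) x
    rw [key] at hx
    exact ⟨z, (hl z).2 ((Submodule.map_le_map_iff_of_injective A'.injective _ _).1 hx), rfl⟩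

theorem card_psl34 (hF : Fintype.card F = 4) :
    Nat.card (Matrix.ProjectiveSpecialLinearGroup (Fin 3) F) = 20160 := by
  classical
  have h := Cfsg.Lib.Linear.card_SL_eq_gcd_mul_card_PSL (ι := Fin 3) (F := F)
  have h2 := Cfsg.Lib.Linear.card_SL_mul (F := F) 3 (by norm_num)
  rw [h] at h2
  simp [Fin.prod_univ_three, hF] at h2
  have hg : Nat.gcd (Fintype.card (Fin 3)) (Fintype.card F - 1) = 3 := by rw [Fintype.card_fin, hF]; rfl
  rw [Nat.card_eq_fintype_card]
  omega

theorem main {p q r : GolayPt} (hpq : p ≠ q) (hpr : p ≠ r) (hqr : q ≠ r) (hF : Fintype.card F = 4) :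
    Nonempty (fix3 p q r ≃* Matrix.ProjectiveSpecialLinearGroup (Fin 3) F) := by
  classical
  have : Finite (PPt F) := inferInstance
  have := Fintype.ofFinite (PPt F)
  set T : Finset GolayPt := {p, q, r} with hTdef
  have hT : T.card = 3 := by rw [hTdef, Finset.card_eq_three]; exact ⟨p, q, r, hpq, hpr, hqr, rfl⟩
  obtain ⟨e, he⟩ := plane_iso (card_PPt F hF) (card_rest T hT) (projLines_steiner F hF) (planeLines_steiner T hT)
  let ψ : Matrix.ProjectiveSpecialLinearGroup (Fin 3) F →* stabilizer M24 T :=
    ((restEquiv T hT).symm.toMonoidHom.comp (autEquivOfIso e he).toMonoidHom).comp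
      ((pslPerm F).codRestrict _ (pslPerm_mem F))
  have hψ : Function.Injective ψ := (restEquiv T hT).symm.injective.comp ((autEquivOfIso e he).injective.comp
    fun a b h => pslPerm_injective F (congrArg Subtype.val h))
  let N := (fix3 p q r).subgroupOf (stabilizer M24 T)
  have hN : N.Normal := ⟨fun n hn g => by
    have hfix : ∀ y ∈ T, n.1.1 y = y := by
      intro y hy
      simp only [hTdef, Finset.mem_insert, Finset.mem_singleton] at hy
      obtain ⟨⟨h1, h2⟩, h3⟩ := Subgroup.mem_subgroupOf.1 hn
      rcases hy with rfl | rfl | rfl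
      exacts [h1, h2, h3]
    have hfix' : ∀ y ∈ T, (g * n * g⁻¹).1.1 y = y := by
      intro y hy
      show g.1.1 (n.1.1 (g.1.1⁻¹ y)) = y
      have : g.1.1⁻¹ y ∈ T := by
        have he : (g⁻¹).1.1 • T = T := (g⁻¹).2
        exact (Finset.ext_iff.1 he (g.1.1⁻¹ y)).1 (Finset.smul_mem_smul_finset hy)
      rw [hfix _ this]
      exact Equiv.apply_symm_apply _ _
    exact Subgroup.mem_subgroupOf.2 ⟨⟨hfix' p (by simp [hTdef]), hfix' q (by simp [hTdef])⟩, hfix' r (by simp [hTdef])⟩⟩
  have hcardN : Nat.card N = 20160 :=
    (Nat.card_congr (Subgroup.subgroupOfEquivOfLe fix3_le).toEquiv).trans (card_fix3 hpq hpr hqr)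
  have := Cfsg.Lib.Linear.PSL_simple_of_three_le (ι := Fin 3) (F := F) (by simp)
  have hidx : N.index = 6 := by
    have h := N.card_mul_index
    rw [hcardN, card_set_stabilizer T hT] at h
    omega
  rcases (inferInstance : (N.comap ψ).Normal).eq_bot_or_eq_top with h | h
  · exfalso
    have h1 : (N.comap ψ).index ≤ 6 := by
      rw [Subgroup.index_comap, ← hidx]
      exact Nat.le_of_dvd (by omega) (Subgroup.relIndex_dvd_index_of_normal N ψ.range)
    rw [h, Subgroup.index_bot, card_psl34 F hF] at h1
    omega
  · have hle : ψ.range ≤ N := by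
      rintro _ ⟨a, rfl⟩
      exact (h.ge (Subgroup.mem_top a) : a ∈ N.comap ψ)
    have heq : ψ.range = N := Subgroup.eq_of_le_of_card_ge hle (by
      rw [← Nat.card_congr (MonoidHom.ofInjective hψ).toEquiv, card_psl34 F hF, hcardN])
    exact ⟨(Subgroup.subgroupOfEquivOfLe fix3_le).symm.trans
      ((MulEquiv.subgroupCongr heq.symm).trans (MonoidHom.ofInjective hψ).symm)⟩

end Cfsg.Lib.Concrete.MTwentyOne
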