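import Mathlib

/-!
A linear certificate showing that a cocycle on a finite table of a two-generated group is a coboundary.
-/

set_option autoImplicit false

namespace Cfsg.Lib.Concrete

open Finset

/-- Vectors of coefficients over `m` unknowns in `ZMod p`, stored as numbers. -/
structure SVec (p m : ℕ) where
  add : ℕ → ℕ → ℕ
  unit : ℕ → ℕ
  eval : (ℕ → ZMod p) → ℕ → ZMod p
  eval_zero : ∀ s, eval s 0 = 0
  eval_add : ∀ s a b, eval s (add a b) = eval s a + eval s b
  eval_unit : ∀ s j, j < m → eval s (unit j) = s j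
  eval_eq_zero : ∀ {s : ℕ → ZMod p}, (∀ j < m, s j = 0) → ∀ v, eval s v = 0

/-- Bit vectors. -/
def xorVec (m : ℕ) : SVec 2 m where
  add := Nat.xor
  unit j := Nat.shiftLeft 1 j
  eval s v := ∑ j ∈ range m, if v.testBit j then s j else 0
  eval_zero s := by simp
  eval_add s a b := by
    rw [← sum_add_distrib]
    refine sum_congr rfl fun j _ => ?_
    show (if (a ^^^ b).testBit j then s j else 0) = _
    rw [Nat.testBit_xor]
    cases a.testBit j <;> cases b.testBit j <;> simp [CharTwo.add_self_eq_zero]
  eval_unit s j hj := by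
    simp only [Nat.shiftLeft_eq', Nat.one_shiftLeft, Nat.testBit_two_pow, decide_eq_true_eq]
    rw [sum_ite_eq, if_pos (mem_range.2 hj)]
  eval_eq_zero h v := sum_eq_zero fun j hj => by rw [h j (mem_range.1 hj), ite_self]

/-- Digitwise addition in base `p`. -/
def dadd (p : ℕ) : ℕ → ℕ → ℕ → ℕ
  | 0, _, _ => 0
  | n + 1, a, b => (a % p + b % p) % p + p * dadd p n (a / p) (b / p)

theorem dadd_digit {p : ℕ} (hp : 0 < p) : ∀ (n a b j : ℕ), j < n →
    dadd p n a b / p ^ j % p = (a / p ^ j % p + b / p ^ j % p) % p := by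
  intro n
  induction n with
  | zero => intro a b j hj; omega
  | succ n ih =>
    intro a b j hj
    have hlt : (a % p + b % p) % p < p := Nat.mod_lt _ hp
    cases j with
    | zero => simp [dadd, Nat.add_mod]
    | succ j =>
      rw [dadd, pow_succ', ← Nat.div_div_eq_div_mul, ← Nat.div_div_eq_div_mul, ← Nat.div_div_eq_div_mul,
        Nat.add_mul_div_left _ _ hp, Nat.div_eq_of_lt hlt, Nat.zero_add]
      exact ih _ _ _ (by omega)

/-- Digit vectors in base `p`. -/
def digitVec (p m : ℕ) [Fact (1 < p)] : SVec p m where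
  add := dadd p m
  unit j := p ^ j
  eval s v := ∑ j ∈ range m, ((v / p ^ j % p : ℕ) : ZMod p) * s j
  eval_zero s := by simp
  eval_add s a b := by
    have hp : 0 < p := by have := Fact.out (p := 1 < p); omega
    rw [← sum_add_distrib]
    refine sum_congr rfl fun j hj => ?_
    rw [dadd_digit hp m a b j (mem_range.1 hj), ZMod.natCast_mod, Nat.cast_add, add_mul]
  eval_unit s i hi := by
    have hp : 1 < p := Fact.out
    rw [sum_eq_single_of_mem i (mem_range.2 hi)]
    · rw [Nat.div_self (by positivity), Nat.mod_eq_of_lt hp]; simp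
    · intro j hj hne
      rcases Nat.lt_or_gt_of_ne hne with h | h
      · obtain ⟨k, rfl⟩ : ∃ k, i = j + (k + 1) := ⟨i - j - 1, by omega⟩
        rw [pow_add, Nat.mul_div_cancel_left _ (by positivity), pow_succ, Nat.mul_mod_left]
        simp
      · rw [Nat.div_eq_of_lt (Nat.pow_lt_pow_right hp h)]; simp
  eval_eq_zero h v := sum_eq_zero fun j hj => by rw [h j (mem_range.1 hj), mul_zero]

variable {p m : ℕ}

/-- Sum of a list of vectors. -/
def SVec.sum (A : SVec p m) : List ℕ → ℕ
  | [] => 0
  | a :: L => A.add a (SVec.sum A L)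

theorem SVec.eval_sum (A : SVec p m) (s : ℕ → ZMod p) : ∀ L : List ℕ,
    A.eval s (A.sum L) = (L.map (A.eval s)).sum := by
  intro L
  induction L with
  | nil => exact A.eval_zero s
  | cons a L ih => rw [SVec.sum, A.eval_add, ih, List.map_cons, List.sum_cons]

/-- A packed table entry. -/
def tget (w t i : ℕ) : ℕ := Nat.land (Nat.shiftRight t (Nat.mul w i)) (Nat.sub (Nat.pow 2 w) 1)

/-- Certificate: points, packed tables (`w` bits), tree, special edges, relators, packed values
(`vw` bits), seeds, steps, constraints and combinations. An edge `(i, x)` is the number `i * N + x`. -/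
structure StemCert where
  N : ℕ
  m : ℕ
  w : ℕ
  tab0 : ℕ
  tab1 : ℕ
  parI : ℕ
  parX : ℕ
  spec : ℕ × ℕ
  rels : List (List ℕ)
  vw : ℕ
  vals : ℕ
  seeds : List (ℕ × ℕ)
  steps : List (ℕ × ℕ × ℕ)
  cons : List (ℕ × ℕ)
  combs : List (List ℕ)

namespace StemCert

variable (c : StemCert)

/-- The table of a generator. -/
def tab (i x : ℕ) : ℕ := if Nat.beq i 0 then tget c.w c.tab0 x else tget c.w c.tab1 x

/-- The generator of the tree edge into a point. -/
def pi' (x : ℕ) : ℕ := tget 1 c.parI x

/-- The tree predecessor of a point. -/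
def px (x : ℕ) : ℕ := tget c.w c.parX x

/-- The value of an edge. -/
def val (e : ℕ) : ℕ := tget c.vw c.vals e

/-- The end of the path of a word, read from the right. -/
def endPt : List ℕ → ℕ → ℕ
  | [], x => x
  | i :: W, x => c.tab i (endPt W x)

/-- The edges of the path of a word. -/
def edges : List ℕ → ℕ → List ℕ
  | [], _ => []
  | i :: W, x => Nat.add (Nat.mul i c.N) (c.endPt W x) :: edges W x

/-- The generators along the tree path to a point. -/
def treeWord : ℕ → ℕ → List ℕ
  | 0, _ => []
  | n + 1, x => if Nat.beq x 0 then [] else c.pi' x :: treeWord n (c.px x)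

/-- The coefficient of the gauge at a special edge. -/
def specCoef (q : ℕ) (e k : ℕ) : ℕ :=
  (if Nat.beq (e / c.N) k then 1 else 0) +
    (q - 1) * (c.treeWord c.N (c.tab (e / c.N) (e % c.N))).count k +
    (c.treeWord c.N (e % c.N)).count k

/-- The special edges determine the gauge. -/
def specOk (q : ℕ) : Bool :=
  (List.range q).all fun a => (List.range q).all fun b => (Nat.beq a 0 && Nat.beq b 0) ||
    !(Nat.beq ((c.specCoef q c.spec.1 0 * a + c.specCoef q c.spec.1 1 * b) % q) 0 &&
      Nat.beq ((c.specCoef q c.spec.2 0 * a + c.specCoef q c.spec.2 1 * b) % q) 0)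

/-- The edges with value zero. -/
def zeroEdges : List ℕ :=
  c.spec.1 :: c.spec.2 :: (List.range (c.N - 1)).map fun x => c.pi' (x + 1) * c.N + c.px (x + 1)

/-- Adding an element to a set of edges. -/
def mark (K e : ℕ) : ℕ := Nat.lor K (Nat.shiftLeft 1 e)

/-- The steps are valid from the known edges `K`. -/
def stepsOk {q : ℕ} (A : SVec q c.m) : List (ℕ × ℕ × ℕ) → ℕ → Bool
  | [], K => (List.range (2 * c.N)).all fun e => K.testBit e
  | st :: rest, K =>
    let P := c.edges (c.rels.getD st.2.1 []) st.2.2
    decide (st.2.1 < c.rels.length) && decide (st.2.2 < c.N) &&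
      (P.all fun e => K.testBit e || Nat.beq e st.1 || Nat.beq ((P.count e) % q) 0) &&
      !(Nat.beq ((P.count st.1) % q) 0) &&
      Nat.beq (A.sum (P.map c.val)) (A.unit st.2.1) &&
      stepsOk A rest (mark K st.1)

/-- The vector of a constraint. -/
def consVec {q : ℕ} (A : SVec q c.m) (k : ℕ) : ℕ :=
  let e := c.cons.getD k (0, 0)
  A.add (A.sum ((c.edges (c.rels.getD e.1 []) e.2).map c.val)) (A.sum (List.replicate (q - 1) (A.unit e.1)))

/-- The combinations of constraints give every unknown. -/
def combsOk {q : ℕ} (A : SVec q c.m) : Bool :=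
  (c.cons.all fun e => decide (e.1 < c.rels.length) && decide (e.2 < c.N)) &&
    (List.range c.m).all fun j => ((c.combs.getD j []).all fun k => decide (k < c.cons.length)) &&
      Nat.beq (A.sum ((c.combs.getD j []).map (c.consVec A))) (A.unit j)

/-- The table, tree and relators are consistent. -/
def shapeOk : Bool :=
  decide (0 < c.N) && decide (c.rels.length ≤ c.m) &&
  ((List.range c.N).all fun x => decide (c.tab 0 x < c.N) && decide (c.tab 1 x < c.N)) &&
  ((List.range (c.N - 1)).all fun x => decide (c.px (x + 1) < x + 1) &&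
    Nat.beq (c.tab (c.pi' (x + 1)) (c.px (x + 1))) (x + 1)) &&
  (c.rels.all fun W => (W.all fun i => decide (i < 2)) &&
    (List.range c.N).all fun x => Nat.beq (c.endPt W x) x) &&
  decide (c.spec.1 < 2 * c.N) && decide (c.spec.2 < 2 * c.N)

/-- The initial values are correct. -/
def initOk {q : ℕ} (A : SVec q c.m) : Bool :=
  (c.zeroEdges.all fun e => Nat.beq (c.val e) 0) &&
  (c.seeds.all fun e => decide (c.rels.length ≤ e.2) && decide (e.2 < c.m) && Nat.beq (c.val e.1) (A.unit e.2)) &&
  decide ((c.seeds.map Prod.snd).Nodup)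

/-- The initially known edges. -/
def known0 : ℕ := (c.zeroEdges ++ c.seeds.map Prod.fst).foldl mark 0

/-- The whole check. -/
def check {q : ℕ} (A : SVec q c.m) : Bool :=
  c.shapeOk && c.specOk q && c.initOk A && c.stepsOk A c.steps c.known0 && c.combsOk A

theorem pi'_lt (x : ℕ) : c.pi' x < 2 := by
  unfold pi' tget
  exact Nat.lt_succ_of_le Nat.and_le_right

theorem testBit_mark (K e i : ℕ) : (mark K e).testBit i = (K.testBit i || decide (e = i)) := by
  show (K ||| 1 <<< e).testBit i = _
  rw [Nat.testBit_or, Nat.one_shiftLeft, Nat.testBit_two_pow]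

theorem testBit_foldl_mark : ∀ (L : List ℕ) (K i : ℕ),
    (L.foldl mark K).testBit i = true → K.testBit i = true ∨ i ∈ L := by
  intro L
  induction L with
  | nil => intro K i h; exact Or.inl h
  | cons a L ih =>
    intro K i h
    rcases ih _ _ h with h | h
    · rw [testBit_mark, Bool.or_eq_true, decide_eq_true_eq] at h
      rcases h with h | h
      · exact Or.inl h
      · exact Or.inr (h ▸ List.mem_cons_self ..)
    · exact Or.inr (List.mem_cons_of_mem _ h)

/-- The potential of a point from values on the tree edges. -/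
noncomputable def potential (f : ℕ → ℕ → ZMod p) : ℕ → ZMod p
  | x => if _h : c.px x < x then f (c.pi' x) (c.px x) + potential f (c.px x) else 0
termination_by x => x

variable {c}

theorem potential_zero (f : ℕ → ℕ → ZMod p) : c.potential f 0 = 0 := by
  rw [potential, dif_neg (by omega)]

theorem shape_lt (h : c.shapeOk = true) {i x : ℕ} (hi : i < 2) (hx : x < c.N) : c.tab i x < c.N := by
  simp only [shapeOk, Bool.and_eq_true, List.all_eq_true, List.mem_range, decide_eq_true_eq,
    Nat.beq_eq] at h
  have := h.1.1.1.1.2 x hx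
  interval_cases i
  exacts [this.1, this.2]

theorem shape_par (h : c.shapeOk = true) {x : ℕ} (hx0 : 0 < x) (hx : x < c.N) :
    c.px x < x ∧ c.tab (c.pi' x) (c.px x) = x := by
  simp only [shapeOk, Bool.and_eq_true, List.all_eq_true, List.mem_range, decide_eq_true_eq,
    Nat.beq_eq] at h
  obtain ⟨x, rfl⟩ : ∃ y, x = y + 1 := ⟨x - 1, by omega⟩
  exact h.1.1.1.2 x (by omega)

theorem shape_rel (h : c.shapeOk = true) {W : List ℕ} (hW : W ∈ c.rels) :
    (∀ i ∈ W, i < 2) ∧ ∀ x < c.N, c.endPt W x = x := by
  simp only [shapeOk, Bool.and_eq_true, List.all_eq_true, List.mem_range, decide_eq_true_eq,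
    Nat.beq_eq] at h
  exact h.1.1.2 W hW

theorem endPt_lt (h : c.shapeOk = true) {W : List ℕ} (hW : ∀ i ∈ W, i < 2) {x : ℕ} (hx : x < c.N) :
    c.endPt W x < c.N := by
  induction W with
  | nil => exact hx
  | cons i W ih =>
    exact shape_lt h (hW i (List.mem_cons_self ..)) (ih fun j hj => hW j (List.mem_cons_of_mem _ hj))

/-- The total of a function along the path of a word. -/
def pathSum (c : StemCert) (v : ℕ → ℕ → ZMod p) : List ℕ → ℕ → ZMod p
  | [], _ => 0
  | i :: W, x => v i (c.endPt W x) + pathSum c v W x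

theorem pathSum_eq_edges (h : c.shapeOk = true) (v : ℕ → ℕ → ZMod p) {W : List ℕ} (hW : ∀ i ∈ W, i < 2)
    {x : ℕ} (hx : x < c.N) :
    pathSum c v W x = ((c.edges W x).map fun e => v (e / c.N) (e % c.N)).sum := by
  induction W with
  | nil => rfl
  | cons i W ih =>
    have hW' : ∀ j ∈ W, j < 2 := fun j hj => hW j (List.mem_cons_of_mem _ hj)
    have he := endPt_lt h hW' hx
    rw [pathSum, edges, List.map_cons, List.sum_cons, ih hW']
    congr 1
    show _ = v ((i * c.N + c.endPt W x) / c.N) ((i * c.N + c.endPt W x) % c.N)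
    rw [Nat.mul_comm i, Nat.mul_add_div (by omega), Nat.div_eq_of_lt he, Nat.add_zero,
      Nat.mul_add_mod, Nat.mod_eq_of_lt he]

theorem potential_count (h : c.shapeOk = true) (v : ℕ → ℕ → ZMod p) (a : ℕ → ZMod p) :
    ∀ n x, x < c.N → x ≤ n →
      c.potential (fun i y => v i y - a i) x =
        c.potential v x - ((c.treeWord n x).count 0 * a 0 + (c.treeWord n x).count 1 * a 1) := by
  intro n
  induction n with
  | zero =>
    intro x _ hx
    obtain rfl : x = 0 := by omega
    simp [treeWord, potential_zero]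
  | succ n ih =>
    intro x hxN hx
    rcases Nat.eq_zero_or_pos x with rfl | hpos
    · simp [treeWord, potential_zero]
    obtain ⟨hlt, -⟩ := shape_par h hpos hxN
    rw [potential, dif_pos hlt, ih _ (by omega) (by omega)]
    conv_rhs => rw [potential, dif_pos hlt, treeWord]
    have hne : Nat.beq x 0 = false := by
      cases e : Nat.beq x 0
      · rfl
      · have := Nat.eq_of_beq_eq_true e; omega
    simp only [hne, Bool.false_eq_true, if_false, List.count_cons]
    have := c.pi'_lt x
    interval_cases c.pi' x <;> simp <;> ring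

/-- A cocycle passing the check is a coboundary. -/
theorem exists_coboundary [Fact p.Prime] (A : SVec p c.m) (hc : c.check A = true) (v : ℕ → ℕ → ZMod p)
    (z : ℕ → ZMod p) (hz : ∀ r < c.rels.length, ∀ x < c.N, pathSum c v (c.rels.getD r []) x = z r) :
    ∃ (a : ℕ → ZMod p) (d : ℕ → ZMod p), ∀ i < 2, ∀ x < c.N, v i x = a i + d (c.tab i x) - d x := by
  simp only [check, Bool.and_eq_true] at hc
  obtain ⟨⟨⟨⟨hsh, hsp⟩, hin⟩, hst⟩, hco⟩ := hc
  have hp1 : 1 < p := (Fact.out : p.Prime).one_lt
  have hN : 0 < c.N := by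
    simp only [shapeOk, Bool.and_eq_true, decide_eq_true_eq] at hsh
    exact hsh.1.1.1.1.1.1
  have hspec : c.spec.1 < 2 * c.N ∧ c.spec.2 < 2 * c.N := by
    simp only [shapeOk, Bool.and_eq_true, decide_eq_true_eq] at hsh
    exact ⟨hsh.1.2, hsh.2⟩
  have hrl : c.rels.length ≤ c.m := by
    simp only [shapeOk, Bool.and_eq_true, decide_eq_true_eq] at hsh
    exact hsh.1.1.1.1.1.2
  have hdiv : ∀ e, e < 2 * c.N → e / c.N < 2 ∧ e % c.N < c.N := fun e he =>
    ⟨(Nat.div_lt_iff_lt_mul hN).2 he, Nat.mod_lt _ hN⟩
  -- the gauge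
  let u : (ℕ → ZMod p) → ℕ → ZMod p := fun a e =>
    v (e / c.N) (e % c.N) - a (e / c.N) -
      (c.potential (fun i y => v i y - a i) (c.tab (e / c.N) (e % c.N)) -
        c.potential (fun i y => v i y - a i) (e % c.N))
  let af : ZMod p × ZMod p → ℕ → ZMod p := fun a i => if i = 0 then a.1 else a.2
  have hu : ∀ e, e < 2 * c.N → ∀ a : ZMod p × ZMod p, u (af a) e = u (af 0) e -
      ((c.specCoef p e 0 : ℕ) * a.1 + (c.specCoef p e 1 : ℕ) * a.2) := by
    intro e he a
    obtain ⟨h1, h2⟩ := hdiv e he
    have h3 := shape_lt hsh h1 h2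
    have hm1 : ((p - 1 : ℕ) : ZMod p) = -1 := by
      rw [Nat.cast_sub hp1.le]; simp
    simp only [u, potential_count hsh v _ c.N _ h2 h2.le, potential_count hsh v _ c.N _ h3 h3.le]
    simp only [specCoef, Nat.cast_add, Nat.cast_mul, hm1]
    obtain h1 | h1 : e / c.N = 0 ∨ e / c.N = 1 := by generalize e / c.N = q at h1; omega
    all_goals simp [af, h1]; ring
  let L : ZMod p × ZMod p → ZMod p × ZMod p := fun a =>
    ((c.specCoef p c.spec.1 0 : ℕ) * a.1 + (c.specCoef p c.spec.1 1 : ℕ) * a.2,
     (c.specCoef p c.spec.2 0 : ℕ) * a.1 + (c.specCoef p c.spec.2 1 : ℕ) * a.2)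
  have hL : Function.Injective L := by
    intro a b hab
    by_contra hne
    simp only [L, Prod.mk.injEq] at hab
    have hd1 : (c.specCoef p c.spec.1 0 : ℕ) * (a.1 - b.1) + (c.specCoef p c.spec.1 1 : ℕ) * (a.2 - b.2) = 0 := by
      linear_combination hab.1
    have hd2 : (c.specCoef p c.spec.2 0 : ℕ) * (a.1 - b.1) + (c.specCoef p c.spec.2 1 : ℕ) * (a.2 - b.2) = 0 := by
      linear_combination hab.2
    simp only [specOk, List.all_eq_true, List.mem_range, Bool.or_eq_true, Bool.and_eq_true,
      Bool.not_eq_true', Bool.and_eq_false_iff, Nat.beq_eq] at hsp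
    have := hsp (a.1 - b.1).val (ZMod.val_lt _) (a.2 - b.2).val (ZMod.val_lt _)
    have hbf : ∀ k : ℕ, Nat.beq (k % p) 0 = false → (k : ZMod p) ≠ 0 := by
      intro k hk h0
      rw [ZMod.natCast_eq_zero_iff, Nat.dvd_iff_mod_eq_zero] at h0
      rw [h0] at hk; exact absurd hk (by decide)
    rcases this with ⟨h1, h2⟩ | h | h
    · refine hne (Prod.ext ?_ ?_)
      · exact sub_eq_zero.1 ((ZMod.val_eq_zero _).1 h1)
      · exact sub_eq_zero.1 ((ZMod.val_eq_zero _).1 h2)
    · exact hbf _ h (by push_cast [ZMod.natCast_zmod_val]; exact hd1)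
    · exact hbf _ h (by push_cast [ZMod.natCast_zmod_val]; exact hd2)
  obtain ⟨a, ha⟩ := (Finite.injective_iff_surjective.1 hL) (u (af 0) c.spec.1, u (af 0) c.spec.2)
  simp only [L, Prod.mk.injEq] at ha
  set d := c.potential (fun i y => v i y - af a i) with hd
  refine ⟨af a, d, ?_⟩
  have hu1 : u (af a) c.spec.1 = 0 := by rw [hu _ hspec.1, ha.1, sub_self]
  have hu2 : u (af a) c.spec.2 = 0 := by rw [hu _ hspec.2, ha.2, sub_self]
  set U := u (af a) with hU
  have htree : ∀ x, x + 1 < c.N → U (c.pi' (x + 1) * c.N + c.px (x + 1)) = 0 := by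
    intro x hx
    obtain ⟨hlt, htab⟩ := shape_par hsh (x := x + 1) (by omega) hx
    have hpx : c.px (x + 1) < c.N := by omega
    simp only [hU, u]
    rw [Nat.mul_comm (c.pi' (x + 1)), Nat.mul_add_div hN, Nat.div_eq_of_lt hpx, Nat.add_zero,
      Nat.mul_add_mod, Nat.mod_eq_of_lt hpx, htab]
    conv_lhs => arg 2; arg 1; rw [potential, dif_pos hlt]
    ring
  -- relators
  let asum : List ℕ → ZMod p := fun W => (W.map (af a)).sum
  have htel : ∀ W : List ℕ, (∀ i ∈ W, i < 2) → ∀ x < c.N,
      ((c.edges W x).map U).sum = pathSum c v W x - asum W - (d (c.endPt W x) - d x) := by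
    intro W hW x hx
    induction W with
    | nil => simp [edges, asum, endPt, pathSum]
    | cons i W ih =>
      have hW' : ∀ j ∈ W, j < 2 := fun j hj => hW j (List.mem_cons_of_mem _ hj)
      have he := endPt_lt hsh hW' hx
      rw [edges, List.map_cons, List.sum_cons, ih hW', endPt, pathSum]
      simp only [asum, List.map_cons, List.sum_cons, hU, u, hd, Nat.add_eq, Nat.mul_eq]
      rw [Nat.mul_comm i, Nat.mul_add_div hN, Nat.div_eq_of_lt he, Nat.add_zero, Nat.mul_add_mod,
        Nat.mod_eq_of_lt he]
      ring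
  let s : ℕ → ZMod p := fun j =>
    if j < c.rels.length then z j - asum (c.rels.getD j [])
    else U (((c.seeds.find? fun e => e.2 == j).map Prod.fst).getD 0)
  have hrel : ∀ r < c.rels.length, ∀ x < c.N, ((c.edges (c.rels.getD r []) x).map U).sum = s r := by
    intro r hr x hx
    obtain ⟨hW, hWx⟩ := shape_rel hsh (List.getD_eq_getElem _ _ hr ▸ List.getElem_mem hr)
    rw [htel _ hW x hx, hWx x hx, hz r hr x hx, sub_self, sub_zero]
    simp only [s, if_pos hr]
  simp only [initOk, Bool.and_eq_true, List.all_eq_true, decide_eq_true_eq, Nat.beq_eq] at hin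
  obtain ⟨⟨hz0, hseed⟩, hnd⟩ := hin
  have hinit : ∀ e, c.known0.testBit e = true → U e = A.eval s (c.val e) := by
    intro e he
    rcases testBit_foldl_mark _ _ _ he with h | h
    · simp at h
    rcases List.mem_append.1 h with h | h
    · rw [hz0 e h, A.eval_zero]
      rcases List.mem_cons.1 h with rfl | h
      · exact hu1
      rcases List.mem_cons.1 h with rfl | h
      · exact hu2
      obtain ⟨x, hx, rfl⟩ := List.mem_map.1 h
      exact htree x (by have := List.mem_range.1 hx; omega)
    · obtain ⟨q, hq, rfl⟩ := List.mem_map.1 h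
      obtain ⟨⟨h1, h2⟩, h3⟩ := hseed q hq
      rw [h3, A.eval_unit s _ h2]
      have hfind : c.seeds.find? (fun e => e.2 == q.2) = some q := by
        cases e : c.seeds.find? (fun e => e.2 == q.2) with
        | none =>
          rw [List.find?_eq_none] at e
          exact absurd (e q hq) (by simp)
        | some q' =>
          have hq' := List.mem_of_find?_eq_some e
          have he2 : q'.2 = q.2 := by simpa using List.find?_some e
          rw [List.inj_on_of_nodup_map hnd hq' hq he2]
      simp only [s, if_neg (Nat.not_lt.2 h1), hfind, Option.map_some, Option.getD_some]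
  have key : ∀ (st : List (ℕ × ℕ × ℕ)) (K : ℕ), c.stepsOk A st K = true →
      (∀ e, K.testBit e = true → U e = A.eval s (c.val e)) →
      ∀ e < 2 * c.N, U e = A.eval s (c.val e) := by
    intro st
    induction st with
    | nil =>
      intro K hK hinv e he
      exact hinv e (List.all_eq_true.1 hK e (List.mem_range.2 he))
    | cons q rest ih =>
      intro K hK hinv
      simp only [stepsOk, Bool.and_eq_true, decide_eq_true_eq, List.all_eq_true, Bool.or_eq_true,
        Nat.beq_eq, Bool.not_eq_true'] at hK
      obtain ⟨⟨⟨⟨⟨h1, h2⟩, h3⟩, h4⟩, h5⟩, h6⟩ := hK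
      refine ih _ h6 fun e he => ?_
      rw [testBit_mark, Bool.or_eq_true, decide_eq_true_eq] at he
      rcases he with he | rfl
      · exact hinv e he
      set P := c.edges (c.rels.getD q.2.1 []) q.2.2 with hP
      have hs1 : (P.map fun e => U e - A.eval s (c.val e)).sum = 0 := by
        have hsub : ∀ L : List ℕ, (L.map fun e => U e - A.eval s (c.val e)).sum =
            (L.map U).sum - (L.map fun e => A.eval s (c.val e)).sum := by
          intro L
          induction L with
          | nil => simp
          | cons e L ihL => simp only [List.map_cons, List.sum_cons, ihL]; ring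
        rw [hsub, hrel _ h1 _ h2]
        have := A.eval_sum s (P.map c.val)
        rw [h5, A.eval_unit s _ (by omega), List.map_map] at this
        rw [show (P.map fun e => A.eval s (c.val e)).sum = s q.2.1 from this.symm, sub_self]
      have hs2 : (P.map fun e => U e - A.eval s (c.val e)).sum =
          (P.count q.1 : ℕ) * (U q.1 - A.eval s (c.val q.1)) := by
        rw [Finset.sum_list_map_count, Finset.sum_eq_single q.1]
        · rw [nsmul_eq_mul]
        · intro e he hne
          rcases h3 e (List.mem_toFinset.1 he) with (h | h) | h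
          · rw [hinv e h, sub_self, nsmul_zero]
          · exact absurd h hne
          · rw [nsmul_eq_mul, (ZMod.natCast_eq_zero_iff _ _).2 (Nat.dvd_of_mod_eq_zero h), zero_mul]
        · intro hn
          rw [List.count_eq_zero_of_not_mem (fun h => hn (List.mem_toFinset.2 h)), zero_smul]
      have hcount : ((P.count q.1 : ℕ) : ZMod p) ≠ 0 := by
        intro h0
        rw [ZMod.natCast_eq_zero_iff, Nat.dvd_iff_mod_eq_zero] at h0
        rw [h0] at h4; exact absurd h4 (by decide)
      rw [hs2] at hs1
      exact sub_eq_zero.1 ((mul_eq_zero.1 hs1).resolve_left hcount)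
  have hval := key c.steps c.known0 hst hinit
  -- constraints
  simp only [combsOk, Bool.and_eq_true, List.all_eq_true, decide_eq_true_eq, List.mem_range,
    Nat.beq_eq] at hco
  obtain ⟨hcons, hcomb⟩ := hco
  have hrow : ∀ k < c.cons.length, A.eval s (c.consVec A k) = 0 := by
    intro k hk
    obtain ⟨h1, h2⟩ := hcons _ (List.getD_eq_getElem _ (0, 0) hk ▸ List.getElem_mem hk)
    have hW := (shape_rel hsh (List.getD_eq_getElem c.rels [] h1 ▸ List.getElem_mem h1)).1
    simp only [consVec, A.eval_add, A.eval_sum, List.map_map, List.map_replicate, List.sum_replicate,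
      A.eval_unit s _ (lt_of_lt_of_le h1 hrl), nsmul_eq_mul]
    have he : ∀ e ∈ c.edges (c.rels.getD (c.cons.getD k (0, 0)).1 []) (c.cons.getD k (0, 0)).2,
        e < 2 * c.N := by
      generalize c.rels.getD (c.cons.getD k (0, 0)).1 [] = W at hW
      induction W with
      | nil => simp [edges]
      | cons i W ihW =>
        intro e he
        rcases List.mem_cons.1 he with rfl | he
        · have := endPt_lt hsh (fun j hj => hW j (List.mem_cons_of_mem _ hj)) h2
          have := hW i (List.mem_cons_self ..)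
          simp only [Nat.add_eq, Nat.mul_eq]
          interval_cases i <;> omega
        · exact ihW (fun j hj => hW j (List.mem_cons_of_mem _ hj)) e he
    rw [show ((A.eval s) ∘ c.val) = fun e => A.eval s (c.val e) from rfl,
      List.map_congr_left (fun e h => (hval e (he e h)).symm), hrel _ h1 _ h2,
      Nat.cast_sub hp1.le]
    simp
  have hs0 : ∀ j < c.m, s j = 0 := by
    intro j hj
    obtain ⟨h1, h2⟩ := hcomb j hj
    rw [← A.eval_unit s j hj, ← h2, A.eval_sum, List.map_map]
    exact List.sum_eq_zero fun y hy => by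
      obtain ⟨k, hk, rfl⟩ := List.mem_map.1 hy
      exact hrow k (h1 k hk)
  intro i hi x hx
  have he : i * c.N + x < 2 * c.N := by interval_cases i <;> omega
  have h0 : U (i * c.N + x) = 0 := by
    rw [hval _ he]
    exact A.eval_eq_zero hs0 _
  simp only [hU, u] at h0
  rw [Nat.mul_comm i, Nat.mul_add_div hN, Nat.div_eq_of_lt hx, Nat.add_zero, Nat.mul_add_mod,
    Nat.mod_eq_of_lt hx, sub_eq_zero] at h0
  linear_combination h0

end StemCert

end Cfsg.Lib.Concrete
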