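import Cfsg.Agent.Lib.Concrete.SteinbergRankOne
import Cfsg.Agent.Lib.Linear.SLBasic

/-!
The Steinberg presentation of the special linear groups over a finite field, by induction on the degree through
the stabiliser of a vector.
-/

set_option autoImplicit false
set_option linter.unusedSectionVars false

namespace Cfsg.Lib.Concrete.StHigh

open scoped Matrix
open Subgroup (closure)

variable {K : Type*} [Field K]

/-- Root elements satisfying the Steinberg relations and generating the group. -/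
structure ESys (K : Type*) [Field K] (ι : Type*) [DecidableEq ι] (P : Type*) [Group P] where
  x : ι → ι → K → P
  add : ∀ {i j}, i ≠ j → ∀ t u, x i j t * x i j u = x i j (t + u)
  comm : ∀ {i j k l}, i ≠ j → k ≠ l → i ≠ l → j ≠ k → ∀ t u, x i j t * x k l u = x k l u * x i j t
  prod : ∀ {i j k}, i ≠ j → j ≠ k → i ≠ k → ∀ t u, x i j t * x j k u = x i k (t * u) * x j k u * x i j t
  rank : ∀ {i j}, i ≠ j → ∀ t u, t ≠ 0 →
    (x i j t * x j i (-t⁻¹) * x i j t) * x i j u * (x i j t * x j i (-t⁻¹) * x i j t)⁻¹ = x j i (-(t⁻¹ ^ 2 * u))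
  gen : closure {g | ∃ i j t, i ≠ j ∧ g = x i j t} = ⊤

namespace ESys

variable {ι : Type*} [DecidableEq ι] {P : Type*} [Group P] (S : ESys K ι P)

theorem x_zero {i j : ι} (h : i ≠ j) : S.x i j 0 = 1 := by
  have := S.add h 0 0
  rw [add_zero] at this
  exact mul_eq_left.1 this

theorem x_inv {i j : ι} (h : i ≠ j) (t : K) : (S.x i j t)⁻¹ = S.x i j (-t) :=
  inv_eq_of_mul_eq_one_right (by rw [S.add h, add_neg_cancel, S.x_zero h])

theorem commute {i j k l : ι} (h1 : i ≠ j) (h2 : k ≠ l) (h3 : i ≠ l) (h4 : j ≠ k) (t u : K) :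
    Commute (S.x i j t) (S.x k l u) := S.comm h1 h2 h3 h4 t u

/-- Conjugation of a neighbour on the right. -/
theorem conj_right {i j k : ι} (h1 : i ≠ j) (h2 : j ≠ k) (h3 : i ≠ k) (t u : K) :
    S.x i j t * S.x j k u * (S.x i j t)⁻¹ = S.x i k (t * u) * S.x j k u := by
  rw [S.prod h1 h2 h3, mul_inv_cancel_right]

/-- Conjugation of a neighbour on the left. -/
theorem conj_left {i j k : ι} (h1 : i ≠ j) (h2 : j ≠ k) (h3 : i ≠ k) (t u : K) :
    S.x j k u * S.x i j t * (S.x j k u)⁻¹ = S.x i k (-(t * u)) * S.x i j t := by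
  rw [mul_inv_eq_iff_eq_mul, mul_assoc, S.prod h1 h2 h3]
  simp only [← mul_assoc]
  rw [S.add h3, neg_add_cancel, S.x_zero h3, one_mul]

/-- The Weyl element. -/
def W (i j : ι) (t : K) : P := S.x i j t * S.x j i (-t⁻¹) * S.x i j t

theorem W_inv {i j : ι} (h : i ≠ j) (t : K) : (S.W i j t)⁻¹ = S.W i j (-t) := by
  simp only [W, mul_inv_rev, S.x_inv h, S.x_inv h.symm, neg_neg, inv_neg, mul_assoc]

theorem W_ik {i j k : ι} (hij : i ≠ j) (hik : i ≠ k) (hjk : j ≠ k) {t : K} (ht : t ≠ 0) (a : K) :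
    S.W i j t * S.x i k a * (S.W i j t)⁻¹ = S.x j k (-(a / t)) := by
  have e1 : S.x i j t * S.x i k a * (S.x i j t)⁻¹ = S.x i k a := by
    rw [S.comm hij hik hik hij.symm, mul_inv_cancel_right]
  have e2 := S.conj_right hij.symm hik hjk (-t⁻¹) a
  have e3 : S.x i j t * (S.x j k (-t⁻¹ * a) * S.x i k a) * (S.x i j t)⁻¹ = S.x j k (-(a / t)) := by
    rw [show S.x i j t * (S.x j k (-t⁻¹ * a) * S.x i k a) * (S.x i j t)⁻¹ =
      (S.x i j t * S.x j k (-t⁻¹ * a) * (S.x i j t)⁻¹) * (S.x i j t * S.x i k a * (S.x i j t)⁻¹) by group,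
      e1, S.conj_right hij hjk hik, (S.commute hik hjk hik hjk.symm _ _).eq, mul_assoc, S.add hik,
      show t * (-t⁻¹ * a) + a = 0 by field_simp; ring, S.x_zero hik, mul_one, show -t⁻¹ * a = -(a / t) by ring]
  calc S.W i j t * S.x i k a * (S.W i j t)⁻¹ = S.x i j t * (S.x j i (-t⁻¹) * (S.x i j t * S.x i k a * (S.x i j t)⁻¹) *
        (S.x j i (-t⁻¹))⁻¹) * (S.x i j t)⁻¹ := by rw [W]; group
    _ = _ := by rw [e1, e2, e3]

theorem W_kj {i j k : ι} (hij : i ≠ j) (hik : i ≠ k) (hjk : j ≠ k) {t : K} (ht : t ≠ 0) (v : K) :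
    S.W i j t * S.x k j v * (S.W i j t)⁻¹ = S.x k i (v / t) := by
  have hki := hik.symm
  have hkj := hjk.symm
  have e1 : S.x i j t * S.x k j v * (S.x i j t)⁻¹ = S.x k j v := by
    rw [S.comm hij hkj hij hjk, mul_inv_cancel_right]
  have e2 := S.conj_left hkj hij.symm hki v (-t⁻¹)
  have e3 : S.x i j t * (S.x k i (-(v * -t⁻¹)) * S.x k j v) * (S.x i j t)⁻¹ = S.x k i (v / t) := by
    rw [show S.x i j t * (S.x k i (-(v * -t⁻¹)) * S.x k j v) * (S.x i j t)⁻¹ =
      (S.x i j t * S.x k i (-(v * -t⁻¹)) * (S.x i j t)⁻¹) * (S.x i j t * S.x k j v * (S.x i j t)⁻¹) by group,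
      e1, S.conj_left hki hij hkj, (S.commute hkj hki hki hjk _ _).eq, mul_assoc, S.add hkj,
      show -(-(v * -t⁻¹) * t) + v = 0 by field_simp; ring, S.x_zero hkj, mul_one, show -(v * -t⁻¹) = v / t by ring]
  calc S.W i j t * S.x k j v * (S.W i j t)⁻¹ = S.x i j t * (S.x j i (-t⁻¹) * (S.x i j t * S.x k j v * (S.x i j t)⁻¹) *
        (S.x j i (-t⁻¹))⁻¹) * (S.x i j t)⁻¹ := by rw [W]; group
    _ = _ := by rw [e1, e2, e3]

theorem W_conj_inv {i j : ι} (hij : i ≠ j) (t : K) {g g' : P}
    (h : S.W i j (-t) * g * (S.W i j (-t))⁻¹ = g') : S.W i j t * g' * (S.W i j t)⁻¹ = g := by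
  rw [← h, ← S.W_inv hij]
  group

/-- A Weyl element permutes the root subgroups. -/
theorem W_conj {i j : ι} (hij : i ≠ j) {t : K} (ht : t ≠ 0) {a b : ι} (hab : a ≠ b) (u : K) :
    ∃ c, S.W i j t * S.x a b u * (S.W i j t)⁻¹ = S.x (Equiv.swap i j a) (Equiv.swap i j b) c := by
  have ht' : -t ≠ 0 := neg_ne_zero.2 ht
  rcases eq_or_ne a i with ha | hai
  · rw [ha] at hab ⊢
    rw [Equiv.swap_apply_left]
    rcases eq_or_ne b j with hb | hbj
    · rw [hb, Equiv.swap_apply_right]
      exact ⟨_, S.rank hij t u ht⟩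
    · rw [Equiv.swap_apply_of_ne_of_ne hab.symm hbj]
      exact ⟨_, S.W_ik hij hab hbj.symm ht u⟩
  rcases eq_or_ne a j with ha | haj
  · rw [ha] at hab hai ⊢
    rw [Equiv.swap_apply_right]
    rcases eq_or_ne b i with hb | hbi
    · rw [hb, Equiv.swap_apply_left]
      refine ⟨-(t ^ 2 * u), S.W_conj_inv hij t ((S.rank hij (-t) (-(t ^ 2 * u)) ht').trans ?_)⟩
      congr 1
      field_simp
    · rw [Equiv.swap_apply_of_ne_of_ne hbi hab.symm]
      refine ⟨t * u, S.W_conj_inv hij t ((S.W_ik hij hbi.symm hab ht' (t * u)).trans ?_)⟩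
      congr 1
      field_simp
  rw [Equiv.swap_apply_of_ne_of_ne hai haj]
  rcases eq_or_ne b j with hb | hbj
  · rw [hb, Equiv.swap_apply_right]
    exact ⟨_, S.W_kj hij hai.symm haj.symm ht u⟩
  rcases eq_or_ne b i with hb | hbi
  · rw [hb, Equiv.swap_apply_left]
    refine ⟨-(t * u), S.W_conj_inv hij t ((S.W_kj hij hai.symm haj.symm ht' (-(t * u))).trans ?_)⟩
    congr 1
    field_simp
  rw [Equiv.swap_apply_of_ne_of_ne hbi hbj]
  refine ⟨u, ?_⟩
  rw [mul_inv_eq_iff_eq_mul, W]
  exact ((((S.commute hij hab hbi.symm haj.symm _ _).mul_left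
    (S.commute hij.symm hab hbj.symm hai.symm _ _)).mul_left (S.commute hij hab hbi.symm haj.symm _ _))).eq

/-- A torus element. -/
def H (i j : ι) (t : K) : P := S.W i j t * S.W i j (-1)

theorem H_conj {i j : ι} (hij : i ≠ j) {t : K} (ht : t ≠ 0) {a b : ι} (hab : a ≠ b) (u : K) :
    ∃ c, S.H i j t * S.x a b u * (S.H i j t)⁻¹ = S.x a b c := by
  obtain ⟨c₁, h₁⟩ := S.W_conj hij (neg_ne_zero.2 one_ne_zero) hab u
  obtain ⟨c₂, h₂⟩ := S.W_conj hij ht ((Equiv.swap i j).injective.ne hab) c₁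
  refine ⟨c₂, ?_⟩
  rw [Equiv.swap_apply_self, Equiv.swap_apply_self] at h₂
  rw [← h₂, ← h₁, H]
  group

theorem H_conj_inv {i j : ι} (hij : i ≠ j) {t : K} (ht : t ≠ 0) {a b : ι} (hab : a ≠ b) (u : K) :
    ∃ c, (S.H i j t)⁻¹ * S.x a b u * S.H i j t = S.x a b c := by
  obtain ⟨c₁, h₁⟩ := S.W_conj hij (neg_ne_zero.2 ht) hab u
  obtain ⟨c₂, h₂⟩ := S.W_conj hij (t := -(-1 : K)) (by rw [neg_neg]; exact one_ne_zero)
    ((Equiv.swap i j).injective.ne hab) c₁
  refine ⟨c₂, ?_⟩
  rw [Equiv.swap_apply_self, Equiv.swap_apply_self] at h₂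
  rw [← h₂, ← h₁, H, ← S.W_inv hij t, ← S.W_inv hij (-1)]
  group

/-- Transport along a bijection of index sets. -/
def reindex {κ : Type*} [DecidableEq κ] (e : κ ≃ ι) : ESys K κ P where
  x i j t := S.x (e i) (e j) t
  add h := S.add (e.injective.ne h)
  comm h1 h2 h3 h4 := S.comm (e.injective.ne h1) (e.injective.ne h2) (e.injective.ne h3) (e.injective.ne h4)
  prod h1 h2 h3 := S.prod (e.injective.ne h1) (e.injective.ne h2) (e.injective.ne h3)
  rank h := S.rank (e.injective.ne h)
  gen := by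
    rw [eq_top_iff, ← S.gen]
    refine Subgroup.closure_mono ?_
    rintro _ ⟨i, j, t, h, rfl⟩
    exact ⟨e.symm i, e.symm j, t, e.symm.injective.ne h, by simp⟩

end ESys

/-- The subgroup generated by the root subgroups with indices in given positions. -/
def rootGen {ι : Type*} [DecidableEq ι] {P : Type*} [Group P] (S : ESys K ι P) (p : ι → ι → Prop) : Subgroup P :=
  closure {g | ∃ i j t, i ≠ j ∧ p i j ∧ g = S.x i j t}

theorem mem_rootGen {ι : Type*} [DecidableEq ι] {P : Type*} [Group P] (S : ESys K ι P) {p : ι → ι → Prop} {i j : ι}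
    (h : i ≠ j) (hp : p i j) (t : K) : S.x i j t ∈ rootGen S p :=
  Subgroup.subset_closure ⟨i, j, t, h, hp, rfl⟩

theorem rootGen_conj {ι : Type*} [DecidableEq ι] {P : Type*} [Group P] (S : ESys K ι P) {p : ι → ι → Prop}
    {T : Subgroup P} {g : P} (h : ∀ i j t, i ≠ j → p i j → g * S.x i j t * g⁻¹ ∈ T) {y : P}
    (hy : y ∈ rootGen S p) : g * y * g⁻¹ ∈ T := by
  have : rootGen S p ≤ T.comap (MulAut.conj g).toMonoidHom := by
    rw [rootGen, Subgroup.closure_le]
    rintro _ ⟨i, j, t, hij, hp, rfl⟩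
    exact h i j t hij hp
  exact this hy

theorem rootGen_normalised {ι : Type*} [DecidableEq ι] {P : Type*} [Group P] (S : ESys K ι P) {p q : ι → ι → Prop}
    (h : ∀ a b i j t u, a ≠ b → q a b → i ≠ j → p i j → S.x a b u * S.x i j t * (S.x a b u)⁻¹ ∈ rootGen S p) :
    ∀ g ∈ rootGen S q, ∀ y ∈ rootGen S p, g * y * g⁻¹ ∈ rootGen S p := by
  intro g hg
  induction hg using Subgroup.closure_induction_left with
  | one => intro y hy; simpa using hy
  | mul_left s hs g _ ih =>
    intro y hy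
    obtain ⟨a, b, u, hab, hq, rfl⟩ := hs
    have := rootGen_conj S (fun i j t hij hp => h a b i j t u hab hq hij hp) (ih y hy)
    simpa [mul_assoc] using this
  | inv_mul_cancel s hs g _ ih =>
    intro y hy
    obtain ⟨a, b, u, hab, hq, rfl⟩ := hs
    have := rootGen_conj S (fun i j t hij hp => h a b i j t (-u) hab hq hij hp) (ih y hy)
    rw [← S.x_inv hab] at this
    simpa [mul_assoc] using this

section Step

variable {m : ℕ} {P : Type*} [Group P] (S : ESys K (Fin (m + 2) ⊕ Unit) P)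


/-- Both indices in the block. -/
def inBlock {α : Type*} (i j : α ⊕ Unit) : Prop := i.isLeft = true ∧ j.isLeft = true

/-- The last row. -/
def inRow {α : Type*} (i j : α ⊕ Unit) : Prop := i.isLeft = false ∧ j.isLeft = true

/-- The last column. -/
def inCol {α : Type*} (i j : α ⊕ Unit) : Prop := i.isLeft = true ∧ j.isLeft = false

/-- The embedding of the smaller group. -/
def emb {α : Type*} [Fintype α] [DecidableEq α] :
    Matrix.SpecialLinearGroup α K →* Matrix.SpecialLinearGroup (α ⊕ Unit) K where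
  toFun A := ⟨Matrix.fromBlocks (A : Matrix α α K) 0 0 1, by simp [Matrix.det_fromBlocks_zero₂₁]⟩
  map_one' := Subtype.ext (by simp)
  map_mul' A B := Subtype.ext (by
    show _ = Matrix.fromBlocks _ _ _ _ * Matrix.fromBlocks _ _ _ _
    simp [Matrix.fromBlocks_multiply])

@[simp] theorem emb_coe {α : Type*} [Fintype α] [DecidableEq α] (A : Matrix.SpecialLinearGroup α K) :
    ((emb A : Matrix.SpecialLinearGroup (α ⊕ Unit) K) : Matrix (α ⊕ Unit) (α ⊕ Unit) K) =
      Matrix.fromBlocks (A : Matrix α α K) 0 0 1 := rfl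

theorem emb_transvection {α : Type*} [Fintype α] [DecidableEq α] {a b : α} (h : a ≠ b) (t : K) :
    emb (Matrix.SpecialLinearGroup.transvection h t) =
      Matrix.SpecialLinearGroup.transvection (show (Sum.inl a : α ⊕ Unit) ≠ Sum.inl b by simpa using h) t := by
  refine Matrix.SpecialLinearGroup.ext _ _ fun i j => ?_
  rcases i with i | i <;> rcases j with j | j <;>
    simp [emb_coe, Matrix.SpecialLinearGroup.transvection_coe, Matrix.transvection, Matrix.single, Matrix.one_apply]

theorem emb_injective {α : Type*} [Fintype α] [DecidableEq α] : Function.Injective (emb (K := K) (α := α)) :=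
  fun A B h => Matrix.SpecialLinearGroup.ext _ _ fun i j => congrFun (congrFun (congrArg Subtype.val h) (Sum.inl i)) (Sum.inl j)

theorem tv {α : Type*} [Fintype α] [DecidableEq α] {i j : α} (h : i ≠ j) (t : K) (v : α → K) :
    ((Matrix.SpecialLinearGroup.transvection h t : Matrix.SpecialLinearGroup α K) : Matrix α α K) *ᵥ v =
      v + (t * v j) • Pi.single i 1 := by
  ext k
  simp [Matrix.SpecialLinearGroup.transvection_coe, Matrix.add_mulVec, Matrix.single_mulVec, Function.update_apply,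
    Pi.single_apply]

/-- Matrices fixing the first basis vector. -/
theorem stab_mem {k : ℕ} (A : Matrix.SpecialLinearGroup (Fin (k + 1)) K)
    (hA : ∀ i, (A : Matrix (Fin (k + 1)) (Fin (k + 1)) K) i 0 = if i = 0 then 1 else 0) :
    A ∈ closure {g | ∃ (i j : Fin (k + 1)) (h : i ≠ j) (t : K), j ≠ 0 ∧
      g = Matrix.SpecialLinearGroup.transvection h t} := by
  classical
  set Sg := closure {g | ∃ (i j : Fin (k + 1)) (h : i ≠ j) (t : K), j ≠ 0 ∧
      g = Matrix.SpecialLinearGroup.transvection h t} with hSg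
  have hB : (Matrix.of fun i j : Fin k => (A : Matrix (Fin (k + 1)) (Fin (k + 1)) K) i.succ j.succ).det = 1 := by
    have h := A.2
    rw [Matrix.det_succ_column_zero, Finset.sum_eq_single 0 (fun i _ hi => by rw [hA, if_neg hi]; simp) (by simp)] at h
    rw [hA, if_pos rfl] at h
    simpa [Matrix.submatrix] using h
  let e : Fin k ⊕ Unit ≃ Fin (k + 1) :=
    ((Equiv.optionEquivSumPUnit (Fin k)).symm.trans (finSuccEquiv k).symm)
  have he1 : ∀ i, e (Sum.inl i) = i.succ := fun i => by simp [e]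
  have he2 : e (Sum.inr ()) = 0 := by simp [e]
  let ψ : Matrix.SpecialLinearGroup (Fin k) K →* Matrix.SpecialLinearGroup (Fin (k + 1)) K :=
    { toFun := fun B => ⟨Matrix.reindex e e (emb B : Matrix.SpecialLinearGroup (Fin k ⊕ Unit) K).1, by
        rw [Matrix.det_reindex_self]; exact (emb B).2⟩
      map_one' := Subtype.ext (by simp)
      map_mul' := fun B C => Subtype.ext (by
        show Matrix.reindex e e (emb (B * C)).1 = _
        rw [map_mul, Matrix.SpecialLinearGroup.coe_mul]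
        exact (map_mul (Matrix.reindexAlgEquiv K K e) _ _)) }
  have hψ : ∀ B, ψ B ∈ Sg := by
    intro B
    have hle : (⊤ : Subgroup (Matrix.SpecialLinearGroup (Fin k) K)) ≤ Sg.comap ψ := by
      rw [← Cfsg.Lib.Linear.closure_transvection_eq_top, Subgroup.closure_le]
      rintro _ ⟨a, b, hab, c, rfl⟩
      refine Subgroup.subset_closure ⟨a.succ, b.succ, by simpa using hab, c, b.succ_ne_zero, Subtype.ext ?_⟩
      show Matrix.reindex e e (emb (Matrix.SpecialLinearGroup.transvection hab c)).1 = _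
      rw [emb_transvection]
      ext i j
      simp only [Matrix.reindex_apply, Matrix.submatrix_apply, Matrix.SpecialLinearGroup.transvection_coe,
        Matrix.add_apply, Matrix.one_apply, Matrix.single_apply, Equiv.eq_symm_apply, e.symm.injective.eq_iff,
        he1]
    exact hle (Subgroup.mem_top B)
  -- clear the first row
  have hrow : ∀ (s : Finset (Fin k)) (c : Fin k → K), ∃ R ∈ Sg,
      (R : Matrix (Fin (k + 1)) (Fin (k + 1)) K) = 1 + ∑ j ∈ s, Matrix.single 0 j.succ (c j) := by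
    intro s c
    induction s using Finset.induction with
    | empty => exact ⟨1, one_mem _, by simp⟩
    | insert a s ha ih =>
      obtain ⟨R, hR, e⟩ := ih
      refine ⟨Matrix.SpecialLinearGroup.transvection (a.succ_ne_zero).symm (c a) * R,
        mul_mem (Subgroup.subset_closure ⟨_, _, _, _, a.succ_ne_zero, rfl⟩) hR, ?_⟩
      rw [Matrix.SpecialLinearGroup.coe_mul, e, Matrix.SpecialLinearGroup.transvection_coe, Finset.sum_insert ha,
        mul_add, add_mul, one_mul, add_mul, Finset.mul_sum, Finset.mul_sum]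
      have : ∀ j ∈ s, Matrix.single (0 : Fin (k + 1)) a.succ (c a) * Matrix.single 0 j.succ (c j) = 0 :=
        fun j _ => Matrix.single_mul_single_of_ne _ _ _ _ a.succ_ne_zero _
      rw [Finset.sum_eq_zero this, add_zero]
      simp only [one_mul, mul_one]
      abel
  set B : Matrix.SpecialLinearGroup (Fin k) K := ⟨_, hB⟩
  obtain ⟨R, hR, hRe⟩ := hrow Finset.univ fun j => (A : Matrix (Fin (k + 1)) (Fin (k + 1)) K) 0 j.succ
  have : A = ψ B * R := by
    refine Matrix.SpecialLinearGroup.ext _ _ fun i j => ?_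
    rw [Matrix.SpecialLinearGroup.coe_mul, hRe, mul_add, mul_one, Finset.mul_sum, Matrix.add_apply, Matrix.sum_apply]
    have hz : ∀ r, (ψ B : Matrix (Fin (k + 1)) (Fin (k + 1)) K) r 0 = if r = 0 then 1 else 0 := by
      intro r
      show (Matrix.reindex e e (emb B).1) r 0 = _
      rw [← he2, Matrix.reindex_apply, Matrix.submatrix_apply, e.symm_apply_apply]
      obtain ⟨r, rfl⟩ := e.surjective r
      rw [e.symm_apply_apply]
      rcases r with r | r <;> simp [e.injective.eq_iff]
    have hs : ∀ r c : Fin k, (ψ B : Matrix (Fin (k + 1)) (Fin (k + 1)) K) r.succ c.succ =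
        (A : Matrix (Fin (k + 1)) (Fin (k + 1)) K) r.succ c.succ := by
      intro r c
      show (Matrix.reindex e e (emb B).1) r.succ c.succ = _
      rw [← he1, ← he1, Matrix.reindex_apply, Matrix.submatrix_apply, e.symm_apply_apply, e.symm_apply_apply,
        emb_coe, Matrix.fromBlocks_apply₁₁]
      simp [B, he1]
    have h0 : ∀ c : Fin k, (ψ B : Matrix (Fin (k + 1)) (Fin (k + 1)) K) 0 c.succ = 0 := by
      intro c
      show (Matrix.reindex e e (emb B).1) 0 c.succ = _
      rw [← he1, ← he2, Matrix.reindex_apply, Matrix.submatrix_apply, e.symm_apply_apply, e.symm_apply_apply]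
      simp
    refine Fin.cases ?_ (fun j => ?_) j
    · rw [hz, hA, Finset.sum_eq_zero, add_zero]
      intro c _
      simp [Matrix.mul_apply, Matrix.single_apply]
    · rw [Finset.sum_eq_single j (fun c _ hc => by simp [Matrix.mul_apply, Matrix.single_apply, hc]) (by simp)]
      simp only [Matrix.mul_single_apply_same, hz]
      refine Fin.cases ?_ (fun r => ?_) i
      · simp [h0]
      · simp [hs]
  rw [this]
  exact mul_mem (hψ B) hR

variable (π : P →* Matrix.SpecialLinearGroup (Fin (m + 2) ⊕ Unit) K)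
  (hπ : ∀ i j (h : i ≠ j) t, π (S.x i j t) = Matrix.SpecialLinearGroup.transvection h t)

theorem noncommProd_step {α M : Type*} [DecidableEq α] [Monoid M] (s : Finset α) {a : α} (ha : a ∈ s) (f g : α → M)
    (hf : (s : Set α).Pairwise (Function.onFun Commute f)) (hg : (s : Set α).Pairwise (Function.onFun Commute g)) (x : M)
    (h : f a = x * g a) (he : ∀ b ∈ s.erase a, f b = g b) : s.noncommProd f hf = x * s.noncommProd g hg := by
  rw [← Finset.mul_noncommProd_erase s ha f hf, ← Finset.mul_noncommProd_erase s ha g hg, h, mul_assoc]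
  congr 2
  exact Finset.noncommProd_congr rfl he _

/-- The image of the last basis vector. -/
def pt (g : P) : (Fin (m + 2) ⊕ Unit) → K := ((π g : Matrix.SpecialLinearGroup (Fin (m + 2) ⊕ Unit) K) : Matrix (Fin (m + 2) ⊕ Unit) (Fin (m + 2) ⊕ Unit) K) *ᵥ Pi.single (Sum.inr ()) 1

theorem pt_one : pt π 1 = Pi.single (Sum.inr ()) 1 := by
  rw [pt, map_one, Matrix.SpecialLinearGroup.coe_one, Matrix.one_mulVec]

theorem pt_mul (g h : P) : pt π (g * h) = ((π g : Matrix.SpecialLinearGroup (Fin (m + 2) ⊕ Unit) K) : Matrix (Fin (m + 2) ⊕ Unit) (Fin (m + 2) ⊕ Unit) K) *ᵥ pt π h := by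
  rw [pt, pt, map_mul, Matrix.SpecialLinearGroup.coe_mul, Matrix.mulVec_mulVec]

/-- The group fixing the last vector. -/
abbrev stabGen : Subgroup P := rootGen S fun _ j => j.isLeft = true

/-- The rank one group at the first and last positions. -/
abbrev pairGen : Subgroup P := rootGen S fun i j =>
  (i = Sum.inl 0 ∧ j = Sum.inr ()) ∨ (i = Sum.inr () ∧ j = Sum.inl 0)

include hπ in
theorem pt_stab {h : P} (hh : h ∈ stabGen S) : pt π h = Pi.single (Sum.inr ()) 1 := by
  induction hh using Subgroup.closure_induction_left with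
  | one => exact pt_one π
  | mul_left s hs g _ ih =>
    obtain ⟨i, j, t, hij, hp, rfl⟩ := hs
    rw [pt_mul, ih, hπ i j hij, tv]
    rcases j with j | j
    · simp
    · simp at hp
  | inv_mul_cancel s hs g _ ih =>
    obtain ⟨i, j, t, hij, hp, rfl⟩ := hs
    rw [S.x_inv hij, pt_mul, ih, hπ i j hij, tv]
    rcases j with j | j
    · simp
    · simp at hp

theorem hzN : (Sum.inl 0 : (Fin (m + 2) ⊕ Unit)) ≠ Sum.inr () := Sum.inl_ne_inr

theorem hN_mem (t : K) : S.x (Sum.inr ()) (Sum.inl 0) t ∈ stabGen S := mem_rootGen S Sum.inr_ne_inl rfl t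

theorem eq_inr {i : (Fin (m + 2) ⊕ Unit)} (h : i.isLeft = false) : i = Sum.inr () := by
  rcases i with i | i
  · simp at h
  · rfl

/-- Conjugation by the rank one group keeps the auxiliary group. -/
theorem pair_normalises_aux :
    ∀ g ∈ pairGen S, ∀ y ∈ rootGen S (fun i j : (Fin (m + 2) ⊕ Unit) => (i = Sum.inl 0 ∨ i = Sum.inr ()) ∧ j.isLeft = true ∧ j ≠ Sum.inl 0),
      g * y * g⁻¹ ∈ rootGen S fun i j : (Fin (m + 2) ⊕ Unit) => (i = Sum.inl 0 ∨ i = Sum.inr ()) ∧ j.isLeft = true ∧ j ≠ Sum.inl 0 := by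
  refine rootGen_normalised S fun a b i j t u hab hq hij hp => ?_
  obtain ⟨hi, hjL, hj0⟩ := hp
  have hjN : j ≠ Sum.inr () := fun e => by simp [e] at hjL
  rcases hq with ⟨rfl, rfl⟩ | ⟨rfl, rfl⟩ <;> rcases hi with rfl | rfl
  · rw [S.comm hab hij hj0.symm (Sum.inr_ne_inl), mul_inv_cancel_right]
    exact mem_rootGen S hij ⟨Or.inl rfl, hjL, hj0⟩ t
  · rw [S.conj_right hab hij hj0.symm]
    exact mul_mem (mem_rootGen S hj0.symm ⟨Or.inl rfl, hjL, hj0⟩ _) (mem_rootGen S hij ⟨Or.inr rfl, hjL, hj0⟩ t)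
  · rw [S.conj_right hab hij hjN.symm]
    exact mul_mem (mem_rootGen S hjN.symm ⟨Or.inr rfl, hjL, hj0⟩ _) (mem_rootGen S hij ⟨Or.inl rfl, hjL, hj0⟩ t)
  · rw [S.comm hab hij hjN.symm hzN, mul_inv_cancel_right]
    exact mem_rootGen S hij ⟨Or.inr rfl, hjL, hj0⟩ t

theorem aux_le : rootGen S (fun i j : (Fin (m + 2) ⊕ Unit) => (i = Sum.inl 0 ∨ i = Sum.inr ()) ∧ j.isLeft = true ∧ j ≠ Sum.inl 0) ≤ stabGen S := by
  rw [rootGen, Subgroup.closure_le]
  rintro _ ⟨i, j, t, hij, ⟨-, hj, -⟩, rfl⟩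
  exact mem_rootGen S hij hj t

variable [Finite K]

/-- The rank one system. -/
def pairSys : StTwo.Sys K ↥(pairGen S) where
  x t := ⟨S.x (Sum.inr ()) (Sum.inl 0) t, mem_rootGen S Sum.inr_ne_inl (Or.inr ⟨rfl, rfl⟩) t⟩
  y t := ⟨S.x (Sum.inl 0) (Sum.inr ()) t, mem_rootGen S hzN (Or.inl ⟨rfl, rfl⟩) t⟩
  x_add t u := Subtype.ext (S.add Sum.inr_ne_inl t u)
  y_add t u := Subtype.ext (S.add hzN t u)
  conj_x t u ht := Subtype.ext (S.rank Sum.inr_ne_inl t u ht)
  conj_y t u ht := Subtype.ext (S.rank hzN t u ht)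
  gen := by
    refine eq_top_iff.2 ((Subgroup.closure_closure_coe_preimage (k := {g | ∃ i j t, i ≠ j ∧
      ((i = Sum.inl 0 ∧ j = Sum.inr ()) ∨ (i = Sum.inr () ∧ j = Sum.inl 0)) ∧ g = S.x i j t})).ge.trans
      (Subgroup.closure_mono ?_))
    rintro ⟨g, hg⟩ ⟨i, j, t, hij, hp, rfl⟩
    rcases hp with ⟨rfl, rfl⟩ | ⟨rfl, rfl⟩
    · exact Or.inr ⟨t, rfl⟩
    · exact Or.inl ⟨t, rfl⟩

theorem coe_h (t : K) : ((StTwo.h (pairSys S) t : ↥(pairGen S)) : P) = S.H (Sum.inr ()) (Sum.inl 0) t := rfl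

theorem coe_w (t : K) : ((StTwo.w (pairSys S) t : ↥(pairGen S)) : P) = S.W (Sum.inr ()) (Sum.inl 0) t := rfl

include hπ in
theorem pt_W {t : K} (ht : t ≠ 0) (a c : K) :
    ((π (S.W (Sum.inr ()) (Sum.inl 0) t) : Matrix.SpecialLinearGroup (Fin (m + 2) ⊕ Unit) K) : Matrix (Fin (m + 2) ⊕ Unit) (Fin (m + 2) ⊕ Unit) K) *ᵥ
      (Pi.single (Sum.inl 0) a + Pi.single (Sum.inr ()) c) =
    Pi.single (Sum.inl 0) (-(c / t)) + Pi.single (Sum.inr ()) (t * a) := by
  rw [ESys.W, map_mul, map_mul, hπ _ _ Sum.inr_ne_inl, hπ _ _ hzN]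
  simp only [Matrix.SpecialLinearGroup.coe_mul, ← Matrix.mulVec_mulVec, tv]
  ext k
  rcases eq_or_ne k (Sum.inl 0) with rfl | hk0
  · simp [Pi.single_eq_of_ne (hzN (m := m))]
    field_simp
    ring
  · rcases k with k | k
    · simp [Pi.single_eq_of_ne hk0]
    · simp [Pi.single_eq_of_ne (hzN (m := m))]
      field_simp
      ring

include hπ in
theorem pt_H {t : K} (ht : t ≠ 0) (a c : K) :
    ((π (S.H (Sum.inr ()) (Sum.inl 0) t) : Matrix.SpecialLinearGroup (Fin (m + 2) ⊕ Unit) K) : Matrix (Fin (m + 2) ⊕ Unit) (Fin (m + 2) ⊕ Unit) K) *ᵥ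
      (Pi.single (Sum.inl 0) a + Pi.single (Sum.inr ()) c) =
    Pi.single (Sum.inl 0) (a / t) + Pi.single (Sum.inr ()) (t * c) := by
  rw [ESys.H, map_mul, Matrix.SpecialLinearGroup.coe_mul, ← Matrix.mulVec_mulVec,
    pt_W S π hπ (neg_ne_zero.2 one_ne_zero), pt_W S π hπ ht]
  congr 2 <;> field_simp

include hπ in
theorem pair_trichotomy {g : P} (hg : g ∈ pairGen S) :
    (∃ a c : K, pt π g = Pi.single (Sum.inl 0) a + Pi.single (Sum.inr ()) c) ∧
    ∀ g' ∈ pairGen S, pt π g' = pt π g → g'⁻¹ * g ∈ stabGen S := by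
  have hfix : ∀ g : P, g ∈ pairGen S → pt π g = Pi.single (Sum.inr ()) 1 → g ∈ stabGen S ∧ True := by
    intro g hg hpt
    refine ⟨?_, trivial⟩
    rcases StTwo.inCells_all (pairSys S) ⟨g, hg⟩ with ⟨t, u, ht, e⟩ | ⟨t, u, v, ht, e⟩
    · have e' : g = S.H (Sum.inr ()) (Sum.inl 0) t * S.x (Sum.inr ()) (Sum.inl 0) u := congrArg Subtype.val e
      rw [e', pt_mul, pt_stab S π hπ (hN_mem S u)] at hpt
      have := pt_H S π hπ ht 0 1
      rw [Pi.single_zero, zero_add, hpt] at this
      have h1 := congrFun this (Sum.inr ())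
      simp [Pi.single_eq_of_ne (hzN (m := m)).symm] at h1
      rw [e', ← h1, ← coe_h, StTwo.h_one]
      simpa using hN_mem S u
    · exfalso
      have e' : g = S.H (Sum.inr ()) (Sum.inl 0) t * S.x (Sum.inr ()) (Sum.inl 0) u *
          S.W (Sum.inr ()) (Sum.inl 0) 1 * S.x (Sum.inr ()) (Sum.inl 0) v := congrArg Subtype.val e
      rw [e', pt_mul, pt_stab S π hπ (hN_mem S v)] at hpt
      have h1 := pt_W S π hπ one_ne_zero 0 1
      rw [Pi.single_zero, zero_add] at h1
      rw [map_mul, map_mul, Matrix.SpecialLinearGroup.coe_mul, Matrix.SpecialLinearGroup.coe_mul,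
        ← Matrix.mulVec_mulVec, ← Matrix.mulVec_mulVec, h1, hπ _ _ Sum.inr_ne_inl, tv] at hpt
      simp only [mul_zero, Pi.single_zero, add_zero, div_one, Pi.single_eq_same] at hpt
      have hh := pt_H S π hπ ht (-1) (-u)
      rw [show (Pi.single (Sum.inl 0) (-1) + (u * -1) • Pi.single (Sum.inr ()) 1 : (Fin (m + 2) ⊕ Unit) → K) =
        Pi.single (Sum.inl 0) (-1) + Pi.single (Sum.inr ()) (-u) by
          congr 1; ext k; simp [Pi.single_apply], hh] at hpt
      have h2 := congrFun hpt (Sum.inl 0)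
      simp [Pi.single_eq_of_ne (hzN (m := m)), ht] at h2
  refine ⟨?_, fun g' hg' e => (hfix _ (mul_mem (inv_mem hg') hg) ?_).1⟩
  · induction hg using Subgroup.closure_induction_left with
    | one => exact ⟨0, 1, by rw [pt_one]; simp⟩
    | mul_left s hs g _ ih =>
      obtain ⟨a, c, e⟩ := ih
      obtain ⟨i, j, t, hij, hp, rfl⟩ := hs
      rw [pt_mul, e, hπ i j hij, tv]
      rcases hp with ⟨rfl, rfl⟩ | ⟨rfl, rfl⟩
      · refine ⟨a + t * c, c, ?_⟩
        ext k; simp [Pi.single_apply]; split_ifs <;> simp_all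
      · refine ⟨a, c + t * a, ?_⟩
        ext k; simp [Pi.single_apply]; split_ifs <;> simp_all
    | inv_mul_cancel s hs g _ ih =>
      obtain ⟨a, c, e⟩ := ih
      obtain ⟨i, j, t, hij, hp, rfl⟩ := hs
      rw [S.x_inv hij, pt_mul, e, hπ i j hij, tv]
      rcases hp with ⟨rfl, rfl⟩ | ⟨rfl, rfl⟩
      · refine ⟨a + -t * c, c, ?_⟩
        ext k; simp [Pi.single_apply]; split_ifs <;> simp_all
      · refine ⟨a, c + -t * a, ?_⟩
        ext k; simp [Pi.single_apply]; split_ifs <;> simp_all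
  · rw [pt_mul, ← e, ← pt_mul, inv_mul_cancel, pt_one]

include hπ in
theorem injective_on_line {p : (Fin (m + 2) ⊕ Unit) → (Fin (m + 2) ⊕ Unit) → Prop} (hp : ∀ i j, p i j → inRow i j ∨ inCol i j)
    (hsame : ∀ i j k l, p i j → p k l → (inRow i j ↔ inRow k l)) {g : P} (hg : g ∈ rootGen S p) (h1 : π g = 1) :
    g = 1 := by
  classical
  have hcm : ∀ i j k l, p i j → p k l → ∀ t u, Commute (S.x i j t) (S.x k l u) := by
    intro i j k l h1 h2 t u
    rcases hp i j h1 with ha | ha <;> rcases hp k l h2 with hb | hb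
    · rw [eq_inr ha.1, eq_inr hb.1]
      refine S.commute (fun e => ?_) (fun e => ?_) (fun e => ?_) (fun e => ?_) t u
      · rw [← e] at ha; simp [inRow] at ha
      · rw [← e] at hb; simp [inRow] at hb
      · rw [← e] at hb; simp [inRow] at hb
      · rw [e] at ha; simp [inRow] at ha
    · exact absurd ((hsame i j k l h1 h2).1 ha) (fun h => by
        have := h.1; rw [hb.1] at this; exact Bool.noConfusion this)
    · exact absurd ((hsame i j k l h1 h2).2 hb) (fun h => by
        have := h.1; rw [ha.1] at this; exact Bool.noConfusion this)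
    · rw [eq_inr ha.2, eq_inr hb.2]
      refine S.commute (fun e => ?_) (fun e => ?_) (fun e => ?_) (fun e => ?_) t u
      · rw [e] at ha; simp [inCol] at ha
      · rw [e] at hb; simp [inCol] at hb
      · rw [e] at ha; simp [inCol] at ha
      · rw [← e] at hb; simp [inCol] at hb
  -- every element is the product of its entries
  have key : ∀ y ∈ rootGen S p, ∃ c : (Fin (m + 2) ⊕ Unit) → (Fin (m + 2) ⊕ Unit) → K, (∀ i j, ¬ p i j → c i j = 0) ∧
      ((π y : Matrix.SpecialLinearGroup (Fin (m + 2) ⊕ Unit) K) : Matrix (Fin (m + 2) ⊕ Unit) (Fin (m + 2) ⊕ Unit) K) = 1 + ∑ i, ∑ j, Matrix.single i j (c i j) ∧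
      ∀ (h : ∀ a ∈ (Finset.univ : Finset ((Fin (m + 2) ⊕ Unit) × (Fin (m + 2) ⊕ Unit))), ∀ b ∈ (Finset.univ : Finset ((Fin (m + 2) ⊕ Unit) × (Fin (m + 2) ⊕ Unit))), a ≠ b → Commute
          (if p a.1 a.2 then S.x a.1 a.2 (c a.1 a.2) else 1) (if p b.1 b.2 then S.x b.1 b.2 (c b.1 b.2) else 1)),
        y = Finset.univ.noncommProd (fun a : (Fin (m + 2) ⊕ Unit) × (Fin (m + 2) ⊕ Unit) => if p a.1 a.2 then S.x a.1 a.2 (c a.1 a.2) else 1) h := by
    have hne : ∀ {i j}, p i j → i ≠ j := fun {i j} h e => by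
      rcases hp i j h with ha | ha <;> rw [e] at ha <;>
        rcases j with j | j <;> simp [inRow, inCol] at ha
    have hstep : ∀ {a b}, p a b → ∀ (t : K) y (c : (Fin (m + 2) ⊕ Unit) → (Fin (m + 2) ⊕ Unit) → K), (∀ i j, ¬ p i j → c i j = 0) →
        ((π y : Matrix.SpecialLinearGroup (Fin (m + 2) ⊕ Unit) K) : Matrix (Fin (m + 2) ⊕ Unit) (Fin (m + 2) ⊕ Unit) K) = 1 + ∑ i, ∑ j, Matrix.single i j (c i j) →
        ((π (S.x a b t * y) : Matrix.SpecialLinearGroup (Fin (m + 2) ⊕ Unit) K) : Matrix (Fin (m + 2) ⊕ Unit) (Fin (m + 2) ⊕ Unit) K) =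
          1 + ∑ i, ∑ j, Matrix.single i j (c i j + if i = a ∧ j = b then t else 0) := by
      intro a b hab t y c hc e
      rw [map_mul, Matrix.SpecialLinearGroup.coe_mul, e, hπ a b (hne hab), Matrix.SpecialLinearGroup.transvection_coe,
        add_mul, one_mul, mul_add, mul_one]
      have hzero : Matrix.single a b t * ∑ i, ∑ j, Matrix.single i j (c i j) = 0 := by
        rw [Finset.mul_sum]
        refine Finset.sum_eq_zero fun i _ => ?_
        rw [Finset.mul_sum]
        refine Finset.sum_eq_zero fun j _ => ?_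
        by_cases hij : p i j
        · refine Matrix.single_mul_single_of_ne _ _ _ _ (fun ebi => ?_) _
          rw [← ebi] at hij
          rcases hp a b hab with ha | ha <;> rcases hp b j hij with hb | hb
          · have := ha.2; rw [hb.1] at this; exact Bool.noConfusion this
          · exact absurd ((hsame a b b j hab hij).1 ha) (fun h => by
              have := h.1; rw [hb.1] at this; exact Bool.noConfusion this)
          · exact absurd ((hsame a b b j hab hij).2 hb) (fun h => by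
              have := h.1; rw [ha.1] at this; exact Bool.noConfusion this)
          · have := hb.1; rw [ha.2] at this; exact Bool.noConfusion this
        · simp [hc i j hij]
      rw [hzero, add_zero]
      simp only [Matrix.single_add, Finset.sum_add_distrib]
      rw [show ∑ i, ∑ j, Matrix.single i j (if i = a ∧ j = b then t else 0) = Matrix.single a b t by
        rw [Finset.sum_eq_single a (fun i _ hi => Finset.sum_eq_zero fun j _ => by simp [hi]) (by simp),
          Finset.sum_eq_single b (fun j _ hj => by simp [hj]) (by simp)]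
        simp]
      abel
    intro y hy
    induction hy using Subgroup.closure_induction_left with
    | one =>
      refine ⟨0, fun _ _ _ => rfl, by simp, fun h => ?_⟩
      refine ((Finset.noncommProd_eq_pow_card _ _ h (1 : P) fun a _ => ?_).trans (one_pow _)).symm
      split_ifs with ha
      · exact S.x_zero (hne ha)
      · rfl
    | mul_left s hs g hg ih =>
      obtain ⟨a, b, t, hab, hpab, rfl⟩ := hs
      obtain ⟨c, hc, e, hprod⟩ := ih
      refine ⟨fun i j => c i j + if i = a ∧ j = b then t else 0, fun i j hij => ?_, hstep hpab t g c hc e, fun h => ?_⟩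
      · show c i j + _ = 0
        rw [hc i j hij, if_neg, add_zero]
        rintro ⟨rfl, rfl⟩; exact hij hpab
      have hcomm : ∀ c : (Fin (m + 2) ⊕ Unit) → (Fin (m + 2) ⊕ Unit) → K, ∀ u ∈ (Finset.univ : Finset ((Fin (m + 2) ⊕ Unit) × (Fin (m + 2) ⊕ Unit))), ∀ v ∈ (Finset.univ : Finset ((Fin (m + 2) ⊕ Unit) × (Fin (m + 2) ⊕ Unit))), u ≠ v →
          Commute (if p u.1 u.2 then S.x u.1 u.2 (c u.1 u.2) else 1)
            (if p v.1 v.2 then S.x v.1 v.2 (c v.1 v.2) else 1) := by
        intro c u _ v _ _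
        split_ifs with h1 h2
        exacts [hcm _ _ _ _ h1 h2 _ _, Commute.one_right _, Commute.one_left _, Commute.one_left _]
      rw [hprod (hcomm c)]
      refine (noncommProd_step Finset.univ (Finset.mem_univ (a, b)) _ _ h _ _ ?_ ?_).symm
      · simp only [hpab, if_true, and_self, S.add hab, add_comm t]
      · intro u hu
        have hne' : ¬ (u.1 = a ∧ u.2 = b) := fun h => (Finset.ne_of_mem_erase hu) (Prod.ext h.1 h.2)
        simp only [if_neg hne', add_zero]
    | inv_mul_cancel s hs g hg ih =>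
      obtain ⟨a, b, t, hab, hpab, rfl⟩ := hs
      rw [S.x_inv hab]
      obtain ⟨c, hc, e, hprod⟩ := ih
      refine ⟨fun i j => c i j + if i = a ∧ j = b then -t else 0, fun i j hij => ?_, hstep hpab (-t) g c hc e,
        fun h => ?_⟩
      · show c i j + _ = 0
        rw [hc i j hij, if_neg, add_zero]
        rintro ⟨rfl, rfl⟩; exact hij hpab
      have hcomm : ∀ c : (Fin (m + 2) ⊕ Unit) → (Fin (m + 2) ⊕ Unit) → K, ∀ u ∈ (Finset.univ : Finset ((Fin (m + 2) ⊕ Unit) × (Fin (m + 2) ⊕ Unit))), ∀ v ∈ (Finset.univ : Finset ((Fin (m + 2) ⊕ Unit) × (Fin (m + 2) ⊕ Unit))), u ≠ v →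
          Commute (if p u.1 u.2 then S.x u.1 u.2 (c u.1 u.2) else 1)
            (if p v.1 v.2 then S.x v.1 v.2 (c v.1 v.2) else 1) := by
        intro c u _ v _ _
        split_ifs with h1 h2
        exacts [hcm _ _ _ _ h1 h2 _ _, Commute.one_right _, Commute.one_left _, Commute.one_left _]
      rw [hprod (hcomm c)]
      refine (noncommProd_step Finset.univ (Finset.mem_univ (a, b)) _ _ h _ _ ?_ ?_).symm
      · simp only [hpab, if_true, and_self, S.add hab, add_comm (-t)]
      · intro u hu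
        have hne' : ¬ (u.1 = a ∧ u.2 = b) := fun h => (Finset.ne_of_mem_erase hu) (Prod.ext h.1 h.2)
        simp only [if_neg hne', add_zero]
  obtain ⟨c, hc, e, hprod⟩ := key g hg
  rw [h1] at e
  have hc0 : c = fun _ _ => 0 := by
    funext i j
    rw [Matrix.SpecialLinearGroup.coe_one] at e
    have e' : Matrix.of c = 0 := by
      rw [Matrix.matrix_eq_sum_single (Matrix.of c)]
      exact left_eq_add.1 e
    exact congrFun (congrFun e' i) j
  have hne : ∀ {i j}, p i j → i ≠ j := fun {i j} h e => by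
    rcases hp i j h with ha | ha <;> rw [e] at ha <;>
      rcases j with j | j <;> simp [inRow, inCol] at ha
  subst hc0
  have h := hprod (fun a _ b _ _ => by
    split_ifs with h1 h2
    exacts [hcm _ _ _ _ h1 h2 _ _, Commute.one_right _, Commute.one_left _, Commute.one_left _])
  rw [h]
  refine (Finset.noncommProd_eq_pow_card _ _ _ (1 : P) fun a _ => ?_).trans (one_pow _)
  split_ifs with ha
  · exact S.x_zero (hne ha)
  · rfl

theorem row_normalised : ∀ g ∈ rootGen S inBlock, ∀ y ∈ rootGen S (inRow (α := Fin (m + 2))),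
    g * y * g⁻¹ ∈ rootGen S (inRow (α := Fin (m + 2))) := by
  refine rootGen_normalised S fun a b i j t u hab hq hij hp => ?_
  rw [eq_inr hp.1] at hij ⊢
  have haN : a ≠ Sum.inr () := fun e => by simp [inBlock, e] at hq
  have hbN : b ≠ Sum.inr () := fun e => by simp [inBlock, e] at hq
  rcases eq_or_ne j a with hja | hja
  · rw [hja] at hij ⊢
    rw [S.conj_left hij hab hbN.symm]
    exact mul_mem (mem_rootGen S hbN.symm ⟨rfl, hq.2⟩ _) (mem_rootGen S hij ⟨rfl, hq.1⟩ t)
  · rw [S.comm hab hij hja.symm hbN, mul_inv_cancel_right]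
    exact mem_rootGen S hij ⟨rfl, hp.2⟩ t

theorem col_normalised : ∀ g ∈ rootGen S inBlock, ∀ y ∈ rootGen S (inCol (α := Fin (m + 2))),
    g * y * g⁻¹ ∈ rootGen S (inCol (α := Fin (m + 2))) := by
  refine rootGen_normalised S fun a b i j t u hab hq hij hp => ?_
  rw [eq_inr hp.2] at hij ⊢
  have haN : a ≠ Sum.inr () := fun e => by simp [inBlock, e] at hq
  have hbN : b ≠ Sum.inr () := fun e => by simp [inBlock, e] at hq
  rcases eq_or_ne b i with hbi | hbi
  · rw [← hbi] at hij ⊢
    rw [S.conj_right hab hij haN]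
    exact mul_mem (mem_rootGen S haN ⟨hq.1, rfl⟩ _) (mem_rootGen S hij ⟨hq.2, rfl⟩ t)
  · rw [S.comm hab hij haN hbi, mul_inv_cancel_right]
    exact mem_rootGen S hij ⟨hp.1, rfl⟩ t

theorem block_le : rootGen S inBlock ≤ stabGen S := by
  rw [rootGen, Subgroup.closure_le]
  rintro _ ⟨i, j, t, hij, hp, rfl⟩
  exact mem_rootGen S hij hp.2 t

theorem row_le : rootGen S (inRow (α := Fin (m + 2))) ≤ stabGen S := by
  rw [rootGen, Subgroup.closure_le]
  rintro _ ⟨i, j, t, hij, hp, rfl⟩
  exact mem_rootGen S hij hp.2 t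

include hπ in
theorem block_range {g : P} (hg : g ∈ rootGen S inBlock) : π g ∈ (emb (K := K) (α := Fin (m + 2))).range := by
  have : rootGen S inBlock ≤ (emb (K := K) (α := Fin (m + 2))).range.comap π := by
    rw [rootGen, Subgroup.closure_le]
    rintro _ ⟨i, j, t, hij, hp, rfl⟩
    rcases i with i | i
    · rcases j with j | j
      · refine ⟨Matrix.SpecialLinearGroup.transvection (show i ≠ j by simpa using hij) t, ?_⟩
        rw [hπ _ _ hij, emb_transvection]
      · simp [inBlock] at hp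
    · simp [inBlock] at hp
  exact this hg

include hπ in
theorem block_onto (B : Matrix.SpecialLinearGroup (Fin (m + 2)) K) : ∃ g ∈ rootGen S inBlock, π g = emb B := by
  have hle : (⊤ : Subgroup (Matrix.SpecialLinearGroup (Fin (m + 2)) K)) ≤ ((rootGen S inBlock).map π).comap emb := by
    rw [← Cfsg.Lib.Linear.closure_transvection_eq_top, Subgroup.closure_le]
    rintro _ ⟨a, b, hab, c, rfl⟩
    refine ⟨S.x (Sum.inl a) (Sum.inl b) c, mem_rootGen S (by simpa using hab) ⟨rfl, rfl⟩ c, ?_⟩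
    rw [hπ _ _ (by simpa using hab : (Sum.inl a : (Fin (m + 2) ⊕ Unit)) ≠ Sum.inl b), emb_transvection]
  obtain ⟨g, hg, e⟩ := hle (Subgroup.mem_top B)
  exact ⟨g, hg, e⟩

/-- The covering property. -/
def Covered (g : P) : Prop := ∃ l ∈ rootGen S inBlock, ∃ h ∈ pairGen S, (l * h)⁻¹ * g ∈ stabGen S

include hπ in
theorem covered_all (hblock : ∀ g ∈ rootGen S inBlock, π g = 1 → g = 1) (g : P) : Covered S g := by
  classical
  have hL : ∀ {g}, Covered S g → ∀ l ∈ rootGen S inBlock, Covered S (l * g) := by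
    rintro g ⟨l', hl', h, hh, he⟩ l hl
    exact ⟨l * l', mul_mem hl hl', h, hh, by rwa [show (l * l' * h)⁻¹ * (l * g) = (l' * h)⁻¹ * g by group]⟩
  have hup : ∀ {g}, Covered S g → ∀ t, Covered S (S.x (Sum.inr ()) (Sum.inl 0) t * g) := by
    rintro g ⟨l, hl, h, hh, he⟩ t
    set s := S.x (Sum.inr ()) (Sum.inl 0) t
    have ha : l⁻¹ * s * l ∈ rootGen S (inRow (α := Fin (m + 2))) := by
      have := row_normalised S l⁻¹ (inv_mem hl) s (mem_rootGen S Sum.inr_ne_inl ⟨rfl, rfl⟩ t)
      rwa [inv_inv] at this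
    -- split off the pair component
    have hsplit : ∀ a ∈ rootGen S (inRow (α := Fin (m + 2))), ∃ t' : K,
        (S.x (Sum.inr ()) (Sum.inl 0) t')⁻¹ * a ∈
          rootGen S fun i j : (Fin (m + 2) ⊕ Unit) => (i = Sum.inl 0 ∨ i = Sum.inr ()) ∧ j.isLeft = true ∧ j ≠ Sum.inl 0 := by
      intro a ha
      induction ha using Subgroup.closure_induction_left with
      | one => exact ⟨0, by rw [S.x_zero Sum.inr_ne_inl, inv_one, one_mul]; exact one_mem _⟩
      | mul_left y hy a _ ih =>
        obtain ⟨i, j, u, hij, hp, rfl⟩ := hy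
        obtain ⟨t', ht'⟩ := ih
        rw [eq_inr hp.1] at hij ⊢
        rcases eq_or_ne j (Sum.inl 0) with rfl | hj
        · refine ⟨u + t', ?_⟩
          rw [← S.add hij, mul_inv_rev, mul_assoc, inv_mul_cancel_left]
          exact ht'
        · refine ⟨t', ?_⟩
          have hjN : j ≠ Sum.inr () := fun e => by simp [inRow, e] at hp
          rw [← mul_assoc, S.x_inv Sum.inr_ne_inl, S.comm Sum.inr_ne_inl hij hjN.symm hzN, ← S.x_inv Sum.inr_ne_inl,
            mul_assoc]
          exact mul_mem (mem_rootGen S hij ⟨Or.inr rfl, hp.2, hj⟩ u) ht'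
      | inv_mul_cancel y hy a _ ih =>
        obtain ⟨i, j, u, hij, hp, rfl⟩ := hy
        obtain ⟨t', ht'⟩ := ih
        rw [S.x_inv hij]
        rw [eq_inr hp.1] at hij ⊢
        rcases eq_or_ne j (Sum.inl 0) with rfl | hj
        · refine ⟨-u + t', ?_⟩
          rw [← S.add hij, mul_inv_rev, mul_assoc, inv_mul_cancel_left]
          exact ht'
        · refine ⟨t', ?_⟩
          have hjN : j ≠ Sum.inr () := fun e => by simp [inRow, e] at hp
          rw [← mul_assoc, S.x_inv Sum.inr_ne_inl, S.comm Sum.inr_ne_inl hij hjN.symm hzN, ← S.x_inv Sum.inr_ne_inl,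
            mul_assoc]
          exact mul_mem (mem_rootGen S hij ⟨Or.inr rfl, hp.2, hj⟩ (-u)) ht'
    obtain ⟨t', ht'⟩ := hsplit _ ha
    refine ⟨l, hl, S.x (Sum.inr ()) (Sum.inl 0) t' * h,
      mul_mem (mem_rootGen S Sum.inr_ne_inl (Or.inr ⟨rfl, rfl⟩) t') hh, ?_⟩
    set y := (S.x (Sum.inr ()) (Sum.inl 0) t')⁻¹ * (l⁻¹ * s * l) with hy
    have e : (l * (S.x (Sum.inr ()) (Sum.inl 0) t' * h))⁻¹ * (s * g) =
        (h⁻¹ * y * (h⁻¹)⁻¹) * ((l * h)⁻¹ * g) := by rw [hy]; group
    rw [e]
    exact mul_mem (aux_le S (pair_normalises_aux S h⁻¹ (inv_mem hh) y ht')) he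
  have hdown : ∀ {g}, Covered S g → ∀ t, Covered S (S.x (Sum.inl 0) (Sum.inr ()) t * g) := by
    rintro g ⟨l, hl, h, hh, he⟩ t
    set s := S.x (Sum.inl 0) (Sum.inr ()) t
    have hcc : l⁻¹ * s * l ∈ rootGen S (inCol (α := Fin (m + 2))) := by
      have := col_normalised S l⁻¹ (inv_mem hl) s (mem_rootGen S hzN ⟨rfl, rfl⟩ t)
      rwa [inv_inv] at this
    set cc := l⁻¹ * s * l with hccdef
    obtain ⟨⟨a, c, hpt⟩, -⟩ := pair_trichotomy S π hπ hh
    by_cases hc : c = 0
    · -- the representative inverts the first and last position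
      have ha : a ≠ 0 := by
        intro ha
        rw [ha, hc, Pi.single_zero, Pi.single_zero, add_zero] at hpt
        have hv := congrArg (fun v => (((π h⁻¹ : Matrix.SpecialLinearGroup (Fin (m + 2) ⊕ Unit) K)) : Matrix (Fin (m + 2) ⊕ Unit) (Fin (m + 2) ⊕ Unit) K) *ᵥ v) hpt
        simp only [← pt_mul, inv_mul_cancel, Matrix.mulVec_zero] at hv
        have := congrFun hv (Sum.inr ())
        simp [pt] at this
      set r := S.H (Sum.inr ()) (Sum.inl 0) (-a⁻¹) * S.W (Sum.inr ()) (Sum.inl 0) 1 with hr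
      have hrmem : r ∈ pairGen S := mul_mem (coe_h S (-a⁻¹) ▸ SetLike.coe_mem _) (coe_w S 1 ▸ SetLike.coe_mem _)
      have hrpt : pt π r = pt π h := by
        rw [hr, pt_mul, pt, show (Pi.single (Sum.inr ()) 1 : (Fin (m + 2) ⊕ Unit) → K) = Pi.single (Sum.inl 0) 0 + Pi.single (Sum.inr ()) 1
          by simp, pt_W S π hπ one_ne_zero, pt_H S π hπ (neg_ne_zero.2 (inv_ne_zero ha)), hpt, hc]
        simp
      have hrh : r⁻¹ * h ∈ stabGen S := (pair_trichotomy S π hπ hh).2 r hrmem hrpt
      have hconj : ∀ i : (Fin (m + 2) ⊕ Unit), i ≠ Sum.inr () → i ≠ Sum.inl 0 → ∀ u, r⁻¹ * S.x i (Sum.inr ()) u * r ∈ stabGen S := by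
        intro i hiN hi0 u
        obtain ⟨c₁, h₁⟩ := S.H_conj_inv Sum.inr_ne_inl (neg_ne_zero.2 (inv_ne_zero ha)) (t := -a⁻¹) hiN u
          (i := Sum.inr ()) (j := Sum.inl 0)
        obtain ⟨c₂, h₂⟩ := S.W_conj (i := Sum.inr ()) (j := Sum.inl 0) Sum.inr_ne_inl (t := -1)
          (neg_ne_zero.2 one_ne_zero) hiN c₁
        rw [← S.W_inv Sum.inr_ne_inl 1, inv_inv, Equiv.swap_apply_of_ne_of_ne hiN hi0, Equiv.swap_apply_left] at h₂
        rw [hr, show (S.H (Sum.inr ()) (Sum.inl 0) (-a⁻¹) * S.W (Sum.inr ()) (Sum.inl 0) 1)⁻¹ * S.x i (Sum.inr ()) u *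
            (S.H (Sum.inr ()) (Sum.inl 0) (-a⁻¹) * S.W (Sum.inr ()) (Sum.inl 0) 1) =
          (S.W (Sum.inr ()) (Sum.inl 0) 1)⁻¹ * ((S.H (Sum.inr ()) (Sum.inl 0) (-a⁻¹))⁻¹ * S.x i (Sum.inr ()) u *
            S.H (Sum.inr ()) (Sum.inl 0) (-a⁻¹)) * S.W (Sum.inr ()) (Sum.inl 0) 1 by group, h₁, h₂]
        exact mem_rootGen S hi0 rfl c₂
      have hsplit : ∀ y ∈ rootGen S (inCol (α := Fin (m + 2))), ∃ t' : K,
          r⁻¹ * ((S.x (Sum.inl 0) (Sum.inr ()) t')⁻¹ * y) * r ∈ stabGen S := by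
        intro y hy
        induction hy using Subgroup.closure_induction_left with
        | one => exact ⟨0, by rw [S.x_zero hzN, inv_one, one_mul, mul_one, inv_mul_cancel]; exact one_mem _⟩
        | mul_left z hz y _ ih =>
          obtain ⟨i, j, u, hij, hp, rfl⟩ := hz
          obtain ⟨t', ht'⟩ := ih
          rw [eq_inr hp.2] at hij ⊢
          rcases eq_or_ne i (Sum.inl 0) with rfl | hi
          · refine ⟨u + t', ?_⟩
            rw [← S.add hij, show (S.x (Sum.inl 0) (Sum.inr ()) u * S.x (Sum.inl 0) (Sum.inr ()) t')⁻¹ *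
                (S.x (Sum.inl 0) (Sum.inr ()) u * y) = (S.x (Sum.inl 0) (Sum.inr ()) t')⁻¹ * y by group]
            exact ht'
          · refine ⟨t', ?_⟩
            have e : (S.x (Sum.inl 0) (Sum.inr ()) t')⁻¹ * (S.x i (Sum.inr ()) u * y) =
                S.x i (Sum.inr ()) u * ((S.x (Sum.inl 0) (Sum.inr ()) t')⁻¹ * y) := by
              rw [← mul_assoc, S.x_inv hzN, S.comm hzN hij hzN hij.symm, mul_assoc]
            rw [e, show r⁻¹ * (S.x i (Sum.inr ()) u * ((S.x (Sum.inl 0) (Sum.inr ()) t')⁻¹ * y)) * r =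
              (r⁻¹ * S.x i (Sum.inr ()) u * r) * (r⁻¹ * ((S.x (Sum.inl 0) (Sum.inr ()) t')⁻¹ * y) * r) by group]
            exact mul_mem (hconj i hij hi u) ht'
        | inv_mul_cancel z hz y _ ih =>
          obtain ⟨i, j, u, hij, hp, rfl⟩ := hz
          obtain ⟨t', ht'⟩ := ih
          rw [S.x_inv hij]
          rw [eq_inr hp.2] at hij ⊢
          rcases eq_or_ne i (Sum.inl 0) with rfl | hi
          · refine ⟨-u + t', ?_⟩
            rw [← S.add hij, show (S.x (Sum.inl 0) (Sum.inr ()) (-u) * S.x (Sum.inl 0) (Sum.inr ()) t')⁻¹ *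
                (S.x (Sum.inl 0) (Sum.inr ()) (-u) * y) = (S.x (Sum.inl 0) (Sum.inr ()) t')⁻¹ * y by group]
            exact ht'
          · refine ⟨t', ?_⟩
            have e : (S.x (Sum.inl 0) (Sum.inr ()) t')⁻¹ * (S.x i (Sum.inr ()) (-u) * y) =
                S.x i (Sum.inr ()) (-u) * ((S.x (Sum.inl 0) (Sum.inr ()) t')⁻¹ * y) := by
              rw [← mul_assoc, S.x_inv hzN, S.comm hzN hij hzN hij.symm, mul_assoc]
            rw [e, show r⁻¹ * (S.x i (Sum.inr ()) (-u) * ((S.x (Sum.inl 0) (Sum.inr ()) t')⁻¹ * y)) * r =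
              (r⁻¹ * S.x i (Sum.inr ()) (-u) * r) * (r⁻¹ * ((S.x (Sum.inl 0) (Sum.inr ()) t')⁻¹ * y) * r) by group]
            exact mul_mem (hconj i hij hi (-u)) ht'
      obtain ⟨t', ht'⟩ := hsplit cc hcc
      refine ⟨l, hl, S.x (Sum.inl 0) (Sum.inr ()) t' * r,
        mul_mem (mem_rootGen S hzN (Or.inl ⟨rfl, rfl⟩) t') hrmem, ?_⟩
      have e : (l * (S.x (Sum.inl 0) (Sum.inr ()) t' * r))⁻¹ * (s * g) =
          (r⁻¹ * ((S.x (Sum.inl 0) (Sum.inr ()) t')⁻¹ * cc) * r) * (r⁻¹ * h) * ((l * h)⁻¹ * g) := by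
        rw [hccdef]; group
      rw [e]
      exact mul_mem (mul_mem ht' hrh) he
    · -- the representative translates the first position
      set r := S.x (Sum.inl 0) (Sum.inr ()) (a / c) * S.H (Sum.inr ()) (Sum.inl 0) c with hr
      have hrmem : r ∈ pairGen S := mul_mem (mem_rootGen S hzN (Or.inl ⟨rfl, rfl⟩) _) (coe_h S c ▸ SetLike.coe_mem _)
      have hrpt : pt π r = pt π h := by
        rw [hr, pt_mul, pt, show (Pi.single (Sum.inr ()) 1 : (Fin (m + 2) ⊕ Unit) → K) = Pi.single (Sum.inl 0) 0 + Pi.single (Sum.inr ()) 1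
          by simp, pt_H S π hπ hc, hpt, hπ _ _ hzN, tv]
        ext k
        simp [Pi.single_apply]
        split_ifs <;> simp_all
      have hrh : r⁻¹ * h ∈ stabGen S := (pair_trichotomy S π hπ hh).2 r hrmem hrpt
      -- all column elements are block conjugates of the translations
      have hmem : cc * S.x (Sum.inl 0) (Sum.inr ()) (a / c) ∈ rootGen S (inCol (α := Fin (m + 2))) :=
        mul_mem hcc (mem_rootGen S hzN ⟨rfl, rfl⟩ _)
      set y := cc * S.x (Sum.inl 0) (Sum.inr ()) (a / c) with hy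
      obtain ⟨v, hv⟩ : ∃ v : Fin (m + 2) → K, ((π y : Matrix.SpecialLinearGroup (Fin (m + 2) ⊕ Unit) K) : Matrix (Fin (m + 2) ⊕ Unit) (Fin (m + 2) ⊕ Unit) K) =
          Matrix.fromBlocks 1 (Matrix.of fun i (_ : Unit) => v i) 0 1 := by
        have : ∀ y ∈ rootGen S (inCol (α := Fin (m + 2))), ∃ v : Fin (m + 2) → K,
            ((π y : Matrix.SpecialLinearGroup (Fin (m + 2) ⊕ Unit) K) : Matrix (Fin (m + 2) ⊕ Unit) (Fin (m + 2) ⊕ Unit) K) =
              Matrix.fromBlocks 1 (Matrix.of fun i (_ : Unit) => v i) 0 1 := by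
          intro y hy
          induction hy using Subgroup.closure_induction with
          | mem y hy =>
            obtain ⟨i, j, u, hij, hp, rfl⟩ := hy
            rcases i with i | i
            · rcases j with j | j
              · simp [inCol] at hp
              · refine ⟨Pi.single i u, ?_⟩
                rw [hπ _ _ hij]
                ext p q
                rcases p with p | p <;> rcases q with q | q <;>
                  simp [Matrix.SpecialLinearGroup.transvection_coe, Matrix.single_apply, Matrix.one_apply,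
                    Pi.single_apply, eq_comm]
            · simp [inCol] at hp
          | one =>
            refine ⟨0, ?_⟩
            rw [map_one, Matrix.SpecialLinearGroup.coe_one, ← Matrix.fromBlocks_one]
            rfl
          | mul y z _ _ hy hz =>
            obtain ⟨v, hv⟩ := hy
            obtain ⟨w, hw⟩ := hz
            refine ⟨v + w, ?_⟩
            rw [map_mul, Matrix.SpecialLinearGroup.coe_mul, hv, hw, Matrix.fromBlocks_multiply]
            congr 1 <;> ext p q <;> simp [add_comm]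
          | inv y _ hy =>
            obtain ⟨v, hv⟩ := hy
            refine ⟨-v, ?_⟩
            rw [map_inv, Matrix.SpecialLinearGroup.coe_inv]
            have h1 : (π y).1 * Matrix.fromBlocks 1 (Matrix.of fun i (_ : Unit) => (-v) i) 0 1 = 1 := by
              rw [hv, Matrix.fromBlocks_multiply, ← Matrix.fromBlocks_one]
              congr 1 <;> ext p q <;> simp
            have h2 : (π y).1.adjugate * (π y).1 = 1 := by rw [Matrix.adjugate_mul, (π y).2, one_smul]
            calc (π y).1.adjugate = (π y).1.adjugate * ((π y).1 * Matrix.fromBlocks 1 (Matrix.of fun i (_ : Unit) => (-v) i) 0 1) := by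
                  rw [h1, mul_one]
              _ = _ := by rw [← mul_assoc, h2, one_mul]
        exact this y hmem
      obtain ⟨B, b, hB⟩ : ∃ (B : Matrix.SpecialLinearGroup (Fin (m + 2)) K) (b : K),
          (B : Matrix (Fin (m + 2)) (Fin (m + 2)) K) *ᵥ Pi.single 0 b = v := by
        by_cases hv0 : v = 0
        · exact ⟨1, 0, by simp [hv0]⟩
        obtain ⟨i, hi⟩ := Function.ne_iff.1 hv0
        -- move the support to the first position and clear the others
        obtain ⟨j, hj⟩ := exists_ne (0 : Fin (m + 2))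
        obtain ⟨B₀, hB₀⟩ : ∃ B₀ : Matrix.SpecialLinearGroup (Fin (m + 2)) K,
            ((B₀ : Matrix (Fin (m + 2)) (Fin (m + 2)) K) *ᵥ v) 0 ≠ 0 := by
          by_cases hi0 : v 0 = 0
          · have hne : (0 : Fin (m + 2)) ≠ i := fun e => hi (e ▸ hi0)
            refine ⟨Matrix.SpecialLinearGroup.transvection hne 1, ?_⟩
            rw [tv]
            simpa [hi0] using hi
          · exact ⟨1, by simpa using hi0⟩
        have hclear : ∀ (w : Fin (m + 2) → K), w 0 ≠ 0 → ∀ s : Finset (Fin (m + 2)), (0 : Fin (m + 2)) ∉ s →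
            ∃ B₁ : Matrix.SpecialLinearGroup (Fin (m + 2)) K,
              (B₁ : Matrix (Fin (m + 2)) (Fin (m + 2)) K) *ᵥ w = fun k => if k ∈ s then 0 else w k := by
          intro w hw s
          induction s using Finset.induction with
          | empty => exact fun _ => ⟨1, by simp⟩
          | insert k s hks ih =>
            intro h0
            rw [Finset.mem_insert, not_or] at h0
            obtain ⟨B₁, hB₁⟩ := ih h0.2
            refine ⟨Matrix.SpecialLinearGroup.transvection (Ne.symm h0.1) (-(w k / w 0)) * B₁, ?_⟩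
            rw [Matrix.SpecialLinearGroup.coe_mul, ← Matrix.mulVec_mulVec, hB₁, tv]
            ext q
            simp only [Pi.add_apply, Pi.smul_apply, Pi.single_apply, if_neg h0.2, smul_eq_mul, Finset.mem_insert]
            by_cases hq : q = k
            · subst hq
              simp [hks]
              field_simp
              ring
            · simp [hq]
        obtain ⟨B₁, hB₁⟩ := hclear _ hB₀ (Finset.univ.erase 0) (Finset.notMem_erase _ _)
        refine ⟨(B₁ * B₀)⁻¹, ((B₀ : Matrix (Fin (m + 2)) (Fin (m + 2)) K) *ᵥ v) 0, ?_⟩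
        have hb : ((B₁ * B₀ : Matrix.SpecialLinearGroup (Fin (m + 2)) K) : Matrix (Fin (m + 2)) (Fin (m + 2)) K) *ᵥ v =
            Pi.single 0 (((B₀ : Matrix (Fin (m + 2)) (Fin (m + 2)) K) *ᵥ v) 0) := by
          rw [Matrix.SpecialLinearGroup.coe_mul, ← Matrix.mulVec_mulVec, hB₁]
          ext q
          by_cases hq : q = 0
          · subst hq; simp
          · simp [hq]
        rw [← hb, Matrix.mulVec_mulVec, ← Matrix.SpecialLinearGroup.coe_mul, inv_mul_cancel,
          Matrix.SpecialLinearGroup.coe_one, Matrix.one_mulVec]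
      obtain ⟨l', hl', hπl'⟩ := block_onto S π hπ B
      have hmem' : l' * S.x (Sum.inl 0) (Sum.inr ()) b * l'⁻¹ ∈ rootGen S (inCol (α := Fin (m + 2))) :=
        col_normalised S l' hl' _ (mem_rootGen S hzN ⟨rfl, rfl⟩ b)
      have hyeq : y = l' * S.x (Sum.inl 0) (Sum.inr ()) b * l'⁻¹ := by
        refine mul_inv_eq_one.1 (injective_on_line S π hπ (p := inCol) (fun _ _ h => Or.inr h)
          (fun i j k l h1 h2 => ⟨fun h => absurd h1.1 (by rw [h.1]; decide), fun h => absurd h2.1 (by rw [h.1]; decide)⟩)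
          (mul_mem hmem (inv_mem hmem')) ?_)
        rw [map_mul, map_inv, mul_inv_eq_one, map_mul π (l' * _), map_mul π l', map_inv, eq_mul_inv_iff_mul_eq, hπl', hπ _ _ hzN]
        refine Matrix.SpecialLinearGroup.ext _ _ fun p q => ?_
        rw [Matrix.SpecialLinearGroup.coe_mul, Matrix.SpecialLinearGroup.coe_mul, hv]
        have e1 : ((Matrix.SpecialLinearGroup.transvection (hzN (m := m)) b : Matrix.SpecialLinearGroup (Fin (m + 2) ⊕ Unit) K) : Matrix (Fin (m + 2) ⊕ Unit) (Fin (m + 2) ⊕ Unit) K) =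
            Matrix.fromBlocks 1 (Matrix.of fun i (_ : Unit) => (Pi.single 0 b : Fin (m + 2) → K) i) 0 1 := by
          ext p q
          rcases p with p | p <;> rcases q with q | q <;>
            simp [Matrix.SpecialLinearGroup.transvection_coe, Matrix.single_apply, Matrix.one_apply, Pi.single_apply,
              eq_comm]
        rw [e1]
        simp only [emb_coe, Matrix.fromBlocks_multiply]
        have e2 : (B : Matrix (Fin (m + 2)) (Fin (m + 2)) K) * Matrix.of (fun i (_ : Unit) => (Pi.single 0 b : Fin (m + 2) → K) i) =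
            Matrix.of fun i (_ : Unit) => v i := by
          ext i u
          rw [Matrix.mul_apply, Matrix.of_apply, ← hB]
          rfl
        rw [e2]
        simp
      refine ⟨l * l', mul_mem hl hl', S.x (Sum.inl 0) (Sum.inr ()) b * S.H (Sum.inr ()) (Sum.inl 0) c,
        mul_mem (mem_rootGen S hzN (Or.inl ⟨rfl, rfl⟩) _) (coe_h S c ▸ SetLike.coe_mem _), ?_⟩
      have hlh : (S.H (Sum.inr ()) (Sum.inl 0) c)⁻¹ * l'⁻¹ * S.H (Sum.inr ()) (Sum.inl 0) c ∈ stabGen S := by
        have := rootGen_conj S (p := inBlock) (T := stabGen S) (g := (S.H (Sum.inr ()) (Sum.inl 0) c)⁻¹)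
          (fun i j u hij hp => by
            obtain ⟨c', e⟩ := S.H_conj_inv (i := Sum.inr ()) (j := Sum.inl 0) Sum.inr_ne_inl hc hij u
            rw [inv_inv, e]
            exact mem_rootGen S hij hp.2 c') (inv_mem hl')
        rwa [inv_inv] at this
      have e : (l * l' * (S.x (Sum.inl 0) (Sum.inr ()) b * S.H (Sum.inr ()) (Sum.inl 0) c))⁻¹ * (s * g) =
          ((S.H (Sum.inr ()) (Sum.inl 0) c)⁻¹ * l'⁻¹ * S.H (Sum.inr ()) (Sum.inl 0) c) *
          ((S.H (Sum.inr ()) (Sum.inl 0) c)⁻¹ *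
            ((l' * S.x (Sum.inl 0) (Sum.inr ()) b * l'⁻¹)⁻¹ * y) * S.H (Sum.inr ()) (Sum.inl 0) c) *
          (r⁻¹ * h) * ((l * h)⁻¹ * g) := by
        rw [hy, hccdef, hr]; group
      rw [e, hyeq, inv_mul_cancel, mul_one, inv_mul_cancel, mul_one]
      exact mul_mem (mul_mem hlh hrh) he
  have hgen : ∀ {g}, Covered S g → ∀ i j t, i ≠ j → Covered S (S.x i j t * g) := by
    intro g hg i j t hij
    rcases i with i | i <;> rcases j with j | j
    · exact hL hg _ (mem_rootGen S hij ⟨rfl, rfl⟩ t)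
    · rcases eq_or_ne i 0 with rfl | hi
      · exact hdown hg t
      have e : S.x (Sum.inl i) (Sum.inr j) t * g = S.x (Sum.inl i) (Sum.inl 0) t * (S.x (Sum.inl 0) (Sum.inr j) 1 *
          (S.x (Sum.inl i) (Sum.inl 0) (-t) * (S.x (Sum.inl 0) (Sum.inr j) (-1) * g))) := by
        have hi0 : (Sum.inl i : (Fin (m + 2) ⊕ Unit)) ≠ Sum.inl 0 := by simpa using hi
        rw [← S.x_inv hi0, ← S.x_inv (hzN (m := m)), ← mul_assoc, ← mul_assoc, ← mul_assoc,
          S.conj_right hi0 hzN hij, mul_one, mul_inv_cancel_right]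
      rw [e]
      exact hL (hdown (hL (hdown hg _) _ (mem_rootGen S (by simpa using hi) ⟨rfl, rfl⟩ _)) _) _
        (mem_rootGen S (by simpa using hi) ⟨rfl, rfl⟩ _)
    · rcases eq_or_ne j 0 with rfl | hj
      · exact hup hg t
      have e : S.x (Sum.inr i) (Sum.inl j) t * g = S.x (Sum.inr i) (Sum.inl 0) t * (S.x (Sum.inl 0) (Sum.inl j) 1 *
          (S.x (Sum.inr i) (Sum.inl 0) (-t) * (S.x (Sum.inl 0) (Sum.inl j) (-1) * g))) := by
        have hj0 : (Sum.inl 0 : (Fin (m + 2) ⊕ Unit)) ≠ Sum.inl j := by simpa using hj.symm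
        rw [← S.x_inv (Sum.inr_ne_inl : (Sum.inr i : (Fin (m + 2) ⊕ Unit)) ≠ Sum.inl 0), ← S.x_inv hj0, ← mul_assoc, ← mul_assoc,
          ← mul_assoc, S.conj_right Sum.inr_ne_inl hj0 hij, mul_one, mul_inv_cancel_right]
      rw [e]
      exact hup (hL (hup (hL hg _ (mem_rootGen S (by simpa using hj.symm) ⟨rfl, rfl⟩ _)) _) _
        (mem_rootGen S (by simpa using hj.symm) ⟨rfl, rfl⟩ _)) _
    · exact absurd (Subsingleton.elim i j) (fun e => hij (congrArg Sum.inr e))
  have hg : g ∈ closure {g | ∃ i j t, i ≠ j ∧ g = S.x i j t} := S.gen ▸ Subgroup.mem_top g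
  induction hg using Subgroup.closure_induction_left with
  | one => exact ⟨1, one_mem _, 1, one_mem _, by simp⟩
  | mul_left s hs g _ ih => obtain ⟨i, j, t, hij, rfl⟩ := hs; exact hgen ih i j t hij
  | inv_mul_cancel s hs g _ ih =>
    obtain ⟨i, j, t, hij, rfl⟩ := hs
    rw [S.x_inv hij]
    exact hgen ih i j (-t) hij

include hπ in
theorem step (hblock : ∀ g ∈ rootGen S inBlock, π g = 1 → g = 1) : Function.Injective π := by
  classical
  refine (injective_iff_map_eq_one π).2 fun g hg => ?_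
  have hstab : g ∈ stabGen S := by
    obtain ⟨l, hl, h, hh, he⟩ := covered_all S π hπ hblock g
    -- the coset is determined by the image of the last vector
    have hpt : pt π (l * h) = Pi.single (Sum.inr ()) 1 := by
      have e : g = (l * h) * ((l * h)⁻¹ * g) := by group
      have h1 : pt π g = Pi.single (Sum.inr ()) 1 := by rw [pt, hg, Matrix.SpecialLinearGroup.coe_one, Matrix.one_mulVec]
      rwa [e, pt_mul, pt_stab S π hπ he, ← pt] at h1
    have hlpt : pt π h = Pi.single (Sum.inr ()) 1 := by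
      have h1 : pt π h = pt π (l⁻¹ * (l * h)) := by rw [inv_mul_cancel_left]
      rw [h1, pt_mul, hpt, ← pt]
      exact pt_stab S π hπ (block_le S (inv_mem hl))
    have hh' : h ∈ stabGen S := by
      have := (pair_trichotomy S π hπ hh).2 1 (one_mem _) (by rw [hlpt, pt_one])
      simpa using this
    have e : g = l * h * ((l * h)⁻¹ * g) := by group
    rw [e]
    exact mul_mem (mul_mem (block_le S hl) hh') he
  -- the stabiliser is the block times the row
  obtain ⟨l, hl, a, ha, rfl⟩ : ∃ l ∈ rootGen S inBlock, ∃ a ∈ rootGen S (inRow (α := Fin (m + 2))), g = l * a := by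
    revert hstab
    clear hg
    intro hstab
    induction hstab using Subgroup.closure_induction_left with
    | one => exact ⟨1, one_mem _, 1, one_mem _, by simp⟩
    | mul_left s hs g _ ih =>
      obtain ⟨i, j, t, hij, hp, rfl⟩ := hs
      obtain ⟨l, hl, a, ha, rfl⟩ := ih
      rcases i with i | i
      · exact ⟨_, mul_mem (mem_rootGen S hij ⟨rfl, hp⟩ t) hl, a, ha, (mul_assoc _ _ _).symm⟩
      · refine ⟨l, hl, l⁻¹ * S.x (Sum.inr i) j t * l * a, mul_mem ?_ ha, by group⟩
        have := row_normalised S l⁻¹ (inv_mem hl) _ (mem_rootGen S hij ⟨rfl, hp⟩ t)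
        rwa [inv_inv] at this
    | inv_mul_cancel s hs g _ ih =>
      obtain ⟨i, j, t, hij, hp, rfl⟩ := hs
      obtain ⟨l, hl, a, ha, rfl⟩ := ih
      rw [S.x_inv hij]
      rcases i with i | i
      · exact ⟨_, mul_mem (mem_rootGen S hij ⟨rfl, hp⟩ (-t)) hl, a, ha, (mul_assoc _ _ _).symm⟩
      · refine ⟨l, hl, l⁻¹ * S.x (Sum.inr i) j (-t) * l * a, mul_mem ?_ ha, by group⟩
        have := row_normalised S l⁻¹ (inv_mem hl) _ (mem_rootGen S hij ⟨rfl, hp⟩ (-t))
        rwa [inv_inv] at this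
  have hrowfix : ∀ a ∈ rootGen S (inRow (α := Fin (m + 2))), ∀ i j : Fin (m + 2),
      ((π a : Matrix.SpecialLinearGroup (Fin (m + 2) ⊕ Unit) K) : Matrix (Fin (m + 2) ⊕ Unit) (Fin (m + 2) ⊕ Unit) K) (Sum.inl i) (Sum.inl j) = (1 : Matrix (Fin (m + 2)) (Fin (m + 2)) K) i j ∧
      ((π a : Matrix.SpecialLinearGroup (Fin (m + 2) ⊕ Unit) K) : Matrix (Fin (m + 2) ⊕ Unit) (Fin (m + 2) ⊕ Unit) K) (Sum.inl i) (Sum.inr ()) = 0 := by
    intro a ha
    induction ha using Subgroup.closure_induction_left with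
    | one => intro i j; simp [Matrix.one_apply]
    | mul_left s hs a _ ih =>
      obtain ⟨p, q, t, hpq, hp, rfl⟩ := hs
      intro i j
      rw [map_mul, Matrix.SpecialLinearGroup.coe_mul, hπ _ _ hpq, Matrix.SpecialLinearGroup.transvection_coe]
      have hne : p ≠ Sum.inl i := fun e => by simp [inRow, e] at hp
      simp [Matrix.add_mul, Matrix.single_mul_apply_of_ne _ _ _ _ _ hne.symm, ih i j]
    | inv_mul_cancel s hs a _ ih =>
      obtain ⟨p, q, t, hpq, hp, rfl⟩ := hs
      intro i j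
      rw [S.x_inv hpq, map_mul, Matrix.SpecialLinearGroup.coe_mul, hπ _ _ hpq, Matrix.SpecialLinearGroup.transvection_coe]
      have hne : p ≠ Sum.inl i := fun e => by simp [inRow, e] at hp
      simp [Matrix.add_mul, Matrix.single_mul_apply_of_ne _ _ _ _ _ hne.symm, ih i j]
  obtain ⟨B, hB⟩ := block_range S π hπ hl
  have hB1 : B = 1 := by
    refine Matrix.SpecialLinearGroup.ext _ _ fun i j => ?_
    have := congrFun (congrFun (congrArg Subtype.val hg) (Sum.inl i)) (Sum.inl j)
    rw [map_mul, ← hB] at this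
    change ((emb B).1 * (π a).1) (Sum.inl i) (Sum.inl j) = _ at this
    rw [Matrix.mul_apply, Fintype.sum_sum_type] at this
    simp [fun r => (hrowfix a ha r j).1, Matrix.one_apply] at this
    simpa [Matrix.one_apply] using this
  rw [hB1, map_one] at hB
  have hl1 : l = 1 := hblock l hl hB.symm
  subst hl1
  rw [one_mul] at hg ⊢
  exact injective_on_line S π hπ (p := inRow) (fun _ _ h => Or.inl h)
    (fun i j k l h1 h2 => ⟨fun _ => h2, fun _ => h1⟩) ha hg

end Step

/-- The relations force injectivity in every degree. -/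
theorem injective_all [Finite K] (k : ℕ) : ∀ (P : Type*) [Group P] (S : ESys K (Fin (k + 2)) P)
    (π : P →* Matrix.SpecialLinearGroup (Fin (k + 2)) K),
    (∀ i j (h : i ≠ j) t, π (S.x i j t) = Matrix.SpecialLinearGroup.transvection h t) → Function.Injective π := by
  induction k with
  | zero =>
    intro P _ S π hπ
    let R : StTwo.Sys K P :=
      { x := S.x 0 1
        y := S.x 1 0
        x_add := S.add (by decide)
        y_add := S.add (by decide)
        conj_x := fun t u ht => S.rank (by decide) t u ht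
        conj_y := fun t u ht => S.rank (by decide) t u ht
        gen := by
          rw [eq_top_iff, ← S.gen]
          refine Subgroup.closure_mono ?_
          rintro _ ⟨i, j, t, hij, rfl⟩
          fin_cases i <;> fin_cases j
          · exact absurd rfl hij
          · exact Or.inl ⟨t, rfl⟩
          · exact Or.inr ⟨t, rfl⟩
          · exact absurd rfl hij }
    refine StTwo.injective_of_standard R π (fun t => ?_) fun t => ?_
    · show ((π (S.x 0 1 t)) : Matrix (Fin 2) (Fin 2) K) = _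
      rw [hπ _ _ (by decide)]
      ext i j
      fin_cases i <;> fin_cases j <;> simp [Matrix.SpecialLinearGroup.transvection_coe, Matrix.single]
    · show ((π (S.x 1 0 t)) : Matrix (Fin 2) (Fin 2) K) = _
      rw [hπ _ _ (by decide)]
      ext i j
      fin_cases i <;> fin_cases j <;> simp [Matrix.SpecialLinearGroup.transvection_coe, Matrix.single]
  | succ k ih =>
    intro P _ S π hπ
    let e : Fin (k + 2) ⊕ Unit ≃ Fin (k + 1 + 2) :=
      ((Equiv.optionEquivSumPUnit (Fin (k + 2))).symm.trans (finSuccEquiv (k + 2)).symm)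
    let ρ : Matrix.SpecialLinearGroup (Fin (k + 1 + 2)) K →* Matrix.SpecialLinearGroup (Fin (k + 2) ⊕ Unit) K :=
      { toFun := fun A => ⟨Matrix.reindex e.symm e.symm A.1, by rw [Matrix.det_reindex_self]; exact A.2⟩
        map_one' := Subtype.ext (by simp)
        map_mul' := fun A B => Subtype.ext (map_mul (Matrix.reindexAlgEquiv K K e.symm) A.1 B.1) }
    have hρ : Function.Injective ρ := fun A B h =>
      Subtype.ext ((Matrix.reindex e.symm e.symm).injective (congrArg Subtype.val h))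
    let S' := S.reindex e
    have hπ' : ∀ i j (h : i ≠ j) t, (ρ.comp π) (S'.x i j t) = Matrix.SpecialLinearGroup.transvection h t := by
      intro i j h t
      show ρ (π (S.x (e i) (e j) t)) = _
      rw [hπ _ _ (e.injective.ne h)]
      refine Matrix.SpecialLinearGroup.ext _ _ fun p q => ?_
      show Matrix.reindex e.symm e.symm _ p q = _
      simp [Matrix.SpecialLinearGroup.transvection_coe, Matrix.one_apply, Matrix.single_apply, e.injective.eq_iff]
    have hinj : Function.Injective (ρ.comp π) := by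
      refine step S' (ρ.comp π) hπ' fun g hg h1 => ?_
      let L := rootGen S' (inBlock (α := Fin (k + 2)))
      let π₁ : ↥L →* Matrix.SpecialLinearGroup (Fin (k + 2)) K :=
        ((MonoidHom.ofInjective (emb_injective (K := K) (α := Fin (k + 2)))).symm.toMonoidHom).comp
          (((ρ.comp π).comp L.subtype).codRestrict (emb (K := K) (α := Fin (k + 2))).range
            fun x => block_range S' (ρ.comp π) hπ' x.2)
      let S₁ : ESys K (Fin (k + 2)) ↥L :=
        { x := fun i j t => if h : i ≠ j then ⟨S'.x (Sum.inl i) (Sum.inl j) t,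
            mem_rootGen S' (by simpa using h) ⟨rfl, rfl⟩ t⟩ else 1
          add := fun {i j} h t u => by
            simp only [dif_pos h]
            exact Subtype.ext (S'.add (by simpa using h) t u)
          comm := fun {i j a b} h1 h2 h3 h4 t u => by
            simp only [dif_pos h1, dif_pos h2]
            exact Subtype.ext (S'.comm (by simpa using h1) (by simpa using h2) (by simpa using h3) (by simpa using h4) t u)
          prod := fun {i j a} h1 h2 h3 t u => by
            simp only [dif_pos h1, dif_pos h2, dif_pos h3]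
            exact Subtype.ext (S'.prod (by simpa using h1) (by simpa using h2) (by simpa using h3) t u)
          rank := fun {i j} h t u ht => by
            simp only [dif_pos h, dif_pos h.symm]
            exact Subtype.ext (S'.rank (by simpa using h) t u ht)
          gen := by
            refine eq_top_iff.2 ((Subgroup.closure_closure_coe_preimage (k := {g | ∃ i j t, i ≠ j ∧
              inBlock i j ∧ g = S'.x i j t})).ge.trans (Subgroup.closure_mono ?_))
            rintro ⟨g, hg⟩ ⟨i, j, t, hij, hp, rfl⟩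
            rcases i with i | i
            · rcases j with j | j
              · have h : i ≠ j := by simpa using hij
                exact ⟨i, j, t, h, by simp only [dif_pos h]; rfl⟩
              · simp [inBlock] at hp
            · simp [inBlock] at hp }
      have hπ₁ : ∀ x : ↥L, emb (π₁ x) = (ρ.comp π) x := fun x =>
        congrArg Subtype.val ((MonoidHom.ofInjective (emb_injective (K := K) (α := Fin (k + 2)))).apply_symm_apply _)
      have hinj₁ : Function.Injective π₁ := by
        refine ih ↥L S₁ π₁ fun i j h t => emb_injective ?_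
        rw [hπ₁, emb_transvection]
        simp only [S₁, dif_pos h]
        exact hπ' _ _ _ t
      have := hinj₁ (a₁ := ⟨g, hg⟩) (a₂ := 1) (emb_injective (by rw [hπ₁, map_one, map_one]; exact h1))
      exact congrArg Subtype.val this
    exact fun a b h => hinj (congrArg ρ h)

/-- The Steinberg presentation of `SL n` for `n ≥ 3`. -/
theorem presentation (K : Type*) [Field K] [Finite K] (n : ℕ) (hn : 3 ≤ n) :
    ∃ e : PresentedGroup
        ({g : FreeGroup ({ij : Fin n × Fin n // ij.1 ≠ ij.2} × K) | ∃ (a : {ij : Fin n × Fin n // ij.1 ≠ ij.2}) (t u : K),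
            g = FreeGroup.of (a, t) * FreeGroup.of (a, u) * (FreeGroup.of (a, t + u))⁻¹} ∪
          {g | ∃ (a b : {ij : Fin n × Fin n // ij.1 ≠ ij.2}) (t u : K), a.1.1 ≠ b.1.2 ∧ a.1.2 ≠ b.1.1 ∧
            g = FreeGroup.of (a, t) * FreeGroup.of (b, u) * (FreeGroup.of (a, t))⁻¹ * (FreeGroup.of (b, u))⁻¹} ∪
          {g | ∃ (a b : {ij : Fin n × Fin n // ij.1 ≠ ij.2}) (h : a.1.1 ≠ b.1.2) (t u : K), a.1.2 = b.1.1 ∧
            g = FreeGroup.of (a, t) * FreeGroup.of (b, u) * (FreeGroup.of (a, t))⁻¹ * (FreeGroup.of (b, u))⁻¹ *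
              (FreeGroup.of (⟨(a.1.1, b.1.2), h⟩, t * u))⁻¹}) ≃* Matrix.SpecialLinearGroup (Fin n) K,
      ∀ (a : {ij : Fin n × Fin n // ij.1 ≠ ij.2}) (t : K),
        ((e (PresentedGroup.of (a, t)) : Matrix (Fin n) (Fin n) K)) = Matrix.transvection a.1.1 a.1.2 t := by
  classical
  set rels := ({g : FreeGroup ({ij : Fin n × Fin n // ij.1 ≠ ij.2} × K) | ∃ (a : {ij : Fin n × Fin n // ij.1 ≠ ij.2}) (t u : K),
            g = FreeGroup.of (a, t) * FreeGroup.of (a, u) * (FreeGroup.of (a, t + u))⁻¹} ∪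
          {g | ∃ (a b : {ij : Fin n × Fin n // ij.1 ≠ ij.2}) (t u : K), a.1.1 ≠ b.1.2 ∧ a.1.2 ≠ b.1.1 ∧
            g = FreeGroup.of (a, t) * FreeGroup.of (b, u) * (FreeGroup.of (a, t))⁻¹ * (FreeGroup.of (b, u))⁻¹} ∪
          {g | ∃ (a b : {ij : Fin n × Fin n // ij.1 ≠ ij.2}) (h : a.1.1 ≠ b.1.2) (t u : K), a.1.2 = b.1.1 ∧
            g = FreeGroup.of (a, t) * FreeGroup.of (b, u) * (FreeGroup.of (a, t))⁻¹ * (FreeGroup.of (b, u))⁻¹ *
              (FreeGroup.of (⟨(a.1.1, b.1.2), h⟩, t * u))⁻¹}) with hrels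
  let f : {ij : Fin n × Fin n // ij.1 ≠ ij.2} × K → Matrix.SpecialLinearGroup (Fin n) K :=
    fun p => Matrix.SpecialLinearGroup.transvection p.1.2 p.2
  have hf : ∀ r ∈ rels, FreeGroup.lift f r = 1 := by
    rintro r ((⟨a, t, u, rfl⟩ | ⟨a, b, t, u, h1, h2, rfl⟩) | ⟨a, b, h, t, u, h1, rfl⟩)
    · simp only [map_mul, map_inv, FreeGroup.lift_apply_of]
      rw [mul_inv_eq_one]
      exact Subtype.ext (Matrix.transvection_mul_transvection_same _ _ a.2 t u)
    · simp only [map_mul, map_inv, FreeGroup.lift_apply_of]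
      rw [mul_inv_eq_one, mul_inv_eq_iff_eq_mul]
      refine Subtype.ext ?_
      simp only [f, Matrix.SpecialLinearGroup.coe_mul, Matrix.SpecialLinearGroup.transvection_coe]
      rw [add_mul, one_mul, mul_add, mul_one, add_mul, one_mul, mul_add, mul_one,
        Matrix.single_mul_single_of_ne _ _ _ _ h2, Matrix.single_mul_single_of_ne _ _ _ _ h1.symm]
      abel
    · simp only [map_mul, map_inv, FreeGroup.lift_apply_of]
      rw [mul_inv_eq_one, mul_inv_eq_iff_eq_mul, mul_inv_eq_iff_eq_mul]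
      refine Subtype.ext ?_
      obtain ⟨⟨i, j⟩, hij⟩ := a
      obtain ⟨⟨j', l⟩, hjl⟩ := b
      simp only at h h1 hij hjl
      subst h1
      simp only [f, Matrix.SpecialLinearGroup.coe_mul, Matrix.SpecialLinearGroup.transvection_coe]
      simp only [add_mul, one_mul, mul_add, mul_one, Matrix.single_mul_single_same,
        Matrix.single_mul_single_of_ne _ _ _ _ h.symm, Matrix.single_mul_single_of_ne _ _ _ _ hjl.symm, add_zero,
        zero_add, Matrix.zero_mul]
      abel
  have hone : ∀ r ∈ rels, PresentedGroup.mk rels r = 1 := fun r hr =>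
    (QuotientGroup.eq_one_iff r).2 (Subgroup.subset_normalClosure hr)
  let G := PresentedGroup rels
  let x : Fin n → Fin n → K → G := fun i j t => if h : i ≠ j then PresentedGroup.of (⟨(i, j), h⟩, t) else 1
  have hxof : ∀ {i j} (h : i ≠ j) t, x i j t = PresentedGroup.of (⟨(i, j), h⟩, t) := fun h t => dif_pos h
  have hadd : ∀ {i j}, i ≠ j → ∀ t u, x i j t * x i j u = x i j (t + u) := fun {i j} h t u => by
    have := hone _ (Or.inl (Or.inl ⟨⟨(i, j), h⟩, t, u, rfl⟩))
    simp only [map_mul, map_inv] at this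
    simp only [hxof h]
    exact mul_inv_eq_one.1 this
  have hcomm : ∀ {i j k l}, i ≠ j → k ≠ l → i ≠ l → j ≠ k → ∀ t u, x i j t * x k l u = x k l u * x i j t :=
    fun {i j k l} h1 h2 h3 h4 t u => by
      have := hone _ (Or.inl (Or.inr ⟨⟨(i, j), h1⟩, ⟨(k, l), h2⟩, t, u, h3, h4, rfl⟩))
      simp only [map_mul, map_inv] at this
      simp only [hxof h1, hxof h2]
      exact mul_inv_eq_iff_eq_mul.1 (mul_inv_eq_one.1 this)
  have hprod : ∀ {i j k}, i ≠ j → j ≠ k → i ≠ k → ∀ t u, x i j t * x j k u = x i k (t * u) * x j k u * x i j t :=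
    fun {i j k} h1 h2 h3 t u => by
      have := hone _ (Or.inr ⟨⟨(i, j), h1⟩, ⟨(j, k), h2⟩, h3, t, u, rfl, rfl⟩)
      simp only [map_mul, map_inv] at this
      simp only [hxof h1, hxof h2, hxof h3]
      exact mul_inv_eq_iff_eq_mul.1 (mul_inv_eq_iff_eq_mul.1 (mul_inv_eq_one.1 this))
  have hgen : closure {g | ∃ i j t, i ≠ j ∧ g = x i j t} = ⊤ := by
    rw [eq_top_iff, ← PresentedGroup.closure_range_of rels]
    refine Subgroup.closure_mono ?_
    rintro _ ⟨⟨⟨⟨i, j⟩, h⟩, t⟩, rfl⟩
    exact ⟨i, j, t, h, (hxof h t).symm⟩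
  have hrank : ∀ {i j}, i ≠ j → ∀ t u, t ≠ 0 →
      (x i j t * x j i (-t⁻¹) * x i j t) * x i j u * (x i j t * x j i (-t⁻¹) * x i j t)⁻¹ = x j i (-(t⁻¹ ^ 2 * u)) := by
    intro i j hij t u ht
    obtain ⟨k, hki, hkj⟩ : ∃ k : Fin n, k ≠ i ∧ k ≠ j := by
      have : 0 < ((Finset.univ.erase i).erase j).card := by
        rw [Finset.card_erase_of_mem (by simp [hij.symm]), Finset.card_erase_of_mem (Finset.mem_univ _),
          Finset.card_univ, Fintype.card_fin]
        omega
      obtain ⟨k, hk⟩ := Finset.card_pos.1 this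
      simp only [Finset.mem_erase] at hk
      exact ⟨k, hk.2.1, hk.1⟩
    have hzero : ∀ {a b}, a ≠ b → x a b 0 = 1 := fun h => by
      have := hadd h 0 0; rw [add_zero] at this; exact mul_eq_left.1 this
    have hinv : ∀ {a b}, a ≠ b → ∀ s, (x a b s)⁻¹ = x a b (-s) := fun h s =>
      inv_eq_of_mul_eq_one_right (by rw [hadd h, add_neg_cancel, hzero h])
    have hright : ∀ {a b c}, a ≠ b → b ≠ c → a ≠ c → ∀ s v,
        x a b s * x b c v * (x a b s)⁻¹ = x a c (s * v) * x b c v := fun h1 h2 h3 s v => by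
      rw [hprod h1 h2 h3, mul_inv_cancel_right]
    have hleft : ∀ {a b c}, a ≠ b → b ≠ c → a ≠ c → ∀ s v,
        x b c v * x a b s * (x b c v)⁻¹ = x a c (-(s * v)) * x a b s := fun {a b c} h1 h2 h3 s v => by
      rw [mul_inv_eq_iff_eq_mul, mul_assoc, hprod h1 h2 h3]
      simp only [← mul_assoc]
      rw [hadd h3, neg_add_cancel, hzero h3, one_mul]
    set w := x i j t * x j i (-t⁻¹) * x i j t with hw
    have e1 : w * x i k u * w⁻¹ = x j k (-(u / t)) := by
      have a1 : x i j t * x i k u * (x i j t)⁻¹ = x i k u := by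
        rw [hcomm hij hki.symm hki.symm hij.symm, mul_inv_cancel_right]
      calc w * x i k u * w⁻¹ = x i j t * (x j i (-t⁻¹) * (x i j t * x i k u * (x i j t)⁻¹) * (x j i (-t⁻¹))⁻¹) * (x i j t)⁻¹ := by
            rw [hw]; group
        _ = x i j t * (x j k (-t⁻¹ * u) * x i k u) * (x i j t)⁻¹ := by rw [a1, hright hij.symm hki.symm hkj.symm]
        _ = (x i j t * x j k (-t⁻¹ * u) * (x i j t)⁻¹) * (x i j t * x i k u * (x i j t)⁻¹) := by group
        _ = x i k (t * (-t⁻¹ * u)) * x j k (-t⁻¹ * u) * x i k u := by rw [hright hij hkj.symm hki.symm, a1]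
        _ = x j k (-t⁻¹ * u) * (x i k (t * (-t⁻¹ * u)) * x i k u) := by
          rw [hcomm hki.symm hkj.symm hki.symm hkj, mul_assoc]
        _ = _ := by
          rw [hadd hki.symm, show t * (-t⁻¹ * u) + u = 0 by field_simp; ring, hzero hki.symm, mul_one,
            show -t⁻¹ * u = -(u / t) by ring]
    have e2 : w * x k j 1 * w⁻¹ = x k i (1 / t) := by
      have a1 : x i j t * x k j 1 * (x i j t)⁻¹ = x k j 1 := by
        rw [hcomm hij hkj hij hkj.symm, mul_inv_cancel_right]
      calc w * x k j 1 * w⁻¹ = x i j t * (x j i (-t⁻¹) * (x i j t * x k j 1 * (x i j t)⁻¹) * (x j i (-t⁻¹))⁻¹) * (x i j t)⁻¹ := by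
            rw [hw]; group
        _ = x i j t * (x k i (-(1 * -t⁻¹)) * x k j 1) * (x i j t)⁻¹ := by rw [a1, hleft hkj hij.symm hki]
        _ = (x i j t * x k i (-(1 * -t⁻¹)) * (x i j t)⁻¹) * (x i j t * x k j 1 * (x i j t)⁻¹) := by group
        _ = x k j (-(-(1 * -t⁻¹) * t)) * x k i (-(1 * -t⁻¹)) * x k j 1 := by rw [hleft hki hij hkj, a1]
        _ = x k i (-(1 * -t⁻¹)) * (x k j (-(-(1 * -t⁻¹) * t)) * x k j 1) := by
          rw [hcomm hkj hki hki hkj.symm, mul_assoc]
        _ = _ := by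
          rw [hadd hkj, show -(-(1 * -t⁻¹) * t) + 1 = 0 by field_simp; ring, hzero hkj, mul_one,
            show -(1 * -t⁻¹) = 1 / t by ring]
    have hij_comm : ∀ {a b c}, a ≠ b → b ≠ c → a ≠ c → ∀ s v,
        x a c (s * v) = x a b s * x b c v * (x a b s)⁻¹ * (x b c v)⁻¹ := fun h1 h2 h3 s v => by
      rw [hright h1 h2 h3, mul_inv_cancel_right]
    calc w * x i j u * w⁻¹ = w * (x i k u * x k j 1 * (x i k u)⁻¹ * (x k j 1)⁻¹) * w⁻¹ := by
          rw [← hij_comm hki.symm hkj hij, mul_one]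
      _ = (w * x i k u * w⁻¹) * (w * x k j 1 * w⁻¹) * (w * x i k u * w⁻¹)⁻¹ * (w * x k j 1 * w⁻¹)⁻¹ := by group
      _ = _ := by
        rw [e1, e2, ← hij_comm hkj.symm hki hij.symm]
        congr 1
        ring
  let S : ESys K (Fin n) G := ⟨x, hadd, hcomm, hprod, hrank, hgen⟩
  obtain ⟨k, rfl⟩ : ∃ k, n = k + 2 := ⟨n - 2, by omega⟩
  have hinj : Function.Injective (PresentedGroup.toGroup hf) :=
    injective_all k G S _ fun i j h t => by
      show PresentedGroup.toGroup hf (x i j t) = _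
      rw [hxof h, PresentedGroup.toGroup.of]
  have hsurj : Function.Surjective (PresentedGroup.toGroup hf) := by
    rw [← MonoidHom.range_eq_top, eq_top_iff, ← Cfsg.Lib.Linear.closure_transvection_eq_top, Subgroup.closure_le]
    rintro _ ⟨i, j, hij, c, rfl⟩
    exact ⟨PresentedGroup.of (⟨(i, j), hij⟩, c), PresentedGroup.toGroup.of hf⟩
  exact ⟨MulEquiv.ofBijective _ ⟨hinj, hsurj⟩, fun a t => congrArg Subtype.val (PresentedGroup.toGroup.of hf)⟩

end Cfsg.Lib.Concrete.StHigh
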