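import Cfsg.Agent.Lib.Concrete.LeechMonomial

/-!
A non-monomial automorphism of the rank-24 lattice, attached to a sextet.
-/

set_option autoImplicit false

namespace Cfsg.Lib.Concrete

open Finset

/-- The positions of the six tetrads of a sextet. -/
def xiPts : List ℕ :=
  [0, 1, 2, 23, 3, 5, 14, 17, 4, 13, 16, 22, 6, 7, 19, 21, 9, 10, 15, 20, 8, 11, 12, 18]

/-- The inverse of `xiPts`. -/
def xiIdx : List ℕ :=
  [0, 1, 2, 4, 8, 5, 12, 13, 20, 16, 17, 21, 22, 9, 6, 18, 10, 7, 23, 14, 19, 15, 11, 3]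

/-- The `k`-th point of the `t`-th tetrad. -/
def blk : Fin 6 × Fin 4 ≃ GolayPt where
  toFun a := gpt (Fin.ofNat 24 (xiPts.getD (4 * a.1.val + a.2.val) 0))
  invFun p := (Fin.ofNat 6 (xiIdx.getD (gidx p).val 0 / 4), Fin.ofNat 4 (xiIdx.getD (gidx p).val 0 % 4))
  left_inv := by decide +kernel
  right_inv := by decide +kernel

/-- The sum of a vector over a tetrad. -/
def blkSum (x : GolayPt → ℤ) (t : Fin 6) : ℤ := x (blk (t, 0)) + x (blk (t, 1)) + x (blk (t, 2)) + x (blk (t, 3))

/-- The sign of a tetrad. -/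
def xiSign (t : Fin 6) : ℤ := if t = 0 then -1 else 1

/-- Subtract half the tetrad sum, then negate on the first tetrad. -/
def xiFun (x : GolayPt → ℤ) : GolayPt → ℤ := fun p =>
  xiSign (blk.symm p).1 * (x p - blkSum x (blk.symm p).1 / 2)

theorem xiFun_blk (x : GolayPt → ℤ) (t : Fin 6) (k : Fin 4) :
    xiFun x (blk (t, k)) = xiSign t * (x (blk (t, k)) - blkSum x t / 2) := by
  simp [xiFun]

theorem two_dvd_blkSum {x : GolayPt → ℤ} (hx : x ∈ leechLattice) (t : Fin 6) : (2 : ℤ) ∣ blkSum x t := by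
  obtain ⟨m, hm, -, -⟩ := mem_leechLattice_iff.1 hx
  have h0 := hm (blk (t, 0))
  have h1 := hm (blk (t, 1))
  have h2 := hm (blk (t, 2))
  have h3 := hm (blk (t, 3))
  unfold Int.ModEq at h0 h1 h2 h3
  unfold blkSum
  omega

theorem xiFun_add {x : GolayPt → ℤ} (hx : x ∈ leechLattice) (y : GolayPt → ℤ) :
    xiFun (x + y) = xiFun x + xiFun y := by
  funext p
  have h : blkSum (x + y) (blk.symm p).1 = blkSum x (blk.symm p).1 + blkSum y (blk.symm p).1 := by
    simp only [blkSum, Pi.add_apply]; ring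
  simp only [xiFun, Pi.add_apply, h, Int.add_ediv_of_dvd_left (two_dvd_blkSum hx _)]
  ring

theorem sum_blk (f : GolayPt → ℤ) :
    ∑ p, f p = ∑ t : Fin 6, (f (blk (t, 0)) + f (blk (t, 1)) + f (blk (t, 2)) + f (blk (t, 3))) := by
  rw [← Equiv.sum_comp blk, Fintype.sum_prod_type]
  exact Finset.sum_congr rfl fun t _ => Fin.sum_univ_four _

theorem xiFun_sqNorm {x : GolayPt → ℤ} (hx : x ∈ leechLattice) : sqNorm (xiFun x) = sqNorm x := by
  rw [sqNorm, sqNorm, sum_blk, sum_blk fun p => x p ^ 2]
  refine Finset.sum_congr rfl fun t _ => ?_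
  obtain ⟨h, hh⟩ := two_dvd_blkSum hx t
  simp only [xiFun_blk, mul_pow]
  rw [hh, Int.mul_ediv_cancel_left h (by norm_num)]
  have hs : (xiSign t) ^ 2 = 1 := by unfold xiSign; split <;> rfl
  rw [hs]
  unfold blkSum at hh
  linear_combination (-2 * h) * hh

/-- The vector with one -3 and 23 ones. -/
def oddBase : GolayPt → ℤ := fun p => if p = none then -3 else 1

/-- Twice the basis words of the code. -/
def twoWord (b : ℕ) : GolayPt → ℤ := fun p => if b.testBit (gidx p).val then 2 else 0

/-- Two fours. -/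
def fourPair (q : GolayPt) : GolayPt → ℤ := fun p => (if p = q then 4 else 0) + (if p = none then 4 else 0)

/-- The mask of the points where `(x p - m) / 2` is odd. -/
def halfMask (x : GolayPt → ℤ) (m : ℤ) : ℕ :=
  orMask bits24 (fun i => ((x (gpt (Fin.ofNat 24 i)) - m) / 2) % 2 == 1) id

/-- A computable test for the lattice. -/
def inLeech (x : GolayPt → ℤ) : Bool :=
  bits24.all (fun i => (x (gpt (Fin.ofNat 24 i)) - x none % 2) % 2 == 0) &&
    isCode (halfMask x (x none % 2)) &&
    (((bits24.map fun i => x (gpt (Fin.ofNat 24 i))).sum - 4 * (x none % 2)) % 8 == 0)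

theorem sum_bits24 (x : GolayPt → ℤ) : (bits24.map fun i => x (gpt (Fin.ofNat 24 i))).sum = ∑ p, x p := by
  rw [← Equiv.sum_comp (⟨gpt, gidx, gidx_gpt, gpt_gidx⟩ : Fin 24 ≃ GolayPt)]
  simp only [Fin.sum_univ_succ, Fin.sum_univ_zero, bits24, List.map_cons, List.map_nil, List.sum_cons,
    List.sum_nil]
  rfl

theorem mem_leech_of_inLeech {x : GolayPt → ℤ} (h : inLeech x = true) : x ∈ leechLattice := by
  simp only [inLeech, Bool.and_eq_true, List.all_eq_true, beq_iff_eq] at h
  obtain ⟨⟨h1, h2⟩, h3⟩ := h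
  rw [sum_bits24] at h3
  set m := x none % 2
  set k := halfMask x m with hk
  have hlt : k < 2 ^ 24 := orMask_lt _ _ _ fun i hi _ => mem_bits24.1 hi
  have hg : ∀ p : GolayPt, gpt (Fin.ofNat 24 (gidx p).val) = p := fun p => by
    simp [Fin.ofNat, Nat.mod_eq_of_lt (gidx p).isLt, gpt_gidx]
  refine mem_leechLattice_iff.2 (mem_leechSet_iff.2 ⟨m, word k, (word_mem_golayCode_iff hlt).2 h2, fun p => ?_, ?_⟩)
  · have e := h1 _ (mem_bits24.2 (gidx p).isLt)
    rw [hg] at e
    have hbit : k.testBit (gidx p).val = true ↔ ((x p - m) / 2) % 2 = 1 := by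
      rw [hk, halfMask, testBit_orMask]
      constructor
      · rintro ⟨i, hi, hc, hf⟩
        simp only [id] at hf
        subst hf
        simpa [hg, gpt_gidx] using hc
      · intro hc
        exact ⟨_, mem_bits24.2 (gidx p).isLt, by simpa [hg, gpt_gidx] using hc, rfl⟩
    show x p % 4 = _
    simp only [word]
    by_cases hb : k.testBit (gidx p).val = true
    · have := hbit.1 hb
      rw [if_pos hb, show ((1 : ZMod 2).val : ℤ) = 1 from rfl]
      omega
    · have := mt hbit.2 hb
      rw [if_neg hb, ZMod.val_zero]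
      push_cast
      omega
  · show (∑ p, x p) % 8 = _
    omega

/-- Generators of the lattice. -/
def leechGens : Set (GolayPt → ℤ) := {oddBase} ∪ {x | ∃ b ∈ basisMasks, x = twoWord b} ∪ Set.range fourPair

theorem gens_check : inLeech oddBase = true ∧ inLeech (xiFun oddBase) = true ∧
    basisMasks.all (fun b => inLeech (twoWord b) && inLeech (xiFun (twoWord b))) = true ∧
    bits24.all (fun i => inLeech (fourPair (gpt (Fin.ofNat 24 i))) &&
      inLeech (xiFun (fourPair (gpt (Fin.ofNat 24 i))))) = true := by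
  decide +kernel

theorem gens_mem {x : GolayPt → ℤ} (h : x ∈ leechGens) : x ∈ leechLattice ∧ xiFun x ∈ leechLattice := by
  obtain ⟨a, b, c, d⟩ := gens_check
  rcases h with (h | h) | h
  · rw [Set.mem_singleton_iff.1 h]; exact ⟨mem_leech_of_inLeech a, mem_leech_of_inLeech b⟩
  · obtain ⟨w, hw, rfl⟩ := h
    have := List.all_eq_true.1 c w hw
    simp only [Bool.and_eq_true] at this
    exact ⟨mem_leech_of_inLeech this.1, mem_leech_of_inLeech this.2⟩
  · obtain ⟨q, rfl⟩ := h
    have := List.all_eq_true.1 d _ (mem_bits24.2 (gidx q).isLt)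
    simp only [Bool.and_eq_true, show Fin.ofNat 24 (gidx q).val = gidx q from Fin.ofNat_val_eq_self _, gpt_gidx] at this
    exact ⟨mem_leech_of_inLeech this.1, mem_leech_of_inLeech this.2⟩

theorem exists_word_lift (c : ℕ) : ∀ L : List ℕ, (∀ b ∈ L, b ∈ basisMasks) →
    ∃ h ∈ AddSubgroup.closure leechGens, ∀ p, h p ≡ 2 * (((word (comboAux L c)) p).val : ℤ) [ZMOD 4] := by
  intro L
  induction L generalizing c with
  | nil => exact fun _ => ⟨0, zero_mem _, fun p => by simp [comboAux, word]⟩
  | cons b L ih =>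
    intro hL
    obtain ⟨h, hh, he⟩ := ih (c / 2) fun x hx => hL x (List.mem_cons_of_mem _ hx)
    rw [comboAux]
    cases hc : (c % 2 == 1)
    · exact ⟨h, hh, fun p => by simpa using he p⟩
    · refine ⟨twoWord b + h, add_mem (AddSubgroup.subset_closure
        (Or.inl (Or.inr ⟨b, hL b (List.mem_cons_self ..), rfl⟩))) hh, fun p => ?_⟩
      have := two_mul_val_add (word b p) (word (comboAux L (c / 2)) p)
      have := he p
      have e : twoWord b p = 2 * ((word b p).val : ℤ) := by
        simp only [twoWord, word]; split <;> simp [ZMod.val_one]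
      simp only [cond_true, word_xor, Pi.add_apply, e]
      unfold Int.ModEq at *
      omega

theorem leech_le_gens : leechLattice ≤ AddSubgroup.closure leechGens := by
  intro x hx
  obtain ⟨m, w, hw, h1, h2⟩ := mem_leechSet_iff.1 (mem_leechLattice_iff.1 hx)
  obtain ⟨c, -, rfl⟩ := mem_golayCode_iff.1 hw
  obtain ⟨h, hh, he⟩ := exists_word_lift c basisMasks fun _ h => h
  have hle : AddSubgroup.closure leechGens ≤ leechLattice :=
    (AddSubgroup.closure_le _).2 fun _ h => (gens_mem h).1
  have hodd : oddBase ∈ AddSubgroup.closure leechGens := AddSubgroup.subset_closure (Or.inl (Or.inl rfl))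
  have hfour : ∀ q, fourPair q ∈ AddSubgroup.closure leechGens := fun q =>
    AddSubgroup.subset_closure (Or.inr ⟨q, rfl⟩)
  set y := x - m • oddBase - h with hy
  have hyL : y ∈ leechLattice := sub_mem (sub_mem hx (zsmul_mem (hle hodd) _)) (hle hh)
  have h4 : ∀ p, (4 : ℤ) ∣ y p := fun p => by
    have e1 := h1 p
    have e2 := he p
    have e3 : m * oddBase p % 4 = m % 4 := by
      simp only [oddBase]; split <;> omega
    simp only [hy, Pi.sub_apply, Pi.smul_apply, smul_eq_mul]
    unfold combo at e1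
    unfold Int.ModEq at e1 e2
    omega
  choose t ht using h4
  have hyt : y = fun p => 4 * t p := funext ht
  obtain ⟨k, hk⟩ : (2 : ℤ) ∣ ∑ p, t p := by
    obtain ⟨n, v, hv, g1, g2⟩ := mem_leechSet_iff.1 (mem_leechLattice_iff.1 hyL)
    have hn := g1 none
    rw [hyt] at hn g2
    unfold Int.ModEq at hn g2
    beta_reduce at hn g2
    rw [← Finset.mul_sum] at g2
    omega
  have hym : y = ∑ q, t q • fourPair q - k • fourPair none := by
    rw [hyt]
    funext p
    simp only [Pi.sub_apply, Finset.sum_apply, Pi.smul_apply, smul_eq_mul, fourPair, mul_add, mul_ite, mul_zero,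
      Finset.sum_add_distrib]
    rw [Finset.sum_ite_eq Finset.univ p, if_pos (Finset.mem_univ p)]
    by_cases hp : p = none
    · simp [hp, ← Finset.sum_mul, hk]; ring
    · simp [hp]; ring
  have e : x = y + m • oddBase + h := by rw [hy]; abel
  rw [e, hym]
  exact add_mem (add_mem (sub_mem (sum_mem fun q _ => zsmul_mem (hfour q) _) (zsmul_mem (hfour none) _))
    (zsmul_mem hodd _)) hh

theorem xiFun_mem {x : GolayPt → ℤ} (hx : x ∈ leechLattice) : xiFun x ∈ leechLattice := by
  have hle : AddSubgroup.closure leechGens ≤ leechLattice :=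
    (AddSubgroup.closure_le _).2 fun _ h => (gens_mem h).1
  refine AddSubgroup.closure_induction (p := fun a _ => xiFun a ∈ leechLattice) (fun a ha => (gens_mem ha).2) ?_
    (fun a b ha _ h1 h2 => ?_) (fun a ha h1 => ?_) (leech_le_gens hx)
  · have : xiFun 0 = 0 := funext fun p => by simp [xiFun, blkSum]
    rw [this]; exact zero_mem _
  · rw [xiFun_add (hle ha)]; exact add_mem h1 h2
  · have h0 := xiFun_add (hle ha) (-a)
    rw [add_neg_cancel, show xiFun 0 = 0 from funext fun p => by simp [xiFun, blkSum]] at h0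
    rw [show xiFun (-a) = -xiFun a from eq_neg_of_add_eq_zero_right h0.symm]
    exact neg_mem h1

theorem xiFun_xiFun {x : GolayPt → ℤ} (hx : x ∈ leechLattice) : xiFun (xiFun x) = x := by
  funext p
  obtain ⟨⟨t, k⟩, rfl⟩ := blk.surjective p
  obtain ⟨h, hh⟩ := two_dvd_blkSum hx t
  have hs : blkSum (xiFun x) t = xiSign t * (-(2 * h)) := by
    rw [show blkSum (xiFun x) t = _ from rfl]
    have hd : blkSum x t / 2 = h := by rw [hh, Int.mul_ediv_cancel_left h (by norm_num)]
    unfold blkSum
    simp only [xiFun_blk, hd]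
    unfold blkSum at hh
    linear_combination (xiSign t) * hh
  rw [xiFun_blk, hs, xiFun_blk, hh, Int.mul_ediv_cancel_left h (by norm_num : (2 : ℤ) ≠ 0),
    show xiSign t * -(2 * h) = 2 * (-(xiSign t * h)) by ring, Int.mul_ediv_cancel_left _ (by norm_num : (2 : ℤ) ≠ 0)]
  have hsq : xiSign t * xiSign t = 1 := by unfold xiSign; split <;> rfl
  linear_combination (x (blk (t, k))) * hsq

/-- The sextet element of the automorphism group. -/
def xiCo0 : Co0 :=
  ⟨{ toFun := fun v => ⟨xiFun v.1, xiFun_mem v.2⟩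
     invFun := fun v => ⟨xiFun v.1, xiFun_mem v.2⟩
     left_inv := fun v => Subtype.ext (xiFun_xiFun v.2)
     right_inv := fun v => Subtype.ext (xiFun_xiFun v.2) },
    fun v w => Subtype.ext (xiFun_add v.2 w.1), fun v => xiFun_sqNorm v.2⟩

theorem xiCo0_apply (v : leechLattice) : ((xiCo0 • v : leechLattice) : GolayPt → ℤ) = xiFun v := rfl

theorem monoCo0_smul (σ : Equiv.Perm GolayPt) (hσ : σ ∈ M24) (c : Finset GolayPt) (hc : c ∈ codeSets)
    (v : leechLattice) : ((monoCo0 σ hσ c hc • v : leechLattice) : GolayPt → ℤ) = signedPerm σ c v := rfl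

theorem co0_add (g : Co0) (v w : leechLattice) : g • (v + w) = g • v + g • w := g.2.1 v w

theorem co0_sqNorm (g : Co0) (v : leechLattice) :
    sqNorm ((g • v : leechLattice) : GolayPt → ℤ) = sqNorm (v : GolayPt → ℤ) := g.2.2 v

theorem sqNorm_add {α : Type*} [Fintype α] (x y : α → ℤ) :
    sqNorm (x + y) = sqNorm x + 2 * dotInt x y + sqNorm y := by
  simp only [sqNorm, dotInt, Pi.add_apply, Finset.mul_sum, ← Finset.sum_add_distrib]
  exact Finset.sum_congr rfl fun i _ => by ring

/-- Automorphisms preserve inner products. -/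
theorem co0_dot (g : Co0) (v w : leechLattice) :
    dotInt ((g • v : leechLattice) : GolayPt → ℤ) ((g • w : leechLattice) : GolayPt → ℤ) =
      dotInt (v : GolayPt → ℤ) (w : GolayPt → ℤ) := by
  have h1 := co0_sqNorm g (v + w)
  rw [co0_add, AddSubgroup.coe_add, AddSubgroup.coe_add, sqNorm_add, sqNorm_add, co0_sqNorm, co0_sqNorm] at h1
  omega

end Cfsg.Lib.Concrete
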