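import Cfsg.Agent.Lib.Concrete.M24Fix
import Cfsg.Agent.Lib.Concrete.MathieuPerfData

/-!
The chain subgroups of M24 and of the stabiliser of a dodecad are perfect.
-/

set_option autoImplicit false

namespace Cfsg.Lib.Concrete

open scoped Pointwise commutatorElement

/-- The elements of M24 fixing the first `k` base points and mapping `D` onto itself. -/
def mSub (k : ℕ) (D : Finset GolayPt) : Subgroup (Equiv.Perm GolayPt) :=
  fixB k ⊓ MulAction.stabilizer (Equiv.Perm GolayPt) D

theorem mem_mSub {k : ℕ} {D : Finset GolayPt} {g : Equiv.Perm GolayPt} :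
    g ∈ mSub k D ↔ g ∈ M24 ∧ (∀ j < k, g (bp j) = bp j) ∧ g • D = D := by
  exact ⟨fun h => ⟨h.1.1, h.1.2, h.2⟩, fun h => ⟨⟨h.1, h.2.1⟩, h.2.2⟩⟩

/-- `p` is a permutation in `mSub k (mset D)` with inverse `q`. -/
def elemCheck (k D p q : ℕ) : Bool :=
  prodCheck p q pId && prodCheck q p pId &&
    (bits24.all fun i => decide (pget p i < 24) && decide (pget q i < 24)) &&
    basisMasks.all (fun b => isCode (pimg p b) && decide (pimg p b < 16777216)) &&
    ((List.range k).all fun j => Nat.beq (pget p (m24Base.getD j 0)) (m24Base.getD j 0)) &&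
    Nat.beq (pimg p D) D

theorem exists_of_elemCheck {k D p q : ℕ} (hk : k ≤ 7) (h : elemCheck k D p q = true) :
    ∃ g ∈ mSub k (mset D), Rep g p ∧ Rep g⁻¹ q := by
  simp only [elemCheck, Bool.and_eq_true, List.all_eq_true, decide_eq_true_eq, prodCheck,
    List.mem_range, Nat.beq_eq] at h
  obtain ⟨⟨⟨⟨⟨h1, h2⟩, h3⟩, h4⟩, h5⟩, h6⟩ := h
  have hid : ∀ x : GolayPt, pget pId (gidx x).val = (gidx x).val := fun x => (rep_one x).symm
  let f : GolayPt → GolayPt := fun x => gpt (Fin.ofNat 24 (pget p (gidx x).val))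
  let f' : GolayPt → GolayPt := fun x => gpt (Fin.ofNat 24 (pget q (gidx x).val))
  have hf : ∀ x, (gidx (f x)).val = pget p (gidx x).val := fun x => by
    simp only [f, gidx_gpt, Fin.val_ofNat]
    exact Nat.mod_eq_of_lt (h3 _ (mem_bits24.2 (gidx x).isLt)).1
  have hf' : ∀ x, (gidx (f' x)).val = pget q (gidx x).val := fun x => by
    simp only [f', gidx_gpt, Fin.val_ofNat]
    exact Nat.mod_eq_of_lt (h3 _ (mem_bits24.2 (gidx x).isLt)).2
  let g : Equiv.Perm GolayPt :=
    { toFun := f
      invFun := f'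
      left_inv := fun x => gidx_injective (Fin.ext (by
        rw [hf', hf, ← h2 _ (mem_bits24.2 (gidx x).isLt), hid]))
      right_inv := fun x => gidx_injective (Fin.ext (by
        rw [hf, hf', ← h1 _ (mem_bits24.2 (gidx x).isLt), hid])) }
  have hg : Rep g p := hf
  have hgi : Rep g⁻¹ q := hf'
  refine ⟨g, mem_mSub.2 ⟨rep_mem_M24 hg ?_, fun j hj => ?_, ?_⟩, hg, hgi⟩
  · simpa [List.all_eq_true] using h4
  · refine hg.apply_eq ?_
    simp only [Fin.val_ofNat, Nat.mod_eq_of_lt (base_lt j (by omega))]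
    exact h5 j hj
  · rw [hg.smul_mset, h6]

/-- Validity of the commutator entries. -/
def commCheck (k D : ℕ) (c : PerfCert) : Bool :=
  (List.range c.comm.length).all fun i =>
    let e := c.comm.getD i []
    elemCheck k D (e.getD 0 0) (e.getD 1 0) && elemCheck k D (e.getD 2 0) (e.getD 3 0) &&
      Nat.beq (c.perms.getD (i + 1) 0) (e.getD 4 0) &&
      bits24.all fun x => Nat.beq (pget (e.getD 4 0) x)
        (pget (e.getD 0 0) (pget (e.getD 2 0) (pget (e.getD 1 0) (pget (e.getD 3 0) x))))

/-- Validity of the program. -/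
def stepCheck (c : PerfCert) : Bool :=
  Nat.beq (c.perms.getD 0 0) pId &&
  (List.range c.steps.length).all fun i =>
    let e := c.steps.getD i (0, 0)
    decide (e.1 < c.comm.length + 1 + i) && decide (e.2 < c.comm.length + 1 + i) &&
      prodCheck (c.perms.getD e.1 0) (c.perms.getD e.2 0)
        (c.perms.getD (c.comm.length + 1 + i) 0)

/-- Validity of the transversals. -/
def trCheck (c : PerfCert) : Bool :=
  (List.range c.tr.length).all fun j => (c.tr.getD j []).all fun e =>
    decide (j < 7) && decide (e.1 < 24) && decide (e.2 < c.comm.length + 1 + c.steps.length) &&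
      Nat.beq (pget (c.perms.getD e.2 0) (m24Base.getD j 0)) e.1 &&
      (List.range j).all fun i =>
        Nat.beq (pget (c.perms.getD e.2 0) (m24Base.getD i 0)) (m24Base.getD i 0)

/-- The points reached by the `j`-th transversal. -/
def certPts (c : PerfCert) (j : ℕ) : Finset GolayPt :=
  ((c.tr.getD j []).map fun e => gpt (Fin.ofNat 24 e.1)).toFinset

theorem commutator_mSub_eq {k D last : ℕ} (c : PerfCert) (hk : k ≤ last) (h7 : last ≤ 7)
    (hlen : c.tr.length = last)
    (hc : commCheck k D c = true) (hs : stepCheck c = true) (ht : trCheck c = true)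
    (htgt : ∀ j, k ≤ j → j < last → ∀ g ∈ mSub j (mset D), g (bp j) ∈ certPts c j)
    (hlast : ∀ g ∈ mSub last (mset D), g = 1) :
    ⁅mSub k (mset D), mSub k (mset D)⁆ = mSub k (mset D) := by
  refine le_antisymm (Subgroup.commutator_le.2 fun a ha b hb =>
    mul_mem (mul_mem (mul_mem ha hb) (inv_mem ha)) (inv_mem hb)) ?_
  have hrep : ∀ i < c.comm.length + 1 + c.steps.length,
      ∃ g ∈ ⁅mSub k (mset D), mSub k (mset D)⁆, Rep g (c.perms.getD i 0) := by
    intro i
    induction i using Nat.strong_induction_on with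
    | _ i ih =>
      intro hi
      by_cases hi0 : i = 0
      · subst hi0
        simp only [stepCheck, Bool.and_eq_true, Nat.beq_eq] at hs
        exact ⟨1, one_mem _, hs.1 ▸ rep_one⟩
      by_cases hic : i < c.comm.length + 1
      · obtain ⟨i, rfl⟩ : ∃ m, i = m + 1 := ⟨i - 1, by omega⟩
        have h := List.all_eq_true.1 hc i (List.mem_range.2 (by omega))
        simp only [Bool.and_eq_true, Nat.beq_eq, List.all_eq_true] at h
        obtain ⟨⟨⟨h1, h2⟩, h3⟩, h4⟩ := h
        obtain ⟨a, ha, hra, hra'⟩ := exists_of_elemCheck (hk.trans h7) h1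
        obtain ⟨b, hb, hrb, hrb'⟩ := exists_of_elemCheck (hk.trans h7) h2
        refine ⟨⁅a, b⁆, Subgroup.commutator_mem_commutator ha hb, fun x => ?_⟩
        rw [h3, h4 _ (mem_bits24.2 (gidx x).isLt), commutatorElement_def]
        simp only [Equiv.Perm.mul_apply]
        rw [hra, hrb, hra', hrb']
      · obtain ⟨j, rfl⟩ : ∃ j, i = c.comm.length + 1 + j := ⟨i - (c.comm.length + 1), by omega⟩
        simp only [stepCheck, Bool.and_eq_true, List.all_eq_true, List.mem_range,
          decide_eq_true_eq] at hs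
        obtain ⟨⟨h1, h2⟩, h3⟩ := hs.2 j (by omega)
        obtain ⟨a, ha, hra⟩ := ih _ h1 (by omega)
        obtain ⟨b, hb, hrb⟩ := ih _ h2 (by omega)
        exact ⟨a * b, mul_mem ha hb, hra.mul hrb h3⟩
  have key : ∀ n, ∀ j, k ≤ j → j + n = last → ∀ g ∈ mSub j (mset D),
      g ∈ ⁅mSub k (mset D), mSub k (mset D)⁆ := by
    intro n
    induction n with
    | zero =>
      intro j _ hj g hg
      obtain rfl : j = last := by omega
      rw [hlast g hg]; exact one_mem _
    | succ n ih =>
      intro j hkj hj g hg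
      obtain ⟨e, he, hx⟩ := List.mem_map.1 (List.mem_toFinset.1 (htgt j hkj (by omega) g hg))
      have h := List.all_eq_true.1 (List.all_eq_true.1 ht j (List.mem_range.2 (by omega))) e he
      simp only [Bool.and_eq_true, decide_eq_true_eq, List.all_eq_true, List.mem_range,
        Nat.beq_eq] at h
      obtain ⟨⟨⟨⟨hj7, h1⟩, h2⟩, h3⟩, h4⟩ := h
      obtain ⟨r, hr, hrep'⟩ := hrep _ h2
      have hrk : r ∈ mSub k (mset D) := Subgroup.commutator_le.2 (fun a ha b hb =>
        mul_mem (mul_mem (mul_mem ha hb) (inv_mem ha)) (inv_mem hb)) hr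
      have hfix : ∀ i < j, r (bp i) = bp i := fun i hi => by
        refine hrep'.apply_eq ?_
        simp only [Fin.val_ofNat, Nat.mod_eq_of_lt (base_lt i (by omega))]
        exact h4 i hi
      have hb : r (bp j) = g (bp j) := by
        rw [← hx]
        refine hrep'.apply_eq ?_
        simp only [Fin.val_ofNat, Nat.mod_eq_of_lt (base_lt j hj7), Nat.mod_eq_of_lt h1]
        exact h3
      have hrj : r ∈ mSub j (mset D) :=
        mem_mSub.2 ⟨(mem_mSub.1 hrk).1, hfix, (mem_mSub.1 hrk).2.2⟩
      have hin : r⁻¹ * g ∈ mSub j (mset D) := mul_mem (inv_mem hrj) hg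
      have hnext : r⁻¹ * g ∈ mSub (j + 1) (mset D) := by
        refine mem_mSub.2 ⟨(mem_mSub.1 hin).1, fun i hi => ?_, (mem_mSub.1 hin).2.2⟩
        rcases Nat.lt_succ_iff_lt_or_eq.1 hi with hi | rfl
        · exact (mem_mSub.1 hin).2.1 i hi
        · rw [Equiv.Perm.mul_apply, ← hb]
          exact r.symm_apply_apply _
      have := mul_mem hr (ih (j + 1) (by omega) (by omega) _ hnext)
      rwa [mul_inv_cancel_left] at this
  intro g hg
  exact key (last - k) k le_rfl (by omega) g hg

theorem mSub_univ (k : ℕ) : mSub k Finset.univ = fixB k := by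
  ext g
  exact ⟨fun h => h.1, fun h => ⟨h, Finset.smul_finset_univ⟩⟩

theorem apply_mem_cert_univ (c : PerfCert) (k : ℕ)
    (h : ∀ j < 7, k ≤ j → ∀ x ∈ trPts j, x ∈ certPts c j) :
    ∀ j, k ≤ j → j < 7 → ∀ g ∈ mSub j (mset 16777215), g (bp j) ∈ certPts c j :=
  fun j hkj hj g hg => h j hj hkj _ (apply_mem_trPts hj hg.1)

theorem last_univ : ∀ g ∈ mSub 7 (mset 16777215), g = 1 := fun g hg => by
  have h7 : g ∈ fixB 7 := hg.1
  rwa [fixB_seven, Subgroup.mem_bot] at h7

/-- The points that can be reached at step `j` inside the stabiliser of the base dodecad. -/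
def dodPts (j : ℕ) : Finset GolayPt :=
  baseDodecad.filter fun x => decide (x ∉ (Finset.range j).image bp)

theorem apply_mem_dodPts {j : ℕ} (hj : j < 5) {g : Equiv.Perm GolayPt}
    (hg : g ∈ mSub j baseDodecad) : g (bp j) ∈ dodPts j := by
  obtain ⟨-, hf, hd⟩ := mem_mSub.1 hg
  simp only [dodPts, decide_eq_true_eq, Finset.mem_filter]
  refine ⟨hd ▸ Finset.smul_mem_smul_finset (bp_mem_baseDodecad j hj), fun h => ?_⟩
  obtain ⟨i, hi, he⟩ := Finset.mem_image.1 h
  have hij : ∀ j < 5, ∀ i < j, bp i ≠ bp j := by decide +kernel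
  exact hij j hj i (Finset.mem_range.1 hi)
    (g.injective ((hf i (Finset.mem_range.1 hi)).trans he))

theorem last_dod : ∀ g ∈ mSub 5 (mset 11472927), g = 1 := fun _ hg =>
  eq_one_of_fix_dodecad hg.1 hg.2

theorem perfect_fixB_zero : ⁅fixB 0, fixB 0⁆ = fixB 0 := by
  have := commutator_mSub_eq (k := 0) (D := 16777215) m24Perf (by norm_num) le_rfl rfl
    (by decide +kernel) (by decide +kernel) (by decide +kernel)
    (apply_mem_cert_univ _ _ (by decide +kernel)) last_univ
  rwa [mset_full, mSub_univ] at this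

theorem perfect_fixB_one : ⁅fixB 1, fixB 1⁆ = fixB 1 := by
  have := commutator_mSub_eq (k := 1) (D := 16777215) m23Perf (by norm_num) le_rfl rfl
    (by decide +kernel) (by decide +kernel) (by decide +kernel)
    (apply_mem_cert_univ _ _ (by decide +kernel)) last_univ
  rwa [mset_full, mSub_univ] at this

theorem perfect_fixB_two : ⁅fixB 2, fixB 2⁆ = fixB 2 := by
  have := commutator_mSub_eq (k := 2) (D := 16777215) m22Perf (by norm_num) le_rfl rfl
    (by decide +kernel) (by decide +kernel) (by decide +kernel)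
    (apply_mem_cert_univ _ _ (by decide +kernel)) last_univ
  rwa [mset_full, mSub_univ] at this

theorem perfect_dod_zero : ⁅mSub 0 baseDodecad, mSub 0 baseDodecad⁆ = mSub 0 baseDodecad :=
  commutator_mSub_eq (k := 0) (last := 5) (D := 11472927) m12Perf (by norm_num) (by norm_num) rfl
    (by decide +kernel) (by decide +kernel) (by decide +kernel)
    (fun j hk hj g hg => by
      have h : ∀ j < 5, 0 ≤ j → ∀ x ∈ dodPts j, x ∈ certPts m12Perf j := by decide +kernel
      exact h j hj hk _ (apply_mem_dodPts hj hg)) last_dod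

theorem perfect_dod_one : ⁅mSub 1 baseDodecad, mSub 1 baseDodecad⁆ = mSub 1 baseDodecad :=
  commutator_mSub_eq (k := 1) (last := 5) (D := 11472927) m11Perf (by norm_num) (by norm_num) rfl
    (by decide +kernel) (by decide +kernel) (by decide +kernel)
    (fun j hk hj g hg => by
      have h : ∀ j < 5, 1 ≤ j → ∀ x ∈ dodPts j, x ∈ certPts m11Perf j := by decide +kernel
      exact h j hj hk _ (apply_mem_dodPts hj hg)) last_dod

end Cfsg.Lib.Concrete
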