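import Cfsg.Agent.Lib.Concrete.MathieuAut

/-!
The outer automorphism groups of the five Mathieu groups.
-/

set_option autoImplicit false

namespace Cfsg.Lib.Concrete

open scoped Pointwise
open MulAction

theorem autGens_univ (c : AutCert) (hD : c.D = 16777215) (hg : genCheck c = true) (hlen : c.tr.length = 7)
    (hk : c.k ≤ 7) (h : ∀ j < 7, c.k ≤ j → ∀ x ∈ trPts j, x ∈ autPts c j) : Nonempty (AutGens c) :=
  genCheck_sound hg le_rfl hlen hk (fun j hkj hj _ hx => h j hj hkj _ (apply_mem_trPts hj hx.1))
    (by rw [hD]; exact last_univ)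

theorem autGens_dod (c : AutCert) (hD : c.D = 11472927) (hg : genCheck c = true) (hlen : c.tr.length = 5)
    (hk : c.k ≤ 5) (h : ∀ j < 5, c.k ≤ j → ∀ x ∈ dodPts j, x ∈ autPts c j) : Nonempty (AutGens c) :=
  genCheck_sound hg (by norm_num) hlen hk
    (fun j hkj hj g hx => h j hj hkj _ (apply_mem_dodPts hj (by rw [hD] at hx; exact hx)))
    (by rw [hD]; exact last_dod)

theorem grp_univ (c : AutCert) (hD : c.D = 16777215) : c.grp = fixB c.k := by
  rw [AutCert.grp, hD, mset_full, mSub_univ]

theorem out_fixB_zero : Nat.card (Cfsg.Out m24Aut.grp) = 1 := by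
  obtain ⟨G⟩ := autGens_univ m24Aut rfl (by decide +kernel) rfl (by decide) (by decide +kernel)
  exact out_card_one (by decide +kernel) (by decide +kernel) (by decide +kernel) (by decide +kernel)
    G (show Nat.Prime 23 by norm_num) (show ¬ 23 ^ 2 ∣ 244823040 by norm_num)

theorem out_fixB_one : Nat.card (Cfsg.Out m23Aut.grp) = 1 := by
  obtain ⟨G⟩ := autGens_univ m23Aut rfl (by decide +kernel) rfl (by decide) (by decide +kernel)
  exact out_card_one (by decide +kernel) (by decide +kernel) (by decide +kernel) (by decide +kernel)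
    G (show Nat.Prime 23 by norm_num) (show ¬ 23 ^ 2 ∣ 244823040 by norm_num)

theorem out_fixB_two : Nat.card (Cfsg.Out m22Aut.grp) = 2 := by
  obtain ⟨G⟩ := autGens_univ m22Aut rfl (by decide +kernel) rfl (by decide) (by decide +kernel)
  exact out_card_two (by decide +kernel) (by decide +kernel) (by decide +kernel) (by decide +kernel)
    G (show Nat.Prime 11 by norm_num) (show ¬ 11 ^ 2 ∣ 244823040 by norm_num)

theorem out_dod_zero : Nat.card (Cfsg.Out m12Aut.grp) = 2 := by
  obtain ⟨G⟩ := autGens_dod m12Aut rfl (by decide +kernel) rfl (by decide) (by decide +kernel)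
  exact out_card_two (by decide +kernel) (by decide +kernel) (by decide +kernel) (by decide +kernel)
    G (show Nat.Prime 11 by norm_num) (show ¬ 11 ^ 2 ∣ 244823040 by norm_num)

theorem out_dod_one : Nat.card (Cfsg.Out m11Aut.grp) = 1 := by
  obtain ⟨G⟩ := autGens_dod m11Aut rfl (by decide +kernel) rfl (by decide) (by decide +kernel)
  exact out_card_one (by decide +kernel) (by decide +kernel) (by decide +kernel) (by decide +kernel)
    G (show Nat.Prime 11 by norm_num) (show ¬ 11 ^ 2 ∣ 244823040 by norm_num)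

theorem card_out_M24 : Nat.card (Cfsg.Out M24) = 1 := by
  have h : m24Aut.grp = M24 := (grp_univ _ rfl).trans fixB_zero
  exact (card_out_congr (MulEquiv.subgroupCongr h)).symm.trans out_fixB_zero

theorem fixB_one_eq : fixB 1 = Spor.M23 := by
  have hb : bp 0 = none := by decide +kernel
  ext g
  constructor
  · intro hg
    have := hg.2 0 one_pos
    rw [hb] at this
    exact ⟨hg.1, this⟩
  · rintro ⟨h1, h2⟩
    refine ⟨h1, fun j hj => ?_⟩
    obtain rfl : j = 0 := by omega
    rw [hb]; exact h2

theorem card_out_sporM23 : Nat.card (Cfsg.Out Spor.M23) = 1 := by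
  have h : m23Aut.grp = Spor.M23 := (grp_univ _ rfl).trans fixB_one_eq
  exact (card_out_congr (MulEquiv.subgroupCongr h)).symm.trans out_fixB_one

theorem card_out_sporM22 : Nat.card (Cfsg.Out Spor.M22) = 2 := by
  have hb : bp 0 = none := by decide +kernel
  have hb1 : bp 1 = some 0 := by decide +kernel
  have h : m22Aut.grp = Spor.M22 := by
    rw [grp_univ _ rfl]
    ext g
    constructor
    · intro hg
      have h0 := hg.2 0 (by decide)
      have h1 := hg.2 1 (by decide)
      rw [hb] at h0
      rw [hb1] at h1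
      exact ⟨⟨hg.1, h0⟩, h1⟩
    · rintro ⟨⟨h1, h2⟩, h3⟩
      refine ⟨h1, fun j hj => ?_⟩
      have hj' : j < 2 := hj
      interval_cases j
      · rw [hb]; exact h2
      · rw [hb1]; exact h3
  exact (card_out_congr (MulEquiv.subgroupCongr h)).symm.trans out_fixB_two

theorem m12Aut_grp : m12Aut.grp = mSub 0 baseDodecad := rfl

theorem m11Aut_grp : m11Aut.grp = mSub 1 baseDodecad := rfl

theorem card_out_sporM12 : Nat.card (Cfsg.Out Spor.M12) = 2 := by
  obtain ⟨c, hc, hcd⟩ := M24_dodecad_transitive baseDodecad_mem squareDodecad_mem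
  have e : stabilizer M24 Spor.squareDodecad ≃* mSub 0 baseDodecad :=
    conjSubEquiv _ (mSub_le_M24 _ _) _ c hc fun x => by
      rw [mem_mSub]
      constructor
      · intro hx
        refine ⟨mul_mem (mul_mem (inv_mem hc) x.2) hc, fun j hj => absurd hj (Nat.not_lt_zero _), ?_⟩
        rw [mul_smul, mul_smul, hcd, show (x : Equiv.Perm GolayPt) • Spor.squareDodecad = Spor.squareDodecad from hx, ← hcd, inv_smul_smul]
      · rintro ⟨-, -, hs⟩
        rw [mul_smul, mul_smul, hcd, inv_smul_eq_iff, hcd] at hs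
        exact hs
  exact (card_out_congr (sporM12Equiv.symm.trans (e.trans (MulEquiv.subgroupCongr m12Aut_grp.symm)))).trans out_dod_zero

theorem sporM11_equiv_dod : Nonempty (Spor.M11 ≃* mSub 1 baseDodecad) := by
  obtain ⟨g, hg, hgd⟩ := M24_dodecad_transitive baseDodecad_mem squareDodecad_mem
  have hd := squareDodecad_mem
  have : IsPretransitive (stabilizer M24 Spor.squareDodecad) (dodPoints Spor.squareDodecad) :=
    have := dod_two_transitive hd
    isPretransitive_of_is_two_pretransitive
  have hgb : g (bp 0) ∈ Spor.squareDodecad :=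
    hgd ▸ Finset.smul_mem_smul_finset (bp_mem_baseDodecad 0 (by norm_num))
  obtain ⟨k, hk⟩ := exists_smul_eq (stabilizer M24 Spor.squareDodecad)
    (⟨g (bp 0), hgb⟩ : dodPoints Spor.squareDodecad) ⟨some 0, zero_mem_squareDodecad⟩
  set c := ((k : M24) : Equiv.Perm GolayPt) * g with hcdef
  have hc : c ∈ M24 := mul_mem (k : M24).2 hg
  have hc0 : c (bp 0) = some 0 := congrArg Subtype.val hk
  have hcd : c • baseDodecad = Spor.squareDodecad := by rw [hcdef, mul_smul, hgd]; exact k.2
  have e : ↥(stabilizer M24 Spor.squareDodecad ⊓ stabilizer M24 (some 0 : GolayPt)) ≃* mSub 1 baseDodecad :=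
    conjSubEquiv _ (mSub_le_M24 _ _) _ c hc fun x => by
      rw [mem_mSub]
      constructor
      · rintro ⟨hxd, hxp⟩
        refine ⟨mul_mem (mul_mem (inv_mem hc) x.2) hc, fun j hj => ?_, ?_⟩
        · obtain rfl : j = 0 := by omega
          rw [Equiv.Perm.mul_apply, Equiv.Perm.mul_apply, hc0,
            show (x : Equiv.Perm GolayPt) (some 0) = some 0 from hxp, ← hc0]
          exact c.symm_apply_apply _
        · rw [mul_smul, mul_smul, hcd, show (x : Equiv.Perm GolayPt) • Spor.squareDodecad = Spor.squareDodecad from hxd, ← hcd,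
            inv_smul_smul]
      · rintro ⟨-, hf, hs⟩
        have h0 := hf 0 one_pos
        rw [Equiv.Perm.mul_apply, Equiv.Perm.mul_apply, hc0, Equiv.Perm.inv_def,
          Equiv.symm_apply_eq, hc0] at h0
        rw [mul_smul, mul_smul, hcd, inv_smul_eq_iff, hcd] at hs
        exact ⟨hs, h0⟩
  exact ⟨sporM11Equiv.symm.trans e⟩

theorem card_out_sporM11 : Nat.card (Cfsg.Out Spor.M11) = 1 := by
  obtain ⟨e⟩ := sporM11_equiv_dod
  exact (card_out_congr (e.trans (MulEquiv.subgroupCongr m11Aut_grp.symm))).trans out_dod_one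

end Cfsg.Lib.Concrete
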