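import Cfsg.Agent.Lib.Concrete.Golay

/-!
Permutations of the 24 points as packed numbers, and their action on masks.
-/

set_option autoImplicit false

namespace Cfsg.Lib.Concrete

open scoped Pointwise

/-- Image of position `i` under a packed permutation. -/
def pget (p i : ℕ) : ℕ := Nat.land (Nat.shiftRight p (Nat.mul 5 i)) 31

/-- Image of a mask under a packed permutation. -/
def pimg (p m : ℕ) : ℕ := orMask bits24 (fun i => m.testBit i) (pget p)

/-- `p` is the packed form of `g`. -/
def Rep (g : Equiv.Perm GolayPt) (p : ℕ) : Prop :=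
  ∀ x : GolayPt, (gidx (g x)).val = pget p (gidx x).val

theorem gidx_injective : Function.Injective gidx := fun a b h => by
  rw [← gpt_gidx a, ← gpt_gidx b, h]

theorem gpt_injective : Function.Injective gpt := fun a b h => by
  rw [← gidx_gpt a, ← gidx_gpt b, h]

/-- The packed product. -/
def prodCheck (p q r : ℕ) : Bool := bits24.all fun i => Nat.beq (pget r i) (pget p (pget q i))

theorem Rep.mul {g h : Equiv.Perm GolayPt} {p q r : ℕ} (hg : Rep g p) (hh : Rep h q)
    (hc : prodCheck p q r = true) : Rep (g * h) r := by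
  intro x
  have := List.all_eq_true.1 hc (gidx x).val (mem_bits24.2 (gidx x).isLt)
  rw [Nat.beq_eq] at this
  rw [this, Equiv.Perm.mul_apply, hg, hh]

theorem Rep.apply {g : Equiv.Perm GolayPt} {p : ℕ} (hg : Rep g p) (i : Fin 24) :
    (gidx (g (gpt i))).val = pget p i.val := by
  rw [hg, gidx_gpt]

theorem Rep.apply_eq {g : Equiv.Perm GolayPt} {p : ℕ} (hg : Rep g p) {i j : Fin 24}
    (h : pget p i.val = j.val) : g (gpt i) = gpt j := by
  apply gidx_injective
  apply Fin.ext
  rw [hg.apply, h, gidx_gpt]

theorem Rep.ext {g h : Equiv.Perm GolayPt} {p : ℕ} (hg : Rep g p) (hh : Rep h p) : g = h := by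
  ext x : 1
  exact gidx_injective (Fin.ext (by rw [hg, hh]))

/-- The packed identity. -/
def pId : ℕ := 984818244535754528103549039458486304

theorem rep_one : Rep 1 pId := by unfold Rep; decide +kernel

theorem Rep.smul_mset {g : Equiv.Perm GolayPt} {p : ℕ} (hg : Rep g p) (m : ℕ) :
    g • mset m = mset (pimg p m) := by
  ext y
  rw [Finset.mem_smul_finset, mem_mset, pimg, testBit_orMask]
  constructor
  · rintro ⟨x, hx, rfl⟩
    exact ⟨(gidx x).val, mem_bits24.2 (gidx x).isLt, mem_mset.1 hx, (hg x).symm⟩
  · rintro ⟨i, hi, hm, hp⟩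
    refine ⟨gpt ⟨i, mem_bits24.1 hi⟩, by simpa [gidx_gpt] using hm, ?_⟩
    exact gidx_injective (Fin.ext ((hg.apply _).trans hp))

theorem card_smul_points (g : Equiv.Perm GolayPt) (s : Finset GolayPt) : (g • s).card = s.card :=
  Finset.card_smul_finset g s

theorem mem_M24_iff {g : Equiv.Perm GolayPt} :
    g ∈ M24 ↔ ∀ s ∈ supports (golayCode : Set (GolayPt → ZMod 2)),
      g • s ∈ supports (golayCode : Set (GolayPt → ZMod 2)) := by
  constructor
  · intro hg s hs
    have := MulAction.mem_stabilizer_iff.1 hg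
    rw [← this]
    exact Set.smul_mem_smul_set hs
  · intro h
    rw [MulAction.mem_stabilizer_iff]
    refine Set.eq_of_subset_of_ncard_le ?_ ?_ (Set.toFinite _)
    · rintro _ ⟨s, hs, rfl⟩; exact h s hs
    · exact le_of_eq (Set.ncard_image_of_injective _ (MulAction.injective g)).symm

theorem smul_symmDiff_points (g : Equiv.Perm GolayPt) (s t : Finset GolayPt) :
    g • symmDiff s t = symmDiff (g • s) (g • t) := Finset.smul_finset_symmDiff

theorem smul_mset_comboAux_mem (g : Equiv.Perm GolayPt) (L : List ℕ)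
    (hL : ∀ b ∈ L, g • mset b ∈ supports (golayCode : Set (GolayPt → ZMod 2))) :
    ∀ c, g • mset (comboAux L c) ∈ supports (golayCode : Set (GolayPt → ZMod 2)) := by
  have hz : g • mset 0 ∈ supports (golayCode : Set (GolayPt → ZMod 2)) := by
    rw [mset_zero, Finset.smul_finset_empty, ← mset_zero]
    exact (mset_mem_supports_iff (by norm_num)).2 (by decide +kernel)
  induction L with
  | nil => intro c; exact hz
  | cons b bs ih =>
    intro c
    rw [comboAux, mset_xor, smul_symmDiff_points]
    refine symmDiff_mem_supports ?_ (ih (fun x hx => hL x (List.mem_cons_of_mem _ hx)) _)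
    cases (c % 2 == 1)
    · exact hz
    · exact hL b (List.mem_cons_self ..)

theorem rep_mem_M24 {g : Equiv.Perm GolayPt} {p : ℕ} (hg : Rep g p)
    (hc : basisMasks.all (fun b => isCode (pimg p b) && decide (pimg p b < 16777216)) = true) :
    g ∈ M24 := by
  rw [mem_M24_iff]
  intro s hs
  obtain ⟨m, hm, rfl⟩ := mem_supports_iff.1 hs
  obtain ⟨c, hc', rfl⟩ := List.mem_map.1 (codeList_eq ▸ hm)
  refine smul_mset_comboAux_mem g _ (fun b hb => ?_) c
  have := List.all_eq_true.1 hc b hb
  simp only [Bool.and_eq_true, decide_eq_true_eq] at this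
  rw [hg.smul_mset]
  exact (mset_mem_supports_iff (by simpa using this.2)).2 this.1

end Cfsg.Lib.Concrete
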