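import Cfsg.Agent.Lib.Concrete.LeechXi

/-!
Automorphisms of the rank-24 lattice given by explicit matrices (scaled by eight).
-/

set_option autoImplicit false

namespace Cfsg.Lib.Concrete

open Cfsg

/-- An entry of a listed matrix. -/
def matEntry (L : List (List ℤ)) (i j : Fin 24) : ℤ := (L.getD i.val []).getD j.val 0

/-- The row product before division by eight. -/
def matDot (L : List (List ℤ)) (x : GolayPt → ℤ) (i : Fin 24) : ℤ :=
  (List.finRange 24).foldr (fun j a => matEntry L i j * x (gpt j) + a) 0

/-- The map of a listed matrix. -/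
def matFun (L : List (List ℤ)) (x : GolayPt → ℤ) : GolayPt → ℤ := fun p => matDot L x (gidx p) / 8

/-- The transposed list. -/
def matT (L : List (List ℤ)) : List (List ℤ) :=
  (List.finRange 24).map fun i => (List.finRange 24).map fun j => matEntry L j i

/-- The columns are orthogonal of norm 64. -/
def matOrth (L : List (List ℤ)) : Bool :=
  (List.finRange 24).all fun i => (List.finRange 24).all fun j =>
    (List.finRange 24).foldr (fun k a => matEntry L k i * matEntry L k j + a) 0 == if i = j then 64 else 0

/-- The image of a vector is integral and in the lattice. -/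
def matGood (L : List (List ℤ)) (x : GolayPt → ℤ) : Bool :=
  (List.finRange 24).all (fun i => matDot L x i % 8 == 0) && inLeech (matFun L x)

/-- The lattice is preserved. -/
def matPres (L : List (List ℤ)) : Bool :=
  matGood L oddBase && basisMasks.all (fun b => matGood L (twoWord b)) &&
    (List.finRange 24).all fun i => matGood L (fourPair (gpt i))

/-- All conditions. -/
def matOk (L : List (List ℤ)) : Bool :=
  matOrth L && matOrth (matT L) && matPres L && matPres (matT L)

theorem foldr_eq_sum (g : Fin 24 → ℤ) :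
    (List.finRange 24).foldr (fun j a => g j + a) 0 = ∑ j, g j := by
  rw [Fin.sum_univ_def, List.sum_eq_foldr, List.foldr_map]

theorem matDot_eq (L : List (List ℤ)) (x : GolayPt → ℤ) (i : Fin 24) :
    matDot L x i = ∑ j, matEntry L i j * x (gpt j) :=
  foldr_eq_sum fun j => matEntry L i j * x (gpt j)

theorem matEntry_T (L : List (List ℤ)) (i j : Fin 24) : matEntry (matT L) i j = matEntry L j i := by
  simp [matEntry, matT]

theorem sum_gpt (f : GolayPt → ℤ) : ∑ p, f p = ∑ j, f (gpt j) :=
  (Equiv.sum_comp (⟨gpt, gidx, gidx_gpt, gpt_gidx⟩ : Fin 24 ≃ GolayPt) f).symm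

theorem matPres_spec {L : List (List ℤ)} (h : matPres L = true) {x : GolayPt → ℤ} (hx : x ∈ leechLattice) :
    (∀ i, (8 : ℤ) ∣ matDot L x i) ∧ matFun L x ∈ leechLattice := by
  simp only [matPres, matGood, Bool.and_eq_true, List.all_eq_true, beq_iff_eq] at h
  have hgen : ∀ y ∈ leechGens, (∀ i, (8 : ℤ) ∣ matDot L y i) ∧ matFun L y ∈ leechLattice := by
    intro y hy
    have fin : (∀ i ∈ List.finRange 24, matDot L y i % 8 = 0) ∧ inLeech (matFun L y) = true →
        (∀ i, (8 : ℤ) ∣ matDot L y i) ∧ matFun L y ∈ leechLattice :=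
      fun hh => ⟨fun i => Int.dvd_of_emod_eq_zero (hh.1 i (List.mem_finRange i)), mem_leech_of_inLeech hh.2⟩
    rcases hy with (hy | hy) | hy
    · rw [Set.mem_singleton_iff.1 hy] at fin ⊢; exact fin h.1.1
    · obtain ⟨b, hb, rfl⟩ := hy; exact fin (h.1.2 b hb)
    · obtain ⟨q, rfl⟩ := hy
      have := h.2 (gidx q) (List.mem_finRange _)
      rw [gpt_gidx] at this
      exact fin this
  have hlin : ∀ a b : GolayPt → ℤ, ∀ i, matDot L (a + b) i = matDot L a i + matDot L b i := fun a b i => by
    simp only [matDot_eq, Pi.add_apply, mul_add, Finset.sum_add_distrib]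
  refine AddSubgroup.closure_induction (p := fun a _ => (∀ i, (8 : ℤ) ∣ matDot L a i) ∧ matFun L a ∈ leechLattice)
    hgen ?_ (fun a b _ _ ha hb => ?_) (fun a _ ha => ?_) (leech_le_gens hx)
  · have e : ∀ i, matDot L 0 i = 0 := fun i => by simp [matDot_eq]
    refine ⟨fun i => by rw [e]; exact dvd_zero _, ?_⟩
    rw [show matFun L 0 = 0 from funext fun p => by simp [matFun, e]]
    exact zero_mem _
  · refine ⟨fun i => by rw [hlin]; exact dvd_add (ha.1 i) (hb.1 i), ?_⟩
    rw [show matFun L (a + b) = matFun L a + matFun L b from funext fun p => by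
      simp [matFun, hlin, Int.add_ediv_of_dvd_left (ha.1 _)]]
    exact add_mem ha.2 hb.2
  · have e : ∀ i, matDot L (-a) i = -matDot L a i := fun i => by simp [matDot_eq]
    refine ⟨fun i => by rw [e]; exact (ha.1 i).neg_right, ?_⟩
    rw [show matFun L (-a) = -matFun L a from funext fun p => by
      simp [matFun, e, Int.neg_ediv_of_dvd (ha.1 _)]]
    exact neg_mem ha.2

theorem matOrth_spec {L : List (List ℤ)} (h : matOrth L = true) (i j : Fin 24) :
    ∑ k, matEntry L k i * matEntry L k j = if i = j then 64 else 0 := by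
  simp only [matOrth, List.all_eq_true, beq_iff_eq] at h
  rw [← foldr_eq_sum]
  exact h i (List.mem_finRange _) j (List.mem_finRange _)

theorem matFun_scale {L : List (List ℤ)} (h : matPres L = true) {x : GolayPt → ℤ} (hx : x ∈ leechLattice)
    (i : Fin 24) : 8 * matFun L x (gpt i) = matDot L x i := by
  simp only [matFun, gidx_gpt]
  exact Int.mul_ediv_cancel' ((matPres_spec h hx).1 i)

theorem matFun_matFun {L T : List (List ℤ)} (hT : ∀ i j, matEntry T i j = matEntry L j i) (ho : matOrth L = true)
    (hL : matPres L = true) (hT' : matPres T = true) {x : GolayPt → ℤ} (hx : x ∈ leechLattice) :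
    matFun T (matFun L x) = x := by
  funext p
  obtain ⟨i, rfl⟩ : ∃ i, gpt i = p := ⟨gidx p, gpt_gidx p⟩
  have h1 := matFun_scale hT' (matPres_spec hL hx).2 i
  have h2 : 8 * matDot T (matFun L x) i = 64 * x (gpt i) := by
    rw [matDot_eq, Finset.mul_sum]
    calc ∑ k, 8 * (matEntry T i k * matFun L x (gpt k))
        = ∑ k, ∑ j, matEntry L k i * matEntry L k j * x (gpt j) := Finset.sum_congr rfl fun k _ => by
          rw [hT, mul_left_comm, matFun_scale hL hx, matDot_eq, Finset.mul_sum]
          exact Finset.sum_congr rfl fun j _ => (mul_assoc _ _ _).symm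
      _ = ∑ j, (if i = j then 64 else 0) * x (gpt j) := by
          rw [Finset.sum_comm]
          exact Finset.sum_congr rfl fun j _ => by rw [← matOrth_spec ho i j, Finset.sum_mul]
      _ = 64 * x (gpt i) := by simp [ite_mul]
  omega

theorem matFun_sqNorm {L : List (List ℤ)} (ho : matOrth L = true) (hL : matPres L = true) {x : GolayPt → ℤ}
    (hx : x ∈ leechLattice) : sqNorm (matFun L x) = sqNorm x := by
  have h : 64 * sqNorm (matFun L x) = 64 * sqNorm x := by
    simp only [sqNorm, sum_gpt (fun p => matFun L x p ^ 2), sum_gpt (fun p => x p ^ 2), Finset.mul_sum]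
    calc ∑ k, 64 * matFun L x (gpt k) ^ 2
        = ∑ k, ∑ i, ∑ j, matEntry L k i * matEntry L k j * (x (gpt i) * x (gpt j)) :=
          Finset.sum_congr rfl fun k _ => by
            rw [show (64 : ℤ) * matFun L x (gpt k) ^ 2 = (8 * matFun L x (gpt k)) ^ 2 by ring, matFun_scale hL hx,
              matDot_eq, pow_two, Finset.sum_mul_sum]
            exact Finset.sum_congr rfl fun i _ => Finset.sum_congr rfl fun j _ => by ring
      _ = ∑ i, ∑ j, (if i = j then 64 else 0) * (x (gpt i) * x (gpt j)) := by
          rw [Finset.sum_comm]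
          refine Finset.sum_congr rfl fun i _ => ?_
          rw [Finset.sum_comm]
          exact Finset.sum_congr rfl fun j _ => by rw [← matOrth_spec ho i j, Finset.sum_mul]
      _ = ∑ i, 64 * x (gpt i) ^ 2 := Finset.sum_congr rfl fun i _ => by simp [ite_mul, pow_two]
  omega

/-- The automorphism of a checked matrix. -/
def matCo0 (L : List (List ℤ)) (h : matOk L = true) : Co0 :=
  have h' : ((matOrth L = true ∧ matOrth (matT L) = true) ∧ matPres L = true) ∧ matPres (matT L) = true := by
    simpa [matOk, Bool.and_eq_true] using h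
  ⟨{ toFun := fun v => ⟨matFun L v.1, (matPres_spec h'.1.2 v.2).2⟩
     invFun := fun v => ⟨matFun (matT L) v.1, (matPres_spec h'.2 v.2).2⟩
     left_inv := fun v => Subtype.ext (matFun_matFun (matEntry_T L) h'.1.1.1 h'.1.2 h'.2 v.2)
     right_inv := fun v => Subtype.ext (matFun_matFun (fun i j => (matEntry_T L j i).symm) h'.1.1.2 h'.2 h'.1.2 v.2) },
    fun v w => Subtype.ext (funext fun p => by
      show matFun L (v.1 + w.1) p = matFun L v.1 p + matFun L w.1 p
      simp only [matFun, matDot_eq, Pi.add_apply, mul_add, Finset.sum_add_distrib]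
      rw [Int.add_ediv_of_dvd_left]
      rw [← matDot_eq]
      exact (matPres_spec h'.1.2 v.2).1 _),
    fun v => matFun_sqNorm h'.1.1.1 h'.1.2 v.2⟩

theorem matCo0_apply (L : List (List ℤ)) (h : matOk L = true) (v : leechLattice) :
    ((matCo0 L h • v : leechLattice) : GolayPt → ℤ) = matFun L v := rfl

end Cfsg.Lib.Concrete
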