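import Cfsg.Agent.Lib.Concrete.Leech

/-!
The index of the rank-24 lattice in the integer vectors, and generation by minimal vectors.
-/

set_option autoImplicit false

namespace Cfsg.Lib.Concrete

open Finset

/-- Half the difference with the coordinate at the extra point, modulo 2. -/
def halfDiff (x : GolayPt → ℤ) : GolayPt → ZMod 2 := fun p => (((x p - x none) / 2 : ℤ) : ZMod 2)

/-- The vectors with all coordinates of one parity. -/
def parityHom : (GolayPt → ℤ) →+ (ZMod 23 → ZMod 2) where
  toFun x t := ((x (some t) - x none : ℤ) : ZMod 2)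
  map_zero' := by funext t; simp
  map_add' x y := by funext t; simp; ring

theorem mem_parityKer {x : GolayPt → ℤ} : x ∈ parityHom.ker ↔ ∀ p, (2 : ℤ) ∣ x p - x none := by
  have hd : ∀ a : ℤ, ((a : ℤ) : ZMod 2) = 0 ↔ (2 : ℤ) ∣ a := fun a => ZMod.intCast_zmod_eq_zero_iff_dvd a 2
  rw [AddMonoidHom.mem_ker]
  constructor
  · intro h p
    cases p with
    | none => simp
    | some t => exact (hd _).1 (congrFun h t)
  · intro h
    funext t
    exact (hd _).2 (h (some t))

theorem halfDiff_add {x y : GolayPt → ℤ} (hx : x ∈ parityHom.ker) :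
    halfDiff (x + y) = halfDiff x + halfDiff y := by
  funext p
  simp only [halfDiff, Pi.add_apply]
  rw [← Int.cast_add, ← Int.add_ediv_of_dvd_left (mem_parityKer.1 hx p)]
  congr 2
  ring

/-- The code class of `halfDiff`. -/
def codeClassHom : parityHom.ker →+ (GolayPt → ZMod 2) ⧸ golayCode.toAddSubgroup :=
  AddMonoidHom.mk' (fun x => QuotientAddGroup.mk (halfDiff x.1)) fun x y => by
    rw [AddSubgroup.coe_add, halfDiff_add x.2]; rfl

theorem index_parityKer : parityHom.ker.index = 2 ^ 23 := by
  rw [AddSubgroup.index_ker, AddMonoidHom.range_eq_top.2 fun f => ⟨fun p => match p with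
    | none => 0
    | some t => (f t).val, funext fun t => by simp [parityHom]⟩, Nat.card_congr AddSubgroup.topEquiv.toEquiv]
  simp [Nat.card_eq_fintype_card]

theorem sum_halfDiff_eq {x : GolayPt → ℤ} (h : halfDiff x ∈ golayCode) :
    (2 : ℤ) ∣ ∑ p, (x p - x none) / 2 := by
  obtain ⟨c, hc⟩ := support₂_card_dvd h
  refine (ZMod.intCast_zmod_eq_zero_iff_dvd _ 2).1 ?_
  rw [Int.cast_sum]
  have hs : ∑ p, halfDiff x p = ((support₂ (halfDiff x)).card : ZMod 2) := by
    rw [support₂, Finset.card_filter, Nat.cast_sum]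
    refine Finset.sum_congr rfl fun p _ => ?_
    generalize halfDiff x p = a
    revert a; decide
  rw [show (∑ p, ((((x p - x none) / 2 : ℤ)) : ZMod 2)) = ∑ p, halfDiff x p from rfl, hs, hc]
  rw [Nat.cast_mul, show ((4 : ℕ) : ZMod 2) = 0 from rfl, zero_mul]

theorem mem_leechLattice_iff_halfDiff {x : GolayPt → ℤ} :
    x ∈ leechLattice ↔ x ∈ parityHom.ker ∧ halfDiff x ∈ golayCode ∧ ∑ i, x i ≡ 4 * x none [ZMOD 8] := by
  rw [mem_leechLattice_iff]
  constructor
  · intro hx
    obtain ⟨m, w, hw, h1, h2⟩ := mem_leechSet_iff.1 hx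
    have hm : ∀ p, ((x p - x none) / 2) % 2 = (((w p).val : ℤ) - (w none).val) % 2 ∧ (2 : ℤ) ∣ x p - x none := fun p => by
      have := h1 p
      have := h1 none
      unfold Int.ModEq at *
      omega
    refine ⟨mem_parityKer.2 fun p => (hm p).2, ?_, ?_⟩
    · have he : halfDiff x = w + w none • (1 : GolayPt → ZMod 2) := by
        funext p
        have h := (hm p).1
        simp only [halfDiff, Pi.add_apply, Pi.smul_apply, Pi.one_apply, smul_eq_mul, mul_one]
        rw [(ZMod.intCast_eq_intCast_iff' _ _ 2).2 h, Int.cast_sub, Int.cast_natCast, Int.cast_natCast,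
          ZMod.natCast_val, ZMod.natCast_val, ZMod.cast_id, ZMod.cast_id]
        generalize w p = a
        generalize w none = b
        revert a b; decide
      rw [he]
      exact add_mem hw (Submodule.smul_mem _ _ one_mem_golayCode)
    · have := h1 none
      unfold Int.ModEq at h2 this ⊢
      omega
  · rintro ⟨hp, hc, hs⟩
    refine mem_leechSet_iff.2 ⟨x none, halfDiff x, hc, fun i => ?_, hs⟩
    have h1 := mem_parityKer.1 hp i
    have h2 : (((halfDiff x i).val : ℕ) : ℤ) = ((x i - x none) / 2) % 2 := by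
      show (((((x i - x none) / 2 : ℤ) : ZMod 2)).val : ℤ) = _
      rw [ZMod.val_intCast]; norm_num
    unfold Int.ModEq
    omega

/-- The vectors with all coordinates of one parity whose code class is trivial. -/
abbrev codeKer : AddSubgroup parityHom.ker := codeClassHom.ker

theorem mem_codeKer {x : parityHom.ker} : x ∈ codeKer ↔ halfDiff x.1 ∈ golayCode :=
  QuotientAddGroup.eq_zero_iff _

theorem codeKer_sum_dvd (x : codeKer) : (4 : ℤ) ∣ ∑ p, x.1.1 p - 4 * x.1.1 none := by
  have h2 := sum_halfDiff_eq (mem_codeKer.1 x.2)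
  have he : ∑ p, x.1.1 p = 24 * x.1.1 none + 2 * ∑ p, (x.1.1 p - x.1.1 none) / 2 := by
    rw [Finset.mul_sum, Finset.sum_congr rfl fun p _ => Int.mul_ediv_cancel' (mem_parityKer.1 x.1.2 p)]
    rw [Finset.sum_sub_distrib, Finset.sum_const, Finset.card_univ, show Fintype.card GolayPt = 24 from rfl,
      nsmul_eq_mul]
    push_cast
    ring
  omega

/-- The last parity. -/
def sumHom : codeKer →+ ZMod 2 :=
  AddMonoidHom.mk' (fun x => (((∑ p, x.1.1 p - 4 * x.1.1 none) / 4 : ℤ) : ZMod 2)) fun x y => by
    rw [← Int.cast_add, ← Int.add_ediv_of_dvd_left (codeKer_sum_dvd x)]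
    congr 2
    simp only [AddSubgroup.coe_add, Pi.add_apply, Finset.sum_add_distrib]
    ring

theorem card_golayCode : Nat.card golayCode = 4096 := by
  classical
  have hinj : Set.InjOn word ↑codeList.toFinset := fun a ha b hb h =>
    mset_inj (codeList_lt (by simpa using ha)) (codeList_lt (by simpa using hb))
      (by rw [← support₂_word, ← support₂_word, h])
  have he : (golayCode : Set (GolayPt → ZMod 2)) = ↑(codeList.toFinset.image word) := by
    ext w
    simp only [SetLike.mem_coe, Finset.coe_image, Set.mem_image, List.coe_toFinset, Set.mem_setOf_eq]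
    rw [mem_golayCode_iff, codeList_eq]
    simp
  rw [← SetLike.coe_sort_coe, Nat.card_coe_set_eq, he, Set.ncard_coe_finset, Finset.card_image_of_injOn hinj,
    List.toFinset_card_of_nodup codeList_nodup, codeList_eq, List.length_map, List.length_range]

theorem index_leech : leechLattice.index = 2 ^ 36 := by
  classical
  have hEK : Function.Surjective codeClassHom := fun q => by
    obtain ⟨w, rfl⟩ := QuotientAddGroup.mk_surjective q
    refine ⟨⟨fun p => 2 * ((w p).val : ℤ), mem_parityKer.2 fun p => ⟨(w p).val - (w none).val, by ring⟩⟩, ?_⟩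
    refine (QuotientAddGroup.eq).2 ?_
    have he : halfDiff (fun p => 2 * ((w p).val : ℤ)) = w + w none • (1 : GolayPt → ZMod 2) := by
      funext p
      simp only [halfDiff, ← mul_sub, Int.mul_ediv_cancel_left _ (show (2 : ℤ) ≠ 0 by norm_num), Pi.add_apply,
        Pi.smul_apply, Pi.one_apply, smul_eq_mul, mul_one]
      rw [Int.cast_sub, Int.cast_natCast, Int.cast_natCast, ZMod.natCast_val, ZMod.natCast_val, ZMod.cast_id,
        ZMod.cast_id]
      generalize w p = a
      generalize w none = b
      revert a b; decide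
    simp only [he, neg_add_rev, add_assoc, neg_add_cancel, add_zero]
    exact neg_mem (Submodule.smul_mem golayCode _ one_mem_golayCode)
  have hKL : Function.Surjective sumHom := fun z => by
    have h0 : (0 : GolayPt → ℤ) ∈ parityHom.ker := zero_mem _
    have hmem : (fun p => if p = none then (4 : ℤ) else 0) ∈ parityHom.ker :=
      mem_parityKer.2 fun p => by split <;> simp <;> norm_num
    have hc : (⟨_, hmem⟩ : parityHom.ker) ∈ codeKer := mem_codeKer.2 (by
      have : halfDiff (fun p => if p = none then (4 : ℤ) else 0) = 0 := by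
        funext p
        simp only [halfDiff, Pi.zero_apply]
        split <;> simp <;> decide
      rw [this]; exact zero_mem _)
    have h01 : ∀ z : ZMod 2, z = 0 ∨ z = 1 := by decide
    rcases h01 z with rfl | rfl
    · exact ⟨0, map_zero _⟩
    · refine ⟨⟨_, hc⟩, ?_⟩
      show ((((∑ p, if p = none then (4 : ℤ) else 0) - 4 * (if (none : GolayPt) = none then 4 else 0)) / 4 : ℤ) : ZMod 2) = 1
      rw [Finset.sum_ite_eq' _ (none : GolayPt), if_pos (Finset.mem_univ _), if_pos rfl]
      decide
  have hker : ((sumHom.ker.map codeKer.subtype).map parityHom.ker.subtype) = leechLattice := by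
    ext x
    rw [mem_leechLattice_iff_halfDiff]
    have key : ∀ k : codeKer, k ∈ sumHom.ker ↔ ∑ i, k.1.1 i ≡ 4 * k.1.1 none [ZMOD 8] := fun k => by
      have := codeKer_sum_dvd k
      rw [AddMonoidHom.mem_ker]
      show (((_ : ℤ)) : ZMod 2) = 0 ↔ _
      rw [ZMod.intCast_zmod_eq_zero_iff_dvd]
      unfold Int.ModEq
      omega
    simp only [AddSubgroup.mem_map, AddSubgroup.coe_subtype]
    constructor
    · rintro ⟨y, ⟨k, hk, rfl⟩, rfl⟩
      exact ⟨k.1.2, mem_codeKer.1 k.2, (key k).1 hk⟩
    · rintro ⟨h1, h2, h3⟩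
      exact ⟨⟨x, h1⟩, ⟨⟨⟨x, h1⟩, mem_codeKer.2 h2⟩, (key _).2 h3, rfl⟩, rfl⟩
  have hq : Nat.card ((GolayPt → ZMod 2) ⧸ golayCode.toAddSubgroup) = 4096 := by
    have h := AddSubgroup.card_eq_card_quotient_mul_card_addSubgroup golayCode.toAddSubgroup
    rw [show Nat.card golayCode.toAddSubgroup = 4096 from card_golayCode,
      show Nat.card (GolayPt → ZMod 2) = 4096 * 4096 by simp [Nat.card_eq_fintype_card]] at h
    exact (Nat.eq_of_mul_eq_mul_right (by norm_num) h).symm
  have h1 : sumHom.ker.index = 2 := by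
    rw [AddSubgroup.index_ker, AddMonoidHom.range_eq_top.2 hKL, Nat.card_congr AddSubgroup.topEquiv.toEquiv]
    simp [Nat.card_eq_fintype_card]
  have h2 : codeKer.index = 4096 := by
    rw [AddSubgroup.index_ker, AddMonoidHom.range_eq_top.2 hEK, Nat.card_congr AddSubgroup.topEquiv.toEquiv, hq]
  rw [← hker, AddSubgroup.index_map_of_injective _ parityHom.ker.subtype_injective,
    AddSubgroup.index_map_of_injective _ codeKer.subtype_injective, AddSubgroup.range_subtype,
    AddSubgroup.range_subtype, h1, h2, index_parityKer]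
  norm_num

end Cfsg.Lib.Concrete
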