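import Cfsg.Agent.Lib.Concrete.LeechOrbits
import Cfsg.Agent.S1567

/-!
The lattice modulo twice itself as a module for its automorphism group.
-/

set_option autoImplicit false

namespace Cfsg.Lib.Concrete

open Finset

/-- Every class modulo twice the lattice has a representative of norm 0, 32, 48 or 64. -/
theorem exists_rep_norm {x : GolayPt → ℤ} (hx : x ∈ leechLattice) :
    ∃ y ∈ leechLattice, (y = 0 ∨ sqNorm y = 32 ∨ sqNorm y = 48 ∨ sqNorm y = 64) ∧
      ∃ z ∈ leechLattice, x - y = 2 • z := by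
  obtain ⟨y, hy, hn, hz⟩ := exists_short_representative hx
  refine ⟨y, hy, ?_, hz⟩
  by_cases h0 : y = 0
  · exact Or.inl h0
  have := sqNorm_ge (mem_leechLattice_iff.1 hy) h0
  obtain ⟨k, hk⟩ := sixteen_dvd_sqNorm (mem_leechLattice_iff.1 hy)
  omega

theorem sqNorm_neg' (x : GolayPt → ℤ) : sqNorm (-x) = sqNorm x := by simp [sqNorm]

theorem eight_dvd_dot {x y : GolayPt → ℤ} (hx : x ∈ leechLattice) (hy : y ∈ leechLattice) : (8 : ℤ) ∣ dotInt x y := by
  obtain ⟨a, ha⟩ := sixteen_dvd_sqNorm (mem_leechLattice_iff.1 hx)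
  obtain ⟨b, hb⟩ := sixteen_dvd_sqNorm (mem_leechLattice_iff.1 hy)
  obtain ⟨c, hc⟩ := sixteen_dvd_sqNorm (mem_leechLattice_iff.1 (add_mem hx hy))
  rw [sqNorm_add] at hc
  exact ⟨c - a - b, by omega⟩

/-- An automorphism that is trivial modulo twice the lattice is a scalar. -/
theorem mem_center_of_trivial_mod_two {g : Co0} (h : ∀ v : leechLattice, ∃ w : leechLattice,
    ((g • v : leechLattice) : GolayPt → ℤ) - (v : GolayPt → ℤ) = 2 • (w : GolayPt → ℤ)) :
    g ∈ Subgroup.center Co0 := by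
  classical
  have hfix : ∀ u : leechLattice, sqNorm (u : GolayPt → ℤ) = 32 → g • u = u ∨ g • u = -u := by
    intro u hu
    obtain ⟨w, hw⟩ := h u
    have hgn := (co0_sqNorm g u).trans hu
    rcases close_pair u.2 (g • u).2 (by omega) (by omega) ⟨_, w.2, hw⟩ with e | e | ⟨e, -, -⟩
    · exact Or.inl (Subtype.ext e)
    · exact Or.inr (Subtype.ext e)
    · omega
  have hpair : ∀ i j : GolayPt, i ≠ j → ∃ a b : ℤ, (a = 4 ∨ a = -4) ∧ (b = 4 ∨ b = -4) ∧
      ((g • e8 i : leechLattice) : GolayPt → ℤ) = Pi.single i (a + b) + Pi.single j (a - b) ∧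
      ((g • e8 j : leechLattice) : GolayPt → ℤ) = Pi.single i (a - b) + Pi.single j (a + b) := by
    intro i j hij
    have hmem : ∀ s : ℤ, s = 4 ∨ s = -4 → (Pi.single i 4 + Pi.single j s : GolayPt → ℤ) ∈ leechLattice ∧
        sqNorm (Pi.single i 4 + Pi.single j s : GolayPt → ℤ) = 32 := by
      intro s hs
      refine ⟨(AddSubgroup.closure_le _).2 (fun _ h => h.1) (Cfsg.Agent.S1567.pair_mem hij hs), ?_⟩
      rw [sqNorm_add, sqNorm, sqNorm, dotInt,
        Finset.sum_eq_single i (fun p _ hp => by simp [hp]) (by simp),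
        Finset.sum_eq_single i (fun p _ hp => by simp [hp]) (by simp),
        Finset.sum_eq_single j (fun p _ hp => by simp [hp]) (by simp)]
      rcases hs with rfl | rfl <;> simp [hij, Ne.symm hij]
    obtain ⟨hp, hpn⟩ := hmem 4 (Or.inl rfl)
    obtain ⟨hm, hmn⟩ := hmem (-4) (Or.inr rfl)
    set up : leechLattice := ⟨_, hp⟩ with hup
    set um : leechLattice := ⟨_, hm⟩ with hum
    have hi : e8 i = up + um := Subtype.ext (funext fun p => by
      simp only [e8, hup, hum, AddSubgroup.coe_add, Pi.add_apply, Pi.single_apply]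
      split <;> split <;> norm_num)
    have hj : e8 j + um = up := Subtype.ext (funext fun p => by
      simp only [e8, hup, hum, AddSubgroup.coe_add, Pi.add_apply, Pi.single_apply]
      split <;> split <;> norm_num)
    have gj : g • e8 j = g • up - g • um := by rw [eq_sub_iff_add_eq, ← co0_add, hj]
    rcases hfix up hpn with a | a <;> rcases hfix um hmn with b | b
    · refine ⟨4, 4, Or.inl rfl, Or.inl rfl, ?_, ?_⟩
      · rw [hi, co0_add, a, b]; funext p; simp only [hup, hum, AddSubgroup.coe_add, Pi.add_apply, Pi.single_apply]; split <;> split <;> norm_num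
      · rw [gj, a, b]; funext p; simp only [hup, hum, AddSubgroup.coe_sub, Pi.add_apply, Pi.sub_apply, Pi.single_apply]; split <;> split <;> norm_num
    · refine ⟨4, -4, Or.inl rfl, Or.inr rfl, ?_, ?_⟩
      · rw [hi, co0_add, a, b]; funext p; simp only [hup, hum, AddSubgroup.coe_add, AddSubgroup.coe_neg, Pi.neg_apply, Pi.add_apply, Pi.single_apply]; split <;> split <;> norm_num
      · rw [gj, a, b]; funext p; simp only [hup, hum, AddSubgroup.coe_sub, AddSubgroup.coe_neg, Pi.neg_apply, Pi.add_apply, Pi.sub_apply, Pi.single_apply]; split <;> split <;> norm_num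
    · refine ⟨-4, 4, Or.inr rfl, Or.inl rfl, ?_, ?_⟩
      · rw [hi, co0_add, a, b]; funext p; simp only [hup, hum, AddSubgroup.coe_add, AddSubgroup.coe_neg, Pi.neg_apply, Pi.add_apply, Pi.single_apply]; split <;> split <;> norm_num
      · rw [gj, a, b]; funext p; simp only [hup, hum, AddSubgroup.coe_sub, AddSubgroup.coe_neg, Pi.neg_apply, Pi.add_apply, Pi.sub_apply, Pi.single_apply]; split <;> split <;> norm_num
    · refine ⟨-4, -4, Or.inr rfl, Or.inr rfl, ?_, ?_⟩
      · rw [hi, co0_add, a, b]; funext p; simp only [hup, hum, AddSubgroup.coe_add, AddSubgroup.coe_neg, Pi.neg_apply, Pi.add_apply, Pi.single_apply]; split <;> split <;> norm_num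
      · rw [gj, a, b]; funext p; simp only [hup, hum, AddSubgroup.coe_sub, AddSubgroup.coe_neg, Pi.neg_apply, Pi.add_apply, Pi.sub_apply, Pi.single_apply]; split <;> split <;> norm_num
  -- comparing with a third point, both signs agree
  have hsame : ∀ i j : GolayPt, i ≠ j → ∃ s : ℤ, (s = 8 ∨ s = -8) ∧
      ((g • e8 i : leechLattice) : GolayPt → ℤ) = Pi.single i s ∧
      ((g • e8 j : leechLattice) : GolayPt → ℤ) = Pi.single j s := by
    intro i j hij
    obtain ⟨k, hki, hkj⟩ : ∃ k : GolayPt, k ≠ i ∧ k ≠ j := by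
      revert i j; decide +kernel
    obtain ⟨a, b, ha, hb, ei, ej⟩ := hpair i j hij
    obtain ⟨c, d, hc, hd, ei', -⟩ := hpair i k (Ne.symm hki)
    have h1 := congrFun (ei.symm.trans ei') j
    simp [hij, Ne.symm hij, Ne.symm hkj] at h1
    have hab : a = b := sub_eq_zero.1 h1
    subst hab
    exact ⟨a + a, by omega, by simpa using ei, by simpa using ej⟩
  obtain ⟨s, hs, e0, -⟩ := hsame none (some 0) (by simp)
  have hall : ∀ i, ((g • e8 i : leechLattice) : GolayPt → ℤ) = Pi.single i s := by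
    intro i
    by_cases hi : i = none
    · subst hi; exact e0
    obtain ⟨s', -, e1, e2⟩ := hsame none i (Ne.symm hi)
    have := congrFun (e0.symm.trans e1) none
    simp at this
    rw [this]; exact e2
  obtain ⟨t, rfl⟩ : (8 : ℤ) ∣ s := by rcases hs with rfl | rfl <;> norm_num
  have hscal : ∀ v : leechLattice, ((g • v : leechLattice) : GolayPt → ℤ) = t • (v : GolayPt → ℤ) := fun v =>
    co0_eq_of_e8 (g := g) (f := fun x => t • x) (fun x y => smul_add t x y)
      (fun i => (hall i).trans (by rw [← Pi.single_smul]; simp [mul_comm])) v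
  refine Subgroup.mem_center_iff.2 fun k => Subtype.ext (Equiv.ext fun v => ?_)
  show k • (g • v) = g • (k • v)
  have e1 : g • v = t • v := Subtype.ext (hscal v)
  have e2 : g • (k • v) = t • (k • v) := Subtype.ext (hscal _)
  rw [e1, e2]
  exact map_zsmul (co0Hom k) t v

/-- The vectors used to compare the three orbits. -/
theorem step_check :
    (inLeech (vec 8536111 0 0 0) = true ∧ sqNorm (vec 8536111 0 0 0) = 32 ∧
      sqNorm (top8 - vec 8536111 0 0 0) = 64) ∧
    (inLeech (vec 0 80 0 0) = true ∧ sqNorm (vec 0 80 0 0) = 32 ∧ inLeech rep48 = true ∧ sqNorm rep48 = 48 ∧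
      sqNorm (rep48 - vec 0 80 0 0) = 48) := by
  decide +kernel

/-- An invariant subgroup between twice the lattice and the lattice is one of the two. -/
theorem invariant_trivial (M : AddSubgroup (GolayPt → ℤ)) (h2 : ∀ v ∈ leechLattice, (2 : ℤ) • v ∈ M)
    (hle : M ≤ leechLattice)
    (hinv : ∀ g : Co0, ∀ v : leechLattice, (v : GolayPt → ℤ) ∈ M → ((g • v : leechLattice) : GolayPt → ℤ) ∈ M) :
    (∀ x ∈ M, ∃ w ∈ leechLattice, x = (2 : ℤ) • w) ∨ M = leechLattice := by
  refine or_iff_not_imp_left.2 fun hno => le_antisymm hle ?_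
  push Not at hno
  obtain ⟨x, hxM, hx⟩ := hno
  obtain ⟨y, hy, hn, z, hz, he⟩ := exists_rep_norm (hle hxM)
  have hyM : y ∈ M := by
    rw [show y = x - (2 : ℤ) • z by rw [show (2 : ℤ) • z = 2 • z from natCast_zsmul z 2, ← he]; abel]
    exact sub_mem hxM (h2 z hz)
  have hmove : ∀ {a b : GolayPt → ℤ}, Moves a b → a ∈ M → b ∈ M := by
    rintro a b ⟨ha, g, rfl⟩ haM
    exact hinv g ⟨a, ha⟩ haM
  have hne : y ≠ 0 := fun e => hx z hz (by rw [show (2 : ℤ) • z = 2 • z from natCast_zsmul z 2, ← he, e, sub_zero])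
  obtain ⟨⟨c1, c2, c3⟩, d1, d2, d3, d4, d5⟩ := step_check
  have hmin : rep32 ∈ M := by
    rcases hn.resolve_left hne with hn | hn | hn
    · exact hmove (moves32 hy hn) hyM
    · have hv : rep48 ∈ M := hmove (moves48 hy hn) hyM
      have hv' : rep48 - vec 0 80 0 0 ∈ M := hmove
        ((moves48 hy hn).trans (moves48 (sub_mem (hle hv) (mem_leech_of_inLeech d1)) d5).symm) hyM
      have hd := sub_mem hv hv'
      rw [sub_sub_cancel] at hd
      exact hmove (moves32 (hle hd) d2) hd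
    · have hv : top8 ∈ M := hmove (moves64 hy hn) hyM
      have hv' : top8 - vec 8536111 0 0 0 ∈ M := hmove
        ((moves64 hy hn).trans (moves64 (sub_mem (hle hv) (mem_leech_of_inLeech c1)) c3).symm) hyM
      have hd := sub_mem hv hv'
      rw [sub_sub_cancel] at hd
      exact hmove (moves32 (hle hd) c2) hd
  refine (le_of_eq Cfsg.Agent.S1567.result.symm).trans ((AddSubgroup.closure_le _).2 ?_)
  rintro u ⟨hu, hun⟩
  exact hmove (moves32 hu hun).symm hmin

theorem quad_check :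
    (inLeech (vec 0 9 0 0) = true ∧ inLeech (vec 0 40 0 8) = true ∧ inLeech (vec 0 33 0 0) = true ∧
      vec 0 9 0 0 + vec 0 40 0 8 = vec 0 33 0 0) ∧
    sqNorm (vec 0 9 0 0) = 32 ∧ sqNorm (vec 0 40 0 8) = 32 ∧ sqNorm (vec 0 33 0 0) = 32 ∧
    ((inLeech (signedPerm 1 (mset 5279) (oddPat 0 32)) = true ∧ sqNorm (signedPerm 1 (mset 5279) (oddPat 0 32)) = 32) ∧
      (inLeech (signedPerm 1 (mset 5279) (oddPat 0 64)) = true ∧ sqNorm (signedPerm 1 (mset 5279) (oddPat 0 64)) = 32)) ∧
    (sqNorm (signedPerm 1 (mset 5279) (oddPat 0 32) + vec 0 9 0 0) = 48 ∧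
      sqNorm (signedPerm 1 (mset 5279) (oddPat 0 32) + vec 0 40 0 8) = 48 ∧
      sqNorm (signedPerm 1 (mset 5279) (oddPat 0 32) + vec 0 33 0 0) = 32) ∧
    (sqNorm (signedPerm 1 (mset 5279) (oddPat 0 64) + vec 0 9 0 0) = 48 ∧
      sqNorm (signedPerm 1 (mset 5279) (oddPat 0 64) - vec 0 40 0 8) = 48 ∧
      sqNorm (signedPerm 1 (mset 5279) (oddPat 0 64) + vec 0 33 0 0) = 64) := by
  decide +kernel

/-- The invariant quadratic form modulo two is unique. -/
theorem quad_unique (Q : leechLattice → ZMod 2) (hcoset : ∀ v w : leechLattice, Q (v + (w + w)) = Q v)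
    (hquad : ∀ u v w : leechLattice, Q (u + v + w) + Q u + Q v + Q w = Q (u + v) + Q (u + w) + Q (v + w))
    (hinv : ∀ (g : Co0) (v : leechLattice), Q (g • v) = Q v) (hne : ∃ v : leechLattice, Q v ≠ 0)
    (v : leechLattice) : Q v = ((sqNorm (v : GolayPt → ℤ) / 16 : ℤ) : ZMod 2) := by
  have h2 : ∀ a : ZMod 2, a + a = 0 := by decide
  have hQ0 : Q 0 = 0 := by
    have := hquad 0 0 0
    simp only [add_zero] at this
    revert this; generalize Q 0 = a; revert a; decide
  have hneg : ∀ x, Q (-x) = Q x := fun x => by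
    have := hcoset x (-x)
    rwa [show x + (-x + -x) = -x by abel] at this
  have horb : ∀ a b : leechLattice, (∃ t, Moves a t ∧ Moves b t) → Q a = Q b := by
    rintro a b ⟨t, ha, hb⟩
    obtain ⟨g, rfl⟩ := exists_smul_eq_of_moves ha hb
    exact (hinv g a).symm
  obtain ⟨⟨a1, a2, a3, a4⟩, b1, b2, b3, ⟨⟨c1, n1⟩, c2, n2⟩, ⟨p1, p2, p3⟩, q1, q2, q3⟩ := quad_check
  set w1 : leechLattice := ⟨_, mem_leech_of_inLeech a1⟩
  set w2 : leechLattice := ⟨_, mem_leech_of_inLeech a2⟩
  set w : leechLattice := ⟨_, mem_leech_of_inLeech a3⟩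
  have hw : w1 + w2 = w := Subtype.ext a4
  set u1 : leechLattice := ⟨_, mem_leech_of_inLeech c1⟩
  set u2 : leechLattice := ⟨_, mem_leech_of_inLeech c2⟩
  have e32 : ∀ a : leechLattice, sqNorm (a : GolayPt → ℤ) = 32 → Q a = Q w1 := fun a ha =>
    horb _ _ ⟨_, moves32 a.2 ha, moves32 w1.2 b1⟩
  have e48 : ∀ a : leechLattice, sqNorm (a : GolayPt → ℤ) = 48 → Q a = Q (u1 + w1) := fun a ha =>
    horb _ _ ⟨_, moves48 a.2 ha, moves48 (u1 + w1).2 p1⟩
  have e64 : ∀ a : leechLattice, sqNorm (a : GolayPt → ℤ) = 64 → Q a = Q (u2 + w) := fun a ha =>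
    horb _ _ ⟨_, moves64 a.2 ha, moves64 (u2 + w).2 q3⟩
  have hadd : ∀ u, Q (u + w) + Q u + Q w = (Q (u + w1) + Q u + Q w1) + (Q (u + w2) + Q u + Q w2) := fun u => by
    have := hquad u w1 w2
    rw [add_assoc u w1 w2, hw] at this
    revert this
    generalize Q (u + w) = a; generalize Q u = b; generalize Q w = c; generalize Q (u + w1) = d
    generalize Q w1 = e; generalize Q (u + w2) = f; generalize Q w2 = i
    revert a b c d e f i; decide
  have hB : Q (u2 + w2) + Q u2 + Q w2 = Q (u2 - w2) + Q u2 + Q w2 := by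
    have := hquad u2 w2 (-w2)
    rw [hneg, add_neg_cancel, hQ0, add_neg_cancel_right, ← sub_eq_add_neg, add_zero] at this
    revert this
    generalize Q (u2 + w2) = a; generalize Q u2 = b; generalize Q w2 = c; generalize Q (u2 - w2) = d
    revert a b c d; decide
  have k32 : Q w1 = 0 := by
    have := hadd u1
    rw [e32 (u1 + w) p3, e32 u1 n1, e32 w b3, e48 (u1 + w2) p2, e32 w2 b2] at this
    revert this; generalize Q w1 = a; generalize Q (u1 + w1) = b; revert a b; decide
  have k64 : Q (u2 + w) = 0 := by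
    have := hadd u2
    rw [hB, e48 (u2 - w2) q2, e48 (u2 + w1) q1, e32 w b3, e32 u2 n2, e32 w2 b2, k32] at this
    revert this; generalize Q (u2 + w) = a; generalize Q (u1 + w1) = b; revert a b; decide
  have key : ∀ a : leechLattice, ∃ b : leechLattice,
      ((b : GolayPt → ℤ) = 0 ∨ sqNorm (b : GolayPt → ℤ) = 32 ∨ sqNorm (b : GolayPt → ℤ) = 48 ∨
        sqNorm (b : GolayPt → ℤ) = 64) ∧ Q a = Q b ∧
      ((sqNorm (a : GolayPt → ℤ) / 16 : ℤ) : ZMod 2) = ((sqNorm (b : GolayPt → ℤ) / 16 : ℤ) : ZMod 2) := by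
    intro a
    obtain ⟨y, hy, hn, z, hz, he⟩ := exists_rep_norm a.2
    refine ⟨⟨y, hy⟩, hn, ?_, ?_⟩
    · rw [← hcoset ⟨y, hy⟩ ⟨z, hz⟩]
      exact congrArg Q (Subtype.ext (by rw [AddSubgroup.coe_add, AddSubgroup.coe_add, ← two_nsmul, ← he]; simp))
    · obtain ⟨d, hd⟩ := eight_dvd_dot hy hz
      obtain ⟨a', ha'⟩ := sixteen_dvd_sqNorm (mem_leechLattice_iff.1 hy)
      obtain ⟨z', hz'⟩ := sixteen_dvd_sqNorm (mem_leechLattice_iff.1 hz)
      have e : sqNorm (a : GolayPt → ℤ) = sqNorm y + 4 * dotInt y z + 4 * sqNorm z := by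
        rw [show (a : GolayPt → ℤ) = y + 2 • z by rw [← he]; abel, sqNorm_add]
        simp only [sqNorm, dotInt, Pi.smul_apply, nsmul_eq_mul, Finset.mul_sum, ← Finset.sum_add_distrib]
        exact Finset.sum_congr rfl fun i _ => by push_cast; ring
      rw [e, hd, ha', hz', ZMod.intCast_eq_intCast_iff]
      show _ % ((2 : ℕ) : ℤ) = _ % ((2 : ℕ) : ℤ)
      omega
  have k48 : Q (u1 + w1) = 1 := by
    obtain ⟨a, ha⟩ := hne
    obtain ⟨b, hb, hab, -⟩ := key a
    rw [hab] at ha
    rcases hb with hb | hb | hb | hb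
    · exact absurd (by rw [show b = 0 from Subtype.ext hb, hQ0]) ha
    · exact absurd ((e32 b hb).trans k32) ha
    · rw [e48 b hb] at ha
      revert ha; generalize Q (u1 + w1) = q; revert q; decide
    · exact absurd ((e64 b hb).trans k64) ha
  obtain ⟨b, hb, hQ, hN⟩ := key v
  rw [hQ, hN]
  rcases hb with hb | hb | hb | hb
  · rw [show b = 0 from Subtype.ext hb, hQ0]; simp [sqNorm]
  · rw [e32 b hb, k32, hb]; decide
  · rw [e48 b hb, k48, hb]; decide
  · rw [e64 b hb, k64, hb]; decide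

end Cfsg.Lib.Concrete
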