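import Cfsg.Agent.Lib.Concrete.LeechPairOrbitsTwo

/-!
Joint orbits behind the two rank-three graphs inside the automorphism group of the rank-24 lattice
(100 and 275 vectors).
-/

set_option autoImplicit false

namespace Cfsg.Lib.Concrete

open Finset
open scoped Pointwise symmDiff

local notation "pA" => gpt 0
local notation "pB" => gpt 1
local notation "pC" => gpt 2
local notation "pD" => gpt 23

theorem mem_one_filter (z : GolayPt → ℤ) (p : GolayPt) :
    p ∈ (Finset.univ.filter fun i => z i ≡ 1 [ZMOD 4]) ↔ z p % 4 = 1 := by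
  rw [Finset.mem_filter]; exact and_iff_right (Finset.mem_univ p)

/-- The `(4, -4)` vector. -/
def perpBase : GolayPt → ℤ := fun p => if p = pA then 4 else if p = pB then -4 else 0

/-- All orthogonal vectors are equivalent, signs included. -/
theorem pairFix_perp_all {x : GolayPt → ℤ} (hx : x ∈ shell 32) (hs : x pA + x pB = 0) : PairFix x perpBase := by
  obtain ⟨y, hy, h | h⟩ := reachPerp hx hs
  · exact (perp_target (hy.mem_shell_right hx) h.1 h.2 ▸ hy : PairFix x _)
  · obtain ⟨σ, hσ, s1, s2⟩ := exists_swap_pair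
    have hm := hy.trans (pairFix_perm hy.symm.1 hσ (Or.inr ⟨s1, s2⟩))
    exact (perp_target (hm.mem_shell_right hx) (by simp only [(Equiv.symm_apply_eq σ).2 s2.symm, h.2])
      (by simp only [(Equiv.symm_apply_eq σ).2 s1.symm, h.1]) ▸ hm : PairFix x _)

theorem perpBase_mem : perpBase ∈ shell 32 := by
  have h : inLeech perpBase = true ∧ sqNorm perpBase = 32 := by decide +kernel
  exact mem_shell.2 ⟨mem_leech_of_inLeech h.1, h.2⟩

/-- Signs off a set of points give automorphisms fixing all vectors supported there. -/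
theorem exists_flip_fix {c : Finset GolayPt} (hc : c ∈ codeSets) :
    ∃ g : Co0, (∀ v : leechLattice, ((g • v : leechLattice) : GolayPt → ℤ) = fun p => if p ∈ c then -v.1 p else v.1 p) ∧
      ∀ v : leechLattice, (∀ p ∈ c, v.1 p = 0) → g • v = v := by
  have h : ∀ v : leechLattice, ((monoCo0 1 (one_mem M24) c hc • v : leechLattice) : GolayPt → ℤ) =
      fun p => if p ∈ c then -v.1 p else v.1 p := fun v => funext fun p => signedPerm_one c v.1 p
  refine ⟨_, h, fun v hv => Subtype.ext ((h v).trans (funext fun p => ?_))⟩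
  split
  · next hp => rw [hv p hp, neg_zero]
  · rfl

/-! ### The 100 -/

/-- The base norm-48 vector. -/
def hsBase : GolayPt → ℤ := fun p => if p = pA then 1 else if p = pB then -5 else if p ∈ mset 13062145 then 1 else -1

theorem hsBase_check : inLeech hsBase = true ∧ sqNorm hsBase = 48 ∧ hsBase pA = 1 ∧ hsBase pB = -5 ∧
    (codeList.filter fun m => !(m.testBit 0) && !(m.testBit 1)).length = 1024 ∧
    (∀ p, hsBase p ≠ 0) := by
  decide +kernel

theorem hsBase_mem : hsBase ∈ shell 48 :=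
  mem_shell.2 ⟨mem_leech_of_inLeech hsBase_check.1, hsBase_check.2.1⟩

theorem abs_one_of_five {z : GolayPt → ℤ} (hz : z ∈ shell 48) {a : GolayPt} (ha : |z a| = 5) {p : GolayPt}
    (hp : p ≠ a) : z p = 1 ∨ z p = -1 := by
  obtain ⟨hall, hc⟩ := odd_shape48 hz (a := a) (by rcases (abs_eq (by norm_num)).1 ha with e | e <;> rw [e] <;> rfl)
  have h5 : a ∈ absSet z 5 := mem_absSet.2 ha
  rcases hc with ⟨c5, c3⟩ | ⟨c5, -⟩
  · rcases hall p with e | e | e
    · exact (abs_eq (by norm_num)).1 e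
    · exact absurd (mem_absSet.2 e) (by rw [absSet_eq_empty c3]; simp)
    · exact absurd (Finset.card_le_one.1 c5.le p (mem_absSet.2 e) a h5) hp
  · rw [absSet_eq_empty c5] at h5; simp at h5

/-- Norm-48 vectors with `(1, -5)` at the pair differ by signs on a code word avoiding the pair. -/
theorem five_diff {x y : GolayPt → ℤ} (hx : x ∈ shell 48) (hy : y ∈ shell 48) (xA : x pA = 1) (xB : x pB = -5)
    (yA : y pA = 1) (yB : y pB = -5) :
    ∃ c ∈ codeSets, pA ∉ c ∧ pB ∉ c ∧ y = fun p => if p ∈ c then -x p else x p := by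
  obtain ⟨-, -, -, h3⟩ := mem_leechLattice_iff.1 (mem_shell.1 hx).1
  obtain ⟨-, -, -, h3'⟩ := mem_leechLattice_iff.1 (mem_shell.1 hy).1
  refine ⟨_, symmDiff_mem_supports (h3 1) (h3' 1),
    by simp only [Finset.mem_symmDiff, mem_one_filter, xA, yA]; decide,
    by simp only [Finset.mem_symmDiff, mem_one_filter, xB, yB]; decide, funext fun p => ?_⟩
  simp only [Finset.mem_symmDiff, mem_one_filter]
  by_cases hp : p = pB
  · subst hp; simp [xB, yB]
  rcases abs_one_of_five hx (a := pB) (by rw [xB]; norm_num) hp with a | a <;>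
    rcases abs_one_of_five hy (a := pB) (by rw [yB]; norm_num) hp with b | b <;> simp [a, b]

theorem card_five : ((shell 48).filter fun y => y pA = 1 ∧ y pB = -5).card = 1024 := by
  classical
  obtain ⟨-, -, hA, hB, hlen, hnz⟩ := hsBase_check
  rw [← hlen, ← List.toFinset_card_of_nodup (codeList_nodup.filter _)]
  symm
  refine Finset.card_bij (fun m _ p => if p ∈ mset m then -hsBase p else hsBase p) ?_ ?_ ?_
  · intro m hm
    simp only [List.mem_toFinset, List.mem_filter, Bool.and_eq_true, Bool.not_eq_true'] at hm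
    have hc : mset m ∈ codeSets := mem_supports_iff.2 ⟨m, hm.1, rfl⟩
    have h0 : pA ∉ mset m := by rw [mem_mset, gidx_gpt]; simp [hm.2.1]
    have h1 : pB ∉ mset m := by rw [mem_mset, gidx_gpt]; simp [hm.2.2]
    have hf := pairFix_flip (mem_shell.1 hsBase_mem).1 hc h0 h1
    exact Finset.mem_filter.2 ⟨hf.mem_shell_right' hsBase_mem, (if_neg h0).trans hA, (if_neg h1).trans hB⟩
  · intro m hm m' hm' e
    simp only [List.mem_toFinset, List.mem_filter] at hm hm'
    refine mset_inj (codeList_lt hm.1) (codeList_lt hm'.1) (Finset.ext fun p => ?_)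
    have h := congrFun e p
    have := hnz p
    by_cases a : p ∈ mset m <;> by_cases b : p ∈ mset m' <;> simp only [a, b, if_true, if_false] at h ⊢ <;> omega
  · intro y hy
    obtain ⟨hy1, hy2, hy3⟩ := Finset.mem_filter.1 hy
    obtain ⟨c, hc, cA, cB, rfl⟩ := five_diff hsBase_mem hy1 hA hB hy2 hy3
    obtain ⟨m, hm, rfl⟩ := mem_supports_iff.1 hc
    refine ⟨m, ?_, rfl⟩
    simp only [List.mem_toFinset, List.mem_filter, Bool.and_eq_true, Bool.not_eq_true']
    rw [mem_mset, gidx_gpt] at cA cB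
    exact ⟨hm, by simpa using cA, by simpa using cB⟩

/-- The norm-48 vectors with inner product -16 with `pairBase`. -/
noncomputable def fortyEightSet : Finset (GolayPt → ℤ) := (shell 48).filter fun y => y pA + y pB = -4

theorem card_fortyEightSet : fortyEightSet.card = 953856 := by
  classical
  have h : ((shell 32).sigma fun x => (shell 48).filter fun y => dotInt y x = -16).card =
      ((shell 48).sigma fun y => (shell 32).filter fun x => dotInt y x = -16).card :=
    Finset.card_nbij' (fun a => ⟨a.2, a.1⟩) (fun a => ⟨a.2, a.1⟩)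
      (fun a ha => by simp only [Finset.coe_sigma, Set.mem_sigma_iff, Finset.mem_coe, Finset.mem_filter] at ha ⊢; tauto)
      (fun a ha => by simp only [Finset.coe_sigma, Set.mem_sigma_iff, Finset.mem_coe, Finset.mem_filter] at ha ⊢; tauto)
      (fun a _ => rfl) (fun a _ => rfl)
  have hc : ∀ x ∈ shell 32, ((shell 48).filter fun y => dotInt y x = -16).card = fortyEightSet.card := by
    intro x hx
    obtain ⟨hxL, hxn⟩ := mem_shell.1 hx
    obtain ⟨g, hg, hk⟩ := exists_to_pairBase ⟨x, hxL⟩ hxn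
    refine Finset.card_bij'
      (fun y hy => ((g • (⟨y, (mem_shell.1 (Finset.mem_filter.1 hy).1).1⟩ : leechLattice) : leechLattice) : GolayPt → ℤ))
      (fun y hy => ((g⁻¹ • (⟨y, (mem_shell.1 (Finset.mem_filter.1 hy).1).1⟩ : leechLattice) : leechLattice) : GolayPt → ℤ))
      ?_ ?_ ?_ ?_
    · intro y hy
      obtain ⟨h1, h2⟩ := Finset.mem_filter.1 hy
      exact Finset.mem_filter.2 ⟨mem_shell.2 ⟨Subtype.coe_prop _, (co0_sqNorm g _).trans (mem_shell.1 h1).2⟩,
        hk _ (-4) (by rw [dotInt_comm]; exact h2.trans (by norm_num))⟩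
    · intro y hy
      obtain ⟨h1, h2⟩ := Finset.mem_filter.1 hy
      refine Finset.mem_filter.2 ⟨mem_shell.2 ⟨Subtype.coe_prop _, (co0_sqNorm _ _).trans (mem_shell.1 h1).2⟩, ?_⟩
      have h3 := co0_dot g⁻¹ (⟨y, (mem_shell.1 h1).1⟩ : leechLattice) pairL
      rw [show g⁻¹ • pairL = (⟨x, hxL⟩ : leechLattice) by rw [← hg, inv_smul_smul],
        show ((pairL : leechLattice) : GolayPt → ℤ) = pairBase from rfl, dotInt_comm y pairBase, dot_pairBase] at h3
      exact h3.trans (by omega)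
    · intro y hy; simp only [Subtype.coe_eta, inv_smul_smul]
    · intro y hy; simp only [Subtype.coe_eta, smul_inv_smul]
  rw [Finset.card_sigma, Finset.sum_congr rfl hc, Finset.sum_const, card_shell32, Finset.card_sigma,
    Finset.sum_congr rfl fun y hy => show ((shell 32).filter fun x => dotInt y x = -16).card = 11178 by
      rw [← census48.2.2.1, ← dotCount_moves (shell_moves48 y hy) 16, ← dotCount_neg, dotCount],
    Finset.sum_const, card_shell48, smul_eq_mul, smul_eq_mul] at h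
  omega

/-- The vectors orthogonal to `pairBase`. -/
noncomputable def perpSet : Finset (GolayPt → ℤ) := (shell 32).filter fun x => x pA + x pB = 0

theorem card_perpSet : perpSet.card = 93150 := by
  rw [← census32.2.2.2, ← dotCount_moves (moves32 pairL.2 pairBase_check.2.1) 0, dotCount, perpSet]
  refine congrArg Finset.card (Finset.filter_congr fun x _ => ?_)
  rw [show ((pairL : leechLattice) : GolayPt → ℤ) = pairBase from rfl, dot_pairBase]
  omega

theorem dot_perpBase (y : GolayPt → ℤ) : dotInt perpBase y = 4 * (y pA - y pB) := by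
  rw [dotInt, ← Finset.sum_subset (Finset.subset_univ ({pA, pB} : Finset GolayPt)) fun p _ hp => by
    simp only [Finset.mem_insert, Finset.mem_singleton, not_or] at hp
    simp [perpBase, hp.1, hp.2], Finset.sum_pair (by decide)]
  simp [perpBase, show pB ≠ pA by decide]
  ring

theorem pairFix_card {x x' : GolayPt → ℤ} (h : PairFix x x') {N : ℤ} (P : ℤ → Prop) [DecidablePred P] (k : ℤ) :
    ((shell N).filter fun y => P (y pA + y pB) ∧ dotInt x y = k).card =
      ((shell N).filter fun y => P (y pA + y pB) ∧ dotInt x' y = k).card := by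
  classical
  obtain ⟨hx, g, hg, rfl⟩ := h
  have hgi : g⁻¹ • pairL = pairL := inv_smul_eq_iff.2 hg.symm
  have key : ∀ (g : Co0), g • pairL = pairL → ∀ (y : GolayPt → ℤ) (hy : y ∈ leechLattice),
      ((g • (⟨y, hy⟩ : leechLattice) : leechLattice) : GolayPt → ℤ) pA +
        ((g • (⟨y, hy⟩ : leechLattice) : leechLattice) : GolayPt → ℤ) pB = y pA + y pB :=
    fun g hg y hy => PairFix.sum_eq ⟨hy, g, hg, rfl⟩
  refine Finset.card_bij'
    (fun y hy => ((g • (⟨y, (mem_shell.1 (Finset.mem_filter.1 hy).1).1⟩ : leechLattice) : leechLattice) : GolayPt → ℤ))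
    (fun y hy => ((g⁻¹ • (⟨y, (mem_shell.1 (Finset.mem_filter.1 hy).1).1⟩ : leechLattice) : leechLattice) : GolayPt → ℤ))
    ?_ ?_ ?_ ?_
  · intro y hy
    obtain ⟨h1, h2, h3⟩ := Finset.mem_filter.1 hy
    exact Finset.mem_filter.2 ⟨mem_shell.2 ⟨Subtype.coe_prop _, (co0_sqNorm g _).trans (mem_shell.1 h1).2⟩,
      by rw [key g hg]; exact h2, (co0_dot g ⟨x, hx⟩ ⟨y, (mem_shell.1 h1).1⟩).trans h3⟩
  · intro y hy
    obtain ⟨h1, h2, h3⟩ := Finset.mem_filter.1 hy
    refine Finset.mem_filter.2 ⟨mem_shell.2 ⟨Subtype.coe_prop _, (co0_sqNorm _ _).trans (mem_shell.1 h1).2⟩,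
      by rw [key _ hgi]; exact h2, ?_⟩
    have h4 := co0_dot g⁻¹ (g • ⟨x, hx⟩) ⟨y, (mem_shell.1 h1).1⟩
    rw [inv_smul_smul] at h4
    exact h4.trans h3
  · intro y hy; simp only [Subtype.coe_eta, inv_smul_smul]
  · intro y hy; simp only [Subtype.coe_eta, smul_inv_smul]

/-- The hundred. -/
theorem card_hundred {v : GolayPt → ℤ} (hv : v ∈ fortyEightSet) :
    (perpSet.filter fun x => dotInt v x = 24).card = 100 := by
  classical
  have hfib : ∀ y ∈ fortyEightSet, (perpSet.filter fun x => dotInt y x = 24).card =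
      (perpSet.filter fun x => dotInt v x = 24).card := fun y hy => by
    obtain ⟨hy1, hy2⟩ := Finset.mem_filter.1 hy
    obtain ⟨hv1, hv2⟩ := Finset.mem_filter.1 hv
    have h := pairFix_card (pairFix_fortyEight hy1 hv1 hy2 hv2) (N := 32) (fun s => s = 0) 24
    simpa [perpSet, Finset.filter_filter] using h
  have hfib' : ∀ x ∈ perpSet, (fortyEightSet.filter fun y => dotInt y x = 24).card = 1024 := fun x hx => by
    obtain ⟨hx1, hx2⟩ := Finset.mem_filter.1 hx
    have h := pairFix_card (pairFix_perp_all hx1 hx2) (N := 48) (fun s => s = -4) 24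
    rw [← card_five, fortyEightSet, Finset.filter_filter,
      Finset.filter_congr fun y _ => show (y pA + y pB = -4 ∧ dotInt y x = 24) ↔ (y pA + y pB = -4 ∧ dotInt x y = 24) by
        rw [dotInt_comm], h]
    refine congrArg Finset.card (Finset.filter_congr fun y _ => ?_)
    rw [dot_perpBase]; omega
  have h := Finset.sum_card_bipartiteAbove_eq_sum_card_bipartiteBelow (s := fortyEightSet) (t := perpSet)
    (fun y x => dotInt y x = 24)
  simp only [Finset.bipartiteAbove, Finset.bipartiteBelow] at h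
  rw [Finset.sum_congr rfl hfib, Finset.sum_congr rfl hfib', Finset.sum_const, Finset.sum_const,
    card_fortyEightSet, card_perpSet, smul_eq_mul, smul_eq_mul] at h
  omega

/-- Transitivity on the hundred. -/
theorem exists_fix_hundred (v x x' : leechLattice) (hv : (v : GolayPt → ℤ) ∈ fortyEightSet)
    (hx : (x : GolayPt → ℤ) ∈ perpSet) (hx' : (x' : GolayPt → ℤ) ∈ perpSet)
    (hd : dotInt (v : GolayPt → ℤ) (x : GolayPt → ℤ) = 24) (hd' : dotInt (v : GolayPt → ℤ) (x' : GolayPt → ℤ) = 24) :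
    ∃ g : Co0, g • pairL = pairL ∧ g • v = v ∧ g • x = x' := by
  obtain ⟨hv1, hv2⟩ := Finset.mem_filter.1 hv
  have norm : ∀ a : leechLattice, (a : GolayPt → ℤ) ∈ perpSet → dotInt (v : GolayPt → ℤ) (a : GolayPt → ℤ) = 24 →
      ∃ g : Co0, g • pairL = pairL ∧ ((g • a : leechLattice) : GolayPt → ℤ) = perpBase ∧
        ((g • v : leechLattice) : GolayPt → ℤ) ∈ shell 48 ∧ ((g • v : leechLattice) : GolayPt → ℤ) pA = 1 ∧
        ((g • v : leechLattice) : GolayPt → ℤ) pB = -5 := by
    intro a ha hda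
    obtain ⟨ha1, ha2⟩ := Finset.mem_filter.1 ha
    obtain ⟨hax, g, hg, he⟩ := pairFix_perp_all ha1 ha2
    rw [Subtype.coe_eta] at he
    have h1 : ((g • v : leechLattice) : GolayPt → ℤ) pA + ((g • v : leechLattice) : GolayPt → ℤ) pB = -4 :=
      (PairFix.sum_eq ⟨v.2, g, hg, rfl⟩).trans hv2
    have h2 := co0_dot g a v
    rw [he, dot_perpBase, dotInt_comm, hda] at h2
    exact ⟨g, hg, he, mem_shell.2 ⟨Subtype.coe_prop _, (co0_sqNorm g v).trans (mem_shell.1 hv1).2⟩,
      by omega, by omega⟩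
  obtain ⟨g, hg, ga, gv, gA, gB⟩ := norm x hx hd
  obtain ⟨g', hg', ga', gv', gA', gB'⟩ := norm x' hx' hd'
  obtain ⟨c, hc, cA, cB, e⟩ := five_diff gv gv' gA gB gA' gB'
  obtain ⟨k, hk, hkfix⟩ := exists_flip_fix hc
  have hne : ∀ p ∈ c, p ≠ pA ∧ p ≠ pB := fun p hp => ⟨fun h => cA (h ▸ hp), fun h => cB (h ▸ hp)⟩
  have k1 : k • pairL = pairL :=
    hkfix _ fun p hp => pairBase_check.2.2.2.2.2.2.2.2.2.1 p (hne p hp).1 (hne p hp).2
  have k2 : k • (g • x) = g' • x' := by
    rw [hkfix _ fun p hp => by simp only [ga, perpBase, if_neg (hne p hp).1, if_neg (hne p hp).2]]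
    exact Subtype.ext (ga.trans ga'.symm)
  have k3 : k • (g • v) = g' • v := Subtype.ext ((hk _).trans e.symm)
  refine ⟨g'⁻¹ * k * g, ?_, ?_, ?_⟩
  · rw [mul_smul, mul_smul, hg, k1]; exact inv_smul_eq_iff.2 hg'.symm
  · rw [mul_smul, mul_smul, k3, inv_smul_smul]
  · rw [mul_smul, mul_smul, k2, inv_smul_smul]

/-! ### The 275 -/

/-- Two fours, at the first and third points. -/
def triBase : GolayPt → ℤ := vec 0 5 0 0

theorem triBase_check : inLeech triBase = true ∧ sqNorm triBase = 32 ∧ triBase pA = 4 ∧ triBase pC = 4 ∧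
    (∀ p, p ≠ pA → p ≠ pC → triBase p = 0) ∧ xiFun triBase pB = 4 ∧ xiFun triBase pD = 4 ∧
    (∀ p, p ≠ pB → p ≠ pD → xiFun triBase p = 0) ∧ isCode 8414120 = true ∧ (8414120 : ℕ) < 16777216 ∧
    pD ∈ mset 8414120 ∧ pA ∉ mset 8414120 ∧ pB ∉ mset 8414120 ∧ pC ∉ mset 8414120 := by decide +kernel

/-- The same, in the lattice. -/
def triL : leechLattice := ⟨triBase, mem_leech_of_inLeech triBase_check.1⟩

theorem dot_triBase (x : GolayPt → ℤ) : dotInt triBase x = 4 * (x pA + x pC) := by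
  obtain ⟨-, -, ha, hc, hz, -⟩ := triBase_check
  rw [dotInt, ← Finset.sum_subset (Finset.subset_univ ({pA, pC} : Finset GolayPt)) fun p _ hp => by
    simp only [Finset.mem_insert, Finset.mem_singleton, not_or] at hp
    simp [hz p hp.1 hp.2], Finset.sum_pair (by decide), ha, hc]
  ring

/-- Some automorphism fixing both base vectors carries `x` to `y`. -/
def TriFix (x y : GolayPt → ℤ) : Prop :=
  ∃ (hx : x ∈ leechLattice) (g : Co0), g • pairL = pairL ∧ g • triL = triL ∧
    ((g • (⟨x, hx⟩ : leechLattice) : leechLattice) : GolayPt → ℤ) = y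

theorem TriFix.trans {x y z : GolayPt → ℤ} (h : TriFix x y) (h' : TriFix y z) : TriFix x z := by
  obtain ⟨hx, g, hg, hg2, rfl⟩ := h
  obtain ⟨hy, g', hg', hg2', rfl⟩ := h'
  exact ⟨hx, g' * g, by rw [mul_smul, hg, hg'], by rw [mul_smul, hg2, hg2'], by rw [mul_smul, Subtype.coe_eta]⟩

theorem TriFix.symm {x y : GolayPt → ℤ} (h : TriFix x y) : TriFix y x := by
  obtain ⟨hx, g, hg, hg2, rfl⟩ := h
  exact ⟨(g • (⟨x, hx⟩ : leechLattice)).2, g⁻¹, inv_smul_eq_iff.2 hg.symm, inv_smul_eq_iff.2 hg2.symm,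
    by rw [Subtype.coe_eta, inv_smul_smul]⟩

theorem TriFix.refl {x : GolayPt → ℤ} (hx : x ∈ leechLattice) : TriFix x x :=
  ⟨hx, 1, one_smul _ _, one_smul _ _, by rw [one_smul]⟩

theorem TriFix.mem_shell_right {x y : GolayPt → ℤ} (h : TriFix x y) (hx : x ∈ shell 32) : y ∈ shell 32 := by
  obtain ⟨hx', g, -, -, rfl⟩ := h
  exact mem_shell.2 ⟨Subtype.coe_prop _, (co0_sqNorm g _).trans (mem_shell.1 hx).2⟩

theorem triFix_flip {x : GolayPt → ℤ} (hx : x ∈ leechLattice) {c : Finset GolayPt} (hc : c ∈ codeSets)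
    (hA : pA ∉ c) (hB : pB ∉ c) (hC : pC ∉ c) : TriFix x fun p => if p ∈ c then -x p else x p := by
  obtain ⟨k, hk, hfix⟩ := exists_flip_fix hc
  exact ⟨hx, k, hfix _ fun p hp => pairBase_check.2.2.2.2.2.2.2.2.2.1 p (fun h => hA (h ▸ hp)) (fun h => hB (h ▸ hp)),
    hfix _ fun p hp => triBase_check.2.2.2.2.1 p (fun h => hA (h ▸ hp)) (fun h => hC (h ▸ hp)), hk _⟩

/-- A sign change at one further point. -/
theorem triFix_negate {x : GolayPt → ℤ} (hx : x ∈ leechLattice) {r : GolayPt} (hn : [pA, pB, pC, r].Nodup) :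
    ∃ y, TriFix x y ∧ y pA = x pA ∧ y pB = x pB ∧ y pC = x pC ∧ y r = -x r := by
  obtain ⟨-, -, -, -, -, -, -, -, h1, h2, h3, h4, h5, h6⟩ := triBase_check
  obtain ⟨σ, hσ, sA, sB, sC, sD⟩ := exists_map_four nodup_base.1 hn
  have hc : σ • mset 8414120 ∈ codeSets := mem_M24_iff.1 hσ _ ((mset_mem_supports_iff h2).2 h1)
  have mem : ∀ p q : GolayPt, σ p = q → (q ∈ σ • mset 8414120 ↔ p ∈ mset 8414120) := fun p q h => by
    rw [← h, show σ p = σ • p from rfl, Finset.smul_mem_smul_finset_iff]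
  refine ⟨_, triFix_flip hx hc (mt (mem _ _ sA).1 h4) (mt (mem _ _ sB).1 h5) (mt (mem _ _ sC).1 h6), ?_, ?_, ?_, ?_⟩
  · rw [if_neg (mt (mem _ _ sA).1 h4)]
  · rw [if_neg (mt (mem _ _ sB).1 h5)]
  · rw [if_neg (mt (mem _ _ sC).1 h6)]
  · rw [if_pos ((mem _ _ sD).2 h3)]

/-- The move through the sextet automorphism, fixing both base vectors. -/
theorem triFix_step {x : GolayPt → ℤ} (hx : x ∈ leechLattice) {r : GolayPt} (hn : [pA, pB, pC, r].Nodup) :
    ∃ y, TriFix x y ∧ y pA = -(x r - (x pA + x pB + x pC + x r) / 2) ∧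
      y pB = -(x pC - (x pA + x pB + x pC + x r) / 2) ∧
      y pC = -(x pB - (x pA + x pB + x pC + x r) / 2) := by
  obtain ⟨-, -, k0, k1, k2, k3, x2, x3, xz, hz, ha, hb⟩ := pairBase_check
  obtain ⟨-, -, tA', tC', tz, u1, u3, uz, -⟩ := triBase_check
  obtain ⟨σ, hσ, sA, sB, sq, sr⟩ := exists_map_four hn nodup_base.1
  obtain ⟨τ, hτ, tD, tB, tC, -⟩ := exists_map_four (show [pD, pB, pC, pA].Nodup by decide)
    (show [pA, pC, pB, pD].Nodup by decide)
  have hfun : ∀ (ρ : Equiv.Perm GolayPt) (w : GolayPt → ℤ), signedPerm ρ ∅ w = fun p => w (ρ.symm p) := fun ρ w =>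
    funext fun p => by simp [signedPerm]
  have eA : σ.symm pA = pA := (Equiv.symm_apply_eq σ).2 sA.symm
  have eB : σ.symm pB = pB := (Equiv.symm_apply_eq σ).2 sB.symm
  have eC : σ.symm pC = pC := (Equiv.symm_apply_eq σ).2 sq.symm
  have eD : σ.symm pD = r := (Equiv.symm_apply_eq σ).2 sr.symm
  have fA : τ.symm pA = pD := (Equiv.symm_apply_eq τ).2 tD.symm
  have fB : τ.symm pB = pC := (Equiv.symm_apply_eq τ).2 tC.symm
  have fC : τ.symm pC = pB := (Equiv.symm_apply_eq τ).2 tB.symm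
  set g : Co0 := monoCo0 τ hτ ∅ empty_mem_codeSets * xiCo0 * monoCo0 σ hσ ∅ empty_mem_codeSets
  have hg : ∀ v : leechLattice,
      ((g • v : leechLattice) : GolayPt → ℤ) = fun p => xiFun (fun q => v.1 (σ.symm q)) (τ.symm p) := fun v => by
    simp only [g, mul_smul, monoCo0_smul, xiCo0_apply, hfun]
  have fixσ : ∀ (t : GolayPt → ℤ) (a b : GolayPt), t a = 4 → t b = 4 → σ.symm a = a → σ.symm b = b →
      (∀ p, p ≠ a → p ≠ b → t p = 0) → (fun q => t (σ.symm q)) = t := by
    intro t a b ta tb ea eb h0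
    funext p
    by_cases h1 : p = a
    · rw [h1, ea]
    by_cases h2 : p = b
    · rw [h2, eb]
    rw [h0 p h1 h2, h0 _ (fun h => h1 (σ.symm.injective (h.trans ea.symm)))
      (fun h => h2 (σ.symm.injective (h.trans eb.symm)))]
  have fixτ : ∀ (t s : GolayPt → ℤ) (a b a' b' : GolayPt), s a = 4 → s b = 4 → t a' = 4 → t b' = 4 →
      τ.symm a' = a → τ.symm b' = b → (∀ p, p ≠ a → p ≠ b → s p = 0) → (∀ p, p ≠ a' → p ≠ b' → t p = 0) →
      (fun p => s (τ.symm p)) = t := by
    intro t s a b a' b' sa sb ta tb ea eb hs ht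
    funext p
    by_cases h1 : p = a'
    · rw [h1, ea, sa, ta]
    by_cases h2 : p = b'
    · rw [h2, eb, sb, tb]
    rw [ht p h1 h2, hs _ (fun h => h1 (τ.symm.injective (h.trans ea.symm)))
      (fun h => h2 (τ.symm.injective (h.trans eb.symm)))]
  refine ⟨_, ⟨hx, g, Subtype.ext ((hg _).trans ?_), Subtype.ext ((hg _).trans ?_), hg _⟩, ?_, ?_, ?_⟩
  · show (fun p => xiFun (fun q => pairBase (σ.symm q)) (τ.symm p)) = pairBase
    rw [fixσ pairBase pA pB ha hb eA eB hz]
    exact fixτ _ _ pC pD pB pA x2 x3 hb ha fB fA xz fun p h1 h2 => hz p h2 h1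
  · show (fun p => xiFun (fun q => triBase (σ.symm q)) (τ.symm p)) = triBase
    rw [fixσ triBase pA pC tA' tC' eA eC tz]
    exact fixτ _ _ pB pD pC pA u1 u3 tC' tA' fC fA uz fun p h1 h2 => tz p h2 h1
  all_goals simp only [fA, fB, fC]
  · have := xiFun_blk (fun q => x (σ.symm q)) 0 3
    simp only [k3, blkSum, k0, k1, k2, eA, eB, eC, eD, xiSign, if_true] at this
    omega
  · have := xiFun_blk (fun q => x (σ.symm q)) 0 2
    simp only [k2, blkSum, k0, k1, k3, eA, eB, eC, eD, xiSign, if_true] at this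
    omega
  · have := xiFun_blk (fun q => x (σ.symm q)) 0 1
    simp only [k1, blkSum, k0, k2, k3, eA, eB, eC, eD, xiSign, if_true] at this
    omega

theorem exists_extra {P : GolayPt → Prop} [DecidablePred P] (h : 4 ≤ (Finset.univ.filter P).card) :
    ∃ r, P r ∧ [pA, pB, pC, r].Nodup := by
  obtain ⟨r, hr⟩ := Finset.card_pos.1 (show 0 < ((Finset.univ.filter P) \ {pA, pB, pC}).card by
    have h1 := Finset.card_le_card_sdiff_add_card (s := Finset.univ.filter P) (t := ({pA, pB, pC} : Finset GolayPt))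
    have h2 : ({pA, pB, pC} : Finset GolayPt).card ≤ 3 := Finset.card_le_three
    omega)
  simp only [Finset.mem_sdiff, Finset.mem_filter, Finset.mem_univ, true_and, Finset.mem_insert,
    Finset.mem_singleton, not_or] at hr
  refine ⟨r, hr.1, ?_⟩
  simp [Ne.symm hr.2.1, Ne.symm hr.2.2.1, Ne.symm hr.2.2.2]
  decide

/-- Reduction to the value 1 at the first point. -/
theorem triFix_reach {x : GolayPt → ℤ} (hx : x ∈ shell 32) (hs : x pA + x pB = -2) (ht : x pA + x pC = 2) :
    ∃ y, TriFix x y ∧ y pA = 1 ∧ y pB = -3 ∧ y pC = 1 := by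
  obtain ⟨hL, -⟩ := mem_shell.1 hx
  rcases Int.emod_two_eq_zero_or_one (x pA) with he | ho
  · obtain ⟨hall, ho⟩ := (even_shape32 hx he).resolve_left fun h => by
      rcases h.1 pA with a | a | a <;> rcases h.1 pB with b | b | b <;> omega
    have a0 : x pA = 0 := by
      rcases hall pA with a | a | a <;> rcases hall pB with b | b | b <;> rcases hall pC with c | c | c <;> omega
    obtain ⟨r, hr, hn⟩ := exists_extra (P := fun p => |x p| = 2) (by
      show 4 ≤ (absSet x 2).card
      rw [ho.2]; norm_num)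
    obtain ⟨y, hy, yA, yB, yC, yr⟩ : ∃ y, TriFix x y ∧ y pA = x pA ∧ y pB = x pB ∧ y pC = x pC ∧ y r = -2 := by
      rcases (abs_eq (by norm_num)).1 hr with e | e
      · obtain ⟨y, hy, h1, h2, h3, h4⟩ := triFix_negate hL hn
        exact ⟨y, hy, h1, h2, h3, by rw [h4, e]⟩
      · exact ⟨x, TriFix.refl hL, rfl, rfl, rfl, e⟩
    obtain ⟨z, hz, z1, z2, z3⟩ := triFix_step hy.symm.1 hn
    exact ⟨z, hy.trans hz, by omega, by omega, by omega⟩
  · obtain ⟨hall, e, he, hone⟩ := odd_shape32 hx ho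
    rcases (show x pA = 1 ∨ x pA = -1 by
      rcases hall pA with a | a | a | a <;> rcases hall pB with b | b | b | b <;> rcases hall pC with c | c | c | c <;>
        omega) with a | a
    · exact ⟨x, TriFix.refl hL, a, by omega, by omega⟩
    obtain ⟨r, hr, hn⟩ := exists_extra (P := fun p => |x p| = 1) (by
      have hsub : Finset.univ.erase e ⊆ Finset.univ.filter fun p => |x p| = 1 := fun p hp =>
        Finset.mem_filter.2 ⟨Finset.mem_univ p, hone p (Finset.mem_erase.1 hp).1⟩
      have := Finset.card_le_card hsub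
      rw [Finset.card_erase_of_mem (Finset.mem_univ e), Finset.card_univ,
        show Fintype.card GolayPt = 24 from rfl] at this
      omega)
    obtain ⟨y, hy, yA, yB, yC, yr⟩ : ∃ y, TriFix x y ∧ y pA = x pA ∧ y pB = x pB ∧ y pC = x pC ∧ y r = -1 := by
      rcases (abs_eq (by norm_num)).1 hr with e | e
      · obtain ⟨y, hy, h1, h2, h3, h4⟩ := triFix_negate hL hn
        exact ⟨y, hy, h1, h2, h3, by rw [h4, e]⟩
      · exact ⟨x, TriFix.refl hL, rfl, rfl, rfl, e⟩
    obtain ⟨z, hz, z1, z2, z3⟩ := triFix_step hy.symm.1 hn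
    exact ⟨z, hy.trans hz, by omega, by omega, by omega⟩

theorem triFix_trans {x x' : GolayPt → ℤ} (hx : x ∈ shell 32) (hx' : x' ∈ shell 32) (hs : x pA + x pB = -2)
    (ht : x pA + x pC = 2) (hs' : x' pA + x' pB = -2) (ht' : x' pA + x' pC = 2) : TriFix x x' := by
  obtain ⟨y, hy, yA, yB, yC⟩ := triFix_reach hx hs ht
  obtain ⟨z, hz, zA, zB, zC⟩ := triFix_reach hx' hs' ht'
  refine hy.trans (TriFix.trans ?_ hz.symm)
  have hyS := hy.mem_shell_right hx
  have hzS := hz.mem_shell_right hx'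
  have hone : ∀ w : GolayPt → ℤ, w ∈ shell 32 → w pB = -3 → ∀ p, p ≠ pB → w p = 1 ∨ w p = -1 := by
    intro w hw wB p hp
    obtain ⟨-, e, he, hone⟩ := odd_shape32 hw (a := pB) (by rw [wB]; rfl)
    have : e = pB := by
      by_contra h
      have := hone pB (Ne.symm h)
      rw [wB] at this; norm_num at this
    exact (abs_eq (by norm_num)).1 (hone p (this ▸ hp))
  obtain ⟨-, -, -, h3⟩ := mem_leechLattice_iff.1 (mem_shell.1 hyS).1
  obtain ⟨-, -, -, h3'⟩ := mem_leechLattice_iff.1 (mem_shell.1 hzS).1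
  have hf := triFix_flip (mem_shell.1 hyS).1 (symmDiff_mem_supports (h3 1) (h3' 1))
    (by simp only [Finset.mem_symmDiff, mem_one_filter, yA, zA]; decide)
    (by simp only [Finset.mem_symmDiff, mem_one_filter, yB, zB]; decide)
    (by simp only [Finset.mem_symmDiff, mem_one_filter, yC, zC]; decide)
  convert hf using 1
  funext p
  simp only [Finset.mem_symmDiff, mem_one_filter]
  by_cases hp : p = pB
  · subst hp; simp [yB, zB]
  rcases hone y hyS yB p hp with a | a <;> rcases hone z hzS zB p hp with b | b <;> simp [a, b]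

/-- The stabiliser of two norm-32 vectors at inner product 16. -/
theorem exists_fix_tri {v x w w' : leechLattice} (hv : sqNorm (v : GolayPt → ℤ) = 32) (hx : sqNorm (x : GolayPt → ℤ) = 32)
    (hvx : dotInt (v : GolayPt → ℤ) (x : GolayPt → ℤ) = 16)
    (hw : sqNorm (w : GolayPt → ℤ) = 32) (hw' : sqNorm (w' : GolayPt → ℤ) = 32)
    (d1 : dotInt (v : GolayPt → ℤ) (w : GolayPt → ℤ) = -8) (d2 : dotInt (x : GolayPt → ℤ) (w : GolayPt → ℤ) = 8)
    (d1' : dotInt (v : GolayPt → ℤ) (w' : GolayPt → ℤ) = -8) (d2' : dotInt (x : GolayPt → ℤ) (w' : GolayPt → ℤ) = 8) :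
    ∃ g : Co0, g • v = v ∧ g • x = x ∧ g • w = w' := by
  obtain ⟨h, hh, hk⟩ := exists_to_pairBase v hv
  have hneg : sqNorm ((-(h • x) : leechLattice) : GolayPt → ℤ) = 32 := by
    rw [AddSubgroup.coe_neg, sqNorm_neg', co0_sqNorm, hx]
  have hsum : ((-(h • x) : leechLattice) : GolayPt → ℤ) pA + ((-(h • x) : leechLattice) : GolayPt → ℤ) pB = -4 := by
    have := hk x 4 (hvx.trans (by norm_num))
    simp only [AddSubgroup.coe_neg, Pi.neg_apply]; omega
  have htri : sqNorm ((-triL : leechLattice) : GolayPt → ℤ) = 32 := by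
    rw [AddSubgroup.coe_neg, sqNorm_neg']; exact triBase_check.2.1
  have hts : ((-triL : leechLattice) : GolayPt → ℤ) pA + ((-triL : leechLattice) : GolayPt → ℤ) pB = -4 := by
    show -triBase pA + -triBase pB = -4
    rw [triBase_check.2.2.1, triBase_check.2.2.2.2.1 pB (by decide) (by decide)]; norm_num
  obtain ⟨hm, k, hk1, hk2⟩ := (pairFix_sixteen (mem_shell.2 ⟨Subtype.coe_prop _, hneg⟩) hsum).trans
    (pairFix_sixteen (mem_shell.2 ⟨Subtype.coe_prop _, htri⟩) hts).symm
  rw [Subtype.coe_eta] at hk2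
  have kv : (k * h) • v = pairL := by rw [mul_smul, hh, hk1]
  have kx : (k * h) • x = triL := by
    rw [mul_smul]
    exact neg_injective ((map_neg (co0Hom k) (h • x)).symm.trans (Subtype.ext hk2))
  have coord : ∀ a : leechLattice, sqNorm (a : GolayPt → ℤ) = 32 → dotInt (v : GolayPt → ℤ) (a : GolayPt → ℤ) = -8 →
      dotInt (x : GolayPt → ℤ) (a : GolayPt → ℤ) = 8 →
      ((((k * h) • a : leechLattice) : GolayPt → ℤ) ∈ shell 32 ∧
        (((k * h) • a : leechLattice) : GolayPt → ℤ) pA + (((k * h) • a : leechLattice) : GolayPt → ℤ) pB = -2 ∧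
        (((k * h) • a : leechLattice) : GolayPt → ℤ) pA + (((k * h) • a : leechLattice) : GolayPt → ℤ) pC = 2) := by
    intro a ha e1 e2
    have f1 := co0_dot (k * h) v a
    have f2 := co0_dot (k * h) x a
    rw [kv, show ((pairL : leechLattice) : GolayPt → ℤ) = pairBase from rfl, dot_pairBase, e1] at f1
    rw [kx, show ((triL : leechLattice) : GolayPt → ℤ) = triBase from rfl, dot_triBase, e2] at f2
    exact ⟨mem_shell.2 ⟨Subtype.coe_prop _, (co0_sqNorm _ a).trans ha⟩, by omega, by omega⟩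
  obtain ⟨a1, a2, a3⟩ := coord w hw d1 d2
  obtain ⟨b1, b2, b3⟩ := coord w' hw' d1' d2'
  obtain ⟨hm', g, g1, g2, g3⟩ := triFix_trans a1 b1 a2 a3 b2 b3
  have g4 : g • ((k * h) • w) = (k * h) • w' := Subtype.ext g3
  refine ⟨(k * h)⁻¹ * g * (k * h), ?_, ?_, ?_⟩
  · rw [mul_smul, mul_smul, kv, g1, ← kv, inv_smul_smul]
  · rw [mul_smul, mul_smul, kx, g2, ← kx, inv_smul_smul]
  · rw [mul_smul, mul_smul, g4, inv_smul_smul]

end Cfsg.Lib.Concrete
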