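import Cfsg.Agent.Lib.Concrete.LeechJointOrbits

/-!
The stabiliser of a norm-32 vector of the rank-24 lattice has no nontrivial normal 2-subgroup.
-/

set_option autoImplicit false

namespace Cfsg.Lib.Concrete

open Finset
open scoped Pointwise symmDiff

local notation "pA" => gpt 0
local notation "pB" => gpt 1
local notation "pC" => gpt 2
local notation "pD" => gpt 23

/-- At least nine vectors lie in the joint-stabiliser orbit. -/
def Big (x : GolayPt → ℤ) : Prop := ∃ S : Finset (GolayPt → ℤ), 9 ≤ S.card ∧ ∀ y ∈ S, TriFix x y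

theorem Big.of_fix {x y : GolayPt → ℤ} (h : TriFix x y) (hy : Big y) : Big x := by
  obtain ⟨S, hS, e⟩ := hy
  exact ⟨S, hS, fun z hz => h.trans (e z hz)⟩

theorem TriFix.sums_eq {x y : GolayPt → ℤ} (h : TriFix x y) :
    y pA + y pB = x pA + x pB ∧ y pA + y pC = x pA + x pC := by
  obtain ⟨hx, g, hg, hg2, rfl⟩ := h
  refine ⟨PairFix.sum_eq ⟨hx, g, hg, rfl⟩, ?_⟩
  have h1 := co0_dot g triL ⟨x, hx⟩
  rw [hg2, show ((triL : leechLattice) : GolayPt → ℤ) = triBase from rfl, dot_triBase] at h1
  have h2 : dotInt triBase x = 4 * (x pA + x pC) := dot_triBase x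
  show ((g • (⟨x, hx⟩ : leechLattice) : leechLattice) : GolayPt → ℤ) pA + _ = _
  simp only at h1
  omega

theorem code_avoid_count : 9 ≤ (codeList.filter fun m => !(m.testBit 0) && !(m.testBit 1) && !(m.testBit 2)).length := by
  decide +kernel

theorem big_odd {x : GolayPt → ℤ} (hx : x ∈ shell 32) (ho : x pA % 2 = 1) : Big x := by
  classical
  obtain ⟨hL, -⟩ := mem_shell.1 hx
  set L := codeList.filter fun m => !(m.testBit 0) && !(m.testBit 1) && !(m.testBit 2)
  refine ⟨L.toFinset.image fun m p => if p ∈ mset m then -x p else x p, ?_, ?_⟩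
  · rw [Finset.card_image_of_injOn, List.toFinset_card_of_nodup (codeList_nodup.filter _)]
    · exact code_avoid_count
    · intro a ha b hb e
      simp only [Finset.mem_coe, List.mem_toFinset, List.mem_filter, L] at ha hb
      refine mset_inj (codeList_lt ha.1) (codeList_lt hb.1) (Finset.ext fun p => ?_)
      have h := congrFun e p
      have hne : x p % 2 = 1 := (parity_coord hL p pA).trans ho
      by_cases h1 : p ∈ mset a <;> by_cases h2 : p ∈ mset b <;> simp only [h1, h2, if_true, if_false] at h ⊢ <;> omega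
  · intro y hy
    obtain ⟨m, hm, rfl⟩ := Finset.mem_image.1 hy
    simp only [List.mem_toFinset, List.mem_filter, Bool.and_eq_true, Bool.not_eq_true', L] at hm
    exact triFix_flip hL (mem_supports_iff.2 ⟨m, hm.1, rfl⟩) (by rw [mem_mset, gidx_gpt]; simp [hm.2.1.1])
      (by rw [mem_mset, gidx_gpt]; simp [hm.2.1.2]) (by rw [mem_mset, gidx_gpt]; simp [hm.2.2])

theorem triFix_perm {x : GolayPt → ℤ} (hx : x ∈ leechLattice) {σ : Equiv.Perm GolayPt} (hσ : σ ∈ M24)
    (hA : σ pA = pA) (hB : σ pB = pB) (hC : σ pC = pC) : TriFix x fun p => x (σ.symm p) := by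
  have hfun : ∀ z : GolayPt → ℤ, signedPerm σ ∅ z = fun p => z (σ.symm p) := fun z =>
    funext fun p => by simp [signedPerm]
  have fx : ∀ (t : GolayPt → ℤ) (a b : GolayPt), σ a = a → σ b = b → (∀ p, p ≠ a → p ≠ b → t p = 0) →
      (fun p => t (σ.symm p)) = t := by
    intro t a b ea eb h0
    funext p
    by_cases h1 : p = a
    · rw [h1, (Equiv.symm_apply_eq σ).2 ea.symm]
    by_cases h2 : p = b
    · rw [h2, (Equiv.symm_apply_eq σ).2 eb.symm]
    rw [h0 p h1 h2, h0 _ (fun h => h1 (by rw [← σ.apply_symm_apply p, h, ea]))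
      (fun h => h2 (by rw [← σ.apply_symm_apply p, h, eb]))]
  refine ⟨hx, monoCo0 σ hσ ∅ empty_mem_codeSets, Subtype.ext ?_, Subtype.ext ?_, hfun x⟩
  · rw [monoCo0_smul, hfun]
    exact fx _ _ _ hA hB pairBase_check.2.2.2.2.2.2.2.2.2.1
  · rw [monoCo0_smul, hfun]
    exact fx _ _ _ hA hC triBase_check.2.2.2.2.1

theorem nodup_three : [pA, pB, pC].Nodup := by decide

theorem big_four {x : GolayPt → ℤ} (hx : x ∈ shell 32) (hs : x pA = -4 ∧ x pB = 0 ∨ x pA = 0 ∧ x pB = -4)
    (hC : x pC = 0) : Big x := by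
  classical
  obtain ⟨hL, -⟩ := mem_shell.1 hx
  obtain ⟨hall, hc⟩ := (even_shape32 hx (a := pA) (by omega)).resolve_right fun h => by
    rcases h.1 pA with e | e | e <;> rcases h.1 pB with f | f | f <;> omega
  obtain ⟨a, ha, haval⟩ : ∃ a, (a = pA ∨ a = pB) ∧ x a = -4 := by
    rcases hs with h | h
    · exact ⟨pA, Or.inl rfl, h.1⟩
    · exact ⟨pB, Or.inr rfl, h.2⟩
  have haS : a ∈ absSet x 4 := mem_absSet.2 (by rw [haval]; norm_num)
  obtain ⟨j, hj⟩ := Finset.card_eq_one.1 (show ((absSet x 4).erase a).card = 1 by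
    rw [Finset.card_erase_of_mem haS, hc])
  have hjm : j ∈ (absSet x 4).erase a := by rw [hj]; simp
  rw [Finset.mem_erase, mem_absSet] at hjm
  have hzero : ∀ p, p ≠ a → p ≠ j → x p = 0 := fun p h1 h2 => by
    rcases hall p with e | e | e
    · exact e
    all_goals exact absurd (Finset.mem_singleton.1
      (hj ▸ Finset.mem_erase.2 ⟨h1, mem_absSet.2 (by rw [e]; norm_num)⟩)) h2
  have j1 : j ≠ pA := fun h => by
    rcases hs with ⟨e, e'⟩ | ⟨e, e'⟩
    · rcases ha with r | r
      · exact hjm.1 (h.trans r.symm)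
      · rw [r, e'] at haval; norm_num at haval
    · rw [h, e] at hjm; norm_num at hjm
  have j2 : j ≠ pB := fun h => by
    rcases hs with ⟨e, e'⟩ | ⟨e, e'⟩
    · rw [h, e'] at hjm; norm_num at hjm
    · rcases ha with r | r
      · rw [r, e] at haval; norm_num at haval
      · exact hjm.1 (h.trans r.symm)
  have j3 : j ≠ pC := fun h => by rw [h, hC] at hjm; norm_num at hjm
  have hn : [pA, pB, pC, j].Nodup := by simp [j1.symm, j2.symm, j3.symm]; decide
  have hex : ∀ r : GolayPt, r ∉ ({pA, pB, pC} : Finset GolayPt) → ∃ y, TriFix x y ∧ y r ≠ 0 ∧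
      ∀ p, p ∉ ({pA, pB, pC} : Finset GolayPt) → y p ≠ 0 → p = r := by
    intro r hr
    simp only [Finset.mem_insert, Finset.mem_singleton, not_or] at hr
    obtain ⟨σ, hσ, sA, sB, sC, sj⟩ := exists_map_four hn (show [pA, pB, pC, r].Nodup by
      simp [Ne.symm hr.1, Ne.symm hr.2.1, Ne.symm hr.2.2]; decide)
    refine ⟨_, triFix_perm hL hσ sA sB sC, ?_, fun p hp hne => ?_⟩
    · show x (σ.symm r) ≠ 0
      rw [(Equiv.symm_apply_eq σ).2 sj.symm]
      intro h; rw [h] at hjm; norm_num at hjm
    · simp only [Finset.mem_insert, Finset.mem_singleton, not_or] at hp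
      by_contra hpr
      refine hne (hzero _ (fun h => ?_) fun h => hpr (by rw [← σ.apply_symm_apply p, h, sj]))
      rcases ha with r' | r'
      · exact hp.1 (by rw [← σ.apply_symm_apply p, h, r', sA])
      · exact hp.2.1 (by rw [← σ.apply_symm_apply p, h, r', sB])
  choose! f hf1 hf2 hf3 using hex
  refine ⟨((Finset.univ : Finset GolayPt) \ {pA, pB, pC}).image f, ?_, ?_⟩
  · rw [Finset.card_image_of_injOn, Finset.card_sdiff_of_subset (Finset.subset_univ _), Finset.card_univ,
      show Fintype.card GolayPt = 24 from rfl]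
    · have h3 : ({pA, pB, pC} : Finset GolayPt).card ≤ 3 := Finset.card_le_three
      omega
    · intro r hr r' hr' e
      simp only [Finset.coe_sdiff, Finset.coe_univ, Set.mem_diff, Set.mem_univ, true_and, Finset.mem_coe] at hr hr'
      exact hf3 r' hr' r hr (e ▸ hf2 r hr)
  · intro y hy
    obtain ⟨r, hr, rfl⟩ := Finset.mem_image.1 hy
    exact hf1 r (Finset.mem_sdiff.1 hr).2

theorem exists_outside {P : GolayPt → Prop} [DecidablePred P] (h : 4 ≤ (Finset.univ.filter P).card) :
    ∃ r, P r ∧ [pA, pB, pC, r].Nodup := exists_extra h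

theorem eq_of_fours {x y : GolayPt → ℤ} (hx : x ∈ shell 32) {a b : GolayPt} (hab : a ≠ b) (hxa : |x a| = 4)
    (hxb : |x b| = 4) (hya : y a = x a) (hyb : y b = x b) (hy : ∀ p, p ≠ a → p ≠ b → y p = 0) : x = y := by
  obtain ⟨hall, hc⟩ := (even_shape32 hx (a := a) (by rcases (abs_eq (by norm_num)).1 hxa with e | e <;> omega)).resolve_right
    fun h => by rcases h.1 a with e | e | e <;> rw [e] at hxa <;> norm_num at hxa
  have heq : absSet x 4 = {a, b} := (Finset.eq_of_subset_of_card_le (by
    intro p hp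
    simp only [Finset.mem_insert, Finset.mem_singleton] at hp
    rcases hp with rfl | rfl <;> rw [mem_absSet] <;> assumption) (by rw [hc, Finset.card_pair hab])).symm
  funext p
  by_cases h1 : p = a
  · rw [h1, hya]
  by_cases h2 : p = b
  · rw [h2, hyb]
  rw [hy p h1 h2]
  rcases hall p with e | e | e
  · exact e
  all_goals
    have : p ∈ absSet x 4 := mem_absSet.2 (by rw [e]; norm_num)
    rw [heq] at this
    simp [h1, h2] at this

/-- The mate of `-triBase`. -/
def mateBase : GolayPt → ℤ := fun p => -pairBase p + triBase p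

theorem base_values : (-triBase) pA = -4 ∧ (-triBase) pB = 0 ∧ (-triBase) pC = -4 ∧
    (∀ p, p ≠ pA → p ≠ pC → (-triBase) p = 0) ∧ mateBase pA = 0 ∧ mateBase pB = -4 ∧ mateBase pC = 4 ∧
    (∀ p, p ≠ pB → p ≠ pC → mateBase p = 0) := by decide +kernel

/-- Every partner of `pairBase` at inner product -16 other than two has a big orbit. -/
theorem big_sixteen {x : GolayPt → ℤ} (hx : x ∈ shell 32) (hs : x pA + x pB = -4) :
    x = -triBase ∨ x = mateBase ∨ Big x := by
  obtain ⟨hL, -⟩ := mem_shell.1 hx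
  obtain ⟨n1, n2, n3, n4, m1, m2, m3, m4⟩ := base_values
  rcases Int.emod_two_eq_zero_or_one (x pA) with he | ho
  swap
  · exact Or.inr (Or.inr (big_odd hx ho))
  rcases even_shape32 hx he with ⟨hall, hc⟩ | ⟨hall, ho⟩
  · obtain ⟨r, hr, hn⟩ := exists_outside (P := fun p => x p = 0) (by
      have hsub : (Finset.univ : Finset GolayPt) \ absSet x 4 ⊆ Finset.univ.filter fun p => x p = 0 := fun p hp => by
        rw [Finset.mem_sdiff, mem_absSet] at hp
        refine Finset.mem_filter.2 ⟨Finset.mem_univ p, ?_⟩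
        rcases hall p with e | e | e
        · exact e
        all_goals exact absurd (by rw [e]; norm_num) hp.2
      have := Finset.card_le_card hsub
      rw [Finset.card_sdiff_of_subset (Finset.subset_univ _), Finset.card_univ, hc,
        show Fintype.card GolayPt = 24 from rfl] at this
      omega)
    by_cases hC : x pC = 0
    · refine Or.inr (Or.inr (big_four hx ?_ hC))
      rcases hall pA with a | a | a <;> rcases hall pB with b | b | b <;> omega
    have hC' := (hall pC).resolve_left hC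
    by_cases e1 : x pA = -4 ∧ x pC = -4
    · refine Or.inl (eq_of_fours hx (show pA ≠ pC by decide) (by rw [e1.1]; norm_num) (by rw [e1.2]; norm_num)
        (n1.trans e1.1.symm) (n3.trans e1.2.symm) n4)
    by_cases e2 : x pB = -4 ∧ x pC = 4
    · refine Or.inr (Or.inl (eq_of_fours hx (show pB ≠ pC by decide) (by rw [e2.1]; norm_num) (by rw [e2.2]; norm_num)
        (m2.trans e2.1.symm) (m3.trans e2.2.symm) m4))
    obtain ⟨y, hy, y1, y2, y3⟩ := triFix_step hL hn
    rw [hr] at y1 y2 y3
    refine Or.inr (Or.inr (Big.of_fix hy (big_four (hy.mem_shell_right hx) ?_ ?_)))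
    · rcases hall pA with a | a | a <;> rcases hall pB with b | b | b <;> omega
    · rcases hall pA with a | a | a <;> rcases hall pB with b | b | b <;> omega
  · have a2 : x pA = -2 ∧ x pB = -2 := by
      rcases hall pA with a | a | a <;> rcases hall pB with b | b | b <;> omega
    by_cases hC : x pC = 0
    · obtain ⟨r, hr, hn⟩ := exists_outside (P := fun p => |x p| = 2) (by
        show 4 ≤ (absSet x 2).card
        rw [ho.2]; norm_num)
      obtain ⟨y, hy, y1, y2, y3⟩ := triFix_step hL hn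
      refine Or.inr (Or.inr (Big.of_fix hy (big_odd (hy.mem_shell_right hx) ?_)))
      rcases (abs_eq (by norm_num)).1 hr with e | e <;> omega
    · obtain ⟨r, hr, hn⟩ := exists_outside (P := fun p => x p = 0) (by
        have hsub : (Finset.univ : Finset GolayPt) \ absSet x 2 ⊆ Finset.univ.filter fun p => x p = 0 := fun p hp => by
          rw [Finset.mem_sdiff, mem_absSet] at hp
          refine Finset.mem_filter.2 ⟨Finset.mem_univ p, ?_⟩
          rcases hall p with e | e | e
          · exact e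
          all_goals exact absurd (by rw [e]; norm_num) hp.2
        have := Finset.card_le_card hsub
        rw [Finset.card_sdiff_of_subset (Finset.subset_univ _), Finset.card_univ, ho.2,
          show Fintype.card GolayPt = 24 from rfl] at this
        omega)
      obtain ⟨y, hy, y1, y2, y3⟩ := triFix_step hL hn
      have hC' := (hall pC).resolve_left hC
      exact Or.inr (Or.inr (Big.of_fix hy (big_odd (hy.mem_shell_right hx) (by omega))))

/-! ### Normal 2-subgroups -/

/-- The partners of `pairBase` at inner product -16. -/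
def sixteenSet : Set leechLattice :=
  {x | (x : GolayPt → ℤ) ∈ shell 32 ∧ (x : GolayPt → ℤ) pA + (x : GolayPt → ℤ) pB = -4}

theorem neg_triL_mem : (-triL) ∈ sixteenSet := by
  obtain ⟨n1, n2, -⟩ := base_values
  refine ⟨mem_shell.2 ⟨(-triL).2, ?_⟩, ?_⟩
  · rw [AddSubgroup.coe_neg, sqNorm_neg']; exact triBase_check.2.1
  · show (-triBase) pA + (-triBase) pB = -4
    omega

theorem ncard_sixteenSet : sixteenSet.ncard = 4600 := by
  have hm : Moves ((pairL : leechLattice) : GolayPt → ℤ) rep32 := moves32 pairL.2 pairBase_check.2.1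
  rw [← census32.2.1, ← dotCount_moves hm 16, ← dotCount_neg, dotCount, ← Set.ncard_coe_finset,
    ← Set.ncard_image_of_injective sixteenSet Subtype.val_injective]
  refine congrArg Set.ncard (Set.ext fun x => ?_)
  simp only [Set.mem_image, Finset.coe_filter, Set.mem_setOf_eq, sixteenSet]
  constructor
  · rintro ⟨y, ⟨h1, h2⟩, rfl⟩
    exact ⟨h1, by rw [show ((pairL : leechLattice) : GolayPt → ℤ) = pairBase from rfl, dot_pairBase]; omega⟩
  · rintro ⟨h1, h2⟩
    rw [show ((pairL : leechLattice) : GolayPt → ℤ) = pairBase from rfl, dot_pairBase] at h2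
    exact ⟨⟨x, (mem_shell.1 h1).1⟩, ⟨h1, by show x pA + x pB = -4; omega⟩, rfl⟩

theorem orbit_le_eight {S : Type*} [Group S] [Finite S] [MulAction S leechLattice] (N : Subgroup S) [N.Normal]
    (w : leechLattice) (hN : IsPGroup 2 N) (h : (MulAction.orbit S w).ncard = 4600) :
    (MulAction.orbit N w).ncard ≤ 8 := by
  set T := MulAction.stabilizer S w with hT
  have h1 : (MulAction.stabilizer N w).index = T.relIndex N := by
    rw [show MulAction.stabilizer N w = T.subgroupOf N from rfl]; rfl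
  rw [MulAction.index_stabilizer] at h1
  have hTi : T.index = 4600 := by rw [hT, MulAction.index_stabilizer, h]
  have a1 := Subgroup.relIndex_mul_index (inf_le_right : T ⊓ N ≤ N)
  have a2 := Subgroup.relIndex_mul_index (inf_le_left : T ⊓ N ≤ T)
  rw [Subgroup.inf_relIndex_right] at a1
  rw [Subgroup.inf_relIndex_left, ← Subgroup.relIndex_sup_right T N] at a2
  have a3 := Subgroup.relIndex_mul_index (le_sup_right : N ≤ T ⊔ N)
  set q := N.relIndex (T ⊔ N)
  have hq : 0 < q := Nat.pos_of_ne_zero fun e => by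
    rw [e, zero_mul] at a3
    exact Subgroup.index_ne_zero_of_finite a3.symm
  have key : T.relIndex N * (T ⊔ N).index = 4600 := by
    refine Nat.eq_of_mul_eq_mul_left hq ?_
    rw [← hTi, a2, ← a1, ← a3]
    ring
  haveI : Finite (MulAction.orbit N w) := (Set.finite_range _).to_subtype
  obtain ⟨k, hk⟩ := hN.card_orbit w
  rw [Nat.card_coe_set_eq] at hk
  rw [← h1] at key
  rw [hk] at key ⊢
  by_contra hcon
  have hk4 : 4 ≤ k := by
    by_contra h4
    have : k ≤ 3 := by omega
    interval_cases k <;> simp at hcon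
  have : 2 ^ 4 ∣ 4600 := (pow_dvd_pow 2 hk4).trans ⟨_, key.symm⟩
  norm_num at this

/-- Two fours, one of them at `a` with a minus sign. -/
def fourVec (a j : GolayPt) (s : ℤ) : GolayPt → ℤ := fun p => if p = a then -4 else if p = j then 4 * s else 0

theorem fourVec_check : ∀ i k : Fin 24, (i.val = 0 ∨ i.val = 1) → 2 ≤ k.val →
    inLeech (fourVec (gpt i) (gpt k) 1) = true ∧ inLeech (fourVec (gpt i) (gpt k) (-1)) = true ∧
      sqNorm (fourVec (gpt i) (gpt k) 1) = 32 ∧ sqNorm (fourVec (gpt i) (gpt k) (-1)) = 32 := by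
  decide +kernel

theorem dot_fours (x y : GolayPt → ℤ) (hx : ∀ p, (4 : ℤ) ∣ x p) (hy : ∀ p, (4 : ℤ) ∣ y p) :
    (16 : ℤ) ∣ dotInt x y :=
  Finset.dvd_sum fun p _ => (show (16 : ℤ) = 4 * 4 from rfl) ▸ mul_dvd_mul (hx p) (hy p)

/-- The map exchanging the first two coordinates and negating the others. -/
def swapNeg (x : GolayPt → ℤ) : GolayPt → ℤ := fun p => if p = pA then x pB else if p = pB then x pA else -x p

theorem swapNeg_bad : inLeech (swapNeg repEight) = false ∧ inLeech repEight = true := by decide +kernel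

theorem swapNeg_not_mem : swapNeg repEight ∉ leechLattice := by
  intro h
  obtain ⟨-, -, -, h3⟩ := mem_leechLattice_iff.1 h
  have hc := code_card (h3 1)
  have he : (Finset.univ.filter fun i => swapNeg repEight i ≡ 1 [ZMOD 4]) = {pA, pB} := by
    ext p
    rw [mem_one_filter, Finset.mem_insert, Finset.mem_singleton]
    revert p
    decide +kernel
  rw [he, Finset.card_pair (by decide)] at hc
  omega

/-- An automorphism fixing `pairBase` that maps every partner to itself or to its mate is trivial. -/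
theorem eq_one_of_pairs {n : Co0} (hvn : n • pairL = pairL)
    (hpair : ∀ w ∈ sixteenSet, n • w = w ∨ n • w = -pairL - w) : n = 1 := by
  have hAB : ∀ a : GolayPt, a = pA ∨ a = pB → ∀ j : GolayPt, j ≠ pA → j ≠ pB → ∀ s : ℤ, s = 1 ∨ s = -1 →
      ∃ w ∈ sixteenSet, (w : GolayPt → ℤ) = fourVec a j s ∧ ∀ p, (4 : ℤ) ∣ (w : GolayPt → ℤ) p := by
    intro a ha j j1 j2 s hs
    obtain ⟨i, hi, rfl⟩ : ∃ i : Fin 24, (i.val = 0 ∨ i.val = 1) ∧ gpt i = a := by
      rcases ha with rfl | rfl
      · exact ⟨0, Or.inl rfl, rfl⟩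
      · exact ⟨1, Or.inr rfl, rfl⟩
    have hk : 2 ≤ (gidx j).val := by
      by_contra hlt
      rcases (show gidx j = 0 ∨ gidx j = 1 by
        rcases (show (gidx j).val = 0 ∨ (gidx j).val = 1 by omega) with h | h
        · exact Or.inl (Fin.ext h)
        · exact Or.inr (Fin.ext h)) with h | h
      · exact j1 (by rw [← gpt_gidx j, h])
      · exact j2 (by rw [← gpt_gidx j, h])
    obtain ⟨c1, c2, c3, c4⟩ := fourVec_check i (gidx j) hi hk
    rw [gpt_gidx] at c1 c2 c3 c4
    have h4 : ∀ p, (4 : ℤ) ∣ fourVec (gpt i) j s p := fun p => by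
      unfold fourVec; split_ifs <;> simp
    have hsum : fourVec (gpt i) j s pA + fourVec (gpt i) j s pB = -4 := by
      rcases ha with e | e <;> rw [e] <;> simp [fourVec, Ne.symm j1, Ne.symm j2, show pA ≠ pB by decide,
        show pB ≠ pA by decide]
    rcases hs with rfl | rfl
    · exact ⟨⟨_, mem_leech_of_inLeech c1⟩, ⟨mem_shell.2 ⟨mem_leech_of_inLeech c1, c3⟩, hsum⟩, rfl, h4⟩
    · exact ⟨⟨_, mem_leech_of_inLeech c2⟩, ⟨mem_shell.2 ⟨mem_leech_of_inLeech c2, c4⟩, hsum⟩, rfl, h4⟩
  have hdich : ∀ w w' : leechLattice, w ∈ sixteenSet → w' ∈ sixteenSet → (∀ p, (4 : ℤ) ∣ w.1 p) →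
      (∀ p, (4 : ℤ) ∣ w'.1 p) → n • w = w → n • w' = w' := by
    intro w w' hw hw' h4 h4' hfix
    refine (hpair w' hw').resolve_right fun hs => ?_
    have h1 := co0_dot n w w'
    rw [hfix, hs, AddSubgroup.coe_sub, AddSubgroup.coe_neg, sub_eq_add_neg, dotInt_add_right, dotInt_neg_right,
      dotInt_neg_right, show ((pairL : leechLattice) : GolayPt → ℤ) = pairBase from rfl, dotInt_comm w.1 pairBase,
      dot_pairBase, hw.2] at h1
    have := dot_fours _ _ h4 h4'
    omega
  have hcomb : ∀ (j : GolayPt) (wp wm : leechLattice), (wp : GolayPt → ℤ) = fourVec pA j 1 →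
      (wm : GolayPt → ℤ) = fourVec pA j (-1) → j ≠ pA → wp - wm = e8 j ∧ -(wp + wm) = e8 pA := by
    intro j wp wm h1 h2 hj
    constructor <;> refine Subtype.ext (funext fun p => ?_)
    · simp only [AddSubgroup.coe_sub, Pi.sub_apply, h1, h2, fourVec, e8, Pi.single_apply]
      split_ifs <;> simp_all
    · simp only [AddSubgroup.coe_neg, AddSubgroup.coe_add, Pi.neg_apply, Pi.add_apply, h1, h2, fourVec, e8,
        Pi.single_apply]
      split_ifs <;> simp_all
  have hcombB : ∀ (j : GolayPt) (wp wm : leechLattice), (wp : GolayPt → ℤ) = fourVec pB j 1 →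
      (wm : GolayPt → ℤ) = fourVec pB j (-1) → j ≠ pB → -(wp + wm) = e8 pB := by
    intro j wp wm h1 h2 hj
    refine Subtype.ext (funext fun p => ?_)
    simp only [AddSubgroup.coe_neg, AddSubgroup.coe_add, Pi.neg_apply, Pi.add_apply, h1, h2, fourVec, e8,
      Pi.single_apply]
    split_ifs <;> simp_all
  obtain ⟨w1, hw1, -, hw14⟩ := hAB pA (Or.inl rfl) pC (by decide) (by decide) 1 (Or.inl rfl)
  rcases hpair w1 hw1 with hfix | hswap
  · have hall : ∀ a : GolayPt, a = pA ∨ a = pB → ∀ j, j ≠ pA → j ≠ pB → ∀ s : ℤ, s = 1 ∨ s = -1 →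
        ∀ w : leechLattice, (w : GolayPt → ℤ) = fourVec a j s → co0Hom n w = w := by
      intro a ha j j1 j2 s hs w hw
      obtain ⟨w', hw', e, h4⟩ := hAB a ha j j1 j2 s hs
      rw [show w = w' from Subtype.ext (hw.trans e.symm)]
      exact hdich w1 w' hw1 hw' hw14 h4 hfix
    have he : ∀ i, co0Hom n (e8 i) = e8 i := by
      intro i
      by_cases hiA : i = pA
      · subst hiA
        obtain ⟨wp, -, ep, -⟩ := hAB pA (Or.inl rfl) pC (by decide) (by decide) 1 (Or.inl rfl)
        obtain ⟨wm, -, em, -⟩ := hAB pA (Or.inl rfl) pC (by decide) (by decide) (-1) (Or.inr rfl)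
        rw [← (hcomb pC wp wm ep em (by decide)).2, map_neg, map_add,
          hall pA (Or.inl rfl) pC (by decide) (by decide) 1 (Or.inl rfl) wp ep,
          hall pA (Or.inl rfl) pC (by decide) (by decide) (-1) (Or.inr rfl) wm em]
      by_cases hiB : i = pB
      · subst hiB
        obtain ⟨wp, -, ep, -⟩ := hAB pB (Or.inr rfl) pC (by decide) (by decide) 1 (Or.inl rfl)
        obtain ⟨wm, -, em, -⟩ := hAB pB (Or.inr rfl) pC (by decide) (by decide) (-1) (Or.inr rfl)
        rw [← hcombB pC wp wm ep em (by decide), map_neg, map_add,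
          hall pB (Or.inr rfl) pC (by decide) (by decide) 1 (Or.inl rfl) wp ep,
          hall pB (Or.inr rfl) pC (by decide) (by decide) (-1) (Or.inr rfl) wm em]
      obtain ⟨wp, -, ep, -⟩ := hAB pA (Or.inl rfl) i hiA hiB 1 (Or.inl rfl)
      obtain ⟨wm, -, em, -⟩ := hAB pA (Or.inl rfl) i hiA hiB (-1) (Or.inr rfl)
      rw [← (hcomb i wp wm ep em hiA).1, map_sub,
        hall pA (Or.inl rfl) i hiA hiB 1 (Or.inl rfl) wp ep,
        hall pA (Or.inl rfl) i hiA hiB (-1) (Or.inr rfl) wm em]
    exact Subtype.ext (Equiv.ext fun v => Subtype.ext (co0_eq_of_e8 (f := id) (fun _ _ => rfl)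
      (fun i => congrArg Subtype.val (he i)) v))
  · exfalso
    have hall : ∀ a : GolayPt, a = pA ∨ a = pB → ∀ j, j ≠ pA → j ≠ pB → ∀ s : ℤ, s = 1 ∨ s = -1 →
        ∀ w : leechLattice, (w : GolayPt → ℤ) = fourVec a j s → co0Hom n w = -pairL - w := by
      intro a ha j j1 j2 s hs w hw
      obtain ⟨w', hw', e, h4⟩ := hAB a ha j j1 j2 s hs
      rw [show w = w' from Subtype.ext (hw.trans e.symm)]
      refine (hpair w' hw').resolve_left fun hf => ?_
      have := hdich w' w1 hw' hw1 h4 hw14 hf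
      rw [hswap] at this
      have h2 := congrFun (congrArg Subtype.val this) pB
      rw [AddSubgroup.coe_sub, AddSubgroup.coe_neg] at h2
      simp only [Pi.sub_apply, Pi.neg_apply, show ((pairL : leechLattice) : GolayPt → ℤ) = pairBase from rfl,
        pairBase_check.2.2.2.2.2.2.2.2.2.2.2] at h2
      have := hw14 pB
      omega
    have he : ∀ i, ((co0Hom n (e8 i) : leechLattice) : GolayPt → ℤ) = swapNeg (Pi.single i 8) := by
      intro i
      obtain ⟨-, -, -, -, -, -, -, -, -, hz, ha, hb⟩ := pairBase_check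
      by_cases hiA : i = pA
      · subst hiA
        obtain ⟨wp, -, ep, -⟩ := hAB pA (Or.inl rfl) pC (by decide) (by decide) 1 (Or.inl rfl)
        obtain ⟨wm, -, em, -⟩ := hAB pA (Or.inl rfl) pC (by decide) (by decide) (-1) (Or.inr rfl)
        rw [← (hcomb pC wp wm ep em (by decide)).2, map_neg, map_add,
          hall pA (Or.inl rfl) pC (by decide) (by decide) 1 (Or.inl rfl) wp ep,
          hall pA (Or.inl rfl) pC (by decide) (by decide) (-1) (Or.inr rfl) wm em]
        funext p
        simp only [AddSubgroup.coe_neg, AddSubgroup.coe_add, AddSubgroup.coe_sub, Pi.neg_apply, Pi.add_apply,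
          Pi.sub_apply, ep, em, show ((pairL : leechLattice) : GolayPt → ℤ) = pairBase from rfl]
        revert p
        decide +kernel
      by_cases hiB : i = pB
      · subst hiB
        obtain ⟨wp, -, ep, -⟩ := hAB pB (Or.inr rfl) pC (by decide) (by decide) 1 (Or.inl rfl)
        obtain ⟨wm, -, em, -⟩ := hAB pB (Or.inr rfl) pC (by decide) (by decide) (-1) (Or.inr rfl)
        rw [← hcombB pC wp wm ep em (by decide), map_neg, map_add,
          hall pB (Or.inr rfl) pC (by decide) (by decide) 1 (Or.inl rfl) wp ep,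
          hall pB (Or.inr rfl) pC (by decide) (by decide) (-1) (Or.inr rfl) wm em]
        funext p
        simp only [AddSubgroup.coe_neg, AddSubgroup.coe_add, AddSubgroup.coe_sub, Pi.neg_apply, Pi.add_apply,
          Pi.sub_apply, ep, em, show ((pairL : leechLattice) : GolayPt → ℤ) = pairBase from rfl]
        revert p
        decide +kernel
      obtain ⟨wp, -, ep, -⟩ := hAB pA (Or.inl rfl) i hiA hiB 1 (Or.inl rfl)
      obtain ⟨wm, -, em, -⟩ := hAB pA (Or.inl rfl) i hiA hiB (-1) (Or.inr rfl)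
      rw [← (hcomb i wp wm ep em hiA).1, map_sub,
        hall pA (Or.inl rfl) i hiA hiB 1 (Or.inl rfl) wp ep,
        hall pA (Or.inl rfl) i hiA hiB (-1) (Or.inr rfl) wm em]
      funext p
      simp only [AddSubgroup.coe_sub, AddSubgroup.coe_neg, Pi.sub_apply, Pi.neg_apply, ep, em,
        show ((pairL : leechLattice) : GolayPt → ℤ) = pairBase from rfl, swapNeg, fourVec, Pi.single_apply,
        if_neg (Ne.symm hiA), if_neg (Ne.symm hiB)]
      by_cases h1 : p = pA
      · simp [h1, Ne.symm hiA]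
      by_cases h2 : p = pB
      · simp [h2, show pB ≠ pA by decide, Ne.symm hiB]
      by_cases h3 : p = i
      · simp [h3, hiA, hiB]; ring
      simp [h1, h2, h3]
    have hx : repEight ∈ leechLattice := mem_leech_of_inLeech swapNeg_bad.2
    have h := co0_eq_of_e8 (g := n) (f := swapNeg) (fun x y => funext fun p => by
      simp only [swapNeg, Pi.add_apply]; split_ifs <;> ring) he ⟨repEight, hx⟩
    exact swapNeg_not_mem (h ▸ Subtype.coe_prop _)

/-- The vector stabiliser has no nontrivial normal 2-subgroup. -/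
theorem stabilizer_pairL_core (N : Subgroup Co0) (hle : N ≤ MulAction.stabilizer Co0 pairL)
    (hnorm : ∀ g ∈ MulAction.stabilizer Co0 pairL, ∀ n ∈ N, g * n * g⁻¹ ∈ N) (h2 : IsPGroup 2 N) : N = ⊥ := by
  classical
  haveI : Finite Co0 := Nat.finite_of_card_ne_zero (by rw [card_Co0]; norm_num)
  haveI hN' : (N.subgroupOf (MulAction.stabilizer Co0 pairL)).Normal := ⟨fun n hn g => hnorm g g.2 n hn⟩
  set w0 : leechLattice := -triL
  have hsucc : ∀ w ∈ sixteenSet, ∃ g ∈ MulAction.stabilizer Co0 pairL, g • w0 = w := by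
    intro w hw
    obtain ⟨hx, g, hg, e⟩ := (pairFix_sixteen neg_triL_mem.1 neg_triL_mem.2).trans
      (pairFix_sixteen hw.1 hw.2).symm
    exact ⟨g, hg, Subtype.ext e⟩
  have hstable : ∀ g ∈ MulAction.stabilizer Co0 pairL, ∀ w ∈ sixteenSet, g • w ∈ sixteenSet := by
    intro g hg w hw
    exact ⟨mem_shell.2 ⟨(g • w).2, (co0_sqNorm g w).trans (mem_shell.1 hw.1).2⟩,
      (PairFix.sum_eq ⟨w.2, g, hg, rfl⟩).trans hw.2⟩
  have horb : MulAction.orbit (MulAction.stabilizer Co0 pairL) w0 = sixteenSet := by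
    ext w
    constructor
    · rintro ⟨⟨g, hg⟩, rfl⟩; exact hstable g hg w0 neg_triL_mem
    · intro hw
      obtain ⟨g, hg, e⟩ := hsucc w hw
      exact ⟨⟨g, hg⟩, e⟩
  have h8 : (MulAction.orbit (N.subgroupOf (MulAction.stabilizer Co0 pairL)) w0).ncard ≤ 8 :=
    orbit_le_eight _ w0 (h2.comap_of_injective (MulAction.stabilizer Co0 pairL).subtype Subtype.val_injective)
      (by rw [horb, ncard_sixteenSet])
  have horbN : MulAction.orbit (N.subgroupOf (MulAction.stabilizer Co0 pairL)) w0 = {w | ∃ n ∈ N, n • w0 = w} := by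
    ext w
    constructor
    · rintro ⟨⟨⟨n, hn'⟩, hn⟩, rfl⟩; exact ⟨n, hn, rfl⟩
    · rintro ⟨n, hn, rfl⟩; exact ⟨⟨⟨n, hle hn⟩, hn⟩, rfl⟩
  rw [horbN] at h8
  have hbase : ∀ n ∈ N, n • w0 = w0 ∨ n • w0 = -pairL - w0 := by
    intro n hn
    obtain ⟨h32, hsum⟩ := hstable n (hle hn) w0 neg_triL_mem
    rcases big_sixteen h32 hsum with e | e | ⟨T, hT, hTfix⟩
    · exact Or.inl (Subtype.ext (e.trans (by rfl)))
    · refine Or.inr (Subtype.ext (e.trans (funext fun p => ?_)))
      show -pairBase p + triBase p = -pairBase p - -triBase p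
      ring
    · exfalso
      have hsub : (↑T : Set (GolayPt → ℤ)) ⊆ Subtype.val '' {w | ∃ n ∈ N, n • w0 = w} := by
        intro y hy
        obtain ⟨hx, g, g1, g2, rfl⟩ := hTfix y hy
        have gw : g • w0 = w0 := (map_neg (co0Hom g) triL).trans (congrArg Neg.neg g2)
        refine ⟨_, ⟨g * n * g⁻¹, hnorm g g1 n hn, ?_⟩, rfl⟩
        rw [mul_smul, mul_smul, show g⁻¹ • w0 = w0 from inv_smul_eq_iff.2 gw.symm]
      have hfin : {w | ∃ n ∈ N, n • w0 = w}.Finite :=
        horbN ▸ Set.finite_range _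
      have hle' := Set.ncard_le_ncard hsub (hfin.image _)
      rw [Set.ncard_coe_finset, Set.ncard_image_of_injective _ Subtype.val_injective] at hle'
      omega
  have hpair : ∀ n ∈ N, ∀ w ∈ sixteenSet, n • w = w ∨ n • w = -pairL - w := by
    intro n hn w hw
    obtain ⟨g, hg, rfl⟩ := hsucc w hw
    have hm := hnorm g⁻¹ (inv_mem hg) n hn
    rw [inv_inv] at hm
    rcases hbase _ hm with e | e <;> rw [mul_smul, mul_smul, inv_smul_eq_iff] at e
    · exact Or.inl e
    · refine Or.inr (e.trans ?_)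
      show co0Hom g (-pairL - w0) = -pairL - co0Hom g w0
      rw [map_sub, map_neg, show co0Hom g pairL = pairL from hg]
  rw [Subgroup.eq_bot_iff_forall]
  exact fun n hn => eq_one_of_pairs (hle hn) (hpair n hn)

/-- The same for any norm-32 vector. -/
theorem stabilizer_core {v : leechLattice} (hv : sqNorm (v : GolayPt → ℤ) = 32) (N : Subgroup Co0)
    (hle : N ≤ MulAction.stabilizer Co0 v)
    (hnorm : ∀ g ∈ MulAction.stabilizer Co0 v, ∀ n ∈ N, g * n * g⁻¹ ∈ N) (h2 : IsPGroup 2 N) : N = ⊥ := by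
  obtain ⟨h, hh⟩ := exists_smul_eq_of_moves (moves32 v.2 hv) (moves32 pairL.2 pairBase_check.2.1)
  have hback : h⁻¹ • pairL = v := by rw [← hh, inv_smul_smul]
  have key := stabilizer_pairL_core (N.map (MulAut.conj h).toMonoidHom) ?_ ?_ (h2.map _)
  · rwa [Subgroup.map_eq_bot_iff_of_injective _ (MulAut.conj h).injective] at key
  · rintro _ ⟨n, hn, rfl⟩
    show (h * n * h⁻¹) • pairL = pairL
    rw [mul_smul, mul_smul, hback, show n • v = v from hle hn, hh]
  · rintro g hg _ ⟨n, hn, rfl⟩
    refine ⟨h⁻¹ * g * h * n * (h⁻¹ * g * h)⁻¹, hnorm _ ?_ n hn, ?_⟩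
    · show (h⁻¹ * g * h) • v = v
      rw [mul_smul, mul_smul, hh, show g • pairL = pairL from hg, hback]
    · show h * _ * h⁻¹ = g * (h * n * h⁻¹) * g⁻¹
      group

end Cfsg.Lib.Concrete
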