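import Cfsg.Agent.S5411
import Cfsg.Agent.Lib.Concrete.LeechStabCore
import Cfsg.Agent.Lib.PGroup.Basic
import Mathlib.GroupTheory.FiniteAbelian.Duality

/-!
In a group with the Monster's involution centralizer, a conjugate of the central involution inside the
extraspecial subgroup belongs to a norm-64 class of the lattice.
-/

set_option autoImplicit false

namespace Cfsg.Lib.Concrete

open Cfsg

section Pairing

variable {Q : Type*} [Group Q] (hZ : Nat.card (Subgroup.center Q) = 2)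
  (hab : ∀ x y : Q ⧸ Subgroup.center Q, x * y = y * x)

include hab in
theorem comm_mem_center (x y : Q) : x * y * x⁻¹ * y⁻¹ ∈ Subgroup.center Q := by
  rw [← QuotientGroup.eq_one_iff, QuotientGroup.mk_mul, QuotientGroup.mk_mul, QuotientGroup.mk_mul,
    QuotientGroup.mk_inv, QuotientGroup.mk_inv, hab (x : Q ⧸ Subgroup.center Q) y]
  group

include hZ in
theorem center_eq_of_ne_one {c d : Q} (hc : c ∈ Subgroup.center Q) (hd : d ∈ Subgroup.center Q)
    (h1 : c ≠ 1) (h2 : d ≠ 1) : c = d := by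
  obtain ⟨y, -, hy⟩ := (Nat.card_eq_two_iff' (1 : Subgroup.center Q)).1 hZ
  exact congrArg Subtype.val ((hy ⟨c, hc⟩ fun e => h1 (congrArg Subtype.val e)).trans
    (hy ⟨d, hd⟩ fun e => h2 (congrArg Subtype.val e)).symm)

include hZ in
theorem center_mul_self {c : Q} (hc : c ∈ Subgroup.center Q) : c * c = 1 :=
  Cfsg.Agent.S5408.center_sq hZ hc

/-- The pairing with a fixed element. -/
noncomputable def pairChar (hZ : Nat.card (Subgroup.center Q) = 2)
    (hab : ∀ x y : Q ⧸ Subgroup.center Q, x * y = y * x) (a : Q) : Q →* ℤˣ :=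
  MonoidHom.mk' (fun q => open scoped Classical in if q * a = a * q then 1 else -1) fun q r => by
    classical
    have hq := comm_mem_center hab q a
    have hr := comm_mem_center hab r a
    have key : q * r * a * (q * r)⁻¹ * a⁻¹ = (r * a * r⁻¹ * a⁻¹) * (q * a * q⁻¹ * a⁻¹) := by
      have h1 := Subgroup.mem_center_iff.1 hr q
      calc q * r * a * (q * r)⁻¹ * a⁻¹ = q * (r * a * r⁻¹ * a⁻¹) * a * q⁻¹ * a⁻¹ := by group
        _ = (r * a * r⁻¹ * a⁻¹) * q * a * q⁻¹ * a⁻¹ := by rw [h1]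
        _ = _ := by group
    have e : ∀ p : Q, p * a = a * p ↔ p * a * p⁻¹ * a⁻¹ = 1 := fun p =>
      commutatorElement_eq_one_iff_mul_comm.symm
    simp only [e, key]
    by_cases h1 : q * a * q⁻¹ * a⁻¹ = 1 <;> by_cases h2 : r * a * r⁻¹ * a⁻¹ = 1
    · simp [h1, h2]
    · simp [h1, h2]
    · simp [h1, h2]
    · have h3 : (r * a * r⁻¹ * a⁻¹) * (q * a * q⁻¹ * a⁻¹) = 1 := by
        rw [center_eq_of_ne_one hZ hr hq h2 h1, center_mul_self hZ hq]
      simp [h1, h2, h3]

theorem pairChar_apply (a q : Q) : pairChar hZ hab a q = 1 ↔ q * a = a * q := by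
  classical
  show (if q * a = a * q then (1 : ℤˣ) else -1) = 1 ↔ _
  by_cases h : q * a = a * q <;> simp [h]

theorem two_mul_card_ker [Finite Q] (a : Q) : Nat.card Q ≤ 2 * Nat.card (pairChar hZ hab a).ker := by
  have h1 := Subgroup.card_mul_index (pairChar hZ hab a).ker
  rw [Subgroup.index_ker] at h1
  have h2 : Nat.card (pairChar hZ hab a).range ≤ 2 := by
    refine (Nat.card_le_card_of_injective _ Subtype.val_injective).trans ?_
    rw [Nat.card_eq_fintype_card, Fintype.card_units_int]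
  calc Nat.card Q = Nat.card (pairChar hZ hab a).ker * Nat.card (pairChar hZ hab a).range := h1.symm
    _ ≤ Nat.card (pairChar hZ hab a).ker * 2 := Nat.mul_le_mul_left _ h2
    _ = _ := mul_comm _ _

include hZ hab in
/-- An abelian subgroup is small. -/
theorem card_abelian_sq_le [Finite Q] (A : Subgroup Q) (hA : ∀ x ∈ A, ∀ y ∈ A, x * y = y * x) :
    Nat.card A * Nat.card A ≤ 2 * Nat.card Q := by
  classical
  set A' := A ⊔ Subgroup.center Q with hA'
  have hAc : A ≤ Subgroup.centralizer (A' : Set Q) := by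
    rw [Subgroup.le_centralizer_iff, hA']
    exact sup_le (fun x hx => Subgroup.mem_centralizer_iff.2 fun y hy => hA y hy x hx)
      (Subgroup.center_le_centralizer _)
  have hcomm : A' ≤ Subgroup.centralizer (A' : Set Q) := sup_le hAc (Subgroup.center_le_centralizer _)
  haveI : A'.Normal := ⟨fun x hx g => by
    have := A'.mul_mem (show g * x * g⁻¹ * x⁻¹ ∈ A' from le_sup_right (a := A) (comm_mem_center hab g x)) hx
    rwa [inv_mul_cancel_right] at this⟩
  letI : CommGroup (Q ⧸ A') := { (inferInstance : Group (Q ⧸ A')) with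
    mul_comm := fun x y => by
      obtain ⟨x, rfl⟩ := QuotientGroup.mk_surjective x
      obtain ⟨y, rfl⟩ := QuotientGroup.mk_surjective y
      have h := comm_mem_center hab x y
      rw [← QuotientGroup.mk_mul, ← QuotientGroup.mk_mul]
      refine ((QuotientGroup.eq_iff_div_mem).2 ?_)
      rw [div_eq_mul_inv, mul_inv_rev, ← mul_assoc]
      exact le_sup_right (a := A) h }
  let sgn : ℤˣ →* ℂˣ := Units.map (Int.castRingHom ℂ).toMonoidHom
  have hsgn : Function.Injective sgn := Units.map_injective (Int.cast_injective)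
  have hker : ∀ a : A', A' ≤ (sgn.comp (pairChar hZ hab (a : Q))).ker := fun a q hq => by
    rw [MonoidHom.mem_ker, MonoidHom.comp_apply, (pairChar_apply hZ hab _ q).2
      (Subgroup.mem_centralizer_iff.1 (hcomm a.2) q hq), map_one]
  let Φ : A' → (Q ⧸ A' →* ℂˣ) := fun a => QuotientGroup.lift A' _ (hker a)
  have hΦ : ∀ a b : A', Φ a = Φ b → (a : Q)⁻¹ * b ∈ Subgroup.center Q := fun a b e => by
    rw [Subgroup.mem_center_iff]
    intro q
    have h : pairChar hZ hab (a : Q) q = pairChar hZ hab (b : Q) q :=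
      hsgn (DFunLike.congr_fun e (QuotientGroup.mk q))
    have e1 : ∀ p : Q, q * p = p * q ↔ q * p * q⁻¹ * p⁻¹ = 1 := fun p => commutatorElement_eq_one_iff_mul_comm.symm
    have hca := comm_mem_center hab q (a : Q)
    have hcb := comm_mem_center hab q (b : Q)
    have hcc : q * (a : Q) * q⁻¹ * (a : Q)⁻¹ = q * (b : Q) * q⁻¹ * (b : Q)⁻¹ := by
      by_cases h1 : pairChar hZ hab (a : Q) q = 1
      · rw [(e1 _).1 ((pairChar_apply hZ hab _ q).1 h1), (e1 _).1 ((pairChar_apply hZ hab _ q).1 (h ▸ h1))]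
      · exact center_eq_of_ne_one hZ hca hcb
          (fun r => h1 ((pairChar_apply hZ hab _ q).2 ((e1 _).2 r)))
          fun r => h1 (h.trans ((pairChar_apply hZ hab _ q).2 ((e1 _).2 r)))
    set c := q * (a : Q) * q⁻¹ * (a : Q)⁻¹
    have ea : q * (a : Q) * q⁻¹ = c * a := by simp only [c]; group
    have eb : q * (b : Q) * q⁻¹ = c * b := by rw [hcc]; group
    calc q * ((a : Q)⁻¹ * b) = (q * a * q⁻¹)⁻¹ * (q * b * q⁻¹) * q := by group
      _ = (a : Q)⁻¹ * b * q := by rw [ea, eb]; group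
  have hcount : Nat.card A' ≤ Nat.card (Q ⧸ A') * 2 := by
    haveI : Finite (Q ⧸ A' →* ℂˣ) := Nat.finite_of_card_ne_zero (by
      rw [CommGroup.card_monoidHom_of_hasEnoughRootsOfUnity]; exact Nat.card_pos.ne')
    let rep : (Q ⧸ A' →* ℂˣ) → A' := Function.invFun Φ
    have hinj : Function.Injective fun a : A' => ((Φ a,
        ⟨((rep (Φ a) : A') : Q)⁻¹ * a, hΦ _ _ (Function.invFun_eq ⟨a, rfl⟩)⟩) :
          (Q ⧸ A' →* ℂˣ) × Subgroup.center Q) := by
      intro a b e
      obtain ⟨e1, e2⟩ := Prod.ext_iff.1 e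
      simp only at e1 e2
      have e2' := congrArg Subtype.val e2
      simp only [e1] at e2'
      exact Subtype.ext (mul_left_cancel e2')
    have := Nat.card_le_card_of_injective _ hinj
    rwa [Nat.card_prod, CommGroup.card_monoidHom_of_hasEnoughRootsOfUnity, hZ] at this
  have h1 := Subgroup.card_eq_card_quotient_mul_card_subgroup A'
  have h2 : Nat.card A ≤ Nat.card A' := Subgroup.card_le_of_le le_sup_left
  calc Nat.card A * Nat.card A ≤ Nat.card A' * Nat.card A' := Nat.mul_le_mul h2 h2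
    _ ≤ Nat.card (Q ⧸ A') * 2 * Nat.card A' := Nat.mul_le_mul_right _ hcount
    _ = 2 * Nat.card Q := by rw [h1]; ring

end Pairing

theorem card_Co1_eq : Nat.card Spor.Co1 = 2 ^ 21 * 1982582476875 := by
  have h := Subgroup.card_eq_card_quotient_mul_card_subgroup (Subgroup.center Co0)
  rw [card_Co0, card_center_Co0] at h
  exact Nat.eq_of_mul_eq_mul_right two_pos
    (h.symm.trans (show (8315553613086720000 : ℕ) = 2 ^ 21 * 1982582476875 * 2 by norm_num))

theorem card_stabilizer_short {v : leechLattice} (hv : sqNorm (v : GolayPt → ℤ) = 32) :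
    2 ^ 18 ∣ Nat.card (MulAction.stabilizer Co0 v) := by
  have horb : MulAction.orbit Co0 v = {x : leechLattice | sqNorm (x : GolayPt → ℤ) = 32} := by
    ext x
    constructor
    · rintro ⟨g, rfl⟩; exact (co0_sqNorm g v).trans hv
    · intro hx
      obtain ⟨g, hg⟩ := exists_smul_eq_of_moves (moves32 v.2 hv) (moves32 x.2 hx)
      exact ⟨g, hg⟩
  have h1 := Subgroup.card_mul_index (MulAction.stabilizer Co0 v)
  have hc : {x : leechLattice | sqNorm (x : GolayPt → ℤ) = 32}.ncard = 196560 := by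
    have := (ncard_subtype_norm 32).trans (ncard_leech_norm 32 5 (by norm_num) (by norm_num))
    rw [leech_count32] at this
    exact_mod_cast this
  rw [MulAction.index_stabilizer, horb, hc, card_Co0] at h1
  have h2 : Nat.card (MulAction.stabilizer Co0 v) = 2 ^ 18 * 161382375 :=
    Nat.eq_of_mul_eq_mul_right (show 0 < 196560 by norm_num) (h1.trans (by norm_num))
  exact ⟨_, h2⟩

/-- A conjugate of `z` in `Q` other than `z` has no representative of norm 32. -/
theorem not_short_conjugate {G : Type*} [Group G] [Finite G] {z : G}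
    {Q : Subgroup (Subgroup.centralizer ({z} : Set G))} [Q.Normal]
    {e : (Subgroup.centralizer ({z} : Set G)) ⧸ Q ≃* Spor.Co1} {ψ : leechLattice → Q ⧸ Subgroup.center Q}
    (hψ : IsLeechModTwoIso Q e ψ) (hzQ : ∀ hzC : z ∈ Subgroup.centralizer ({z} : Set G), (⟨z, hzC⟩ : Subgroup.centralizer ({z} : Set G)) ∈ Q)
    (hz : orderOf z = 2) (hZ : Nat.card (Subgroup.center Q) = 2) (hcard : Nat.card Q = 2 ^ 25)
    {gz : G} (s' : Q) (hs : ((s' : Subgroup.centralizer ({z} : Set G)) : G) = gz * z * gz⁻¹)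
    (hne : gz * z * gz⁻¹ ≠ z) {v : leechLattice} (hv : ψ v = QuotientGroup.mk s')
    (hn : sqNorm (v : GolayPt → ℤ) = 32) : False := by
  classical
  obtain ⟨hadd, hsurj, hker, hconj⟩ := hψ
  have hab : ∀ x y : Q ⧸ Subgroup.center Q, x * y = y * x := by
    intro x y
    obtain ⟨a, rfl⟩ := hsurj x
    obtain ⟨b, rfl⟩ := hsurj y
    rw [← hadd, ← hadd, add_comm]
  have hzC : z ∈ (Subgroup.centralizer ({z} : Set G)) := Subgroup.mem_centralizer_iff.2 fun x (hx : x = z) => by rw [hx]
  set zQ : Q := ⟨⟨z, hzC⟩, hzQ hzC⟩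
  have hz1 : z ≠ 1 := fun h => by rw [h, orderOf_one] at hz; omega
  have hzc : zQ ∈ Subgroup.center Q := Subgroup.mem_center_iff.2 fun y => Subtype.ext (Subtype.ext
    (Subgroup.mem_centralizer_iff.1 (y : (Subgroup.centralizer ({z} : Set G))).2 z rfl).symm)
  have hzQ1 : zQ ≠ 1 := fun h => hz1 (congrArg (fun a : Q => ((a : (Subgroup.centralizer ({z} : Set G))) : G)) h)
  have hcen : ∀ q ∈ Subgroup.center Q, q = 1 ∨ q = zQ := fun q hq =>
    (em (q = 1)).imp_right fun h => center_eq_of_ne_one hZ hq hzc h hzQ1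
  set s := gz * z * gz⁻¹ with hsdef
  have hs1 : s ≠ 1 := fun h => hz1 (conj_eq_one_iff.1 h)
  have hs'c : s' ∉ Subgroup.center Q := fun h => by
    rcases hcen _ h with e | e
    · exact hs1 (by rw [← hs, e]; rfl)
    · exact hne (by rw [← hs, e])
  let f : (Subgroup.centralizer ({z} : Set G)) →* Spor.Co1 := e.toMonoidHom.comp (QuotientGroup.mk' Q)
  have hf1 : ∀ h : (Subgroup.centralizer ({z} : Set G)), f h = 1 ↔ h ∈ Q := fun h => by
    show e (QuotientGroup.mk h) = 1 ↔ _
    rw [MulEquiv.map_eq_one_iff, QuotientGroup.eq_one_iff]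
  set Hc : Subgroup (Subgroup.centralizer ({z} : Set G)) := (Subgroup.centralizer ({s} : Set G)).subgroupOf (Subgroup.centralizer ({z} : Set G))
  have memHc : ∀ h : (Subgroup.centralizer ({z} : Set G)), h ∈ Hc ↔ (h : G) * s = s * (h : G) := fun h => by
    rw [Subgroup.mem_subgroupOf, Subgroup.mem_centralizer_singleton_iff]
  -- the image of `Hc`
  have hdown : ∀ h ∈ Hc, ∃ g : Co0, g • v = v ∧ f h = (QuotientGroup.mk g : Spor.Co1) := by
    intro h hh
    obtain ⟨g, hg⟩ := QuotientGroup.mk_surjective (f h)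
    have hfix : MulAut.conjNormal h s' = s' := Subtype.ext (Subtype.ext (by
      show (h : G) * ((s' : (Subgroup.centralizer ({z} : Set G))) : G) * (h : G)⁻¹ = ((s' : (Subgroup.centralizer ({z} : Set G))) : G)
      rw [hs, (memHc h).1 hh, mul_inv_cancel_right]))
    have h1 : ψ (g • v) = ψ v := by
      rw [hconj h g hg v s' hv, hv]
      exact congrArg QuotientGroup.mk hfix
    obtain ⟨w, hw⟩ := (hker (g • v - v)).1 (by
      have := hadd (g • v - v) v
      rw [sub_add_cancel, h1] at this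
      exact right_eq_mul.mp this)
    rcases close_pair v.2 (g • v).2 (hn.le.trans (by norm_num)) (((co0_sqNorm g v).trans hn).le.trans (by norm_num))
      ⟨_, w.2, by rw [← AddSubgroup.coe_sub, hw, AddSubgroup.coe_add, two_nsmul]⟩ with r | r | ⟨r, -⟩
    · exact ⟨g, Subtype.ext r, hg.symm⟩
    · let neg : Co0 := ⟨Equiv.neg leechLattice, fun a b => neg_add a b, fun a => by
        show sqNorm (-(a : GolayPt → ℤ)) = _; simp [sqNorm]⟩
      have hnc : neg ∈ Subgroup.center Co0 := Subgroup.mem_center_iff.2 fun k => Subtype.ext (Equiv.ext fun a => by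
        show (k : Equiv.Perm leechLattice) (-a) = -((k : Equiv.Perm leechLattice) a)
        exact map_neg (co0Hom k) a)
      refine ⟨neg * g, ?_, ?_⟩
      · rw [mul_smul]
        show -(g • v) = v
        rw [show g • v = -v from Subtype.ext r, neg_neg]
      · rw [← hg, QuotientGroup.eq]
        rwa [Subgroup.mem_center_iff.1 hnc g |>.symm, inv_mul_cancel_left]
    · omega
  have hup : ∀ g : Co0, g • v = v → ∃ h ∈ Hc, f h = (QuotientGroup.mk g : Spor.Co1) := by
    intro g hg
    obtain ⟨h0, hh0⟩ := QuotientGroup.mk_surjective (e.symm (QuotientGroup.mk g))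
    have hfh : f h0 = (QuotientGroup.mk g : Spor.Co1) := by
      show e (QuotientGroup.mk h0) = _
      rw [hh0, MulEquiv.apply_symm_apply]
    have h1 := hconj h0 g hfh.symm v s' hv
    rw [hg, hv, QuotientGroup.eq] at h1
    have hm : ∀ (h : (Subgroup.centralizer ({z} : Set G))), (MulAut.conjNormal h s' : Q) = s' → h ∈ Hc := fun h hfix => (memHc h).2 (by
      have h2 : (h : G) * ((s' : (Subgroup.centralizer ({z} : Set G))) : G) * (h : G)⁻¹ = ((s' : (Subgroup.centralizer ({z} : Set G))) : G) :=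
        congrArg (fun q : Q => ((q : (Subgroup.centralizer ({z} : Set G))) : G)) hfix
      rw [hs] at h2
      exact mul_inv_eq_iff_eq_mul.1 h2)
    rcases hcen _ h1 with r | r
    · exact ⟨h0, hm h0 (inv_mul_eq_one.1 r).symm, hfh⟩
    · obtain ⟨y, hy⟩ : ∃ y : Q, y * s' ≠ s' * y := by
        by_contra hall
        push Not at hall
        exact hs'c (Subgroup.mem_center_iff.2 hall)
      refine ⟨(y : (Subgroup.centralizer ({z} : Set G))) * h0, hm _ ?_, ?_⟩
      · have r' : (MulAut.conjNormal h0 s' : Q) = s' * zQ := by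
          rw [← r]; exact (mul_inv_cancel_left _ _).symm
        have hyz : y * s' * y⁻¹ * s'⁻¹ = zQ :=
          (hcen _ (comm_mem_center hab y s')).resolve_left fun e1 => hy (commutatorElement_eq_one_iff_mul_comm.1 e1)
        have hmul : MulAut.conjNormal ((y : (Subgroup.centralizer ({z} : Set G))) * h0) s' = y * (MulAut.conjNormal h0 s') * y⁻¹ := by
          apply Subtype.ext
          simp [mul_assoc]
        rw [hmul, r']
        calc y * (s' * zQ) * y⁻¹ = y * s' * (zQ * y⁻¹) := by group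
          _ = y * s' * (y⁻¹ * zQ) := by rw [Subgroup.mem_center_iff.1 hzc y⁻¹]
          _ = (y * s' * y⁻¹ * s'⁻¹) * (s' * zQ) := by group
          _ = zQ * (zQ * s') := by rw [hyz, Subgroup.mem_center_iff.1 hzc s']
          _ = s' := by rw [← mul_assoc, center_mul_self hZ hzc, one_mul]
      · rw [map_mul, (hf1 _).2 y.2, one_mul, hfh]
  -- the other extraspecial group
  set Nc : Subgroup (Subgroup.centralizer ({z} : Set G)) := ((Q.map (Subgroup.centralizer ({z} : Set G)).subtype).map (MulAut.conj gz).toMonoidHom).subgroupOf (Subgroup.centralizer ({z} : Set G))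
  have memNc : ∀ h : (Subgroup.centralizer ({z} : Set G)), h ∈ Nc ↔ ∃ q : Q, gz * ((q : (Subgroup.centralizer ({z} : Set G))) : G) * gz⁻¹ = (h : G) := fun h => by
    rw [Subgroup.mem_subgroupOf]
    constructor
    · rintro ⟨_, ⟨q, hq, rfl⟩, hh⟩; exact ⟨⟨q, hq⟩, hh⟩
    · rintro ⟨q, hq⟩; exact ⟨_, ⟨(q : (Subgroup.centralizer ({z} : Set G))), q.2, rfl⟩, hq⟩
  have hNcH : Nc ≤ Hc := fun h hh => by
    obtain ⟨q, hq⟩ := (memNc h).1 hh
    have hq' := Subgroup.mem_centralizer_iff.1 (q : (Subgroup.centralizer ({z} : Set G))).2 z rfl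
    rw [memHc, ← hq, hsdef]
    calc gz * ((q : (Subgroup.centralizer ({z} : Set G))) : G) * gz⁻¹ * (gz * z * gz⁻¹) = gz * (((q : (Subgroup.centralizer ({z} : Set G))) : G) * z) * gz⁻¹ := by group
      _ = gz * (z * ((q : (Subgroup.centralizer ({z} : Set G))) : G)) * gz⁻¹ := by rw [hq']
      _ = _ := by group
  have hback : ∀ h ∈ Hc, gz⁻¹ * (h : G) * gz ∈ (Subgroup.centralizer ({z} : Set G)) := fun h hh => by
    refine Subgroup.mem_centralizer_iff.2 fun x (hx : x = z) => ?_
    rw [hx]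
    calc z * (gz⁻¹ * (h : G) * gz) = gz⁻¹ * (s * (h : G)) * gz := by rw [hsdef]; group
      _ = gz⁻¹ * ((h : G) * s) * gz := by rw [(memHc h).1 hh]
      _ = _ := by rw [hsdef]; group
  have hNnorm : ∀ h ∈ Hc, ∀ x ∈ Nc, h * x * h⁻¹ ∈ Nc := fun h hh x hx => by
    obtain ⟨q, hq⟩ := (memNc x).1 hx
    refine (memNc _).2 ⟨⟨⟨_, hback h hh⟩ * (q : (Subgroup.centralizer ({z} : Set G))) * ⟨_, hback h hh⟩⁻¹,
      (inferInstance : Q.Normal).conj_mem _ q.2 _⟩, ?_⟩
    show gz * (gz⁻¹ * (h : G) * gz * ((q : (Subgroup.centralizer ({z} : Set G))) : G) * (gz⁻¹ * (h : G) * gz)⁻¹) * gz⁻¹ = (h : G) * (x : G) * (h : G)⁻¹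
    rw [← hq]; group
  haveI hp2 : Fact (Nat.Prime 2) := ⟨Nat.prime_two⟩
  have hQp : IsPGroup 2 Q := IsPGroup.of_card hcard
  have hNp : IsPGroup 2 Nc :=
    ((hQp.map (Subgroup.centralizer ({z} : Set G)).subtype).map (MulAut.conj gz).toMonoidHom).comap_of_injective (Subgroup.centralizer ({z} : Set G)).subtype Subtype.val_injective
  -- it lies in `Q`
  set N0 : Subgroup Co0 := (Nc.map f).comap (QuotientGroup.mk' (Subgroup.center Co0)) ⊓ MulAction.stabilizer Co0 v
  have hinjv : ∀ g : Co0, g • v = v → g ∈ Subgroup.center Co0 → g = 1 := by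
    intro g hg hc
    obtain ⟨t, ht, hw⟩ := mem_center_apply hc 0
    rcases ht with rfl | rfl
    · exact Subtype.ext (Equiv.ext fun w => Subtype.ext (by rw [hw w, one_smul]; rfl))
    · have h0 := hw v
      rw [show (g : Equiv.Perm leechLattice) v = v from hg, neg_one_smul] at h0
      have h00 : (v : GolayPt → ℤ) = 0 := funext fun p => by
        have := congrFun h0 p; simp only [Pi.neg_apply] at this; simp only [Pi.zero_apply]; omega
      rw [h00] at hn; simp [sqNorm] at hn
  have hN0 : N0 = ⊥ := by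
    refine stabilizer_core hn N0 inf_le_right (fun g hg n hn' => ⟨?_, ?_⟩) fun n => ?_
    · obtain ⟨h, hh, hfg⟩ := hup g hg
      obtain ⟨x, hx, hfx⟩ := hn'.1
      refine ⟨h * x * h⁻¹, hNnorm h hh x hx, ?_⟩
      rw [map_mul, map_mul, map_inv, hfg, hfx]
      rfl
    · exact (MulAction.stabilizer Co0 v).mul_mem ((MulAction.stabilizer Co0 v).mul_mem hg hn'.2) ((MulAction.stabilizer Co0 v).inv_mem hg)
    · obtain ⟨x, hx, hfx⟩ := n.2.1
      obtain ⟨k, hk⟩ := hNp ⟨x, hx⟩
      refine ⟨k, Subtype.ext (hinjv _ (show (n.1 ^ 2 ^ k) • v = v from Subgroup.pow_mem _ n.2.2 _) ?_)⟩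
      rw [← QuotientGroup.eq_one_iff, SubgroupClass.coe_pow, QuotientGroup.mk_pow,
        show (QuotientGroup.mk n.1 : Spor.Co1) = f x from hfx.symm, ← map_pow,
        show x ^ 2 ^ k = 1 from congrArg Subtype.val hk, map_one]
  have hNQ : Nc ≤ Q := fun x hx => by
    obtain ⟨g, hg, hfg⟩ := hdown x (hNcH hx)
    have : g ∈ N0 := ⟨⟨x, hx, hfg⟩, hg⟩
    rw [hN0, Subgroup.mem_bot] at this
    rw [← hf1, hfg, this, QuotientGroup.mk_one]
  -- it is abelian, hence small
  have hNab : ∀ x ∈ Nc, ∀ y ∈ Nc, x * y = y * x := by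
    intro x hx y hy
    obtain ⟨a, ha⟩ := (memNc x).1 hx
    obtain ⟨b, hb⟩ := (memNc y).1 hy
    have h1 := hcen _ (comm_mem_center hab (⟨x, hNQ hx⟩ : Q) ⟨y, hNQ hy⟩)
    have h2 := hcen _ (comm_mem_center hab a b)
    rw [← commutatorElement_eq_one_iff_mul_comm]
    apply Subtype.ext
    have eG : gz * (((a * b * a⁻¹ * b⁻¹ : Q) : (Subgroup.centralizer ({z} : Set G))) : G) * gz⁻¹ = (x : G) * (y : G) * (x : G)⁻¹ * (y : G)⁻¹ := by
      rw [← ha, ← hb]
      simp only [Subgroup.coe_mul, InvMemClass.coe_inv]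
      group
    rcases h1 with r | r
    · exact congrArg (fun q : Q => ((q : (Subgroup.centralizer ({z} : Set G))) : G)) r
    · exfalso
      have r' : (x : G) * (y : G) * (x : G)⁻¹ * (y : G)⁻¹ = z := congrArg (fun q : Q => ((q : (Subgroup.centralizer ({z} : Set G))) : G)) r
      rw [r'] at eG
      rcases h2 with r2 | r2 <;> rw [r2] at eG
      · exact hz1 (by simpa using eG.symm)
      · exact hne eG
  have hsmall : Nat.card Nc < 2 ^ 21 := by
    have h1 := card_abelian_sq_le hZ hab (Nc.subgroupOf Q) fun x hx y hy => Subtype.ext (hNab _ hx _ hy)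
    rw [Nat.card_congr (Subgroup.subgroupOfEquivOfLe hNQ).toEquiv, hcard] at h1
    by_contra hlt
    push Not at hlt
    have h2 := (Nat.mul_le_mul hlt hlt).trans h1
    norm_num at h2
  -- it is large
  let φ : Hc →* Spor.Co1 := f.comp Hc.subtype
  have hrange : 2 ^ 18 ∣ Nat.card φ.range := by
    refine (card_stabilizer_short hn).trans ?_
    have hinj : Function.Injective ((QuotientGroup.mk' (Subgroup.center Co0)).comp (MulAction.stabilizer Co0 v).subtype) := by
      rw [injective_iff_map_eq_one]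
      exact fun g hg => Subtype.ext (hinjv g.1 g.2 ((QuotientGroup.eq_one_iff _).1 hg))
    rw [Nat.card_congr (MonoidHom.ofInjective hinj).toEquiv]
    refine Subgroup.card_dvd_of_le ?_
    rintro _ ⟨g, rfl⟩
    obtain ⟨h, hh, hfh⟩ := hup g.1 g.2
    exact ⟨⟨h, hh⟩, hfh⟩
  have hkerN : 2 ^ 24 ∣ Nat.card φ.ker := by
    have hb : (pairChar hZ hab s').ker.map Q.subtype ≤ φ.ker.map Hc.subtype := by
      rintro _ ⟨q, hq, rfl⟩
      have hq' := (pairChar_apply hZ hab s' q).1 hq
      have hqH : (q : (Subgroup.centralizer ({z} : Set G))) ∈ Hc := (memHc _).2 (by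
        rw [← hs]; exact congrArg (fun a : Q => ((a : (Subgroup.centralizer ({z} : Set G))) : G)) hq')
      exact ⟨⟨_, hqH⟩, (hf1 _).2 q.2, rfl⟩
    have h1 := Subgroup.card_dvd_of_le hb
    rw [Subgroup.card_map_of_injective Q.subtype_injective, Subgroup.card_map_of_injective Hc.subtype_injective] at h1
    refine dvd_trans ?_ h1
    obtain ⟨k, hk⟩ := (hQp.to_subgroup (pairChar hZ hab s').ker).exists_card_eq
    have h2 := two_mul_card_ker hZ hab s'
    rw [hk, hcard] at h2
    rw [hk]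
    refine pow_dvd_pow 2 ?_
    by_contra hlt
    push Not at hlt
    have h3 := h2.trans (Nat.mul_le_mul_left 2 (Nat.pow_le_pow_right two_pos (Nat.le_of_lt_succ hlt : k ≤ 23)))
    norm_num at h3
  have hHc : 2 ^ 42 ∣ Nat.card Hc := by
    rw [← Subgroup.card_mul_index φ.ker, Subgroup.index_ker, show (42 : ℕ) = 24 + 18 from rfl, pow_add]
    exact Nat.mul_dvd_mul hkerN hrange
  let θ : Hc →* Spor.Co1 := f.comp (MonoidHom.codRestrict
    ((MulAut.conj gz⁻¹).toMonoidHom.comp ((Subgroup.centralizer ({z} : Set G)).subtype.comp Hc.subtype)) (Subgroup.centralizer ({z} : Set G)) fun h => by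
      show gz⁻¹ * ((h : (Subgroup.centralizer ({z} : Set G))) : G) * gz⁻¹⁻¹ ∈ (Subgroup.centralizer ({z} : Set G))
      rw [inv_inv]; exact hback h.1 h.2)
  have hθ : θ.ker ≤ Nc.subgroupOf Hc := fun h hh => by
    rw [Subgroup.mem_subgroupOf, memNc]
    refine ⟨⟨_, (hf1 _).1 hh⟩, ?_⟩
    show gz * (gz⁻¹ * ((h : (Subgroup.centralizer ({z} : Set G))) : G) * gz⁻¹⁻¹) * gz⁻¹ = ((h : (Subgroup.centralizer ({z} : Set G))) : G)
    group
  have h5 : Nat.card θ.ker ∣ Nat.card Nc := by
    rw [← Nat.card_congr (Subgroup.subgroupOfEquivOfLe hNcH).toEquiv]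
    exact Subgroup.card_dvd_of_le hθ
  have h6 : 2 ^ 42 ∣ Nat.card Nc * Nat.card Spor.Co1 := by
    refine hHc.trans ?_
    rw [← Subgroup.card_mul_index θ.ker, Subgroup.index_ker]
    exact Nat.mul_dvd_mul h5 (Subgroup.card_subgroup_dvd_card _)
  have h7 : 2 ^ 21 ∣ Nat.card Nc := by
    rw [card_Co1_eq, ← mul_assoc, mul_comm (Nat.card Nc), mul_assoc, show (42 : ℕ) = 21 + 21 from rfl, pow_add] at h6
    refine Nat.Coprime.dvd_of_dvd_mul_right ?_ (Nat.dvd_of_mul_dvd_mul_left (pow_pos two_pos 21) h6)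
    exact (Nat.coprime_pow_left_iff (by norm_num) _ _).2 (Nat.prime_two.coprime_iff_not_dvd.2 (by norm_num))
  exact absurd (Nat.le_of_dvd Nat.card_pos h7) (by omega)

/-- A conjugate of `z` in `Q` other than `z` is represented in norm 64. -/
theorem exists_rep64 {G : Type*} [Group G] [Finite G] {z : G}
    {Q : Subgroup (Subgroup.centralizer ({z} : Set G))} [Q.Normal]
    {e : (Subgroup.centralizer ({z} : Set G)) ⧸ Q ≃* Spor.Co1} {ψ : leechLattice → Q ⧸ Subgroup.center Q}
    (hM : IsExtraspecialCentralizerSetting z Q 12) (hψ : IsLeechModTwoIso Q e ψ) (q : Q)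
    (hc : IsConj z ((q : Subgroup.centralizer ({z} : Set G)) : G))
    (hne : ((q : Subgroup.centralizer ({z} : Set G)) : G) ≠ z) :
    ∃ v : leechLattice, sqNorm (v : GolayPt → ℤ) = 64 ∧ ψ v = QuotientGroup.mk q ∧ q ∉ Subgroup.center Q := by
  obtain ⟨hz, hF, ⟨-, hZ⟩, hcard, -⟩ := hM
  obtain ⟨gz, hgz⟩ := isConj_iff.1 hc
  have hzQ : ∀ hzC : z ∈ Subgroup.centralizer ({z} : Set G), (⟨z, hzC⟩ : Subgroup.centralizer ({z} : Set G)) ∈ Q := by
    intro hzC
    rw [← hF]
    exact (le_sup_right : fittingSubgroup (Subgroup.centralizer ({z} : Set G)) ≤ _)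
      (Cfsg.Lib.Core.center_le_fittingSubgroup (Subgroup.mem_center_iff.2 fun y =>
        Subtype.ext (Subgroup.mem_centralizer_iff.1 y.2 z rfl).symm))
  have hz1 : z ≠ 1 := fun h => by rw [h, orderOf_one] at hz; omega
  have hzC : z ∈ Subgroup.centralizer ({z} : Set G) :=
    Subgroup.mem_centralizer_iff.2 fun x (hx : x = z) => by rw [hx]
  have hqc : q ∉ Subgroup.center Q := fun hq => by
    have hzc : (⟨⟨z, hzC⟩, hzQ hzC⟩ : Q) ∈ Subgroup.center Q := Subgroup.mem_center_iff.2 fun y =>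
      Subtype.ext (Subtype.ext (Subgroup.mem_centralizer_iff.1 (y : Subgroup.centralizer ({z} : Set G)).2 z rfl).symm)
    have h := center_eq_of_ne_one hZ hq hzc (fun h => hz1 (conj_eq_one_iff.1 (hgz.trans (by rw [h]; rfl))))
      fun h => hz1 (congrArg (fun a : Q => ((a : Subgroup.centralizer ({z} : Set G)) : G)) h)
    exact hne (congrArg (fun a : Q => ((a : Subgroup.centralizer ({z} : Set G)) : G)) h)
  have hq2 : q * q = 1 := by
    apply Subtype.ext; apply Subtype.ext
    show ((q : Subgroup.centralizer ({z} : Set G)) : G) * _ = 1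
    have h2 : z * z = 1 := by rw [← pow_two, ← hz, pow_orderOf_eq_one]
    rw [← hgz, show gz * z * gz⁻¹ * (gz * z * gz⁻¹) = gz * (z * z) * gz⁻¹ by group, h2]
    group
  have hψ' := hψ
  obtain ⟨hadd, hsurj, hker, hconj⟩ := hψ
  have h2 : ∀ w, ψ (w + w) = 1 := fun w => (hker _).2 ⟨w, rfl⟩
  have hinv : ∀ g : Co0, ∃ θ : Q ≃* Q, ∀ v q, ψ v = QuotientGroup.mk q →
      ψ (g • v) = QuotientGroup.mk (θ q) := fun g => by
    obtain ⟨h, hh⟩ := QuotientGroup.mk_surjective (e.symm (QuotientGroup.mk g))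
    refine ⟨MulAut.conjNormal h, fun v q hq => ?_⟩
    rw [hconj h g (by rw [hh, MulEquiv.apply_symm_apply]) v q hq]
    congr 1
  obtain ⟨v, hv, hn⟩ := Cfsg.Agent.S5411.exists_rep hadd hsurj h2 hZ hinv (by rw [hcard]; norm_num) q hq2 hqc
  rcases hn with hn | hn
  · exact (not_short_conjugate hψ' hzQ hz hZ hcard q hgz.symm (hgz ▸ hne) hv hn).elim
  · exact ⟨v, hn, hv, hqc⟩

/-- Elements over norm-64 vectors are conjugate under the centraliser. -/
theorem conj_of_sixtyfour {G : Type*} [Group G] [Finite G] {z : G}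
    {Q : Subgroup (Subgroup.centralizer ({z} : Set G))} [Q.Normal]
    {e : (Subgroup.centralizer ({z} : Set G)) ⧸ Q ≃* Spor.Co1} {ψ : leechLattice → Q ⧸ Subgroup.center Q}
    (hM : IsExtraspecialCentralizerSetting z Q 12) (hψ : IsLeechModTwoIso Q e ψ) (a b : Q) {v w : leechLattice}
    (hv : sqNorm (v : GolayPt → ℤ) = 64) (hw : sqNorm (w : GolayPt → ℤ) = 64) (ha : ψ v = QuotientGroup.mk a)
    (hb : ψ w = QuotientGroup.mk b) : b ∉ Subgroup.center Q ∧
      ∃ h ∈ Subgroup.centralizer ({z} : Set G), h * ((a : Subgroup.centralizer ({z} : Set G)) : G) * h⁻¹ =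
        ((b : Subgroup.centralizer ({z} : Set G)) : G) := by
  obtain ⟨-, -, ⟨-, hZ⟩, -, -⟩ := hM
  obtain ⟨hadd, hsurj, hker, hconj⟩ := hψ
  have hbc : b ∉ Subgroup.center Q := fun h => by
    rw [(QuotientGroup.eq_one_iff b).2 h, hker] at hb
    obtain ⟨x, hx⟩ := hb
    have h1 := congrArg (fun t : leechLattice => sqNorm (t : GolayPt → ℤ)) hx
    simp only [AddSubgroup.coe_add, hw, sqNorm_add, dotInt_self] at h1
    have h3 := sixteen_dvd_sqNorm (mem_leechLattice_iff.1 x.2)
    have hx0 : (x : GolayPt → ℤ) ≠ 0 := fun h0 => by rw [h0] at h1; simp [sqNorm] at h1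
    have := sqNorm_ge (mem_leechLattice_iff.1 x.2) hx0
    omega
  refine ⟨hbc, ?_⟩
  have hinv' : ∀ g : Co0, ∃ h : Subgroup.centralizer ({z} : Set G), ∀ v (q : Q),
      ψ v = QuotientGroup.mk q → ψ (g • v) = QuotientGroup.mk (MulAut.conjNormal h q) := by
    intro g
    obtain ⟨h, hh⟩ := QuotientGroup.mk_surjective (e.symm (QuotientGroup.mk g))
    refine ⟨h, fun v q hq => ?_⟩
    rw [hconj h g (by rw [hh, MulEquiv.apply_symm_apply]) v q hq]
    congr 1
  have hab : ∀ x y : Q ⧸ Subgroup.center Q, x * y = y * x := by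
    intro x y
    obtain ⟨v, rfl⟩ := hsurj x
    obtain ⟨w, rfl⟩ := hsurj y
    rw [← hadd, ← hadd, add_comm]
  obtain ⟨h, hh⟩ := Cfsg.Agent.S5411.conj_of_norm Q hZ hinv' (Or.inr rfl) hv hw a b ha hb hbc hab
  exact ⟨h, h.2, by simpa using congrArg Subtype.val hh⟩

end Cfsg.Lib.Concrete
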