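import Cfsg.Agent.Lib.Concrete.LeechOrbits

/-!
The order of the automorphism group of the rank-24 lattice.
-/

set_option autoImplicit false

namespace Cfsg.Lib.Concrete

open Finset
open scoped Pointwise

/-- The stabiliser of the standard cross. -/
def crossStab : Subgroup Co0 where
  carrier := {g | ∀ v : leechLattice, (v : GolayPt → ℤ) ∈ stdCross ↔ ((g • v : leechLattice) : GolayPt → ℤ) ∈ stdCross}
  one_mem' := fun v => by rw [one_smul]
  mul_mem' := fun {g h} hg hh v => by rw [mul_smul]; exact (hh v).trans (hg _)
  inv_mem' := fun {g} hg v => by rw [hg (g⁻¹ • v), smul_inv_smul]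

/-- The standard cross as a set of lattice vectors. -/
def stdCrossSet : Set leechLattice := {v | (v : GolayPt → ℤ) ∈ stdCross}

theorem stdCross_subset {y : GolayPt → ℤ} (h : y ∈ stdCross) : y ∈ leechLattice ∧ sqNorm y = 64 := by
  obtain ⟨i, s, hs, rfl⟩ := h
  refine ⟨eight_single_mem i s (by rcases hs with rfl | rfl <;> norm_num), ?_⟩
  rw [sqNorm, Finset.sum_eq_single i (fun j _ hj => by simp [hj]) (by simp), Pi.single_eq_same]
  rcases hs with rfl | rfl <;> norm_num

theorem ncard_stdCrossSet : stdCrossSet.ncard = 48 := by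
  have h : stdCrossSet = (fun a : GolayPt × Bool =>
      (⟨Pi.single a.1 (if a.2 then 8 else -8), (stdCross_subset ⟨a.1, _, by split <;> simp, rfl⟩).1⟩ : leechLattice)) ''
        Set.univ := by
    ext v
    constructor
    · rintro ⟨i, s, hs | hs, e⟩
      · exact ⟨(i, true), trivial, Subtype.ext (by rw [e, hs]; rfl)⟩
      · exact ⟨(i, false), trivial, Subtype.ext (by rw [e, hs]; rfl)⟩
    · rintro ⟨⟨i, b⟩, -, rfl⟩
      exact ⟨i, _, by split <;> simp, rfl⟩
  rw [h, Set.ncard_image_of_injective, Set.ncard_univ, Nat.card_eq_fintype_card]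
  · rfl
  · rintro ⟨i, a⟩ ⟨j, b⟩ e
    have e' := congrFun (congrArg Subtype.val e) i
    dsimp only at e'
    rw [Pi.single_eq_same] at e'
    by_cases hij : i = j
    · subst hij
      rw [Pi.single_eq_same] at e'
      cases a <;> cases b <;> simp_all
    · rw [Pi.single_eq_of_ne hij] at e'
      cases a <;> simp at e'

theorem mem_crossStab_iff {g : Co0} : g ∈ crossStab ↔
    ∀ v : leechLattice, (v : GolayPt → ℤ) ∈ stdCross → ((g • v : leechLattice) : GolayPt → ℤ) ∈ stdCross := by
  refine ⟨fun h v hv => (h v).1 hv, fun h v => ⟨h v, fun hv => ?_⟩⟩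
  have hfin : stdCrossSet.Finite := Set.finite_of_ncard_ne_zero (by rw [ncard_stdCrossSet]; norm_num)
  have hsub : (fun u : leechLattice => g • u) '' stdCrossSet ⊆ stdCrossSet := by
    rintro _ ⟨u, hu, rfl⟩; exact h u hu
  have heq := Set.eq_of_subset_of_ncard_le hsub
    (Set.ncard_image_of_injective _ (MulAction.injective g)).ge hfin
  have : g • v ∈ (fun u : leechLattice => g • u) '' stdCrossSet := by rw [heq]; exact hv
  obtain ⟨u, hu, e⟩ := this
  exact MulAction.injective g e ▸ hu

theorem card_crossStab : Nat.card crossStab = 4096 * 244823040 :=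
  card_cross_stabilizer ▸ Nat.card_congr (Equiv.subtypeEquivRight fun _ => mem_crossStab_iff)

/-- The extra point's eight, in the lattice. -/
def top : leechLattice := e8 none

theorem orbit_top : MulAction.orbit Co0 top = {x : leechLattice | sqNorm (x : GolayPt → ℤ) = 64} := by
  have hn : sqNorm ((top : leechLattice) : GolayPt → ℤ) = 64 := (stdCross_subset (e8_mem_stdCross none)).2
  ext x
  constructor
  · rintro ⟨g, rfl⟩
    exact (co0_sqNorm g top).trans hn
  · intro hx
    obtain ⟨g, hg⟩ := exists_smul_eq_of_moves (moves64 top.2 hn) (moves64 x.2 hx)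
    exact ⟨g, hg⟩

theorem orbit_crossStab_top : MulAction.orbit crossStab top = stdCrossSet := by
  haveI := M24_isPretransitive
  ext x
  constructor
  · rintro ⟨⟨g, hg⟩, rfl⟩
    exact (hg top).1 (e8_mem_stdCross none)
  · rintro ⟨i, s, hs, e⟩
    obtain ⟨σ, hσ⟩ := MulAction.exists_smul_eq M24 (none : GolayPt) i
    obtain ⟨c, hc, hval⟩ : ∃ c ∈ codeSets, (if i ∈ c then (-8 : ℤ) else 8) = s := by
      rcases hs with rfl | rfl
      · exact ⟨∅, empty_mem_codeSets, by simp⟩
      · exact ⟨Finset.univ, mem_codeSets_univ, by simp⟩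
    refine ⟨⟨monoCo0 σ.1 σ.2 c hc, mem_crossStab_iff.2 ?_⟩, Subtype.ext ?_⟩
    · rintro v ⟨j, t, ht, ev⟩
      rw [monoCo0_smul, ev, signedPerm_single]
      exact ⟨σ.1 j, _, by split <;> omega, rfl⟩
    · show ((monoCo0 σ.1 σ.2 c hc • top : leechLattice) : GolayPt → ℤ) = _
      rw [monoCo0_smul, show ((top : leechLattice) : GolayPt → ℤ) = Pi.single none 8 from rfl, signedPerm_single,
        show σ.1 none = i from hσ, e, hval]

theorem stabilizer_le_crossStab : MulAction.stabilizer Co0 top ≤ crossStab := by
  intro g hg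
  refine mem_crossStab_iff.2 fun v hv => ?_
  obtain ⟨hvL, hvn⟩ := stdCross_subset hv
  obtain ⟨i, s, hs, e⟩ := hv
  have hdiff : ∃ z : leechLattice, v = top + (z + z) := by
    by_cases hi : i = none
    · rcases hs with rfl | rfl
      · exact ⟨0, Subtype.ext (by rw [e, hi]; simp [top, e8])⟩
      · refine ⟨⟨Pi.single none (-8), eight_single_mem none (-8) (by norm_num)⟩, Subtype.ext ?_⟩
        rw [e, hi]
        show _ = Pi.single none 8 + (Pi.single none (-8) + Pi.single none (-8))
        rw [← Pi.single_add, ← Pi.single_add]; norm_num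
    · obtain ⟨z, hz, hze⟩ : ∃ z ∈ leechLattice, ∀ p, z p = (Pi.single i s - Pi.single none 8 : GolayPt → ℤ) p / 2 := by
        refine ⟨_, mem_leech_of_inLeech (x := fun p => (Pi.single i s - Pi.single none 8 : GolayPt → ℤ) p / 2) ?_,
          fun p => rfl⟩
        revert i s
        have key : ∀ i : GolayPt, i ≠ none → ∀ s ∈ [(8 : ℤ), -8],
            inLeech (fun p => (Pi.single i s - Pi.single none 8 : GolayPt → ℤ) p / 2) = true := by
          decide +kernel
        exact fun i s hs _ hi => key i hi s (by simpa using hs)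
      refine ⟨⟨z, hz⟩, Subtype.ext (funext fun p => ?_)⟩
      show v.1 p = (Pi.single none 8 : GolayPt → ℤ) p + (z p + z p)
      rw [e, hze, Pi.sub_apply]
      simp only [Pi.single_apply]
      rcases hs with rfl | rfl <;> split <;> split <;> omega
  obtain ⟨z, hz⟩ := hdiff
  set w := g • v with hw
  have hwn : sqNorm (w : GolayPt → ℤ) = 64 := (co0_sqNorm g v).trans hvn
  have hwe : (w : GolayPt → ℤ) = (top : leechLattice).1 + 2 • (g • z : leechLattice).1 := by
    rw [hw, hz, co0_add, co0_add, show g • top = top from hg, two_nsmul]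
    rfl
  rcases close_pair top.2 w.2 (stdCross_subset (e8_mem_stdCross none)).2.le hwn.le
    ⟨_, (g • z).2, by rw [hwe, add_sub_cancel_left]⟩ with h | h | ⟨-, -, h0⟩
  · exact h ▸ e8_mem_stdCross none
  · exact h ▸ ⟨none, -8, Or.inr rfl, by simp [top, e8, Pi.single_neg]⟩
  · have htop : ∀ p, ((top : leechLattice) : GolayPt → ℤ) p = if p = none then 8 else 0 := fun p => by
      simp [top, e8, Pi.single_apply]
    simp only [htop, ite_mul, zero_mul, Finset.sum_ite_eq', Finset.mem_univ, if_true] at h0
    have hnone : (w : GolayPt → ℤ) none = 0 := by omega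
    have heven : ∀ p, (w : GolayPt → ℤ) p = (if p = none then 8 else 0) + 2 * (g • z : leechLattice).1 p := fun p => by
      rw [hwe, Pi.add_apply, htop, Pi.smul_apply, nsmul_eq_mul]; rfl
    obtain ⟨m, h1, -, -⟩ := mem_leechLattice_iff.1 (g • z).2
    have hz0 : (g • z : leechLattice).1 none = -4 := by have := heven none; simp at this; omega
    have hzev : ∀ p, (g • z : leechLattice).1 p % 2 = 0 := fun p => by
      have hp := h1 p
      have hn := h1 none
      unfold Int.ModEq at hp hn
      omega
    have hw4 : ∀ p, (w : GolayPt → ℤ) p % 4 = 0 := fun p => by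
      have := heven p
      have := hzev p
      split at * <;> omega
    obtain ⟨k, -, -, -, h64, hall, -⟩ := even_shapes w.2 (by omega) (N := 64) (by exact_mod_cast hwn) le_rfl
    have he2 : ∀ u : ℤ, u % 4 = 2 → (absSet (w : GolayPt → ℤ) u).card = 0 := fun u hu => Finset.card_eq_zero.2
      (Finset.eq_empty_of_forall_notMem fun p hp => by
        have := hw4 p
        rw [mem_absSet] at hp
        rcases abs_cases ((w : GolayPt → ℤ) p) with ⟨a, _⟩ | ⟨a, _⟩ <;> omega)
    have := he2 2 rfl
    have := he2 6 rfl
    by_cases h8 : (absSet (w : GolayPt → ℤ) 8).card = 0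
    · exfalso
      -- four fours: the halved difference would meet the code in five points
      obtain ⟨m', -, -, h3⟩ := mem_leechLattice_iff.1 (g • z).2
      have hcode := h3 2
      have heq : (Finset.univ.filter fun p => (g • z : leechLattice).1 p ≡ 2 [ZMOD 4]) = absSet (w : GolayPt → ℤ) 4 := by
        ext p
        simp only [Finset.mem_filter, Finset.mem_univ, true_and, mem_absSet]
        have hp := heven p
        have hw' := no_eight hall h8 p
        have := hw4 p
        unfold Int.ModEq
        by_cases hpn : p = none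
        · subst hpn; rw [hnone]; simp [hz0]
        · rw [if_neg hpn] at hp
          rcases abs_cases ((w : GolayPt → ℤ) p) with ⟨a, _⟩ | ⟨a, _⟩ <;> omega
      rw [heq] at hcode
      rcases code_card hcode with a | a | a | a | a <;> omega
    · obtain ⟨j, hj⟩ := Finset.card_pos.1 (Nat.pos_of_ne_zero h8)
      rw [mem_absSet] at hj
      refine ⟨j, (w : GolayPt → ℤ) j, (abs_eq (by norm_num)).1 hj, funext fun p => ?_⟩
      by_cases hp : p = j
      · subst hp; simp
      · rw [Pi.single_eq_of_ne hp]
        rcases hall p with a | a | a | a | a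
        · exact abs_eq_zero.1 a
        all_goals
          exfalso
          first
            | exact absurd (mem_absSet.2 a) (by rw [absSet_eq_empty (x := (w : GolayPt → ℤ)) (by omega)]; simp)
            | exact hp (Finset.card_le_one.1 (by omega) _ (mem_absSet.2 a) _ (mem_absSet.2 hj))

theorem count_top : {x : leechLattice | sqNorm (x : GolayPt → ℤ) = 64}.ncard = 398034000 := by
  have := (ncard_subtype_norm 64).trans (ncard_leech_norm 64 8 (by norm_num) (by norm_num))
  rw [leech_count64] at this
  exact_mod_cast this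

theorem mul_orbit_eq : Nat.card (MulAction.stabilizer Co0 top) * 398034000 = Nat.card Co0 := by
  have h1 := Subgroup.card_mul_index (MulAction.stabilizer Co0 top)
  rw [MulAction.index_stabilizer, orbit_top, count_top] at h1
  exact h1

theorem mul_cross_eq : Nat.card (MulAction.stabilizer Co0 top) * 48 = 4096 * 244823040 := by
  have h2 := Subgroup.card_mul_index (MulAction.stabilizer crossStab top)
  rw [MulAction.index_stabilizer, orbit_crossStab_top, ncard_stdCrossSet, card_crossStab] at h2
  have h3 : Nat.card (MulAction.stabilizer crossStab top) = Nat.card (MulAction.stabilizer Co0 top) :=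
    Nat.card_congr
      { toFun := fun g => ⟨g.1.1, g.2⟩
        invFun := fun g => ⟨⟨g.1, stabilizer_le_crossStab g.2⟩, g.2⟩
        left_inv := fun _ => rfl
        right_inv := fun _ => rfl }
  rw [h3] at h2
  exact h2

theorem card_stabilizer_top : Nat.card (MulAction.stabilizer Co0 top) = 20891566080 :=
  Nat.eq_of_mul_eq_mul_right (Nat.succ_pos 47) (mul_cross_eq.trans (by norm_num))

theorem card_Co0 : Nat.card Co0 = 8315553613086720000 :=
  mul_orbit_eq.symm.trans ((congrArg (fun k => k * 398034000) card_stabilizer_top).trans (by norm_num))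

end Cfsg.Lib.Concrete
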