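import Cfsg.Agent.Lib.Concrete.LeechModTwoAction
import Cfsg.Agent.Lib.Concrete.LeechGroup

/-!
Census of the norm-32 vectors of the rank-24 lattice by inner product with a given short vector.
-/

set_option autoImplicit false

namespace Cfsg.Lib.Concrete

open Finset
open scoped Pointwise

/-- The lattice vectors of norm `N`. -/
noncomputable def shell (N : ℤ) : Finset (GolayPt → ℤ) :=
  open scoped Classical in
  (Fintype.piFinset fun _ : GolayPt => Finset.Icc (-N) N).filter fun x => x ∈ leechLattice ∧ sqNorm x = N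

theorem mem_shell {N : ℤ} {x : GolayPt → ℤ} : x ∈ shell N ↔ x ∈ leechLattice ∧ sqNorm x = N := by
  classical
  rw [shell, Finset.mem_filter, and_iff_right_iff_imp]
  rintro ⟨-, h⟩
  refine Fintype.mem_piFinset.2 fun i => Finset.mem_Icc.2 ?_
  have h2 : x i ^ 2 ≤ N := h ▸ Finset.single_le_sum (f := fun i => x i ^ 2) (fun j _ => sq_nonneg _)
    (Finset.mem_univ i)
  exact ⟨by nlinarith, by nlinarith⟩

attribute [irreducible] shell

theorem card_shell (N b : ℕ) (hb : N < (b + 1) ^ 2) (hlen : b ≤ 11) :
    (shell (N : ℤ)).card = leechCount (symVals b) N := by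
  rw [← ncard_leech_norm N b hb hlen, ← Set.ncard_coe_finset]
  exact congrArg Set.ncard (Set.ext fun x => mem_shell)

theorem card_shell32 : (shell 32).card = 196560 := (card_shell 32 5 (by norm_num) (by norm_num)).trans leech_count32

theorem card_shell48 : (shell 48).card = 16773120 := (card_shell 48 6 (by norm_num) (by norm_num)).trans leech_count48

theorem card_shell64 : (shell 64).card = 398034000 :=
  (card_shell 64 8 (by norm_num) (by norm_num)).trans leech_count64

theorem sum_shell32_perm {σ : Equiv.Perm GolayPt} (hσ : σ ∈ M24) (F : (GolayPt → ℤ) → ℤ) :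
    ∑ x ∈ shell 32, F (fun p => x (σ.symm p)) = ∑ x ∈ shell 32, F x := by
  have key : ∀ τ ∈ M24, ∀ x ∈ shell 32, (fun p => x (Equiv.symm τ p)) ∈ shell 32 := fun τ hτ x hx => by
    rw [mem_shell] at hx ⊢
    have h := moves_perm hx.1 hτ
    exact ⟨h.mem_right, h.sqNorm_eq.trans hx.2⟩
  refine Finset.sum_nbij' (fun x p => x (σ.symm p)) (fun x p => x (σ p)) (key σ hσ) ?_ ?_ ?_ ?_
  · intro x hx
    exact key σ⁻¹ (inv_mem hσ) x hx
  · intro x _; funext p; simp
  · intro x _; funext p; simp
  · intro x _; rfl

theorem sum_shell32_flip {c : Finset GolayPt} (hc : c ∈ codeSets) (F : (GolayPt → ℤ) → ℤ) :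
    ∑ x ∈ shell 32, F (signedPerm 1 c x) = ∑ x ∈ shell 32, F x := by
  have key : ∀ x ∈ shell 32, signedPerm 1 c x ∈ shell 32 := fun x hx => by
    rw [mem_shell] at hx ⊢
    exact ⟨signedPerm_mem (one_mem M24) hc hx.1, (signedPerm_sqNorm 1 c x).trans hx.2⟩
  refine Finset.sum_nbij' (signedPerm 1 c) (signedPerm 1 c) key key ?_ ?_ ?_
  all_goals intro x _
  · funext p; simp only [signedPerm_one]; split <;> simp
  · funext p; simp only [signedPerm_one]; split <;> simp
  · rfl

/-- All coordinates behave alike. -/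
theorem sum_coord (f : ℤ → ℤ) (p : GolayPt) :
    ∑ x ∈ shell 32, f (x p) = ∑ x ∈ shell 32, f (x none) := by
  haveI := M24_isPretransitive
  obtain ⟨σ, hσ⟩ := MulAction.exists_smul_eq M24 (none : GolayPt) p
  rw [← sum_shell32_perm σ.2 fun x => f (x p)]
  refine Finset.sum_congr rfl fun x _ => ?_
  show f (x (σ.1.symm p)) = _
  rw [show σ.1.symm p = none from (Equiv.symm_apply_eq σ.1).2 hσ.symm]

theorem sum_coord_all (f : ℤ → ℤ) :
    24 * ∑ x ∈ shell 32, f (x none) = ∑ x ∈ shell 32, ∑ p, f (x p) := by
  rw [Finset.sum_comm, Finset.sum_congr rfl fun p _ => sum_coord f p, Finset.sum_const, Finset.card_univ,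
    show Fintype.card GolayPt = 24 from rfl, nsmul_eq_mul]
  rfl

/-- The coordinates of the norm-32 vectors are uncorrelated. -/
theorem second_moment (p q : GolayPt) :
    ∑ x ∈ shell 32, x p * x q = if p = q then 262080 else 0 := by
  by_cases h : p = q
  · subst h
    rw [if_pos rfl]
    have h1 := sum_coord_all fun v => v ^ 2
    have h32 : ∑ x ∈ shell 32, ∑ i, x i ^ 2 = ((shell 32).card : ℤ) * 32 := by
      rw [← nsmul_eq_mul, ← Finset.sum_const]
      exact Finset.sum_congr rfl fun x hx => (mem_shell.1 hx).2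
    rw [h32, card_shell32, ← sum_coord (fun v => v ^ 2) p] at h1
    simp only [sq] at h1
    push_cast at h1
    linarith
  · rw [if_neg h]
    obtain ⟨c, hc, hp, hq⟩ := exists_code_separating h
    have h1 := sum_shell32_flip hc fun x => x p * x q
    simp only [signedPerm_one, if_pos hp, if_neg hq, neg_mul, Finset.sum_neg_distrib] at h1
    omega

theorem moment_dot (t : GolayPt → ℤ) :
    ∑ x ∈ shell 32, dotInt t x ^ 2 = 262080 * sqNorm t := by
  have h : ∀ x : GolayPt → ℤ, dotInt t x ^ 2 = ∑ p, ∑ q, t p * t q * (x p * x q) := fun x => by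
    rw [dotInt, sq, Finset.sum_mul_sum]
    exact Finset.sum_congr rfl fun p _ => Finset.sum_congr rfl fun q _ => by ring
  simp only [h]
  rw [Finset.sum_comm, sqNorm, Finset.mul_sum]
  refine Finset.sum_congr rfl fun p _ => ?_
  rw [Finset.sum_comm, Finset.sum_congr rfl fun q _ => (Finset.mul_sum _ _ _).symm]
  simp only [second_moment, mul_ite, mul_zero, Finset.sum_ite_eq, Finset.mem_univ, if_true]
  ring

/-- The number of norm-32 vectors with inner product `k` with `t`. -/
noncomputable def dotCount (t : GolayPt → ℤ) (k : ℤ) : ℕ := ((shell 32).filter fun x => dotInt t x = k).card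

theorem dotInt_neg_right (t x : GolayPt → ℤ) : dotInt t (-x) = -dotInt t x := by
  simp [dotInt]

theorem neg_mem_shell {N : ℤ} {x : GolayPt → ℤ} (hx : x ∈ shell N) : -x ∈ shell N := by
  rw [mem_shell] at hx ⊢
  exact ⟨neg_mem hx.1, (sqNorm_neg' x).trans hx.2⟩

theorem dotCount_neg (t : GolayPt → ℤ) (k : ℤ) : dotCount t (-k) = dotCount t k := by
  refine Finset.card_nbij' (fun x => -x) (fun x => -x) ?_ ?_ (fun x _ => neg_neg x) (fun x _ => neg_neg x)
  all_goals
    intro x hx
    simp only [Finset.coe_filter, Set.mem_setOf_eq] at hx ⊢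
    exact ⟨neg_mem_shell hx.1, by rw [dotInt_neg_right, hx.2]; try simp⟩

theorem dotCount_moves {v t : GolayPt → ℤ} (h : Moves v t) (k : ℤ) : dotCount v k = dotCount t k := by
  classical
  obtain ⟨hv, g, rfl⟩ := h
  refine Finset.card_bij'
    (fun x hx => ((g • (⟨x, (mem_shell.1 (Finset.mem_filter.1 hx).1).1⟩ : leechLattice) : leechLattice) : GolayPt → ℤ))
    (fun y hy => ((g⁻¹ • (⟨y, (mem_shell.1 (Finset.mem_filter.1 hy).1).1⟩ : leechLattice) : leechLattice) : GolayPt → ℤ))
    ?_ ?_ ?_ ?_
  · intro x hx
    obtain ⟨h1, h2⟩ := Finset.mem_filter.1 hx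
    exact Finset.mem_filter.2 ⟨mem_shell.2 ⟨Subtype.coe_prop _, (co0_sqNorm g _).trans (mem_shell.1 h1).2⟩,
      (co0_dot g ⟨v, hv⟩ ⟨x, (mem_shell.1 h1).1⟩).trans h2⟩
  · intro y hy
    obtain ⟨h1, h2⟩ := Finset.mem_filter.1 hy
    refine Finset.mem_filter.2 ⟨mem_shell.2 ⟨Subtype.coe_prop _, (co0_sqNorm _ _).trans (mem_shell.1 h1).2⟩, ?_⟩
    have h3 := co0_dot g⁻¹ (g • ⟨v, hv⟩) ⟨y, (mem_shell.1 h1).1⟩
    rw [inv_smul_smul] at h3
    exact h3.trans h2
  · intro x hx; simp only [Subtype.coe_eta, inv_smul_smul]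
  · intro x hx; simp only [Subtype.coe_eta, smul_inv_smul]

theorem dotInt_add_right (t x y : GolayPt → ℤ) : dotInt t (x + y) = dotInt t x + dotInt t y := by
  simp [dotInt, mul_add, Finset.sum_add_distrib]

theorem dotInt_comm (x y : GolayPt → ℤ) : dotInt x y = dotInt y x := by
  simp [dotInt, mul_comm]

theorem dotInt_self (x : GolayPt → ℤ) : dotInt x x = sqNorm x := by
  simp [dotInt, sqNorm, sq]

theorem sqNorm_sub' (x y : GolayPt → ℤ) : sqNorm (x - y) = sqNorm x - 2 * dotInt x y + sqNorm y := by
  rw [sub_eq_add_neg, sqNorm_add, dotInt_neg_right, sqNorm_neg']; ring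

/-- Counting the pairs with inner product `k` from both ends. -/
theorem double_count {M N k : ℤ} {r s : GolayPt → ℤ} (hN : N = M + 32 - 2 * k)
    (hr : ∀ u ∈ shell M, Moves u r) (hs : ∀ z ∈ shell N, Moves z s) :
    (shell M).card * dotCount r k = (shell N).card * dotCount s (k - 32) := by
  classical
  calc (shell M).card * dotCount r k
      = ((shell M).sigma fun u => (shell 32).filter fun x => dotInt u x = k).card := by
        rw [Finset.card_sigma, Finset.sum_congr rfl fun u hu =>
          show ((shell 32).filter fun x => dotInt u x = k).card = dotCount r k from dotCount_moves (hr u hu) k,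
          Finset.sum_const, smul_eq_mul]
    _ = ((shell N).sigma fun z => (shell 32).filter fun x => dotInt z x = k - 32).card := by
        refine Finset.card_nbij' (fun a => ⟨a.1 - a.2, a.2⟩) (fun a => ⟨a.1 + a.2, a.2⟩) ?_ ?_ ?_ ?_
        · intro a ha
          simp only [Finset.coe_sigma, Set.mem_sigma_iff, Finset.mem_coe, Finset.mem_filter, mem_shell] at ha ⊢
          obtain ⟨⟨h1, h2⟩, ⟨h3, h4⟩, h5⟩ := ha
          refine ⟨⟨sub_mem h1 h3, by rw [sqNorm_sub']; omega⟩, ⟨h3, h4⟩, ?_⟩
          rw [dotInt_comm, sub_eq_add_neg, dotInt_add_right, dotInt_neg_right, dotInt_self, dotInt_comm]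
          omega
        · intro a ha
          simp only [Finset.coe_sigma, Set.mem_sigma_iff, Finset.mem_coe, Finset.mem_filter, mem_shell] at ha ⊢
          obtain ⟨⟨h1, h2⟩, ⟨h3, h4⟩, h5⟩ := ha
          refine ⟨⟨add_mem h1 h3, by rw [sqNorm_add]; omega⟩, ⟨h3, h4⟩, ?_⟩
          rw [dotInt_comm, dotInt_add_right, dotInt_self, dotInt_comm]
          omega
        · intro a _; simp
        · intro a _; simp
    _ = (shell N).card * dotCount s (k - 32) := by
        rw [Finset.card_sigma, Finset.sum_congr rfl fun u hu =>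
          show ((shell 32).filter fun x => dotInt u x = k - 32).card = dotCount s (k - 32) from
            dotCount_moves (hs u hu) _,
          Finset.sum_const, smul_eq_mul]

/-! ### Single coordinates -/

theorem sum_absSet (a : ℤ) (ha : 0 < a) :
    (48 : ℤ) * ((shell 32).filter fun x => x none = a).card = ∑ x ∈ shell 32, ((absSet x a).card : ℤ) := by
  have h1 := sum_coord_all fun v => if |v| = a then 1 else 0
  simp only [Finset.sum_boole] at h1
  have h2 : ((shell 32).filter fun x => |x none| = a).card =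
      ((shell 32).filter fun x => x none = a).card + ((shell 32).filter fun x => x none = a).card := by
    have h3 : ((shell 32).filter fun x => x none = -a).card = ((shell 32).filter fun x => x none = a).card := by
      refine Finset.card_nbij' (fun x => -x) (fun x => -x) ?_ ?_ (fun x _ => neg_neg x) (fun x _ => neg_neg x)
      all_goals
        intro x hx
        simp only [Finset.coe_filter, Set.mem_setOf_eq] at hx ⊢
        exact ⟨neg_mem_shell hx.1, by simp [hx.2]⟩
    rw [show ((shell 32).filter fun x => |x none| = a) =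
      ((shell 32).filter fun x => x none = a ∨ x none = -a) from
        Finset.filter_congr fun x _ => abs_eq ha.le, Finset.filter_or, Finset.card_union_of_disjoint, h3]
    exact Finset.disjoint_filter.2 fun x _ e e' => by omega
  rw [h2] at h1
  unfold absSet
  push_cast at h1 ⊢
  linarith

theorem absSet_four {x : GolayPt → ℤ} (hx : x ∈ shell 32) :
    (absSet x 4).card = if ∀ p, x p ∈ ([-4, 0, 4] : List ℤ) then 2 else 0 := by
  obtain ⟨hL, hn⟩ := mem_shell.1 hx
  rcases Int.emod_two_eq_zero_or_one (x none) with he | ho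
  · obtain ⟨k, -, hk, hsum, hnorm, hall, -⟩ := even_shapes hL he (N := 32) hn (by norm_num)
    by_cases hv : ∀ p, x p ∈ ([-4, 0, 4] : List ℤ)
    · rw [if_pos hv]
      have h2 : (absSet x 2).card = 0 := Finset.card_eq_zero.2 (Finset.eq_empty_of_forall_notMem fun p hp => by
        have h := mem_absSet.1 hp
        have := hv p
        simp only [List.mem_cons, List.not_mem_nil, or_false] at this
        rcases this with e | e | e <;> rw [e] at h <;> norm_num at h)
      omega
    · rw [if_neg hv]
      by_contra h4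
      have h2 : (absSet x 2).card = 0 := by omega
      have h6 : (absSet x 6).card = 0 := by omega
      have h8 : (absSet x 8).card = 0 := by omega
      refine hv fun p => ?_
      rcases no_eight hall h8 p with e | e | e | e
      · simp [abs_eq_zero.1 e]
      · exact absurd (mem_absSet.2 e) (by rw [absSet_eq_empty h2]; simp)
      · rcases (abs_eq (by norm_num)).1 e with e' | e' <;> simp [e']
      · exact absurd (mem_absSet.2 e) (by rw [absSet_eq_empty h6]; simp)
  · rw [if_neg fun hv => by
      have := hv none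
      simp only [List.mem_cons, List.not_mem_nil, or_false] at this
      omega]
    obtain ⟨y, hy, habs⟩ := exists_odd_normal hL ho
    refine Finset.card_eq_zero.2 (Finset.eq_empty_of_forall_notMem fun p hp => ?_)
    have h := mem_absSet.1 hp
    obtain ⟨h1, h2⟩ := habs p
    rcases abs_cases (y p) with ⟨e, _⟩ | ⟨e, _⟩ <;> omega

theorem absSet_three {x : GolayPt → ℤ} (hx : x ∈ shell 32) :
    (absSet x 3).card = if ∀ p, x p ∈ ([-3, -1, 1, 3] : List ℤ) then 1 else 0 := by
  obtain ⟨hL, hn⟩ := mem_shell.1 hx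
  rcases Int.emod_two_eq_zero_or_one (x none) with he | ho
  · obtain ⟨k, -, -, -, -, hall, -⟩ := even_shapes hL he (N := 32) hn (by norm_num)
    rw [if_neg fun hv => by
      have := hv none
      simp only [List.mem_cons, List.not_mem_nil, or_false] at this
      omega]
    refine Finset.card_eq_zero.2 (Finset.eq_empty_of_forall_notMem fun p hp => ?_)
    have h := mem_absSet.1 hp
    have := hall p
    omega
  · obtain ⟨y, hy, habs⟩ := exists_odd_normal hL ho
    obtain ⟨h1, h2, hall⟩ := odd_counts (N := 32) (hy.sqNorm_eq.trans hn) (by norm_num) fun p => (habs p).2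
    have h5 : (Finset.univ.filter fun p => y p = 5).card = 0 := by omega
    have h7 : (Finset.univ.filter fun p => y p = -7).card = 0 := by omega
    have hval : ∀ p, y p = 1 ∨ y p = -3 := fun p => by
      rcases hall p with e | e | e | e
      · exact Or.inl e
      · exact Or.inr e
      · exact absurd (Finset.mem_filter.2 ⟨Finset.mem_univ p, e⟩) (by rw [Finset.card_eq_zero.1 h5]; simp)
      · exact absurd (Finset.mem_filter.2 ⟨Finset.mem_univ p, e⟩) (by rw [Finset.card_eq_zero.1 h7]; simp)
    rw [if_pos fun p => by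
      have h := (habs p).1
      simp only [List.mem_cons, List.not_mem_nil, or_false]
      rcases hval p with e | e <;> rw [e] at h <;>
        rcases (abs_eq (abs_nonneg _)).1 (rfl : |x p| = |x p|) with e' | e' <;> norm_num at h <;> omega]
    have h3 : absSet x 3 = Finset.univ.filter fun p => y p = -3 := by
      ext p
      have h := (habs p).1
      rw [mem_absSet, Finset.mem_filter]
      rcases hval p with e | e <;> rw [e] at h <;> norm_num at h <;> simp [← h, e]
    rw [h3]
    omega

theorem card_values_shell (V : List ℤ) (hV : V.Nodup) (hlen : V.length ≤ 24) :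
    ((shell 32).filter fun x => ∀ p, x p ∈ V).card = leechCount V 32 := by
  rw [← ncard_leech_values V hV hlen 32, ← Set.ncard_coe_finset]
  refine congrArg Set.ncard (Set.ext fun x => ?_)
  simp only [Finset.coe_filter, Set.mem_setOf_eq, mem_shell, and_assoc]
  norm_num

theorem leech_count_pairs : leechCount [-4, 0, 4] 32 = 1104 ∧ leechCount [-3, -1, 1, 3] 32 = 98304 := by
  constructor <;> decide +kernel

theorem coord_four : ((shell 32).filter fun x => x none = 4).card = 46 := by
  have h := sum_absSet 4 (by norm_num)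
  rw [Finset.sum_congr rfl fun x hx => congrArg (Nat.cast (R := ℤ)) (absSet_four hx), ← Nat.cast_sum,
    ← Finset.sum_filter, Finset.sum_const, card_values_shell _ (by decide) (by decide), leech_count_pairs.1,
    smul_eq_mul] at h
  push_cast at h
  omega

theorem coord_three : ((shell 32).filter fun x => x none = 3).card = 2048 := by
  have h := sum_absSet 3 (by norm_num)
  rw [Finset.sum_congr rfl fun x hx => congrArg (Nat.cast (R := ℤ)) (absSet_three hx), ← Nat.cast_sum,
    ← Finset.sum_filter, Finset.sum_const, card_values_shell _ (by decide) (by decide), leech_count_pairs.2,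
    smul_eq_mul] at h
  push_cast at h
  omega

theorem dot_top8 (x : GolayPt → ℤ) : dotInt top8 x = 8 * x none := by
  rw [dotInt, Finset.sum_eq_single none (fun j _ hj => by simp [top8, hj]) (by simp)]
  simp [top8]

theorem dotCount_top8 (a : ℤ) : dotCount top8 (8 * a) = ((shell 32).filter fun x => x none = a).card := by
  refine congrArg Finset.card (Finset.filter_congr fun x _ => ?_)
  rw [dot_top8]; omega

/-! ### The distributions -/

theorem shell_moves32 : ∀ u ∈ shell 32, Moves u rep32 := fun _ hu => moves32 (mem_shell.1 hu).1 (mem_shell.1 hu).2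

theorem shell_moves48 : ∀ u ∈ shell 48, Moves u rep48 := fun _ hu => moves48 (mem_shell.1 hu).1 (mem_shell.1 hu).2

theorem shell_moves64 : ∀ u ∈ shell 64, Moves u top8 := fun _ hu => moves64 (mem_shell.1 hu).1 (mem_shell.1 hu).2

theorem rep32_mem : rep32 ∈ shell 32 := by
  have h : signOk rep32 = true := rep32_check.1
  simp only [signOk, Bool.and_eq_true] at h
  exact mem_shell.2 ⟨mem_leech_of_inLeech h.1, by decide +kernel⟩

theorem rep48_mem : rep48 ∈ shell 48 := by
  have h : signOk rep48 = true := rep48_check.1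
  simp only [signOk, Bool.and_eq_true] at h
  exact mem_shell.2 ⟨mem_leech_of_inLeech h.1, by decide +kernel⟩

/-- A positive shortest vector bounds inner products. -/
theorem dot_bound {u x : GolayPt → ℤ} {M : ℤ} (hu : u ∈ shell M) (hx : x ∈ shell 32) :
    dotInt u x = M ∧ u = x ∨ dotInt u x = -M ∧ u = -x ∨ 2 * |dotInt u x| ≤ M := by
  obtain ⟨h1, h2⟩ := mem_shell.1 hu
  obtain ⟨h3, h4⟩ := mem_shell.1 hx
  by_cases e : u = x
  · subst e; exact Or.inl ⟨(dotInt_self u).trans h2, rfl⟩
  by_cases e' : u = -x
  · refine Or.inr (Or.inl ⟨?_, e'⟩)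
    rw [← neg_neg x, ← e', dotInt_neg_right, dotInt_self, h2]
  refine Or.inr (Or.inr ?_)
  have h5 := sqNorm_ge (mem_leechLattice_iff.1 (sub_mem h1 h3)) (sub_ne_zero.2 e)
  have h6 := sqNorm_ge (mem_leechLattice_iff.1 (add_mem h1 h3)) fun h => e' (eq_neg_of_add_eq_zero_left h)
  rw [sqNorm_sub', h2, h4] at h5
  rw [sqNorm_add, h2, h4] at h6
  rw [← abs_two (α := ℤ), ← abs_mul]
  exact abs_le.2 ⟨by omega, by omega⟩

theorem dot_values {u x : GolayPt → ℤ} {M : ℤ} (hu : u ∈ shell M) (hx : x ∈ shell 32) (hM : M ≤ 48) :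
    dotInt u x ∈ ({-32, -24, -16, -8, 0, 8, 16, 24, 32} : Finset ℤ) := by
  obtain ⟨d, hd⟩ := eight_dvd_dot (mem_shell.1 hu).1 (mem_shell.1 hx).1
  simp only [Finset.mem_insert, Finset.mem_singleton]
  rcases dot_bound hu hx with ⟨h, e⟩ | ⟨h, e⟩ | h
  · have : M = 32 := by rw [← (mem_shell.1 hu).2, e, (mem_shell.1 hx).2]
    omega
  · have : M = 32 := by rw [← (mem_shell.1 hu).2, e, sqNorm_neg', (mem_shell.1 hx).2]
    omega
  · have := abs_le.1 (show |dotInt u x| ≤ 24 by omega)
    omega

theorem sum_dotCount {u : GolayPt → ℤ} {M : ℤ} (hu : u ∈ shell M) (hM : M ≤ 48) :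
    (196560 : ℤ) = (dotCount u 0 : ℤ) + 2 * dotCount u 8 + 2 * dotCount u 16 + 2 * dotCount u 24 +
        2 * dotCount u 32 ∧
      262080 * M = 128 * (dotCount u 8 : ℤ) + 512 * dotCount u 16 + 1152 * dotCount u 24 + 2048 * dotCount u 32 := by
  have e1 := sum_values (shell 32) (fun x => dotInt u x) _ (fun x hx => dot_values hu hx hM) fun _ => 1
  have e2 := sum_values (shell 32) (fun x => dotInt u x) _ (fun x hx => dot_values hu hx hM) fun v => v ^ 2
  simp only [Finset.sum_const, card_shell32, nsmul_eq_mul, mul_one] at e1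
  rw [moment_dot, (mem_shell.1 hu).2] at e2
  have hn : ∀ k : ℤ, ((shell 32).filter fun x => dotInt u x = k).card = dotCount u k := fun k => rfl
  simp only [hn] at e1 e2
  repeat rw [Finset.sum_insert (by decide)] at e1
  repeat rw [Finset.sum_insert (by decide)] at e2
  simp only [Finset.sum_singleton, dotCount_neg] at e1 e2
  constructor
  · push_cast at e1; linarith
  · norm_num at e2; linarith

theorem dotCount_self : dotCount rep32 32 = 1 := by
  rw [dotCount, Finset.card_eq_one]
  refine ⟨rep32, Finset.eq_singleton_iff_unique_mem.2 ⟨Finset.mem_filter.2 ⟨rep32_mem,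
    (dotInt_self _).trans (mem_shell.1 rep32_mem).2⟩, fun x hx => ?_⟩⟩
  obtain ⟨h1, h2⟩ := Finset.mem_filter.1 hx
  rcases dot_bound rep32_mem h1 with ⟨-, e⟩ | ⟨h, -⟩ | h
  · exact e.symm
  · omega
  · rw [h2] at h; norm_num at h

/-- The distribution for a vector of norm 32. -/
theorem census32 : dotCount rep32 24 = 0 ∧ dotCount rep32 16 = 4600 ∧ dotCount rep32 8 = 47104 ∧
    dotCount rep32 0 = 93150 := by
  obtain ⟨h1, h2⟩ := sum_dotCount rep32_mem (by norm_num)
  have h24 : dotCount rep32 24 = 0 := Finset.card_eq_zero.2 (Finset.eq_empty_of_forall_notMem fun x hx => by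
    obtain ⟨hx1, hx2⟩ := Finset.mem_filter.1 hx
    rcases dot_bound rep32_mem hx1 with ⟨h, -⟩ | ⟨h, -⟩ | h
    · omega
    · omega
    · rw [hx2] at h; norm_num at h)
  have h0 := double_count (k := 0) (M := 32) (N := 64) (by norm_num) shell_moves32 shell_moves64
  rw [card_shell32, card_shell64, show (0 : ℤ) - 32 = -(8 * 4) by norm_num, dotCount_neg, dotCount_top8,
    coord_four] at h0
  rw [h24, dotCount_self] at h1 h2
  push_cast at h1 h2
  omega

/-- The distribution for a vector of norm 48. -/
theorem census48 : dotCount rep48 32 = 0 ∧ dotCount rep48 24 = 552 ∧ dotCount rep48 16 = 11178 ∧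
    dotCount rep48 8 = 48600 ∧ dotCount rep48 0 = 75900 := by
  obtain ⟨h1, h2⟩ := sum_dotCount rep48_mem le_rfl
  have h32 : dotCount rep48 32 = 0 := Finset.card_eq_zero.2 (Finset.eq_empty_of_forall_notMem fun x hx => by
    obtain ⟨hx1, hx2⟩ := Finset.mem_filter.1 hx
    rcases dot_bound rep48_mem hx1 with ⟨h, -⟩ | ⟨h, -⟩ | h
    · omega
    · omega
    · rw [hx2] at h; norm_num at h)
  have ha := double_count (k := 8) (M := 32) (N := 48) (by norm_num) shell_moves32 shell_moves48
  rw [card_shell32, card_shell48, census32.2.2.1, show (8 : ℤ) - 32 = -24 by norm_num, dotCount_neg] at ha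
  have hb := double_count (k := 8) (M := 48) (N := 64) (by norm_num) shell_moves48 shell_moves64
  rw [card_shell48, card_shell64, show (8 : ℤ) - 32 = -(8 * 3) by norm_num, dotCount_neg, dotCount_top8,
    coord_three] at hb
  rw [h32] at h1 h2
  push_cast at h1 h2
  omega

end Cfsg.Lib.Concrete
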