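import Cfsg.Agent.Lib.Concrete.LeechCensus

/-!
Orbits of the stabiliser of a norm-32 vector of the rank-24 lattice on the norm-32 vectors with inner
product -16 or -8 with it.
-/

set_option autoImplicit false

namespace Cfsg.Lib.Concrete

open Finset
open scoped Pointwise symmDiff

local notation "pA" => gpt 0
local notation "pB" => gpt 1
local notation "pC" => gpt 2
local notation "pD" => gpt 23

/-- The vector with fours at the first two points. -/
def pairBase : GolayPt → ℤ := vec 0 3 0 0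

theorem pairBase_check : inLeech pairBase = true ∧ sqNorm pairBase = 32 ∧
    blk (0, 0) = pA ∧ blk (0, 1) = pB ∧ blk (0, 2) = pC ∧ blk (0, 3) = pD ∧
    xiFun pairBase pC = 4 ∧ xiFun pairBase pD = 4 ∧ (∀ p, p ≠ pC → p ≠ pD → xiFun pairBase p = 0) ∧
    (∀ p, p ≠ pA → p ≠ pB → pairBase p = 0) ∧ pairBase pA = 4 ∧ pairBase pB = 4 := by
  decide +kernel

/-- The same, as a lattice vector. -/
def pairL : leechLattice := ⟨pairBase, mem_leech_of_inLeech pairBase_check.1⟩

theorem dot_pairBase (x : GolayPt → ℤ) : dotInt pairBase x = 4 * (x pA + x pB) := by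
  obtain ⟨-, -, -, -, -, -, -, -, -, hz, ha, hb⟩ := pairBase_check
  rw [dotInt, ← Finset.sum_subset (Finset.subset_univ ({pA, pB} : Finset GolayPt)) fun p _ hp => by
    simp only [Finset.mem_insert, Finset.mem_singleton, not_or] at hp
    simp [hz p hp.1 hp.2], Finset.sum_pair (by decide), ha, hb]
  ring

/-- Some automorphism fixing `pairBase` carries `x` to `y`. -/
def PairFix (x y : GolayPt → ℤ) : Prop :=
  ∃ (hx : x ∈ leechLattice) (g : Co0), g • pairL = pairL ∧
    ((g • (⟨x, hx⟩ : leechLattice) : leechLattice) : GolayPt → ℤ) = y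

theorem PairFix.symm {x y : GolayPt → ℤ} (h : PairFix x y) : PairFix y x := by
  obtain ⟨hx, g, hg, rfl⟩ := h
  exact ⟨(g • (⟨x, hx⟩ : leechLattice)).2, g⁻¹, inv_smul_eq_iff.2 hg.symm, by rw [Subtype.coe_eta, inv_smul_smul]⟩

theorem PairFix.trans {x y z : GolayPt → ℤ} (h : PairFix x y) (h' : PairFix y z) : PairFix x z := by
  obtain ⟨hx, g, hg, rfl⟩ := h
  obtain ⟨hy, g', hg', rfl⟩ := h'
  exact ⟨hx, g' * g, by rw [mul_smul, hg, hg'], by rw [mul_smul, Subtype.coe_eta]⟩

theorem PairFix.refl {x : GolayPt → ℤ} (hx : x ∈ leechLattice) : PairFix x x :=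
  ⟨hx, 1, one_smul _ _, by rw [one_smul]⟩

theorem PairFix.mem_shell_right {x y : GolayPt → ℤ} (h : PairFix x y) (hx : x ∈ shell 32) : y ∈ shell 32 := by
  obtain ⟨hx', g, -, rfl⟩ := h
  exact mem_shell.2 ⟨Subtype.coe_prop _, (co0_sqNorm g _).trans (mem_shell.1 hx).2⟩

theorem PairFix.sum_eq {x y : GolayPt → ℤ} (h : PairFix x y) : y pA + y pB = x pA + x pB := by
  obtain ⟨hx, g, hg, rfl⟩ := h
  have h1 := co0_dot g pairL ⟨x, hx⟩
  rw [hg] at h1
  have h2 : dotInt pairBase ((g • (⟨x, hx⟩ : leechLattice) : leechLattice) : GolayPt → ℤ) = dotInt pairBase x := h1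
  rw [dot_pairBase, dot_pairBase] at h2
  omega

theorem pairFix_perm {x : GolayPt → ℤ} (hx : x ∈ leechLattice) {σ : Equiv.Perm GolayPt} (hσ : σ ∈ M24)
    (hfix : σ pA = pA ∧ σ pB = pB ∨ σ pA = pB ∧ σ pB = pA) : PairFix x fun p => x (σ.symm p) := by
  have hfun : ∀ z : GolayPt → ℤ, signedPerm σ ∅ z = fun p => z (σ.symm p) := fun z =>
    funext fun p => by simp [signedPerm]
  refine ⟨hx, monoCo0 σ hσ ∅ empty_mem_codeSets, Subtype.ext ?_, hfun x⟩
  rw [monoCo0_smul, show ((pairL : leechLattice) : GolayPt → ℤ) = pairBase from rfl, hfun]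
  obtain ⟨-, -, -, -, -, -, -, -, -, hz, ha, hb⟩ := pairBase_check
  funext p
  by_cases h1 : p = pA
  · subst h1
    rcases hfix with ⟨e, e'⟩ | ⟨e, e'⟩
    · rw [(Equiv.symm_apply_eq σ).2 e.symm]
    · rw [(Equiv.symm_apply_eq σ).2 e'.symm, ha, hb]
  by_cases h2 : p = pB
  · subst h2
    rcases hfix with ⟨e, e'⟩ | ⟨e, e'⟩
    · rw [(Equiv.symm_apply_eq σ).2 e'.symm]
    · rw [(Equiv.symm_apply_eq σ).2 e.symm, ha, hb]
  rw [hz p h1 h2, hz]
  all_goals
    intro e
    rw [Equiv.symm_apply_eq] at e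
    rcases hfix with ⟨e1, e2⟩ | ⟨e1, e2⟩ <;> simp_all

theorem pairFix_flip {x : GolayPt → ℤ} (hx : x ∈ leechLattice) {c : Finset GolayPt} (hc : c ∈ codeSets)
    (hA : pA ∉ c) (hB : pB ∉ c) : PairFix x fun p => if p ∈ c then -x p else x p := by
  refine ⟨hx, monoCo0 1 (one_mem M24) c hc, Subtype.ext ?_, funext fun p => signedPerm_one c x p⟩
  obtain ⟨-, -, -, -, -, -, -, -, -, hz, -⟩ := pairBase_check
  funext p
  show signedPerm 1 c pairBase p = pairBase p
  rw [signedPerm_one]
  by_cases h1 : p = pA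
  · rw [h1, if_neg hA]
  by_cases h2 : p = pB
  · rw [h2, if_neg hB]
  rw [hz p h1 h2]; simp

theorem exists_map_four {a b c d a' b' c' d' : GolayPt} (h : [a, b, c, d].Nodup) (h' : [a', b', c', d'].Nodup) :
    ∃ σ ∈ M24, σ a = a' ∧ σ b = b' ∧ σ c = c' ∧ σ d = d' := by
  haveI := M24_pretransitive_le 4 (by norm_num)
  have inj : ∀ {u v w z : GolayPt}, [u, v, w, z].Nodup → Function.Injective ![u, v, w, z] := by
    intro u v w z hn i j e
    simp only [List.nodup_cons, List.mem_cons, List.not_mem_nil, or_false, not_or] at hn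
    obtain ⟨⟨x1, x2, x3⟩, ⟨x4, x5⟩, x6, -⟩ := hn
    fin_cases i <;> fin_cases j <;> simp at e <;>
      first | rfl | exact absurd e ‹_› | exact absurd e.symm ‹_›
  obtain ⟨g, hg⟩ := MulAction.exists_smul_eq M24 (⟨![a, b, c, d], inj h⟩ : Fin 4 ↪ GolayPt)
    ⟨![a', b', c', d'], inj h'⟩
  exact ⟨g.1, g.2, congrArg (fun f : Fin 4 ↪ GolayPt => f 0) hg, congrArg (fun f : Fin 4 ↪ GolayPt => f 1) hg,
    congrArg (fun f : Fin 4 ↪ GolayPt => f 2) hg, congrArg (fun f : Fin 4 ↪ GolayPt => f 3) hg⟩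

theorem nodup_base : [pA, pB, pC, pD].Nodup ∧ [pC, pD, pA, pB].Nodup := by decide

/-- The move through the sextet automorphism. -/
theorem pairFix_step_full {x : GolayPt → ℤ} (hx : x ∈ leechLattice) {q r : GolayPt}
    (hn : [pA, pB, q, r].Nodup) :
    ∃ y, PairFix x y ∧ y pA = -(x q - (x pA + x pB + x q + x r) / 2) ∧
      y pB = -(x r - (x pA + x pB + x q + x r) / 2) ∧
      (∃ a, y a = -(x pA - (x pA + x pB + x q + x r) / 2)) ∧
      ∃ b, y b = -(x pB - (x pA + x pB + x q + x r) / 2) := by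
  obtain ⟨-, -, k0, k1, k2, k3, x2, x3, xz, hz, ha, hb⟩ := pairBase_check
  obtain ⟨σ, hσ, sA, sB, sq, sr⟩ := exists_map_four hn nodup_base.1
  have h1 := pairFix_perm hx hσ (Or.inl ⟨sA, sB⟩)
  obtain ⟨τ, hτ, tC, tD, tA, tB⟩ := exists_map_four nodup_base.2 nodup_base.1
  set z : GolayPt → ℤ := fun p => x (σ.symm p) with hzdef
  have hzL : z ∈ leechLattice := h1.symm.1
  have hfun : ∀ w : GolayPt → ℤ, signedPerm τ ∅ w = fun p => w (τ.symm p) := fun w =>
    funext fun p => by simp [signedPerm]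
  have e2 : PairFix z fun p => xiFun z (τ.symm p) := by
    refine ⟨hzL, monoCo0 τ hτ ∅ empty_mem_codeSets * xiCo0, Subtype.ext ?_, ?_⟩
    · rw [mul_smul, monoCo0_smul, xiCo0_apply, hfun]
      funext p
      show xiFun pairBase (τ.symm p) = pairBase p
      by_cases hp1 : p = pA
      · rw [hp1, (Equiv.symm_apply_eq τ).2 tC.symm, x2, ha]
      by_cases hp2 : p = pB
      · rw [hp2, (Equiv.symm_apply_eq τ).2 tD.symm, x3, hb]
      rw [hz p hp1 hp2, xz]
      · rw [Ne, Equiv.symm_apply_eq, tC]; exact hp1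
      · rw [Ne, Equiv.symm_apply_eq, tD]; exact hp2
    · rw [mul_smul, monoCo0_smul, xiCo0_apply, hfun]
  have hz0 : z pA = x pA := by simp only [hzdef, (Equiv.symm_apply_eq σ).2 sA.symm]
  have hz1 : z pB = x pB := by simp only [hzdef, (Equiv.symm_apply_eq σ).2 sB.symm]
  have hz2 : z pC = x q := by simp only [hzdef, (Equiv.symm_apply_eq σ).2 sq.symm]
  have hz3 : z pD = x r := by simp only [hzdef, (Equiv.symm_apply_eq σ).2 sr.symm]
  refine ⟨_, h1.trans e2, ?_, ?_, ⟨pC, ?_⟩, ⟨pD, ?_⟩⟩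
  all_goals
    simp only [(Equiv.symm_apply_eq τ).2 tC.symm, (Equiv.symm_apply_eq τ).2 tD.symm,
      (Equiv.symm_apply_eq τ).2 tA.symm, (Equiv.symm_apply_eq τ).2 tB.symm]
  · have := xiFun_blk z 0 2
    simp only [k2, blkSum, k0, k1, k3, hz0, hz1, hz2, hz3, xiSign, if_true] at this
    omega
  · have := xiFun_blk z 0 3
    simp only [k3, blkSum, k0, k1, k2, hz0, hz1, hz2, hz3, xiSign, if_true] at this
    omega
  · have := xiFun_blk z 0 0
    simp only [k0, blkSum, k1, k2, k3, hz0, hz1, hz2, hz3, xiSign, if_true] at this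
    omega
  · have := xiFun_blk z 0 1
    simp only [k1, blkSum, k0, k2, k3, hz0, hz1, hz2, hz3, xiSign, if_true] at this
    omega

/-- The move, with the two values it puts at the pair. -/
theorem pairFix_step {x : GolayPt → ℤ} (hx : x ∈ leechLattice) {q r : GolayPt}
    (hn : [pA, pB, q, r].Nodup) :
    ∃ y, PairFix x y ∧ y pA = -(x q - (x pA + x pB + x q + x r) / 2) ∧
      y pB = -(x r - (x pA + x pB + x q + x r) / 2) := by
  obtain ⟨y, hy, y1, y2, -, -⟩ := pairFix_step_full hx hn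
  exact ⟨y, hy, y1, y2⟩

/-! ### Shapes -/

theorem parity_coord {x : GolayPt → ℤ} (hx : x ∈ leechLattice) (p q : GolayPt) : x p % 2 = x q % 2 := by
  obtain ⟨m, h1, -, -⟩ := mem_leechLattice_iff.1 hx
  have hp := h1 p
  have hq := h1 q
  unfold Int.ModEq at hp hq
  omega

theorem odd_shape32 {x : GolayPt → ℤ} (hx : x ∈ shell 32) {a : GolayPt} (ha : x a % 2 = 1) :
    (∀ p, x p = -3 ∨ x p = -1 ∨ x p = 1 ∨ x p = 3) ∧ ∃ e, |x e| = 3 ∧ ∀ p, p ≠ e → |x p| = 1 := by
  obtain ⟨hL, hn⟩ := mem_shell.1 hx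
  obtain ⟨y, hy, habs⟩ := exists_odd_normal hL ((parity_coord hL none a).trans ha)
  obtain ⟨c1, c2, hall⟩ := odd_counts (N := 32) (hy.sqNorm_eq.trans hn) (by norm_num) fun p => (habs p).2
  have h5 : (Finset.univ.filter fun p => y p = 5).card = 0 := by omega
  have h7 : (Finset.univ.filter fun p => y p = -7).card = 0 := by omega
  obtain ⟨e, he⟩ := Finset.card_eq_one.1 (show (Finset.univ.filter fun p => y p = -3).card = 1 by omega)
  have hval : ∀ p, y p = 1 ∨ y p = -3 := fun p => by
    rcases hall p with h | h | h | h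
    · exact Or.inl h
    · exact Or.inr h
    · exact absurd (Finset.mem_filter.2 ⟨Finset.mem_univ p, h⟩) (by rw [Finset.card_eq_zero.1 h5]; simp)
    · exact absurd (Finset.mem_filter.2 ⟨Finset.mem_univ p, h⟩) (by rw [Finset.card_eq_zero.1 h7]; simp)
  refine ⟨fun p => ?_, e, ?_, fun p hp => ?_⟩
  · have h := (habs p).1
    rcases hval p with h' | h' <;> rw [h'] at h <;> rcases abs_cases (x p) with ⟨g, -⟩ | ⟨g, -⟩ <;>
      norm_num at h <;> omega
  · have h : e ∈ Finset.univ.filter fun p => y p = -3 := by rw [he]; simp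
    rw [← (habs e).1, (Finset.mem_filter.1 h).2]; norm_num
  · have h : y p ≠ -3 := fun h => hp (Finset.mem_singleton.1 (he ▸ Finset.mem_filter.2 ⟨Finset.mem_univ p, h⟩))
    rw [← (habs p).1, (hval p).resolve_right h]; norm_num

theorem even_shape32 {x : GolayPt → ℤ} (hx : x ∈ shell 32) {a : GolayPt} (ha : x a % 2 = 0) :
    ((∀ p, x p = 0 ∨ x p = 4 ∨ x p = -4) ∧ (absSet x 4).card = 2) ∨
      ((∀ p, x p = 0 ∨ x p = 2 ∨ x p = -2) ∧ absSet x 2 ∈ octads) := by
  obtain ⟨hL, hn⟩ := mem_shell.1 hx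
  obtain ⟨k, hk, hk', hsum, hnorm, hall, hS⟩ := even_shapes hL ((parity_coord hL none a).trans ha) (N := 32) hn
    (by norm_num)
  by_cases h0 : k = 0
  · refine Or.inl ⟨fun p => ?_, by omega⟩
    rcases no_eight hall (by omega) p with e | e | e | e
    · exact Or.inl (abs_eq_zero.1 e)
    · exact absurd (mem_absSet.2 e) (by rw [absSet_eq_empty (x := x) (v := 2) (by omega)]; simp)
    · exact Or.inr ((abs_eq (by norm_num)).1 e)
    · exact absurd (mem_absSet.2 e) (by rw [absSet_eq_empty (x := x) (v := 6) (by omega)]; simp)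
  · have e6 : (absSet x 6).card = 0 := by omega
    rw [absSet_eq_empty e6, Finset.union_empty] at hS
    refine Or.inr ⟨fun p => ?_, hS, by omega⟩
    rcases no_eight hall (by omega) p with e | e | e | e
    · exact Or.inl (abs_eq_zero.1 e)
    · exact Or.inr ((abs_eq (by norm_num)).1 e)
    · exact absurd (mem_absSet.2 e) (by rw [absSet_eq_empty (x := x) (v := 4) (by omega)]; simp)
    · exact absurd (mem_absSet.2 e) (by rw [absSet_eq_empty e6]; simp)

/-! ### Inner product -8 -/

/-- Representative for the inner product -8. -/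
def repEight : GolayPt → ℤ := fun p => if p = pB then -3 else 1

/-- An intermediate vector. -/
def midEight : GolayPt → ℤ := fun p => if p = pC then 3 else -1

theorem exists_move_third {e : GolayPt} (hA : e ≠ pA) (hB : e ≠ pB) :
    ∃ σ ∈ M24, σ pA = pA ∧ σ pB = pB ∧ σ e = pC := by
  obtain ⟨f, hf⟩ : ∃ f, f ∉ ({pA, pB, e} : Finset GolayPt) := by
    by_contra h
    push Not at h
    have := Finset.card_le_card (show Finset.univ ⊆ ({pA, pB, e} : Finset GolayPt) from fun p _ => h p)
    have := this.trans Finset.card_le_three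
    rw [Finset.card_univ, show Fintype.card GolayPt = 24 from rfl] at this
    omega
  simp only [Finset.mem_insert, Finset.mem_singleton, not_or] at hf
  obtain ⟨σ, hσ, s1, s2, s3, -⟩ := exists_map_four (a := pA) (b := pB) (c := e) (d := f)
    (by simp [hA.symm, hB.symm, Ne.symm hf.1, Ne.symm hf.2.1, Ne.symm hf.2.2]; decide) nodup_base.1
  exact ⟨σ, hσ, s1, s2, s3⟩

theorem exists_swap_pair : ∃ σ ∈ M24, σ pA = pB ∧ σ pB = pA := by
  obtain ⟨σ, hσ, s1, s2, -, -⟩ := exists_map_four nodup_base.1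
    (show [pB, pA, pC, pD].Nodup by decide)
  exact ⟨σ, hσ, s1, s2⟩

theorem eight_three_one {x : GolayPt → ℤ} (hx : x ∈ shell 32) (hA : x pA = 1) (hB : x pB = -3) :
    PairFix x repEight := by
  obtain ⟨hL, -⟩ := mem_shell.1 hx
  obtain ⟨hall, e, he, hone⟩ := odd_shape32 hx (a := pA) (by omega)
  have heB : e = pB := by
    by_contra h
    have := hone pB (Ne.symm h)
    rw [hB] at this
    norm_num at this
  subst heB
  obtain ⟨m, -, -, h3⟩ := mem_leechLattice_iff.1 hL
  have hm := pairFix_flip hL (h3 3) (fun h => by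
      have := (Finset.mem_filter.1 h).2
      unfold Int.ModEq at this; omega) fun h => by
      have := (Finset.mem_filter.1 h).2
      unfold Int.ModEq at this; omega
  convert hm using 1
  funext p
  simp only [repEight, Finset.mem_filter, Finset.mem_univ, true_and]
  unfold Int.ModEq
  by_cases hp : p = pB
  · subst hp; simp [hB]
  · have := hone p hp
    rcases (abs_eq (by norm_num)).1 this with e | e <;> simp [hp, e]

theorem eight_one_three {x : GolayPt → ℤ} (hx : x ∈ shell 32) (hA : x pA = -3) (hB : x pB = 1) :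
    PairFix x repEight := by
  obtain ⟨σ, hσ, s1, s2⟩ := exists_swap_pair
  have hm := pairFix_perm (mem_shell.1 hx).1 hσ (Or.inr ⟨s1, s2⟩)
  refine hm.trans (eight_three_one (hm.mem_shell_right hx) ?_ ?_)
  · simp only [(Equiv.symm_apply_eq σ).2 s2.symm, hB]
  · simp only [(Equiv.symm_apply_eq σ).2 s1.symm, hA]

theorem eight_one_one {x : GolayPt → ℤ} (hx : x ∈ shell 32) (hA : x pA = -1) (hB : x pB = -1) :
    PairFix x repEight := by
  obtain ⟨hL, -⟩ := mem_shell.1 hx
  obtain ⟨hall, e, he, hone⟩ := odd_shape32 hx (a := pA) (by omega)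
  obtain ⟨m, -, -, h3⟩ := mem_leechLattice_iff.1 hL
  have hm := pairFix_flip hL (h3 1) (fun h => by
      have := (Finset.mem_filter.1 h).2
      unfold Int.ModEq at this; omega) fun h => by
      have := (Finset.mem_filter.1 h).2
      unfold Int.ModEq at this; omega
  have eA : e ≠ pA := fun h => by rw [h, hA] at he; norm_num at he
  have eB : e ≠ pB := fun h => by rw [h, hB] at he; norm_num at he
  obtain ⟨σ, hσ, s1, s2, s3⟩ := exists_move_third eA eB
  have hm2 := hm.trans (pairFix_perm hm.symm.1 hσ (Or.inl ⟨s1, s2⟩))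
  have hmid : PairFix x midEight := by
    convert hm2 using 1
    funext p
    simp only [midEight, Finset.mem_filter, Finset.mem_univ, true_and]
    unfold Int.ModEq
    by_cases hp : p = pC
    · rw [if_pos hp, hp, (Equiv.symm_apply_eq σ).2 s3.symm]
      rcases (abs_eq (by norm_num)).1 he with h | h <;> simp [h]
    · have hq : σ.symm p ≠ e := fun h => hp (by rw [← s3, ← h, Equiv.apply_symm_apply])
      have := hone _ hq
      rw [if_neg hp]
      rcases (abs_eq (by norm_num)).1 this with h | h <;> simp [h]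
  have hmS := hmid.mem_shell_right hx
  obtain ⟨y, hy, y1, y2⟩ := pairFix_step (mem_shell.1 hmS).1 nodup_base.1
  have v : midEight pA = -1 ∧ midEight pB = -1 ∧ midEight pC = 3 ∧ midEight pD = -1 := by decide
  obtain ⟨v1, v2, v3, v4⟩ := v
  rw [v1, v2, v3, v4] at y1 y2
  exact hmid.trans (hy.trans (eight_one_three (hy.mem_shell_right hmS) (by rw [y1]; norm_num) (by rw [y2]; norm_num)))

theorem exists_two_zeros {x : GolayPt → ℤ} (ho : absSet x 2 ∈ octads) (hall : ∀ p, x p = 0 ∨ x p = 2 ∨ x p = -2) :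
    ∃ q r, q ≠ r ∧ q ≠ pA ∧ q ≠ pB ∧ r ≠ pA ∧ r ≠ pB ∧ x q = 0 ∧ x r = 0 := by
  have hc : 2 ≤ ((Finset.univ : Finset GolayPt) \ (absSet x 2 ∪ {pA, pB})).card := by
    have h1 := Finset.card_union_le (absSet x 2) ({pA, pB} : Finset GolayPt)
    have h2 : ({pA, pB} : Finset GolayPt).card ≤ 2 := Finset.card_le_two
    have h3 := ho.2
    rw [Finset.card_sdiff_of_subset (Finset.subset_univ _), Finset.card_univ,
      show Fintype.card GolayPt = 24 from rfl]
    omega
  obtain ⟨q, hq, r, hr, hne⟩ := Finset.one_lt_card.1 hc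
  simp only [Finset.mem_sdiff, Finset.mem_univ, true_and, Finset.mem_union, Finset.mem_insert,
    Finset.mem_singleton, not_or, mem_absSet] at hq hr
  refine ⟨q, r, hne, hq.2.1, hq.2.2, hr.2.1, hr.2.2, ?_, ?_⟩
  · rcases hall q with e | e | e <;> first | exact e | exact absurd (by rw [e]; norm_num) hq.1
  · rcases hall r with e | e | e <;> first | exact e | exact absurd (by rw [e]; norm_num) hr.1

/-- All vectors with inner product -8 are equivalent. -/
theorem pairFix_eight {x : GolayPt → ℤ} (hx : x ∈ shell 32) (hs : x pA + x pB = -2) : PairFix x repEight := by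
  obtain ⟨hL, -⟩ := mem_shell.1 hx
  rcases Int.emod_two_eq_zero_or_one (x pA) with he | ho
  · rcases even_shape32 hx he with ⟨hall, -⟩ | ⟨hall, ho⟩
    · exfalso
      rcases hall pA with e | e | e <;> rcases hall pB with e' | e' | e' <;> omega
    · obtain ⟨q, r, hne, q1, q2, r1, r2, eq, er⟩ := exists_two_zeros ho hall
      obtain ⟨y, hy, y1, y2⟩ := pairFix_step hL (q := q) (r := r)
        (by simp [hne, q1.symm, q2.symm, r1.symm, r2.symm]; decide)
      rw [eq, er] at y1 y2
      exact hy.trans (eight_one_one (hy.mem_shell_right hx) (by omega) (by omega))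
  · obtain ⟨hall, e, he, hone⟩ := odd_shape32 hx ho
    rcases hall pA with a | a | a | a <;> rcases hall pB with b | b | b | b <;> try omega
    · exact eight_one_three hx a b
    · exact eight_one_one hx a b
    · exact eight_three_one hx a b

/-! ### Inner product -16 -/

/-- Representative for the inner product -16. -/
def repSixteen : GolayPt → ℤ := fun p => if p = pA then -4 else if p = pC then 4 else 0

theorem flip_third : isCode 13938692 = true ∧ (13938692 : ℕ) < 16777216 ∧ pC ∈ mset 13938692 ∧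
    pA ∉ mset 13938692 ∧ pB ∉ mset 13938692 := by decide +kernel

theorem sixteen_four {x : GolayPt → ℤ} (hx : x ∈ shell 32) (hA : x pA = -4) (hB : x pB = 0) :
    PairFix x repSixteen := by
  obtain ⟨hL, -⟩ := mem_shell.1 hx
  obtain ⟨hall, hc⟩ := (even_shape32 hx (a := pA) (by omega)).resolve_right fun h => by
    rcases h.1 pA with e | e | e <;> omega
  have hA4 : pA ∈ absSet x 4 := mem_absSet.2 (by rw [hA]; norm_num)
  obtain ⟨j, hj⟩ := Finset.card_eq_one.1 (show ((absSet x 4).erase pA).card = 1 by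
    rw [Finset.card_erase_of_mem hA4, hc])
  have hjm : j ∈ (absSet x 4).erase pA := by rw [hj]; simp
  rw [Finset.mem_erase, mem_absSet] at hjm
  have hjB : j ≠ pB := fun h => by rw [h, hB] at hjm; norm_num at hjm
  have hrest : ∀ p, p ≠ pA → p ≠ j → x p = 0 := fun p h1 h2 => by
    rcases hall p with e | e | e
    · exact e
    all_goals exact absurd (Finset.mem_singleton.1
        (hj ▸ Finset.mem_erase.2 ⟨h1, mem_absSet.2 (by rw [e]; norm_num)⟩)) h2
  obtain ⟨σ, hσ, s1, s2, s3⟩ := exists_move_third hjm.1 hjB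
  have hm := pairFix_perm hL hσ (Or.inl ⟨s1, s2⟩)
  have hsA : σ.symm pA = pA := (Equiv.symm_apply_eq σ).2 s1.symm
  have hsC : σ.symm pC = j := (Equiv.symm_apply_eq σ).2 s3.symm
  have h0 : ∀ p, p ≠ pA → p ≠ pC → x (σ.symm p) = 0 := fun p h1 h2 => hrest _
    (fun h => h1 (by rw [← s1, ← h, Equiv.apply_symm_apply]))
    fun h => h2 (by rw [← s3, ← h, Equiv.apply_symm_apply])
  rcases (abs_eq (by norm_num)).1 hjm.2 with e | e
  · convert hm using 1
    funext p
    simp only [repSixteen]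
    by_cases h1 : p = pA
    · rw [if_pos h1, h1, hsA, hA]
    by_cases h2 : p = pC
    · rw [if_neg h1, if_pos h2, h2, hsC, e]
    rw [if_neg h1, if_neg h2, h0 p h1 h2]
  · have hf := hm.trans (pairFix_flip hm.symm.1 ((mset_mem_supports_iff flip_third.2.1).2 flip_third.1)
      flip_third.2.2.2.1 flip_third.2.2.2.2)
    convert hf using 1
    funext p
    simp only [repSixteen]
    by_cases h1 : p = pA
    · rw [if_pos h1, h1, if_neg flip_third.2.2.2.1, hsA, hA]
    by_cases h2 : p = pC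
    · rw [if_neg h1, if_pos h2, h2, if_pos flip_third.2.2.1, hsC, e]; rfl
    rw [if_neg h1, if_neg h2, h0 p h1 h2]; simp

theorem sixteen_mixed {x : GolayPt → ℤ} (hx : x ∈ shell 32) (hA : x pA = -2) (hB : x pB = -2) {q r : GolayPt}
    (hq : x q = 2) (hr : x r = -2) (hr1 : r ≠ pA) (hr2 : r ≠ pB) : PairFix x repSixteen := by
  have hqr : q ≠ r := fun h => by rw [h] at hq; omega
  have q1 : q ≠ pA := fun h => by rw [h] at hq; omega
  have q2 : q ≠ pB := fun h => by rw [h] at hq; omega
  obtain ⟨y, hy, y1, y2⟩ := pairFix_step (mem_shell.1 hx).1 (q := q) (r := r)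
    (by simp [hqr, q1.symm, q2.symm, hr1.symm, hr2.symm]; decide)
  rw [hA, hB, hq, hr] at y1 y2
  exact hy.trans (sixteen_four (hy.mem_shell_right hx) (by omega) (by omega))

theorem sixteen_two {x : GolayPt → ℤ} (hx : x ∈ shell 32) (hA : x pA = -2) (hB : x pB = -2) :
    PairFix x repSixteen := by
  obtain ⟨hL, -⟩ := mem_shell.1 hx
  obtain ⟨hall, ho⟩ := (even_shape32 hx (a := pA) (by omega)).resolve_left fun h => by
    rcases h.1 pA with e | e | e <;> omega
  by_cases hmix : (∃ q, x q = 2) ∧ ∃ r, r ≠ pA ∧ r ≠ pB ∧ x r = -2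
  · obtain ⟨⟨q, hq⟩, r, hr1, hr2, hr⟩ := hmix
    exact sixteen_mixed hx hA hB hq hr hr1 hr2
  have hAo : pA ∈ absSet x 2 := mem_absSet.2 (by rw [hA]; norm_num)
  have hBo : pB ∈ absSet x 2 := mem_absSet.2 (by rw [hB]; norm_num)
  have hrestc : (absSet x 2 \ {pA, pB}).card = 6 := by
    rw [Finset.card_sdiff_of_subset (by simp [Finset.insert_subset_iff, hAo, hBo]), Finset.card_pair (by decide), ho.2]
  obtain ⟨T, hT, hTc⟩ := Finset.exists_subset_card_eq (show 4 ≤ (absSet x 2 \ {pA, pB}).card by omega)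
  obtain ⟨e, -, he⟩ := Finset.exists_mem_notMem_of_card_lt_card
    (show (absSet x 2).card < (Finset.univ : Finset GolayPt).card by
      rw [ho.2, Finset.card_univ, show Fintype.card GolayPt = 24 from rfl]; norm_num)
  have heT : e ∉ T := fun h => he (Finset.mem_sdiff.1 (hT h)).1
  obtain ⟨o, ⟨hoo, hsub⟩, -⟩ := octads_steiner.2 (insert e T) (by rw [Finset.card_insert_of_notMem heT, hTc])
  have hTo : T ⊆ o := fun p hp => hsub (Finset.mem_insert_of_mem hp)
  have hne : absSet x 2 ≠ o := fun h => he (h ▸ hsub (Finset.mem_insert_self e T))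
  have hTi : T ⊆ absSet x 2 ∩ o := fun p hp => Finset.mem_inter.2 ⟨(Finset.mem_sdiff.1 (hT hp)).1, hTo hp⟩
  have hi : absSet x 2 ∩ o = T := (Finset.eq_of_subset_of_card_le hTi (by
    rw [octads_inter_four ho hoo hne (le_trans (by omega) (Finset.card_le_card hTi)), hTc])).symm
  have hnot : ∀ p, p = pA ∨ p = pB → p ∉ o := fun p hp h => by
    have hpo : p ∈ absSet x 2 := by rcases hp with rfl | rfl <;> assumption
    have hpT : p ∈ T := hi ▸ Finset.mem_inter.2 ⟨hpo, h⟩
    have := (Finset.mem_sdiff.1 (hT hpT)).2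
    simp only [Finset.mem_insert, Finset.mem_singleton] at this
    exact this hp
  have hf := pairFix_flip hL hoo.1 (hnot _ (Or.inl rfl)) (hnot _ (Or.inr rfl))
  obtain ⟨u, hu⟩ := Finset.card_pos.1 (show 0 < T.card by omega)
  obtain ⟨v, hv⟩ := Finset.card_pos.1 (show 0 < ((absSet x 2 \ {pA, pB}) \ T).card by
    rw [Finset.card_sdiff_of_subset hT]; omega)
  rw [Finset.mem_sdiff] at hv
  have hu2 := Finset.mem_sdiff.1 (hT hu)
  have hv2 := Finset.mem_sdiff.1 hv.1
  simp only [Finset.mem_insert, Finset.mem_singleton, not_or] at hu2 hv2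
  have hvo : v ∉ o := fun h => hv.2 (hi ▸ Finset.mem_inter.2 ⟨hv2.1, h⟩)
  have xu := (abs_eq (by norm_num)).1 (mem_absSet.1 hu2.1)
  have xv := (abs_eq (by norm_num)).1 (mem_absSet.1 hv2.1)
  have hfS := hf.mem_shell_right hx
  have fA : (if pA ∈ o then -x pA else x pA) = -2 := by rw [if_neg (hnot _ (Or.inl rfl)), hA]
  have fB : (if pB ∈ o then -x pB else x pB) = -2 := by rw [if_neg (hnot _ (Or.inr rfl)), hB]
  have fu : (if u ∈ o then -x u else x u) = -x u := if_pos (hTo hu)
  have fv : (if v ∈ o then -x v else x v) = x v := if_neg hvo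
  rcases xu with eu | eu <;> rcases xv with ev | ev
  · exact hf.trans (sixteen_mixed hfS fA fB (q := v) (r := u) (by rw [fv, ev]) (by rw [fu, eu])
      hu2.2.1 hu2.2.2)
  · exact absurd ⟨⟨u, eu⟩, v, hv2.2.1, hv2.2.2, ev⟩ hmix
  · exact absurd ⟨⟨v, ev⟩, u, hu2.2.1, hu2.2.2, eu⟩ hmix
  · exact hf.trans (sixteen_mixed hfS fA fB (q := u) (r := v) (by rw [fu, eu]; rfl) (by rw [fv, ev])
      hv2.2.1 hv2.2.2)

theorem three_others : [pA, pB, gpt 3, gpt 4].Nodup ∧ [pA, pB, gpt 3, gpt 5].Nodup ∧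
    [pA, pB, gpt 4, gpt 5].Nodup := by decide

/-- All vectors with inner product -16 are equivalent. -/
theorem pairFix_sixteen {x : GolayPt → ℤ} (hx : x ∈ shell 32) (hs : x pA + x pB = -4) : PairFix x repSixteen := by
  obtain ⟨hL, -⟩ := mem_shell.1 hx
  rcases Int.emod_two_eq_zero_or_one (x pA) with he | ho
  · rcases even_shape32 hx he with ⟨hall, -⟩ | ⟨hall, -⟩
    · rcases hall pA with a | a | a <;> rcases hall pB with b | b | b <;> try omega
      · obtain ⟨σ, hσ, s1, s2⟩ := exists_swap_pair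
        have hm := pairFix_perm hL hσ (Or.inr ⟨s1, s2⟩)
        refine hm.trans (sixteen_four (hm.mem_shell_right hx) ?_ ?_)
        · simp only [(Equiv.symm_apply_eq σ).2 s2.symm, b]
        · simp only [(Equiv.symm_apply_eq σ).2 s1.symm, a]
      · exact sixteen_four hx a b
    · rcases hall pA with a | a | a <;> rcases hall pB with b | b | b <;> try omega
      exact sixteen_two hx a b
  · obtain ⟨hall, e, he, hone⟩ := odd_shape32 hx ho
    have heAB : e = pA ∨ e = pB := by
      by_contra h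
      push Not at h
      have := hone pA h.1.symm
      have := hone pB h.2.symm
      rcases hall pA with a | a | a | a <;> rcases hall pB with b | b | b | b <;> simp_all
    have h1 : ∀ p, p ≠ pA → p ≠ pB → x p = 1 ∨ x p = -1 := fun p ha hb =>
      (abs_eq (by norm_num)).1 (hone p (by rcases heAB with rfl | rfl <;> assumption))
    have key : ∀ q r, [pA, pB, q, r].Nodup → x q = x r → PairFix x repSixteen := fun q r hn hqr => by
      obtain ⟨y, hy, y1, y2⟩ := pairFix_step hL hn
      rw [hqr] at y1 y2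
      exact hy.trans (sixteen_two (hy.mem_shell_right hx) (by omega) (by omega))
    obtain ⟨n1, n2, n3⟩ := three_others
    rcases h1 (gpt 3) (by decide) (by decide) with a | a <;> rcases h1 (gpt 4) (by decide) (by decide) with b | b <;>
      rcases h1 (gpt 5) (by decide) (by decide) with c | c <;>
      first | exact key _ _ n1 (a.trans b.symm) | exact key _ _ n2 (a.trans c.symm) | exact key _ _ n3 (b.trans c.symm)

/-- Transitivity of the stabiliser of a norm-32 vector, given orbit facts for `pairBase`. -/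
theorem exists_fix_of_pairFix {v w w' : leechLattice} (hv : sqNorm (v : GolayPt → ℤ) = 32)
    (hw : sqNorm (w : GolayPt → ℤ) = 32) (hw' : sqNorm (w' : GolayPt → ℤ) = 32) {k : ℤ}
    (hd : dotInt (v : GolayPt → ℤ) (w : GolayPt → ℤ) = 4 * k) (hd' : dotInt (v : GolayPt → ℤ) (w' : GolayPt → ℤ) = 4 * k)
    {t : GolayPt → ℤ} (hk : ∀ x ∈ shell 32, x pA + x pB = k → PairFix x t) :
    ∃ g : Co0, g • v = v ∧ g • w = w' := by
  obtain ⟨h, hh⟩ := exists_smul_eq_of_moves (moves32 v.2 hv) (moves32 pairL.2 pairBase_check.2.1)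
  have tr : ∀ u : leechLattice, sqNorm (u : GolayPt → ℤ) = 32 → dotInt (v : GolayPt → ℤ) (u : GolayPt → ℤ) = 4 * k →
      PairFix ((h • u : leechLattice) : GolayPt → ℤ) t := fun u hu hdu => by
    refine hk _ (mem_shell.2 ⟨(h • u).2, (co0_sqNorm h u).trans hu⟩) ?_
    have h1 := co0_dot h v u
    rw [hh, show ((pairL : leechLattice) : GolayPt → ℤ) = pairBase from rfl, dot_pairBase, hdu] at h1
    omega
  obtain ⟨hx, g, hg, e⟩ := (tr w hw hd).trans (tr w' hw' hd').symm
  have e' : g • (h • w) = h • w' := Subtype.ext e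
  refine ⟨h⁻¹ * g * h, ?_, ?_⟩
  · rw [mul_smul, mul_smul, hh, hg, ← hh, inv_smul_smul]
  · rw [mul_smul, mul_smul, e', inv_smul_smul]

end Cfsg.Lib.Concrete
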