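import Cfsg.Agent.Lib.Concrete.LeechSimple
import Cfsg.Agent.Lib.Concrete.MonsterCentral
import Cfsg.Agent.Lib.Concrete.LeechJointOrbits
import Cfsg.Agent.S1573
import Cfsg.Agent.S1575

/-!
The simple groups attached to the rank-24 lattice: orders and simplicity.
-/

set_option autoImplicit false

namespace Cfsg.Lib.Concrete

open Cfsg
open MulAction

local notation "zP" => (some 0 : GolayPt)

theorem finite_Co0 : Finite Co0 := Nat.finite_of_card_ne_zero (by rw [card_Co0]; norm_num)

/-- Numbers dividing `M` whose prime-power parts are one modulo `p`. -/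
theorem eq_one_or_of_parts {n M p : ℕ} (hM0 : M ≠ 0) (hd : n ∣ M)
    (parts : ∀ q : ℕ, q.Prime → q ∣ n → q ^ n.factorization q % p = 1) (L : List (ℕ × ℕ))
    (hL : ∀ q : ℕ, q.Prime → q ∣ M → ∃ c, (q, c) ∈ L) (E : Bool)
    (hc : ∀ e ∈ L, ¬ e.1 ^ (e.2 + 1) ∣ M ∧
      ∀ a ∈ List.range (e.2 + 1), a = 0 ∨ e.1 ^ a % p ≠ 1 ∨ (E = true ∧ e.1 = 2 ∧ a = 11)) :
    n = 1 ∨ (E = true ∧ n = 2 ^ 11) := by
  have hn0 : n ≠ 0 := fun h => hM0 (by simpa [h] using hd)
  have key : ∀ q : ℕ, q.Prime → q ∣ n → E = true ∧ q = 2 ∧ n.factorization q = 11 := by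
    intro q hq hqn
    obtain ⟨c, hcm⟩ := hL q hq (hqn.trans hd)
    obtain ⟨h1, h2⟩ := hc _ hcm
    have hle : n.factorization q ≤ c := exp_le_of_dvd ((Nat.ordProj_dvd n q).trans hd) h1
    rcases h2 _ (List.mem_range.2 (Nat.lt_succ_of_le hle)) with h | h | h
    · exact absurd h (Nat.pos_iff_ne_zero.1 (hq.factorization_pos_of_dvd hn0 hqn))
    · exact absurd (parts q hq hqn) h
    · exact h
  by_cases h1 : n = 1
  · exact Or.inl h1
  obtain ⟨q, hq, hqn⟩ := Nat.exists_prime_and_dvd h1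
  obtain ⟨hE, rfl, ha⟩ := key q hq hqn
  refine Or.inr ⟨hE, ?_⟩
  have h2 := Nat.eq_prime_pow_of_unique_prime_dvd (p := 2) hn0 fun {r} hr hrn => (key r hr hrn).2.1
  obtain ⟨k, hk⟩ : ∃ k, n = 2 ^ k := ⟨_, h2⟩
  rw [hk, hq.factorization_pow, Finsupp.single_eq_same] at ha
  rw [hk, ha]

theorem simple_of_core {G : Type*} [Group G] [Finite G] (K : Subgroup G) (hK : IsSimpleGroup K) {p : ℕ}
    [Fact p.Prime] (x : G) (hx : orderOf x = p) (hp2 : ¬ p ^ 2 ∣ Nat.card G)
    (hN : ∀ g : G, g * x * g⁻¹ ∈ Subgroup.zpowers x → g ∈ K)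
    {M : ℕ} (hM : Nat.card G = Nat.card K * M) (L : List (ℕ × ℕ))
    (hL : ∀ q : ℕ, q.Prime → q ∣ M → ∃ c, (q, c) ∈ L) (E : Bool)
    (hc : ∀ e ∈ L, ¬ e.1 ^ (e.2 + 1) ∣ M ∧
      ∀ a ∈ List.range (e.2 + 1), a = 0 ∨ e.1 ^ a % p ≠ 1 ∨ (E = true ∧ e.1 = 2 ∧ a = 11))
    (hE : E = true → ∀ N : Subgroup G, N.Normal → Nat.card N ≠ 2 ^ 11) : IsSimpleGroup G := by
  haveI := hK
  haveI : Nontrivial G := ⟨⟨x, 1, fun h => (Fact.out : p.Prime).one_lt.ne (by rw [← hx, h, orderOf_one])⟩⟩
  have hidx : K.index = M := Nat.eq_of_mul_eq_mul_left Nat.card_pos (K.card_mul_index.trans hM)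
  refine ⟨fun N hN' => ?_⟩
  rcases normal_dichotomy K x hx hp2 hN N with h | ⟨h1, h2⟩
  · exact Or.inr h
  · left
    rw [hidx] at h1
    have hM0 : M ≠ 0 := fun h => by rw [h, mul_zero] at hM; exact Nat.card_pos.ne' hM
    rcases eq_one_or_of_parts hM0 h1 (fun q hq _ => by
      haveI : Fact q.Prime := ⟨hq⟩
      rw [← (default : Sylow q N).card_eq_multiplicity]
      exact h2 q hq _) L hL E hc with h | ⟨hE', h⟩
    · exact Subgroup.card_eq_one.1 h
    · exact absurd h (hE hE' N hN')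

theorem permHom_order (x : M24) : orderOf (permHom x) = orderOf x := orderOf_injective permHom permHom_injective x

theorem permM23_le_three : permM23 ≤ stabilizer Co0 threeL := by
  rintro _ ⟨σ, hσ, rfl⟩
  refine (permHom_fix_iff σ _).2 fun p => ?_
  rw [threeL_apply, threeL_apply]
  exact if_congr ⟨fun h => σ.1.injective (h.trans hσ.symm), fun h => h ▸ hσ⟩ rfl rfl

theorem permM23_le_five : permM23 ≤ stabilizer Co0 fiveL := by
  rintro _ ⟨σ, hσ, rfl⟩
  refine (permHom_fix_iff σ _).2 fun p => ?_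
  rw [fiveL_apply, fiveL_apply]
  exact if_congr ⟨fun h => σ.1.injective (h.trans hσ.symm), fun h => h ▸ hσ⟩ rfl rfl

theorem permM22_le_mcl : permM22 ≤ stabilizer Co0 Spor.leechU ⊓ stabilizer Co0 threeL := by
  rintro _ ⟨σ, ⟨hσ, hσ'⟩, rfl⟩
  refine ⟨(permHom_fix_iff σ _).2 fun p => ?_, permM23_le_three ⟨σ, hσ, rfl⟩⟩
  show (if σ.1 p = none ∨ σ.1 p = zP then (4 : ℤ) else 0) = if p = none ∨ p = zP then (4 : ℤ) else 0
  exact if_congr ⟨fun h => h.imp (fun h => σ.1.injective (h.trans hσ.symm)) (fun h => σ.1.injective (h.trans hσ'.symm)),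
    fun h => h.imp (fun (h : p = none) => h ▸ hσ) (fun (h : p = zP) => h ▸ hσ')⟩ rfl rfl

theorem permM22_le_hs : permM22 ≤ stabilizer Co0 fiveL ⊓ stabilizer Co0 fiveNegL := by
  rintro _ ⟨σ, ⟨hσ, hσ'⟩, rfl⟩
  refine ⟨permM23_le_five ⟨σ, hσ, rfl⟩, (permHom_fix_iff σ _).2 fun p => ?_⟩
  rw [fiveNegL_apply, fiveNegL_apply]
  exact if_congr ⟨fun h => σ.1.injective (h.trans hσ'.symm), fun h => h ▸ hσ'⟩ rfl rfl

theorem fiveL_norm : sqNorm (fiveL : GolayPt → ℤ) = 48 := reps_check.2.2.2.1
theorem fiveNegL_norm : sqNorm (fiveNegL : GolayPt → ℤ) = 48 := reps_check.2.2.2.2.1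
theorem threeL_norm : sqNorm (threeL : GolayPt → ℤ) = 32 := reps_check.2.2.2.2.2.1
theorem five_dot : dotInt (fiveL : GolayPt → ℤ) (fiveNegL : GolayPt → ℤ) = -32 := reps_check.2.2.2.2.2.2.1
theorem mcl_dot : dotInt ((Spor.leechU : leechLattice) : GolayPt → ℤ) (threeL : GolayPt → ℤ) = -8 := reps_check.2.2.2.2.2.2.2

/-- Orbit counting inside a subgroup. -/
theorem card_inf_stabilizer (H : Subgroup Co0) (v : leechLattice) (T : Set leechLattice)
    (hstable : ∀ g ∈ H, g • v ∈ T) (htrans : ∀ w ∈ T, ∃ g ∈ H, g • v = w) :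
    Nat.card ↥(H ⊓ stabilizer Co0 v) * T.ncard = Nat.card H := by
  have horb : orbit H v = T := Set.ext fun w =>
    ⟨fun ⟨⟨g, hg⟩, e⟩ => e ▸ hstable g hg, fun hw => by obtain ⟨g, hg, e⟩ := htrans w hw; exact ⟨⟨g, hg⟩, e⟩⟩
  have h := Subgroup.card_mul_index (stabilizer H v)
  rw [index_stabilizer, horb] at h
  rw [← h, Nat.card_congr (Subgroup.subgroupOfEquivOfLe (inf_le_left : H ⊓ stabilizer Co0 v ≤ H)).toEquiv.symm]
  congr 1
  refine congrArg (fun S : Subgroup H => Nat.card S) (Subgroup.ext fun g => ?_)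
  exact ⟨fun hg => hg.2, fun hg => ⟨g.2, hg⟩⟩

theorem ncard_norm {N : ℤ} : {v : leechLattice | sqNorm (v : GolayPt → ℤ) = N}.ncard = (shell N).card := by
  rw [← Set.ncard_image_of_injective _ Subtype.val_injective, ← Set.ncard_coe_finset]
  refine congrArg Set.ncard (Set.ext fun w => ⟨?_, fun hw => ?_⟩)
  · rintro ⟨v, hv, rfl⟩; exact mem_shell.2 ⟨v.2, hv⟩
  · exact ⟨⟨w, (mem_shell.1 hw).1⟩, (mem_shell.1 hw).2, rfl⟩

theorem card_stab_short (v : leechLattice) (hv : sqNorm (v : GolayPt → ℤ) = 32) :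
    Nat.card (stabilizer Co0 v) = 42305421312000 := by
  have h := card_inf_stabilizer ⊤ v {w | sqNorm (w : GolayPt → ℤ) = 32} (fun g _ => (co0_sqNorm g v).trans hv)
    fun w hw => by
      obtain ⟨g, hg⟩ := exists_smul_eq_of_moves (moves32 v.2 hv) (moves32 w.2 hw)
      exact ⟨g, Subgroup.mem_top g, hg⟩
  rw [top_inf_eq, Subgroup.card_top, card_Co0, ncard_norm, card_shell32,
    show (8315553613086720000 : ℕ) = 42305421312000 * 196560 by norm_num] at h
  exact Nat.eq_of_mul_eq_mul_right (by norm_num) h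

theorem card_stab_48 (v : leechLattice) (hv : sqNorm (v : GolayPt → ℤ) = 48) :
    Nat.card (stabilizer Co0 v) = 495766656000 := by
  have h := card_inf_stabilizer ⊤ v {w | sqNorm (w : GolayPt → ℤ) = 48} (fun g _ => (co0_sqNorm g v).trans hv)
    fun w hw => by
      obtain ⟨g, hg⟩ := exists_smul_eq_of_moves (moves48 v.2 hv) (moves48 w.2 hw)
      exact ⟨g, Subgroup.mem_top g, hg⟩
  rw [top_inf_eq, Subgroup.card_top, card_Co0, ncard_norm, card_shell48,
    show (8315553613086720000 : ℕ) = 495766656000 * 16773120 by norm_num] at h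
  exact Nat.eq_of_mul_eq_mul_right (by norm_num) h

theorem card_mcl (v w : leechLattice) (hv : sqNorm (v : GolayPt → ℤ) = 32) (hw : sqNorm (w : GolayPt → ℤ) = 32)
    (hd : dotInt (v : GolayPt → ℤ) (w : GolayPt → ℤ) = -8) :
    Nat.card ↥(stabilizer Co0 v ⊓ stabilizer Co0 w) = 898128000 := by
  have h := card_inf_stabilizer (stabilizer Co0 v) w
    {x | sqNorm (x : GolayPt → ℤ) = 32 ∧ dotInt (v : GolayPt → ℤ) (x : GolayPt → ℤ) = -8}
    (fun g hg => ⟨(co0_sqNorm g w).trans hw, by conv_lhs => rw [← (hg : g • v = v)]; rw [co0_dot, hd]⟩)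
    fun x hx => by
      obtain ⟨g, g1, g2⟩ := Cfsg.Agent.S1575.result v w x hv hw hx.1 hd hx.2
      exact ⟨g, g1, g2⟩
  rw [card_stab_short v hv, ← Set.ncard_image_of_injective _ Subtype.val_injective,
    show Subtype.val '' {x : leechLattice | sqNorm (x : GolayPt → ℤ) = 32 ∧ dotInt (v : GolayPt → ℤ) (x : GolayPt → ℤ) = -8} =
      {x : GolayPt → ℤ | x ∈ leechLattice ∧ sqNorm x = 32 ∧ dotInt (v : GolayPt → ℤ) x = -8} from Set.ext fun y =>
      ⟨fun ⟨x, hx, e⟩ => e ▸ ⟨x.2, hx.1, hx.2⟩, fun hy => ⟨⟨y, hy.1⟩, hy.2, rfl⟩⟩,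
    (Cfsg.Agent.S1573.result _ v.2 hv).2.1, show (42305421312000 : ℕ) = 898128000 * 47104 by norm_num] at h
  exact Nat.eq_of_mul_eq_mul_right (by norm_num) h

theorem neg_sum_facts {v w : leechLattice} (hv : sqNorm (v : GolayPt → ℤ) = 48) (hw : sqNorm (w : GolayPt → ℤ) = 48)
    (hd : dotInt (v : GolayPt → ℤ) (w : GolayPt → ℤ) = -32) :
    sqNorm ((-(v + w) : leechLattice) : GolayPt → ℤ) = 32 ∧
      dotInt ((-(v + w) : leechLattice) : GolayPt → ℤ) (v : GolayPt → ℤ) = -16 := by
  refine ⟨?_, ?_⟩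
  · rw [AddSubgroup.coe_neg, sqNorm_neg', AddSubgroup.coe_add, sqNorm_add, hv, hw, hd]
    norm_num
  · rw [AddSubgroup.coe_neg, dotInt_comm, dotInt_neg_right, AddSubgroup.coe_add, dotInt_add_right, dotInt_self, hv, hd]
    norm_num

theorem stab_pair_eq (v w : leechLattice) :
    stabilizer Co0 v ⊓ stabilizer Co0 w = stabilizer Co0 (-(v + w)) ⊓ stabilizer Co0 v := by
  ext g
  constructor
  · rintro ⟨h1, h2⟩
    refine ⟨?_, h1⟩
    show co0Hom g (-(v + w)) = -(v + w)
    rw [map_neg, map_add, show co0Hom g v = v from h1, show co0Hom g w = w from h2]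
  · rintro ⟨h1, h2⟩
    refine ⟨h2, ?_⟩
    have h3 : co0Hom g (-(v + w)) = -(v + w) := h1
    rw [map_neg, map_add, neg_inj, show co0Hom g v = v from h2] at h3
    exact add_left_cancel h3

theorem card_hs (v w : leechLattice) (hv : sqNorm (v : GolayPt → ℤ) = 48) (hw : sqNorm (w : GolayPt → ℤ) = 48)
    (hd : dotInt (v : GolayPt → ℤ) (w : GolayPt → ℤ) = -32) :
    Nat.card ↥(stabilizer Co0 v ⊓ stabilizer Co0 w) = 44352000 := by
  obtain ⟨hz, hzv⟩ := neg_sum_facts hv hw hd
  set z := -(v + w)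
  have h := card_inf_stabilizer (stabilizer Co0 z) v
    {x | sqNorm (x : GolayPt → ℤ) = 48 ∧ dotInt (z : GolayPt → ℤ) (x : GolayPt → ℤ) = -16}
    (fun g hg => ⟨(co0_sqNorm g v).trans hv, by conv_lhs => rw [← (hg : g • z = z)]; rw [co0_dot, hzv]⟩)
    fun x hx => by
      obtain ⟨g, g1, g2⟩ := exists_fix_fortyEight hz hv hx.1 hzv hx.2
      exact ⟨g, g1, g2⟩
  have hcount : {x : leechLattice | sqNorm (x : GolayPt → ℤ) = 48 ∧
      dotInt (z : GolayPt → ℤ) (x : GolayPt → ℤ) = -16}.ncard = 953856 := by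
    obtain ⟨k, hk, hk'⟩ := exists_to_pairBase z hz
    rw [← card_fortyEightSet, ← Set.ncard_image_of_injective _
      (Subtype.val_injective.comp (MulAction.injective k)), ← Set.ncard_coe_finset]
    refine congrArg Set.ncard (Set.ext fun y => ?_)
    simp only [Set.mem_image, Function.comp_apply, Finset.mem_coe, fortyEightSet, Finset.mem_filter]
    constructor
    · rintro ⟨x, ⟨h1, h2⟩, rfl⟩
      exact ⟨mem_shell.2 ⟨(k • x).2, (co0_sqNorm k x).trans h1⟩, hk' x (-4) (h2.trans (by norm_num))⟩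
    · rintro ⟨hy, hys⟩
      obtain ⟨hyL, hyn⟩ := mem_shell.1 hy
      refine ⟨k⁻¹ • ⟨y, hyL⟩, ⟨(co0_sqNorm _ _).trans hyn, ?_⟩, by rw [smul_inv_smul]⟩
      have := co0_dot k z (k⁻¹ • ⟨y, hyL⟩)
      rw [smul_inv_smul, hk, show ((pairL : leechLattice) : GolayPt → ℤ) = pairBase from rfl, dot_pairBase, hys] at this
      exact this.symm.trans (by norm_num)
  rw [← stab_pair_eq, card_stab_short z hz, hcount, show (42305421312000 : ℕ) = 44352000 * 953856 by norm_num] at h
  exact Nat.eq_of_mul_eq_mul_right (by norm_num) h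

theorem primes_of_dvd {q : ℕ} (hq : q.Prime) {r a : ℕ} (hr : r.Prime) (h : q ∣ r ^ a) : q = r :=
  (Nat.prime_dvd_prime_iff_eq hq hr).1 (hq.dvd_of_dvd_pow h)

/-- The factor data of the four indices. -/
theorem co2_index {q : ℕ} (hq : q.Prime) (h : q ∣ 2 ^ 11 * 3 ^ 4 * 5 ^ 2) :
    ∃ c, (q, c) ∈ [(2, 11), (3, 4), (5, 2)] := by
  rcases hq.dvd_mul.1 h with h | h
  · rcases hq.dvd_mul.1 h with h | h
    · exact ⟨11, by simp [primes_of_dvd hq Nat.prime_two h]⟩
    · exact ⟨4, by simp [primes_of_dvd hq Nat.prime_three h]⟩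
  · exact ⟨2, by simp [primes_of_dvd hq Nat.prime_five h]⟩

theorem co3_index {q : ℕ} (hq : q.Prime) (h : q ∣ 2 ^ 3 * 3 ^ 5 * 5 ^ 2) :
    ∃ c, (q, c) ∈ [(2, 3), (3, 5), (5, 2)] := by
  rcases hq.dvd_mul.1 h with h | h
  · rcases hq.dvd_mul.1 h with h | h
    · exact ⟨3, by simp [primes_of_dvd hq Nat.prime_two h]⟩
    · exact ⟨5, by simp [primes_of_dvd hq Nat.prime_three h]⟩
  · exact ⟨2, by simp [primes_of_dvd hq Nat.prime_five h]⟩

theorem mcl_index {q : ℕ} (hq : q.Prime) (h : q ∣ 3 ^ 4 * 5 ^ 2) : ∃ c, (q, c) ∈ [(3, 4), (5, 2)] := by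
  rcases hq.dvd_mul.1 h with h | h
  · exact ⟨4, by simp [primes_of_dvd hq Nat.prime_three h]⟩
  · exact ⟨2, by simp [primes_of_dvd hq Nat.prime_five h]⟩

theorem hs_index {q : ℕ} (hq : q.Prime) (h : q ∣ 2 ^ 2 * 5 ^ 2) : ∃ c, (q, c) ∈ [(2, 2), (5, 2)] := by
  rcases hq.dvd_mul.1 h with h | h
  · exact ⟨2, by simp [primes_of_dvd hq Nat.prime_two h]⟩
  · exact ⟨2, by simp [primes_of_dvd hq Nat.prime_five h]⟩

theorem co1_index {q : ℕ} (hq : q.Prime) (h : q ∣ 2 ^ 14 * 3 ^ 7 * 5 ^ 3 * 7 * 13) :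
    ∃ c, (q, c) ∈ [(2, 14), (3, 7), (5, 3), (7, 1), (13, 1)] := by
  rcases hq.dvd_mul.1 h with h | h
  · rcases hq.dvd_mul.1 h with h | h
    · rcases hq.dvd_mul.1 h with h | h
      · rcases hq.dvd_mul.1 h with h | h
        · exact ⟨14, by simp [primes_of_dvd hq Nat.prime_two h]⟩
        · exact ⟨7, by simp [primes_of_dvd hq Nat.prime_three h]⟩
      · exact ⟨3, by simp [primes_of_dvd hq Nat.prime_five h]⟩
    · exact ⟨1, by simp [(Nat.prime_dvd_prime_iff_eq hq (by norm_num)).1 h]⟩
  · exact ⟨1, by simp [(Nat.prime_dvd_prime_iff_eq hq (by norm_num)).1 h]⟩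

theorem isCo3_five : IsCo3 (stabilizer Co0 fiveL) := by
  haveI := finite_Co0
  haveI : Fact (Nat.Prime 23) := ⟨by norm_num⟩
  obtain ⟨x, hx, hn⟩ := exists_twentythree
  have hcard := card_stab_48 fiveL fiveL_norm
  have e := Subgroup.subgroupOfEquivOfLe permM23_le_five
  haveI := permM23_simple
  refine ⟨simple_of_core (permM23.subgroupOf _) (e.isSimpleGroup_congr.2 permM23_simple) (p := 23)
    ⟨permHom x, permM23_le_five ⟨x, hn, rfl⟩⟩ (by rw [Subgroup.orderOf_mk, permHom_order, hx])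
    (by rw [hcard]; norm_num) (fun g hg => normalizer_five hx hn g.2 ?_) (M := 2 ^ 3 * 3 ^ 5 * 5 ^ 2)
    (by rw [hcard, Nat.card_congr e.toEquiv, card_permM23]; norm_num) _ (fun _ => co3_index) false
    (by decide +kernel) (fun h => absurd h (by decide)), hcard⟩
  obtain ⟨k, hk⟩ := hg
  exact ⟨k, by simpa using congrArg Subtype.val hk⟩

theorem isCo2_three : IsCo2 (stabilizer Co0 threeL) := by
  haveI := finite_Co0
  haveI : Fact (Nat.Prime 23) := ⟨by norm_num⟩
  obtain ⟨x, hx, hn⟩ := exists_twentythree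
  have hcard := card_stab_short threeL threeL_norm
  have e := Subgroup.subgroupOfEquivOfLe permM23_le_three
  refine ⟨simple_of_core (permM23.subgroupOf _) (e.isSimpleGroup_congr.2 permM23_simple) (p := 23)
    ⟨permHom x, permM23_le_three ⟨x, hn, rfl⟩⟩ (by rw [Subgroup.orderOf_mk, permHom_order, hx])
    (by rw [hcard]; norm_num) (fun g hg => normalizer_three hx hn g.2 ?_) (M := 2 ^ 11 * 3 ^ 4 * 5 ^ 2)
    (by rw [hcard, Nat.card_congr e.toEquiv, card_permM23]; norm_num) _ (fun _ => co2_index) true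
    (by decide +kernel) (fun _ N hN h => ?_), hcard⟩
  · obtain ⟨k, hk⟩ := hg
    exact ⟨k, by simpa using congrArg Subtype.val hk⟩
  · have hb := stabilizer_core threeL_norm (N.map (stabilizer Co0 threeL).subtype) (Subgroup.map_subtype_le N)
      (fun g hg n hn => by
        obtain ⟨m, hm, rfl⟩ := hn
        exact ⟨⟨g, hg⟩ * m * ⟨g, hg⟩⁻¹, hN.conj_mem m hm _, rfl⟩)
      (((IsPGroup.of_card h : IsPGroup 2 N)).map _)
    rw [Subgroup.map_eq_bot_iff_of_injective _ (stabilizer Co0 threeL).subtype_injective] at hb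
    rw [hb, Subgroup.card_bot] at h
    norm_num at h

theorem isMcL_three : IsMcL ↥(stabilizer Co0 Spor.leechU ⊓ stabilizer Co0 threeL) := by
  haveI := finite_Co0
  haveI : Fact (Nat.Prime 11) := ⟨by norm_num⟩
  obtain ⟨x, hx, hn, hz⟩ := exists_eleven
  have hcard := card_mcl Spor.leechU threeL
    (show sqNorm Spor.vecU = 32 by decide +kernel) threeL_norm mcl_dot
  have e := Subgroup.subgroupOfEquivOfLe permM22_le_mcl
  refine ⟨simple_of_core (permM22.subgroupOf _) (e.isSimpleGroup_congr.2 permM22_simple) (p := 11)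
    ⟨permHom x, permM22_le_mcl ⟨x, ⟨hn, hz⟩, rfl⟩⟩ (by rw [Subgroup.orderOf_mk, permHom_order, hx])
    (by rw [hcard]; norm_num) (fun g hg => normalizer_mcl hx hn hz g.2.1 g.2.2 ?_) (M := 3 ^ 4 * 5 ^ 2)
    (by rw [hcard, Nat.card_congr e.toEquiv, card_permM22]; norm_num) _ (fun _ => mcl_index) false
    (by decide +kernel) (fun h => absurd h (by decide)), hcard⟩
  obtain ⟨k, hk⟩ := hg
  exact ⟨k, by simpa using congrArg Subtype.val hk⟩

theorem isHS_five : IsHS ↥(stabilizer Co0 fiveL ⊓ stabilizer Co0 fiveNegL) := by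
  haveI := finite_Co0
  haveI : Fact (Nat.Prime 11) := ⟨by norm_num⟩
  obtain ⟨x, hx, hn, hz⟩ := exists_eleven
  have hcard := card_hs fiveL fiveNegL fiveL_norm fiveNegL_norm five_dot
  have e := Subgroup.subgroupOfEquivOfLe permM22_le_hs
  refine ⟨simple_of_core (permM22.subgroupOf _) (e.isSimpleGroup_congr.2 permM22_simple) (p := 11)
    ⟨permHom x, permM22_le_hs ⟨x, ⟨hn, hz⟩, rfl⟩⟩ (by rw [Subgroup.orderOf_mk, permHom_order, hx])
    (by rw [hcard]; norm_num) (fun g hg => normalizer_hs hx hn hz g.2.1 g.2.2 ?_) (M := 2 ^ 2 * 5 ^ 2)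
    (by rw [hcard, Nat.card_congr e.toEquiv, card_permM22]; norm_num) _ (fun _ => hs_index) false
    (by decide +kernel) (fun h => absurd h (by decide)), hcard⟩
  obtain ⟨k, hk⟩ := hg
  exact ⟨k, by simpa using congrArg Subtype.val hk⟩

theorem center_not_fix_top {c : Co0} (hc : c ∈ Subgroup.center Co0) :
    c = 1 ∨ ∀ v : leechLattice, c • v = -v := by
  obtain ⟨s, hs, hw⟩ := mem_center_apply hc 0
  rcases hs with rfl | rfl
  · exact Or.inl (Subtype.ext (Equiv.ext fun w => Subtype.ext (by rw [hw w, one_smul]; rfl)))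
  · exact Or.inr fun v => Subtype.ext ((hw v).trans (by rw [neg_one_smul, AddSubgroup.coe_neg]))

/-- Negation. -/
def negAut0 : Co0 := ⟨Equiv.neg leechLattice, fun a b => neg_add a b, fun a => by
  show sqNorm (-(a : GolayPt → ℤ)) = _; simp [sqNorm]⟩

theorem negAut0_center : negAut0 ∈ Subgroup.center Co0 := Subgroup.mem_center_iff.2 fun k => Subtype.ext (Equiv.ext fun a => by
  show (k : Equiv.Perm leechLattice) (-a) = -((k : Equiv.Perm leechLattice) a)
  exact map_neg (co0Hom k) a)

/-- `(-3, -1, …, -1)`. -/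
def badVec : GolayPt → ℤ := fun p => if p = none then -3 else -1

theorem badVec_not_mem : badVec ∉ leechLattice := by
  intro h
  have h1 := sub_mem threeL.2 h
  have e : (threeL : GolayPt → ℤ) - badVec = fun p => if p = none then 0 else 2 := funext fun p => by
    rw [Pi.sub_apply, threeL_apply, badVec]; split <;> norm_num
  rw [e] at h1
  have h8 := even_sum h1 rfl
  exact absurd h8 (by decide +kernel)

theorem isCo1_quotient : IsCo1 (Co0 ⧸ Subgroup.center Co0) := by
  classical
  haveI := finite_Co0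
  haveI : Fact (Nat.Prime 23) := ⟨by norm_num⟩
  obtain ⟨x, hx, hn⟩ := exists_twentythree
  set κ := QuotientGroup.mk' (Subgroup.center Co0) with hκ
  have hcard : Nat.card (Co0 ⧸ Subgroup.center Co0) = 4157776806543360000 := by
    have h := Subgroup.card_eq_card_quotient_mul_card_subgroup (Subgroup.center Co0)
    rw [card_Co0, card_center_Co0] at h
    omega
  have hinj : Function.Injective (κ.comp permM23.subtype) := by
    rw [injective_iff_map_eq_one]
    rintro ⟨g, σ, hσ, rfl⟩ hg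
    rcases center_not_fix_top ((QuotientGroup.eq_one_iff _).1 hg) with h | h
    · exact Subtype.ext h
    · exfalso
      have h0 := h top
      change permHom σ • top = -top at h0
      rw [fixed_none σ hσ] at h0
      have := congrFun (congrArg Subtype.val h0) none
      simp [top, e8] at this
  have hrange : permM23.map κ = (κ.comp permM23.subtype).range := by
    rw [MonoidHom.range_comp, Subgroup.range_subtype]
  have e : permM23 ≃* ↥(permM23.map κ) :=
    (MonoidHom.ofInjective hinj).trans (MulEquiv.subgroupCongr hrange.symm)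
  refine ⟨simple_of_core (permM23.map κ) (e.isSimpleGroup_congr.1 permM23_simple) (p := 23) (κ (permHom x))
    (orderOf_eq_prime (by
        rw [← map_pow, ← map_pow, show x ^ 23 = 1 from hx ▸ pow_orderOf_eq_one x, map_one, map_one]) fun h => by
      have h1 : (⟨permHom x, ⟨x, hn, rfl⟩⟩ : permM23) = 1 := hinj (h.trans (map_one _).symm)
      have h2 : permHom x = permHom 1 := (congrArg Subtype.val h1).trans (map_one _).symm
      rw [permHom_injective h2, orderOf_one] at hx; omega)
    (by rw [hcard]; norm_num) (fun g hg => ?_) (M := 2 ^ 14 * 3 ^ 7 * 5 ^ 3 * 7 * 13)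
    (by rw [hcard, Nat.card_congr e.symm.toEquiv, card_permM23]; norm_num) _ (fun _ => co1_index) true
    (by decide +kernel) (fun _ N hN h => ?_), hcard⟩
  · obtain ⟨g, rfl⟩ := QuotientGroup.mk'_surjective _ g
    obtain ⟨k, hk⟩ := hg
    have hmem : (permHom x ^ k)⁻¹ * (g * permHom x * g⁻¹) ∈ Subgroup.center Co0 := by
      rw [← QuotientGroup.eq_one_iff]
      show κ _ = 1
      rw [map_mul, map_inv, map_zpow, map_mul, map_mul, map_inv, inv_mul_eq_one]
      exact hk
    have hord : ∀ h : Co0, (h * permHom x * h⁻¹) ^ 23 = 1 := fun h => by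
      rw [conj_pow, ← map_pow, show x ^ 23 = 1 from hx ▸ pow_orderOf_eq_one x, map_one]; group
    have hgx : g * permHom x * g⁻¹ ∈ Subgroup.zpowers (permHom x) := by
      refine ⟨k, ?_⟩
      rcases center_not_fix_top hmem with h1 | h1
      · exact inv_mul_eq_one.1 h1
      · exfalso
        set c := (permHom x ^ k)⁻¹ * (g * permHom x * g⁻¹)
        have hc23 : c ^ 23 = 1 := by
          have hcomm : Commute (permHom x ^ k) c := Subgroup.mem_center_iff.1 hmem _
          have h2 : g * permHom x * g⁻¹ = permHom x ^ k * c := (mul_inv_cancel_left _ _).symm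
          have h3 := hord g
          rw [h2, hcomm.mul_pow, ← zpow_natCast (permHom x ^ k), ← zpow_mul, mul_comm, zpow_mul, zpow_natCast,
            ← map_pow, show x ^ 23 = 1 from hx ▸ pow_orderOf_eq_one x, map_one, one_zpow, one_mul] at h3
          exact h3
        have h2 : ∀ v : leechLattice, (c ^ 23) • v = -v := fun v => by
          have hsq : c * c = 1 := Subtype.ext (Equiv.ext fun w => by
            show c • (c • w) = w
            rw [h1, h1, neg_neg])
          rw [show c ^ 23 = (c * c) ^ 11 * c by rw [← pow_two, ← pow_mul, ← pow_succ], hsq, one_pow, one_mul, h1]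
        have h3 := h2 top
        rw [hc23, one_smul] at h3
        have := congrFun (congrArg Subtype.val h3) none
        simp [top, e8] at this
    have hy := fix_back (fixed_none x hn) hgx
    set y := g⁻¹ • top
    have h64 : sqNorm (y : GolayPt → ℤ) = 64 := (co0_sqNorm _ _).trans top_norm
    obtain ⟨j, hj⟩ := fixed_by_moved (p := 23) (hx ▸ pow_orderOf_eq_one x) _ (fixed_twentythree hx hn) hy (· ^ 2)
    have hsum := (sum_split fun i => (y : GolayPt → ℤ) i ^ 2).1
    rw [show ∑ i, (y : GolayPt → ℤ) i ^ 2 = 64 from h64, hj] at hsum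
    obtain ⟨l, u⟩ := small_abs h64 none
    have h8 : (y : GolayPt → ℤ) none = 8 ∨ (y : GolayPt → ℤ) none = -8 := by
      generalize (y : GolayPt → ℤ) none = a at hsum l u
      interval_cases a <;> omega
    obtain ⟨g', hg', hz', hg'x⟩ : ∃ g' : Co0, κ g' = κ g ∧ g' • top = top ∧
        g' * permHom x * g'⁻¹ ∈ Subgroup.zpowers (permHom x) := by
      rcases h8 with h8 | h8
      · exact ⟨g, rfl, fix_top_of_back (eq_top_of_none h64 h8), hgx⟩
      · have hy' : y = -top := by
          rw [← eq_top_of_none (y := -y) (by rw [AddSubgroup.coe_neg, sqNorm_neg']; exact h64)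
            (by rw [AddSubgroup.coe_neg, Pi.neg_apply, h8, neg_neg]), neg_neg]
        refine ⟨negAut0 * g, ?_, ?_, ?_⟩
        · rw [map_mul, show κ negAut0 = 1 from (QuotientGroup.eq_one_iff _).2 negAut0_center, one_mul]
        · rw [mul_smul]
          show -(g • top) = top
          have : g • (-top) = top := by rw [← hy', smul_inv_smul]
          rw [show g • (-top) = -(g • top) from map_neg (co0Hom g) top] at this
          exact this
        · rw [show negAut0 * g * permHom x * (negAut0 * g)⁻¹ = g * permHom x * g⁻¹ from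
            calc negAut0 * g * permHom x * (negAut0 * g)⁻¹ = negAut0 * (g * permHom x * g⁻¹) * negAut0⁻¹ := by group
              _ = g * permHom x * g⁻¹ * negAut0 * negAut0⁻¹ := by
                rw [Subgroup.mem_center_iff.1 negAut0_center (g * permHom x * g⁻¹)]
              _ = _ := mul_inv_cancel_right _ _]
          exact hgx
    obtain ⟨σ, c, hσn, hc0, h⟩ := mono_of_fix_top hz'
    -- the signed points form a set stable under `x`
    obtain ⟨m, hm⟩ := hg'x
    have hm' : g' * permHom x = permHom (x ^ m) * g' := by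
      rw [map_zpow]; exact (eq_mul_inv_iff_mul_eq.1 hm).symm
    have hcx : ∀ i, (x ^ m).1 i ∈ c ↔ i ∈ c := by
      intro i
      have hx' : ∀ v : leechLattice, ((g' • permHom x • v : leechLattice) : GolayPt → ℤ) =
          ((permHom (x ^ m) • g' • v : leechLattice) : GolayPt → ℤ) := fun v => by
        rw [smul_smul, smul_smul, hm']
      have hpt := congrFun (hx' (e8 (x.1.symm (σ.1.symm ((x ^ m).1 i))))) ((x ^ m).1 i)
      rw [h, permHom_smul, h] at hpt
      simp only [signedPerm, Equiv.symm_apply_apply, permHom_smul] at hpt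
      have e1 : ((e8 (x.1.symm (σ.1.symm ((x ^ m).1 i))) : leechLattice) : GolayPt → ℤ) (x.1.symm (σ.1.symm ((x ^ m).1 i))) = 8 := by
        simp [e8]
      rw [e1] at hpt
      by_cases a1 : (x ^ m).1 i ∈ c <;> by_cases a2 : i ∈ c <;> simp only [a1, a2, if_true, if_false, e8, Pi.single_apply] at hpt ⊢ <;>
        split_ifs at hpt <;> omega
    have hm0 : orderOf (x ^ m) = 23 := by
      rw [← permHom_order, map_zpow, show permHom x ^ m = g' * permHom x * g'⁻¹ from hm,
        show g' * permHom x * g'⁻¹ = MulAut.conj g' (permHom x) from rfl, MulEquiv.orderOf_eq, permHom_order, hx]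
    have hmn : (x ^ m).1 none = none :=
      (Subgroup.zpow_mem (stabilizer M24 (none : GolayPt)) hn m : x ^ m ∈ stabilizer M24 (none : GolayPt))
    obtain ⟨d, hd⟩ := dvd_sum_moved (x ^ m).1 (p := 23) (congrArg Subtype.val (hm0 ▸ pow_orderOf_eq_one (x ^ m)))
      ({none}ᶜ : Finset GolayPt) (fun i => by rw [Finset.mem_compl, fixed_twentythree hm0 hmn i])
      (fun i => if i ∈ c then 1 else 0) (fun i => if_congr (hcx i) rfl rfl)
    rw [Finset.sum_ite_mem, Finset.inter_eq_right.2 (fun i hi => by simp; rintro rfl; exact hc0 hi),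
      Finset.sum_const, nsmul_eq_mul, mul_one] at hd
    have hcode := h (threeL)
    have hc23 : c = ∅ := by
      by_contra hne
      have hle : c.card ≤ 23 := by
        have := Finset.card_le_card (show c ⊆ ({none}ᶜ : Finset GolayPt) from fun i hi => by
          simp; rintro rfl; exact hc0 hi)
        simpa [Finset.card_compl, show Fintype.card GolayPt = 24 from rfl] using this
      have hpos := Finset.card_pos.2 (Finset.nonempty_iff_ne_empty.2 hne)
      have hall : c = ({none}ᶜ : Finset GolayPt) := Finset.eq_of_subset_of_card_le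
        (fun i hi => by simp; rintro rfl; exact hc0 hi)
        (by rw [Finset.card_compl, show Fintype.card GolayPt = 24 from rfl, Finset.card_singleton]; omega)
      have hL : ((g' • threeL : leechLattice) : GolayPt → ℤ) ∈ leechLattice := Subtype.coe_prop _
      rw [hcode, hall] at hL
      have hbad : signedPerm σ.1 ({none}ᶜ : Finset GolayPt) (threeL : GolayPt → ℤ) = badVec := funext fun p => by
        simp only [signedPerm, Finset.mem_compl, Finset.mem_singleton, threeL_apply, badVec]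
        by_cases hp : p = none
        · simp [hp, show σ.1.symm none = none from (Equiv.symm_apply_eq _).2 hσn.symm]
        · simp [hp, show σ.1.symm p ≠ none from fun e => hp (by rw [← σ.1.apply_symm_apply p, e, hσn])]
      rw [hbad] at hL
      exact badVec_not_mem hL
    refine ⟨g', ⟨σ, hσn, Subtype.ext (Equiv.ext fun v => Subtype.ext (funext fun p => ?_))⟩, hg'⟩
    show ((permHom σ • v : leechLattice) : GolayPt → ℤ) p = ((g' • v : leechLattice) : GolayPt → ℤ) p
    rw [permHom_smul, h, hc23]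
    simp [signedPerm]
  · set N0 := N.comap κ
    haveI : N0.Normal := hN.comap κ
    have hN0 : Nat.card N0 = 2 ^ 12 := by
      have h1 := Subgroup.card_mul_index N0
      rw [Subgroup.index_comap_of_surjective _ (QuotientGroup.mk'_surjective _), card_Co0] at h1
      have h2 := Subgroup.card_mul_index N
      rw [h, hcard] at h2
      have : N.index = 2030164456320000 := by omega
      rw [this] at h1
      omega
    have hp : IsPGroup 2 N0 := IsPGroup.of_card hN0
    let A := {v : leechLattice // sqNorm (v : GolayPt → ℤ) = 32}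
    letI act : MulAction N0 A :=
      { smul := fun g v => ⟨(g : Co0) • v.1, (co0_sqNorm (g : Co0) v.1).trans v.2⟩
        one_smul := fun v => Subtype.ext (one_smul Co0 v.1)
        mul_smul := fun a b v => Subtype.ext (mul_smul (a : Co0) (b : Co0) v.1) }
    have hfree : ∀ v : A, stabilizer N0 v = ⊥ := fun v => by
      rw [Subgroup.eq_bot_iff_forall]
      intro g hg
      have hb := stabilizer_core v.2 (N0 ⊓ stabilizer Co0 v.1)
        inf_le_right (fun a ha n hn => ⟨(inferInstance : N0.Normal).conj_mem n hn.1 a,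
          (stabilizer Co0 v.1).mul_mem ((stabilizer Co0 v.1).mul_mem ha hn.2) ((stabilizer Co0 v.1).inv_mem ha)⟩)
        (hp.to_le inf_le_left)
      have : (g : Co0) ∈ N0 ⊓ stabilizer Co0 v.1 :=
        ⟨g.2, (congrArg Subtype.val (hg : g • v = v) : (g : Co0) • v.1 = v.1)⟩
      rw [hb, Subgroup.mem_bot] at this
      exact Subtype.ext this
    haveI : Finite A := Nat.finite_of_card_ne_zero (by
      rw [show Nat.card A = {v : leechLattice | sqNorm (v : GolayPt → ℤ) = 32}.ncard from Nat.card_coe_set_eq _,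
        ncard_norm, card_shell32]
      norm_num)
    have h1 := Nat.card_congr (selfEquivOrbitsQuotientProd hfree)
    rw [Nat.card_prod, hN0, show Nat.card A = {v : leechLattice | sqNorm (v : GolayPt → ℤ) = 32}.ncard from
      Nat.card_coe_set_eq _, ncard_norm, card_shell32] at h1
    omega

end Cfsg.Lib.Concrete

namespace Cfsg.Lib.Concrete

open Cfsg
open MulAction

theorem leechU_norm' : sqNorm ((Spor.leechU : leechLattice) : GolayPt → ℤ) = 32 :=
  show sqNorm Spor.vecU = 32 by decide +kernel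

/-- Conjugation carries a joint stabiliser to the joint stabiliser of the images. -/
theorem stab_inf_map (g : Co0) (v w : leechLattice) :
    (stabilizer Co0 v ⊓ stabilizer Co0 w).map (MulAut.conj g).toMonoidHom =
      stabilizer Co0 (g • v) ⊓ stabilizer Co0 (g • w) := by
  rw [stabilizer_smul_eq_stabilizer_map_conj, stabilizer_smul_eq_stabilizer_map_conj,
    Subgroup.map_inf _ _ _ (MulAut.conj g).injective]

end Cfsg.Lib.Concrete
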