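import Cfsg.Agent.Lib.Concrete.LeechCrossClasses
import Cfsg.Agent.Lib.Concrete.LeechCrossData
import Cfsg.Agent.Lib.Concrete.LeechSimpleGroups
import Cfsg.Agent.Lib.Concrete.LeechJointOrbits
import Cfsg.Agent.S1574

/-!
The stabiliser of the standard cross is maximal: orbits of an overgroup along a chain of three minimal vectors.
-/

set_option autoImplicit false

namespace Cfsg.Lib.Concrete

open Cfsg MulAction

/-- Orbit and stabiliser inside a subgroup. -/
theorem card_eq_orbit_mul (K : Subgroup Co0) (x : leechLattice) :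
    Nat.card K = (orbit K x).ncard * Nat.card ↥(K ⊓ stabilizer Co0 x) := by
  have h := Subgroup.card_mul_index (stabilizer K x)
  rw [MulAction.index_stabilizer] at h
  rw [← h, mul_comm]
  congr 1
  exact Nat.card_congr
    { toFun := fun g => ⟨g.1.1, g.1.2, g.2⟩
      invFun := fun g => ⟨⟨g.1, g.2.1⟩, g.2.2⟩
      left_inv := fun _ => rfl
      right_inv := fun _ => rfl }

/-- Orbits separated by an invariant function fill their classes. -/
theorem orbit_classes {ι : Type*} [Fintype ι] (M : Subgroup Co0) (T : Set leechLattice) (hT : T.Finite)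
    (hTM : ∀ h ∈ M, ∀ z ∈ T, h • z ∈ T) (f : leechLattice → ι) (hf : ∀ h ∈ M, ∀ z ∈ T, f (h • z) = f z)
    (r : ι → leechLattice) (hr : ∀ i, r i ∈ T) (hfr : ∀ i, f (r i) = i)
    (s : ι → ℕ) (hs : ∀ i, s i ≤ (orbit M (r i)).ncard) (hsum : T.ncard ≤ ∑ i, s i) :
    (∀ i, (orbit M (r i)).ncard = s i) ∧ ∀ z ∈ T, z ∈ orbit M (r (f z)) := by
  classical
  have hsub : ∀ i, orbit M (r i) ⊆ T := by
    rintro i _ ⟨h, rfl⟩
    exact hTM _ h.2 _ (hr i)
  have hfo : ∀ i, ∀ z ∈ orbit M (r i), f z = i := by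
    rintro i _ ⟨h, rfl⟩
    exact (hf _ h.2 _ (hr i)).trans (hfr i)
  have hdisj : Pairwise (Function.onFun Disjoint fun i => orbit M (r i)) := fun i j hij =>
    Set.disjoint_left.2 fun z hi hj => hij ((hfo i z hi).symm.trans (hfo j z hj))
  have hU : (⋃ i, orbit M (r i)).ncard = ∑ i, (orbit M (r i)).ncard := by
    rw [Set.ncard_iUnion_of_finite (fun i => hT.subset (hsub i)) hdisj, finsum_eq_sum_of_fintype]
  have hle : (⋃ i, orbit M (r i)).ncard ≤ T.ncard := Set.ncard_le_ncard (Set.iUnion_subset hsub) hT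
  have hss : ∑ i, s i ≤ ∑ i, (orbit M (r i)).ncard := Finset.sum_le_sum fun i _ => hs i
  refine ⟨fun i => ((Finset.sum_eq_sum_iff_of_le fun i _ => hs i).1 (by omega) i (Finset.mem_univ i)).symm,
    fun z hz => ?_⟩
  rw [← Set.eq_of_subset_of_ncard_le (Set.iUnion_subset hsub) (by omega) hT, Set.mem_iUnion] at hz
  obtain ⟨i, hi⟩ := hz
  rwa [hfo i z hi]

open Classical in
/-- An orbit of a larger subgroup is a union of classes. -/
theorem orbit_union_card {ι : Type*} [Fintype ι] (M K : Subgroup Co0) (hMK : M ≤ K) (T : Set leechLattice)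
    (hT : T.Finite) (hTK : ∀ h ∈ K, ∀ z ∈ T, h • z ∈ T) (f : leechLattice → ι)
    (hf : ∀ h ∈ M, ∀ z ∈ T, f (h • z) = f z) (r : ι → leechLattice) (hr : ∀ i, r i ∈ T) (hfr : ∀ i, f (r i) = i)
    (s : ι → ℕ) (hs : ∀ i, (orbit M (r i)).ncard = s i) (hfill : ∀ z ∈ T, z ∈ orbit M (r (f z)))
    (x : leechLattice) (hx : x ∈ T) :
    (orbit K x).ncard = ∑ i, if r i ∈ orbit K x then s i else 0 := by
  classical
  have hsubK : ∀ i, r i ∈ orbit K x → orbit M (r i) ⊆ orbit K x := by
    rintro i hi _ ⟨h, rfl⟩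
    obtain ⟨k, hk⟩ := hi
    exact ⟨⟨h.1, hMK h.2⟩ * k, show (_ * k) • x = _ by rw [mul_smul, show k • x = r i from hk]; rfl⟩
  have heq : orbit K x = ⋃ i ∈ Finset.univ.filter (fun i => r i ∈ orbit K x), orbit M (r i) := by
    ext z
    simp only [Set.mem_iUnion, Finset.mem_filter, Finset.mem_univ, true_and, exists_prop]
    refine ⟨fun hz => ?_, fun ⟨i, hi, hz⟩ => hsubK i hi hz⟩
    have hzT : z ∈ T := by
      obtain ⟨k, rfl⟩ := hz
      exact hTK _ k.2 _ hx
    obtain ⟨m, hm⟩ := hfill z hzT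
    refine ⟨f z, ?_, ⟨m, hm⟩⟩
    obtain ⟨k, hk⟩ := hz
    refine ⟨⟨m.1⁻¹, hMK (inv_mem m.2)⟩ * k, ?_⟩
    show (_ * k) • x = _
    rw [mul_smul, show k • x = z from hk]
    show m.1⁻¹ • z = r (f z)
    rw [inv_smul_eq_iff]
    exact hm.symm
  have hsubT : ∀ i, orbit M (r i) ⊆ T := by
    rintro i _ ⟨h, rfl⟩
    exact hTK _ (hMK h.2) _ (hr i)
  rw [← Finset.sum_filter]
  conv_lhs => rw [heq]
  rw [show (⋃ i ∈ Finset.univ.filter (fun i => r i ∈ orbit K x), orbit M (r i)) =
      ⋃ i : {i // r i ∈ orbit K x}, orbit M (r i.1) by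
    ext z; simp]
  rw [Set.ncard_iUnion_of_finite (s := fun i : {i // r i ∈ orbit K x} => orbit M (r i.1))
    (fun i => hT.subset (hsubT i.1)), finsum_eq_sum_of_fintype]
  · rw [Finset.sum_subtype (p := fun i => r i ∈ orbit K x) (Finset.univ.filter fun i => r i ∈ orbit K x)
      (fun i => by simp)]
    exact Finset.sum_congr rfl fun i _ => hs i.1
  · intro i j hij
    refine Set.disjoint_left.2 fun z hi hj => hij (Subtype.ext ?_)
    obtain ⟨g, rfl⟩ := hi
    obtain ⟨h, hh⟩ := hj
    have e1 := hf _ g.2 _ (hr i.1)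
    have e2 := hf _ h.2 _ (hr j.1)
    rw [hfr] at e1 e2
    rw [← e1, ← e2]
    exact congrArg f hh.symm

/-- The vector with fours at the second and third point. -/
def legBase : GolayPt → ℤ := vec 0 6 0 0

theorem legBase_check : inLeech legBase = true ∧ sqNorm legBase = 32 ∧ shapeKind legBase = 0 ∧
    shapeKind triBase = 0 ∧ sqNorm triBase = 32 ∧ dotInt pairBase triBase = 16 ∧
    (∀ p, legBase p = pairBase p + triBase p - (Pi.single (gpt 0) 8 : GolayPt → ℤ) p) ∧
    ((List.finRange 24).all fun j => [(8 : ℤ), -8].all fun s => decide (j = 0 ∧ s = 8) ||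
      !(decide (pairBase (gpt j) * s = 32) && decide (triBase (gpt j) * s = 32))) = true := by
  decide +kernel

/-- The third vector of the chain. -/
def legL : leechLattice := ⟨legBase, mem_leech_of_inLeech legBase_check.1⟩

theorem legL_eq : legL = pairL + triL - e8 (gpt 0) := Subtype.ext (funext legBase_check.2.2.2.2.2.2.1)

/-- The eight at the first point is fixed by monomial elements fixing the first two vectors. -/
theorem mono_fix_eight {g : Co0} (hg : g ∈ crossStab) (hv : g • pairL = pairL) (hy : g • triL = triL) :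
    g • e8 (gpt 0) = e8 (gpt 0) := by
  obtain ⟨i, s, hs, e⟩ := (hg (e8 (gpt 0))).1 (e8_mem_stdCross _)
  have d : ∀ u : leechLattice, g • u = u → dotInt (u : GolayPt → ℤ) ((g • e8 (gpt 0) : leechLattice) : GolayPt → ℤ) =
      dotInt (u : GolayPt → ℤ) ((e8 (gpt 0) : leechLattice) : GolayPt → ℤ) := fun u hu => by
    have := co0_dot g u (e8 (gpt 0))
    rwa [hu] at this
  have d1 := d pairL hv
  have d2 := d triL hy
  rw [e, show ((e8 (gpt 0) : leechLattice) : GolayPt → ℤ) = Pi.single (gpt 0) 8 from rfl] at d1 d2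
  simp only [dotInt, Pi.single_apply, mul_ite, mul_zero, Finset.sum_ite_eq', Finset.mem_univ, if_true] at d1 d2
  have hA : pairBase (gpt 0) * 8 = 32 ∧ triBase (gpt 0) * 8 = 32 := by decide +kernel
  have hchk := List.all_eq_true.1 legBase_check.2.2.2.2.2.2.2 (gidx i) (List.mem_finRange _)
  have hchk := List.all_eq_true.1 hchk s (by rcases hs with rfl | rfl <;> simp)
  rw [gpt_gidx] at hchk
  have hp : pairBase i * s = 32 ∧ triBase i * s = 32 := ⟨d1.trans hA.1, d2.trans hA.2⟩
  simp only [hp, decide_true, Bool.and_self, Bool.not_true, Bool.or_false, decide_eq_true_eq] at hchk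
  refine Subtype.ext (e.trans ?_)
  rw [hchk.2, ← gpt_gidx i, hchk.1]
  rfl

theorem co0_sub (g : Co0) (a b : leechLattice) : g • (a - b) = g • a - g • b :=
  map_sub (co0Hom g) a b

theorem fix_leg {g : Co0} (hg : g ∈ crossStab) (hv : g • pairL = pairL) (hy : g • triL = triL) : g • legL = legL := by
  rw [legL_eq, co0_sub, co0_add, hv, hy, mono_fix_eight hg hv hy]

theorem stab_eight_le {g : Co0} (hg : g • e8 (gpt 0) = e8 (gpt 0)) : g ∈ crossStab := by
  have h : e8 (gpt 0) ∈ orbit crossStab top := by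
    rw [orbit_crossStab_top]; exact e8_mem_stdCross _
  obtain ⟨⟨k, hk⟩, hkt⟩ := h
  have hkt' : k • top = e8 (gpt 0) := hkt
  have : k⁻¹ * g * k ∈ crossStab := stabilizer_le_crossStab (show (k⁻¹ * g * k) • top = top by
    rw [mul_smul, mul_smul, hkt', hg, ← hkt', inv_smul_smul])
  have h2 := mul_mem (mul_mem hk this) (inv_mem hk)
  rwa [show k * (k⁻¹ * g * k) * k⁻¹ = g by group] at h2

theorem chain_le_crossStab {g : Co0} (hv : g • pairL = pairL) (hy : g • triL = triL) (hw : g • legL = legL) :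
    g ∈ crossStab := by
  refine stab_eight_le ?_
  have e : e8 (gpt 0) = pairL + triL - legL := by rw [legL_eq, sub_sub_cancel]
  rw [e, co0_sub, co0_add, hv, hy, hw]


/-! ### The chain -/

theorem triL_norm : sqNorm (triL : GolayPt → ℤ) = 32 := legBase_check.2.2.2.2.1

theorem legL_norm : sqNorm (legL : GolayPt → ℤ) = 32 := legBase_check.2.1

theorem pairL_norm : sqNorm (pairL : GolayPt → ℤ) = 32 := pairBase_check.2.1

/-- The level-two set. -/
def midSet : Set leechLattice :=
  {z | sqNorm (z : GolayPt → ℤ) = 32 ∧ dotInt (pairL : GolayPt → ℤ) (z : GolayPt → ℤ) = 16}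

theorem ncard_midSet : midSet.ncard = 4600 := by
  rw [← Set.ncard_image_of_injective _ Subtype.val_injective, ← census32.2.1,
    ← dotCount_moves (moves32 pairL.2 pairL_norm) 16, dotCount, ← Set.ncard_coe_finset]
  refine congrArg Set.ncard (Set.ext fun x => ?_)
  simp only [Set.mem_image, Finset.coe_filter, Set.mem_setOf_eq, mem_shell]
  exact ⟨fun ⟨v, h, e⟩ => e ▸ ⟨⟨v.2, h.1⟩, h.2⟩, fun ⟨⟨hL, hn⟩, hk⟩ => ⟨⟨x, hL⟩, ⟨hn, hk⟩, rfl⟩⟩

theorem midSet_finite : midSet.Finite := Set.finite_of_ncard_ne_zero (by rw [ncard_midSet]; norm_num)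

theorem midSet_smul {g : Co0} (hg : g • pairL = pairL) {z : leechLattice} (hz : z ∈ midSet) : g • z ∈ midSet := by
  refine ⟨(co0_sqNorm g z).trans hz.1, ?_⟩
  have := co0_dot g pairL z
  rw [hg] at this
  exact this.trans hz.2

/-- The shells of minimal vectors. -/
def topSet : Set leechLattice := {z | sqNorm (z : GolayPt → ℤ) = 32}

theorem ncard_topSet : topSet.ncard = 196560 := by
  rw [← card_shell32, ← Set.ncard_coe_finset, ← Set.ncard_image_of_injective _ Subtype.val_injective]
  refine congrArg Set.ncard (Set.ext fun x => ?_)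
  simp only [Set.mem_image, Finset.mem_coe, mem_shell]
  exact ⟨fun ⟨v, h, e⟩ => e ▸ ⟨v.2, h⟩, fun ⟨hL, hn⟩ => ⟨⟨x, hL⟩, hn, rfl⟩⟩

/-- The monomial stabiliser of the first vector. -/
def monoOne : Subgroup Co0 := crossStab ⊓ stabilizer Co0 pairL

/-- The monomial stabiliser of the first two vectors. -/
def monoTwo : Subgroup Co0 := monoOne ⊓ stabilizer Co0 triL

/-- The stabiliser of the first two vectors. -/
def fullTwo : Subgroup Co0 := stabilizer Co0 pairL ⊓ stabilizer Co0 triL

theorem fullTwo_leg : fullTwo ⊓ stabilizer Co0 legL = monoTwo := by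
  ext g
  constructor
  · rintro ⟨⟨h1, h2⟩, h3⟩
    exact ⟨⟨chain_le_crossStab h1 h2 h3, h1⟩, h2⟩
  · rintro ⟨⟨h1, h2⟩, h3⟩
    exact ⟨⟨h2, h3⟩, fix_leg h1 h2 h3⟩

theorem top_classes : (∀ i, (orbit crossStab (kindRep i)).ncard = kindSize i) ∧
    ∀ z ∈ topSet, z ∈ orbit crossStab (kindRep (shapeKind (z : GolayPt → ℤ))) := by
  have hfill : ∀ z ∈ topSet, z ∈ orbit crossStab (kindRep (shapeKind (z : GolayPt → ℤ))) := fun z hz => by
    obtain ⟨g, hg, e⟩ := exists_mono_smul (v := kindRep (shapeKind (z : GolayPt → ℤ))) (w := z)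
      (kindPat_check _).2.1 hz (kindPat_check _).2.2
    exact ⟨⟨g, hg⟩, e⟩
  refine ⟨fun i => ?_, hfill⟩
  rw [← ncard_kind]
  refine congrArg Set.ncard (Set.ext fun z => ⟨?_, fun ⟨h1, h2⟩ => h2 ▸ hfill z h1⟩)
  rintro ⟨⟨g, hg⟩, rfl⟩
  exact ⟨(co0_sqNorm g _).trans (kindPat_check i).2.1, (shapeKind_smul hg _).trans (kindPat_check i).2.2⟩

theorem mid_roots : ∀ i, inLeech (codeVec (crossMidRoot i)) = true ∧ sqNorm (codeVec (crossMidRoot i)) = 32 ∧
    dotInt pairBase (codeVec (crossMidRoot i)) = 16 ∧ shapeKind (codeVec (crossMidRoot i)) = i := by decide +kernel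

/-- The representatives at the second level. -/
def midRep (i : Fin 3) : leechLattice := ⟨_, mem_leech_of_inLeech (mid_roots i).1⟩

/-- The monomial orbit sizes at the second level. -/
def midSize : Fin 3 → ℕ := ![88, 2464, 2048]

theorem mem_crossStab_of_image {M : List (List ℤ)} (hM : matOk M = true)
    (h : (List.finRange 24).any (fun i => (matDot M (Pi.single none 8) i == 64) || (matDot M (Pi.single none 8) i == -64)) = true)
    (hz : (List.finRange 24).all (fun i => (matDot M (Pi.single none 8) i == 64) || (matDot M (Pi.single none 8) i == -64)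
      || (matDot M (Pi.single none 8) i == 0)) = true) :
    matCo0 M hM ∈ crossStab := by
  refine mem_crossStab_iff_top.2 ?_
  obtain ⟨i, -, hi⟩ := List.any_eq_true.1 h
  simp only [Bool.or_eq_true, beq_iff_eq] at hi
  have hn : sqNorm ((matCo0 M hM • top : leechLattice) : GolayPt → ℤ) = 64 :=
    (co0_sqNorm _ top).trans (stdCross_subset (e8_mem_stdCross none)).2
  have hv : ∀ p, ((matCo0 M hM • top : leechLattice) : GolayPt → ℤ) p = matDot M (Pi.single none 8) (gidx p) / 8 :=
    fun p => by rw [matCo0_apply]; rfl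
  set y := ((matCo0 M hM • top : leechLattice) : GolayPt → ℤ) with hy
  have h8 : |y (gpt i)| = 8 := by
    rw [hv, gidx_gpt]; rcases hi with e | e <;> rw [e] <;> decide
  have hsq : y (gpt i) ^ 2 = 64 := by rw [← sq_abs, h8]; norm_num
  refine ⟨gpt i, y (gpt i), (abs_eq (by norm_num)).1 h8, funext fun p => ?_⟩
  by_cases hp : p = gpt i
  · subst hp; simp
  rw [Pi.single_eq_of_ne hp]
  have h1 := Finset.add_sum_erase Finset.univ (fun q => y q ^ 2) (Finset.mem_univ (gpt i))
  have h2 := Finset.single_le_sum (f := fun q => y q ^ 2) (fun q _ => sq_nonneg (y q))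
    (Finset.mem_erase.2 ⟨hp, Finset.mem_univ p⟩)
  have h3 : y (gpt i) ^ 2 + ∑ q ∈ Finset.univ.erase (gpt i), y q ^ 2 = 64 := h1.trans hn
  have h4 : y p ^ 2 ≤ 0 := by
    have : ∑ q ∈ Finset.univ.erase (gpt i), y q ^ 2 = 0 := by omega
    simpa [this] using h2
  exact sq_eq_zero_iff.1 (le_antisymm h4 (sq_nonneg _))

/-- The check that a generator is monomial. -/
def topOk (gens : List (List (List ℤ))) : Bool :=
  gens.all fun M =>
    (List.finRange 24).any (fun i => (matDot M (Pi.single none 8) i == 64) || (matDot M (Pi.single none 8) i == -64)) &&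
    (List.finRange 24).all (fun i => (matDot M (Pi.single none 8) i == 64) || (matDot M (Pi.single none 8) i == -64)
      || (matDot M (Pi.single none 8) i == 0))

theorem cross_fix : gensOk crossMidGens [coordList pairBase] = true ∧ topOk crossMidGens = true ∧
    gensOk crossLowGens [coordList pairBase, coordList triBase] = true ∧ topOk crossLowGens = true := by
  decide +kernel

theorem gens_monoOne : ∀ M (hM : matOk M = true), M ∈ crossMidGens → matCo0 M hM ∈ monoOne := by
  intro M hM hmem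
  have hg := List.all_eq_true.1 cross_fix.1 M hmem
  have ht := List.all_eq_true.1 cross_fix.2.1 M hmem
  simp only [Bool.and_eq_true, List.all_eq_true] at hg
  rw [Bool.and_eq_true] at ht
  exact ⟨mem_crossStab_of_image hM ht.1 ht.2,
    smul_of_mapsTo hM (hg.2 (coordList pairBase) (by simp)) (keyVec_coordList _).symm (keyVec_coordList _).symm⟩

theorem gens_monoTwo : ∀ M (hM : matOk M = true), M ∈ crossLowGens → matCo0 M hM ∈ monoTwo := by
  intro M hM hmem
  have hg := List.all_eq_true.1 cross_fix.2.2.1 M hmem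
  have ht := List.all_eq_true.1 cross_fix.2.2.2 M hmem
  simp only [Bool.and_eq_true, List.all_eq_true] at hg
  rw [Bool.and_eq_true] at ht
  exact ⟨⟨mem_crossStab_of_image hM ht.1 ht.2,
    smul_of_mapsTo hM (hg.2 (coordList pairBase) (by simp)) (keyVec_coordList _).symm (keyVec_coordList _).symm⟩,
    smul_of_mapsTo hM (hg.2 (coordList triBase) (by simp)) (keyVec_coordList _).symm (keyVec_coordList _).symm⟩

theorem mid_classes : (∀ i, (orbit monoOne (midRep i)).ncard = midSize i) ∧
    ∀ z ∈ midSet, z ∈ orbit monoOne (midRep (shapeKind (z : GolayPt → ℤ))) := by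
  have hMT : ∀ h ∈ monoOne, ∀ z ∈ midSet, h • z ∈ midSet := fun h hh z hz => midSet_smul hh.2 hz
  have hr : ∀ i, midRep i ∈ midSet := fun i => ⟨(mid_roots i).2.1, (mid_roots i).2.2.1⟩
  have hfin : ∀ i, (orbit monoOne (midRep i)).Finite := fun i => midSet_finite.subset (by
    rintro _ ⟨h, rfl⟩
    exact hMT _ h.2 _ (hr i))
  refine orbit_classes monoOne midSet midSet_finite hMT (fun z => shapeKind (z : GolayPt → ℤ))
    (fun h hh z _ => shapeKind_smul hh.1 z) midRep hr (fun i => (mid_roots i).2.2.2) midSize (fun i => ?_)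
    (by rw [ncard_midSet, Fin.sum_univ_three]; exact le_refl _)
  fin_cases i
  · exact le_orbit_of_cert _ _ _ _ _ _ crossMid_gens crossMidA_ok monoOne gens_monoOne (midRep 0) rfl (hfin 0)
  · exact le_orbit_of_cert _ _ _ _ _ _ crossMid_gens crossMidB_ok monoOne gens_monoOne (midRep 1) rfl (hfin 1)
  · exact le_orbit_of_cert _ _ _ _ _ _ crossMid_gens crossMidC_ok monoOne gens_monoOne (midRep 2) rfl (hfin 2)

theorem top_orbit : orbit Co0 pairL = topSet := by
  ext z
  constructor
  · rintro ⟨g, rfl⟩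
    exact (co0_sqNorm g _).trans pairL_norm
  · intro hz
    obtain ⟨g, hg⟩ := exists_smul_eq_of_moves (moves32 pairL.2 pairL_norm) (moves32 z.2 hz)
    exact ⟨g, hg⟩

theorem triL_mid : triL ∈ midSet := ⟨triL_norm, legBase_check.2.2.2.2.2.1⟩

theorem mid_orbit : orbit (stabilizer Co0 pairL) triL = midSet := by
  ext z
  constructor
  · rintro ⟨g, rfl⟩
    exact midSet_smul g.2 triL_mid
  · rintro ⟨h1, h2⟩
    have neg32 : ∀ a : leechLattice, sqNorm (a : GolayPt → ℤ) = 32 → sqNorm ((-a : leechLattice) : GolayPt → ℤ) = 32 :=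
      fun a ha => by rw [AddSubgroup.coe_neg, sqNorm_neg', ha]
    have negd : ∀ a : leechLattice, dotInt (pairL : GolayPt → ℤ) (a : GolayPt → ℤ) = 16 →
        dotInt (pairL : GolayPt → ℤ) ((-a : leechLattice) : GolayPt → ℤ) = -16 := fun a ha => by
      rw [AddSubgroup.coe_neg, dotInt_neg_right, ha]
    obtain ⟨g, g1, g2⟩ := Cfsg.Agent.S1574.result pairL (-triL) (-z) pairL_norm (neg32 _ triL_norm) (neg32 _ h1)
      (negd _ triL_mid.2) (negd _ h2)
    exact ⟨⟨g, g1⟩, neg_injective ((map_neg (co0Hom g) triL).symm.trans g2)⟩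

theorem midRep_triL : triL ∈ orbit monoOne (midRep 0) := by
  have h := mid_classes.2 triL triL_mid
  rwa [show shapeKind (triL : GolayPt → ℤ) = 0 from legBase_check.2.2.2.1] at h

theorem card_monoTwo : Nat.card crossStab = 1104 * 88 * Nat.card monoTwo := by
  rw [card_eq_orbit_mul crossStab pairL, ← kindRep_zero, top_classes.1 0, kindRep_zero,
    show crossStab ⊓ stabilizer Co0 pairL = monoOne from rfl, card_eq_orbit_mul monoOne triL,
    MulAction.orbit_eq_iff.2 midRep_triL, mid_classes.1 0, show monoOne ⊓ stabilizer Co0 triL = monoTwo from rfl,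
    ← mul_assoc]
  rfl

theorem card_full : Nat.card Co0 = 196560 * 4600 * Nat.card fullTwo := by
  have h := card_eq_orbit_mul ⊤ pairL
  rw [Subgroup.card_top, show orbit (⊤ : Subgroup Co0) pairL = topSet by
    rw [← top_orbit]; ext z; exact ⟨fun ⟨g, hg⟩ => ⟨g.1, hg⟩, fun ⟨g, hg⟩ => ⟨⟨g, trivial⟩, hg⟩⟩,
    ncard_topSet, top_inf_eq, card_eq_orbit_mul (stabilizer Co0 pairL) triL, mid_orbit, ncard_midSet,
    ← mul_assoc] at h
  exact h

/-- The level-three set. -/
def lowSet : Set leechLattice := orbit fullTwo legL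

theorem ncard_lowSet : lowSet.ncard = 891 := by
  have h1 := card_full
  have h2 := card_monoTwo
  rw [card_Co0, card_eq_orbit_mul fullTwo legL, fullTwo_leg] at h1
  rw [card_crossStab] at h2
  change 8315553613086720000 = 196560 * 4600 * (lowSet.ncard * Nat.card monoTwo) at h1
  have h3 : Nat.card monoTwo = 10321920 := by omega
  rw [h3] at h1
  omega

theorem lowSet_finite : lowSet.Finite := Set.finite_of_ncard_ne_zero (by rw [ncard_lowSet]; norm_num)

theorem low_roots : ∀ i, inLeech (codeVec (crossLowRoot i)) = true ∧ shapeKind (codeVec (crossLowRoot i)) = i := by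
  decide +kernel

theorem lowWit_check : gensOk crossLowWit [coordList pairBase, coordList triBase] = true ∧
    crossLowWit.length = 3 ∧ (∀ i : Fin 3, mapsTo (crossLowWit.getD i.val []) (coordList legBase)
      (coordList (codeVec (crossLowRoot i))) = true) ∧ codeVec (crossLowRoot 0) ≠ legBase := by
  decide +kernel

open Classical in
/-- The representatives at the third level. -/
noncomputable def lowRep (i : Fin 4) : leechLattice :=
  if h : i.val < 3 then ⟨_, mem_leech_of_inLeech (low_roots ⟨i.val, h⟩).1⟩ else legL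

open Classical in
/-- The class at the third level. -/
noncomputable def lowKind (z : leechLattice) : Fin 4 :=
  if z = legL then 3 else (shapeKind (z : GolayPt → ℤ)).castSucc

/-- The monomial orbit sizes at the third level. -/
def lowSize : Fin 4 → ℕ := ![42, 336, 512, 1]

theorem lowRep_mem (i : Fin 4) : lowRep i ∈ lowSet := by
  unfold lowRep
  split
  · next h =>
    obtain ⟨hg, hlen, hmap, -⟩ := lowWit_check
    have hmem : crossLowWit.getD i.val [] ∈ crossLowWit := by
      rw [List.getD_eq_getElem _ _ (by omega)]; exact List.getElem_mem _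
    have hgi := List.all_eq_true.1 hg _ hmem
    simp only [Bool.and_eq_true, List.all_eq_true] at hgi
    refine ⟨⟨matCo0 _ hgi.1, ?_, ?_⟩, smul_of_mapsTo hgi.1 (hmap ⟨i.val, h⟩) (keyVec_coordList _).symm
      (keyVec_coordList _).symm⟩
    · exact smul_of_mapsTo hgi.1 (hgi.2 (coordList pairBase) (by simp)) (keyVec_coordList _).symm (keyVec_coordList _).symm
    · exact smul_of_mapsTo hgi.1 (hgi.2 (coordList triBase) (by simp)) (keyVec_coordList _).symm (keyVec_coordList _).symm
  · exact mem_orbit_self _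

theorem lowKind_rep (i : Fin 4) : lowKind (lowRep i) = i := by
  unfold lowKind
  by_cases h : i.val < 3
  · have hne : lowRep i ≠ legL := fun e => by
      have e' := congrArg Subtype.val e
      simp only [lowRep, dif_pos h] at e'
      have hk := (low_roots ⟨i.val, h⟩).2
      rw [e', show shapeKind ((legL : leechLattice) : GolayPt → ℤ) = 0 from legBase_check.2.2.1] at hk
      rw [← hk] at e'
      exact lowWit_check.2.2.2 e'
    rw [if_neg hne]
    simp only [lowRep, dif_pos h]
    exact (congrArg Fin.castSucc (low_roots ⟨i.val, h⟩).2).trans (Fin.ext rfl)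
  · rw [lowRep, dif_neg h, if_pos rfl]
    exact Fin.ext (by show (3 : ℕ) = i.val; omega)

theorem fullTwo_low {h : Co0} (hh : h ∈ fullTwo) {z : leechLattice} (hz : z ∈ lowSet) : h • z ∈ lowSet := by
  obtain ⟨k, rfl⟩ := hz
  exact ⟨⟨h, hh⟩ * k, mul_smul (⟨h, hh⟩ : fullTwo) k legL⟩

theorem monoTwo_le : monoTwo ≤ fullTwo := fun _ h => ⟨h.1.2, h.2⟩

theorem lowKind_smul {h : Co0} (hh : h ∈ monoTwo) (z : leechLattice) : lowKind (h • z) = lowKind z := by
  have hw : h • legL = legL := fix_leg hh.1.1 hh.1.2 hh.2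
  have hiff : h • z = legL ↔ z = legL := ⟨fun e => MulAction.injective h (e.trans hw.symm), fun e => e ▸ hw⟩
  unfold lowKind
  by_cases e : z = legL
  · rw [if_pos e, if_pos (hiff.2 e)]
  · rw [if_neg e, if_neg (mt hiff.1 e), shapeKind_smul hh.1.1]

theorem low_classes : (∀ i, (orbit monoTwo (lowRep i)).ncard = lowSize i) ∧
    ∀ z ∈ lowSet, z ∈ orbit monoTwo (lowRep (lowKind z)) := by
  have hfin : ∀ i, (orbit monoTwo (lowRep i)).Finite := fun i => lowSet_finite.subset (by
    rintro _ ⟨h, rfl⟩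
    exact fullTwo_low (monoTwo_le h.2) (lowRep_mem i))
  refine orbit_classes monoTwo lowSet lowSet_finite (fun h hh z hz => fullTwo_low (monoTwo_le hh) hz) lowKind
    (fun h hh z _ => lowKind_smul hh z) lowRep lowRep_mem lowKind_rep lowSize (fun i => ?_)
    (by rw [ncard_lowSet, Fin.sum_univ_four]; exact le_refl _)
  fin_cases i
  · exact le_orbit_of_cert _ _ _ _ _ _ crossLow_gens crossLowA_ok monoTwo gens_monoTwo (lowRep 0) rfl (hfin 0)
  · exact le_orbit_of_cert _ _ _ _ _ _ crossLow_gens crossLowB_ok monoTwo gens_monoTwo (lowRep 1) rfl (hfin 1)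
  · exact le_orbit_of_cert _ _ _ _ _ _ crossLow_gens crossLowC_ok monoTwo gens_monoTwo (lowRep 2) rfl (hfin 2)
  · exact (Set.ncard_pos (hfin 3)).2 (nonempty_orbit _)

theorem chain_arith : ∀ a1 a2 b1 b2 c1 c2 c3 : Bool,
    let P := (1104 + (if a1 then 97152 else 0) + (if a2 then 98304 else 0)) *
      (88 + (if b1 then 2464 else 0) + (if b2 then 2048 else 0)) *
      (1 + (if c1 then 42 else 0) + (if c2 then 336 else 0) + (if c3 then 512 else 0))
    P % (1104 * 88) = 0 → (196560 * 4600 * 891) % P = 0 → P = 1104 * 88 ∨ P = 196560 * 4600 * 891 := by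
  decide +kernel

/-- The stabiliser of the standard cross is maximal. -/
theorem crossStab_isCoatom : IsCoatom crossStab := by
  classical
  haveI : Finite Co0 := finite_Co0
  refine ⟨fun h => ?_, fun H hlt => ?_⟩
  · have := congrArg (fun K : Subgroup Co0 => Nat.card K) h
    simp only [Subgroup.card_top, card_crossStab, card_Co0] at this
    omega
  have hle : crossStab ≤ H := hlt.le
  have hr0 : kindRep 0 ∈ orbit H pairL := by rw [kindRep_zero]; exact mem_orbit_self _
  have hO := orbit_union_card crossStab H hle topSet (Set.finite_of_ncard_ne_zero (by rw [ncard_topSet]; norm_num))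
    (fun h _ z hz => (co0_sqNorm h z).trans hz) (fun z => shapeKind (z : GolayPt → ℤ))
    (fun h hh z _ => shapeKind_smul hh z) kindRep (fun i => (kindPat_check i).2.1) (fun i => (kindPat_check i).2.2)
    kindSize top_classes.1 top_classes.2 pairL pairL_norm
  set H1 := H ⊓ stabilizer Co0 pairL with hH1
  have hle1 : monoOne ≤ H1 := fun g hg => ⟨hle hg.1, hg.2⟩
  have hr1 : midRep 0 ∈ orbit H1 triL := by
    obtain ⟨m, hm⟩ := MulAction.mem_orbit_symm.1 midRep_triL
    exact ⟨⟨m.1, hle1 m.2⟩, hm⟩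
  have hO1 := orbit_union_card monoOne H1 hle1 midSet midSet_finite (fun h hh z hz => midSet_smul hh.2 hz)
    (fun z => shapeKind (z : GolayPt → ℤ)) (fun h hh z _ => shapeKind_smul hh.1 z) midRep
    (fun i => ⟨(mid_roots i).2.1, (mid_roots i).2.2.1⟩) (fun i => (mid_roots i).2.2.2) midSize mid_classes.1
    mid_classes.2 triL triL_mid
  set H2 := H1 ⊓ stabilizer Co0 triL with hH2
  have hle2 : monoTwo ≤ H2 := fun g hg => ⟨hle1 hg.1, hg.2⟩
  have hr2 : lowRep 3 ∈ orbit H2 legL := by
    rw [show lowRep 3 = legL from dif_neg (by decide)]; exact mem_orbit_self _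
  have hO2 := orbit_union_card monoTwo H2 hle2 lowSet lowSet_finite
    (fun h hh z hz => fullTwo_low ⟨hh.1.2, hh.2⟩ hz) lowKind (fun h hh z _ => lowKind_smul hh z) lowRep lowRep_mem
    lowKind_rep lowSize low_classes.1 low_classes.2 legL (mem_orbit_self _)
  have hH3 : H2 ⊓ stabilizer Co0 legL = monoTwo := by
    refine le_antisymm (fun g hg => ?_) fun g hg => ⟨hle2 hg, fix_leg hg.1.1 hg.1.2 hg.2⟩
    exact fullTwo_leg ▸ ⟨⟨hg.1.1.2, hg.1.2⟩, hg.2⟩
  have hcard : Nat.card H = (orbit H pairL).ncard * (orbit H1 triL).ncard * (orbit H2 legL).ncard * Nat.card monoTwo := by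
    rw [card_eq_orbit_mul H pairL, card_eq_orbit_mul H1 triL, card_eq_orbit_mul H2 legL, hH3]
    ring
  rw [Fin.sum_univ_three, if_pos hr0] at hO
  rw [Fin.sum_univ_three, if_pos hr1] at hO1
  rw [Fin.sum_univ_four, if_pos hr2] at hO2
  have key := chain_arith (decide (kindRep 1 ∈ orbit H pairL)) (decide (kindRep 2 ∈ orbit H pairL))
    (decide (midRep 1 ∈ orbit H1 triL)) (decide (midRep 2 ∈ orbit H1 triL))
    (decide (lowRep 0 ∈ orbit H2 legL)) (decide (lowRep 1 ∈ orbit H2 legL)) (decide (lowRep 2 ∈ orbit H2 legL))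
  simp only [decide_eq_true_eq] at key
  simp only [kindSize, midSize, lowSize, Matrix.cons_val] at hO hO1 hO2
  rw [← hO, ← hO1, show (1 : ℕ) + (if lowRep 0 ∈ orbit H2 legL then 42 else 0) +
      (if lowRep 1 ∈ orbit H2 legL then 336 else 0) + (if lowRep 2 ∈ orbit H2 legL then 512 else 0) =
      (orbit H2 legL).ncard by rw [hO2]; ring] at key
  have hpos : 0 < Nat.card monoTwo := Nat.card_pos
  have hfull : Nat.card Co0 = 196560 * 4600 * 891 * Nat.card monoTwo := by
    rw [card_full, card_eq_orbit_mul fullTwo legL, fullTwo_leg,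
      show (orbit fullTwo legL).ncard = 891 from ncard_lowSet]
    ring
  have hd1 : crossStab.index ≠ 0 := Subgroup.index_ne_zero_of_finite
  have hdvd1 : 1104 * 88 ∣ (orbit H pairL).ncard * (orbit H1 triL).ncard * (orbit H2 legL).ncard := by
    have := Subgroup.card_dvd_of_le hle
    rw [card_monoTwo, hcard] at this
    exact Nat.dvd_of_mul_dvd_mul_right hpos this
  have hdvd2 : (orbit H pairL).ncard * (orbit H1 triL).ncard * (orbit H2 legL).ncard ∣ 196560 * 4600 * 891 := by
    have := H.card_subgroup_dvd_card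
    rw [hfull, hcard] at this
    exact Nat.dvd_of_mul_dvd_mul_right hpos this
  rcases key (Nat.mod_eq_zero_of_dvd hdvd1) (Nat.mod_eq_zero_of_dvd hdvd2) with e | e
  · refine absurd (Subgroup.eq_of_le_of_card_ge hle ?_) hlt.ne
    rw [hcard, card_monoTwo, e]
  · exact Subgroup.eq_top_of_card_eq H (by rw [hcard, hfull, e])

end Cfsg.Lib.Concrete
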