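import Cfsg.Agent.Lib.Concrete.LeechTree

/-!
Compact certificates for lower bounds on orbit sizes of subgroups of the automorphism group of the rank-24 lattice:
vectors are packed into natural numbers and a generator is applied by 24 products of packed columns.
-/

set_option autoImplicit false

namespace Cfsg.Lib.Concrete

open Cfsg

/-- A coordinate of a packed vector. -/
def codeCoord (key : ℕ) (j : Fin 24) : ℤ := ((key / 16 ^ j.val % 16 : ℕ) : ℤ) - 8

/-- The vector of a packed key. -/
def codeVec (key : ℕ) : GolayPt → ℤ := fun p => codeCoord key (gidx p)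

/-- The packed value of a row of coordinates. -/
def packFn (f : Fin 24 → ℤ) : ℤ := (List.finRange 24).foldr (fun i a => f i * 4096 ^ i.val + a) 0

/-- The packed columns of a matrix. -/
def packCols (M : List (List ℤ)) : List ℤ := (List.finRange 24).map fun j => packFn fun i => matEntry M i j

/-- A generator with entries bounded by eight. -/
def boundOk (M : List (List ℤ)) : Bool :=
  (List.finRange 24).all fun i => (List.finRange 24).all fun j => decide ((matEntry M i j).natAbs ≤ 8)

/-- The packed image, reading the digits of the key along the packed columns. -/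
def stepSum : List ℤ → ℕ → ℤ
  | [], _ => 0
  | c :: cs, a => (((a % 16 : ℕ) : ℤ) - 8) * c + stepSum cs (a / 16)

/-- The packed value of the first digits of a key. -/
def packKey : ℕ → ℕ → ℤ
  | 0, _ => 0
  | n + 1, b => (((b % 16 : ℕ) : ℤ) - 8) + 4096 * packKey n (b / 16)

/-- The packed generator sends the first key to the second. -/
def stepOk (cols : List ℤ) (a b : ℕ) : Bool :=
  stepSum cols a == 8 * packKey 24 b

theorem stepSum_eq : ∀ (n : ℕ) (f : Fin n → ℤ) (a : ℕ),
    stepSum (List.ofFn f) a = ∑ j, (((a / 16 ^ j.val % 16 : ℕ) : ℤ) - 8) * f j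
  | 0, f, a => by simp [stepSum]
  | n + 1, f, a => by
    rw [List.ofFn_succ, stepSum, stepSum_eq n, Fin.sum_univ_succ]
    simp only [Fin.val_zero, pow_zero, Nat.div_one, Fin.val_succ, pow_succ', Nat.div_div_eq_div_mul]

theorem packKey_eq : ∀ (n b : ℕ), packKey n b = ∑ i : Fin n, (((b / 16 ^ i.val % 16 : ℕ) : ℤ) - 8) * 4096 ^ i.val
  | 0, b => by simp [packKey]
  | n + 1, b => by
    rw [packKey, packKey_eq n, Fin.sum_univ_succ, Finset.mul_sum]
    simp only [Fin.val_zero, pow_zero, Nat.div_one, Fin.val_succ, pow_succ', Nat.div_div_eq_div_mul, mul_one]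
    exact congrArg _ (Finset.sum_congr rfl fun i _ => by ring)

theorem codeCoord_bound (key : ℕ) (j : Fin 24) : -8 ≤ codeCoord key j ∧ codeCoord key j ≤ 7 := by
  have := Nat.mod_lt (key / 16 ^ j.val) (show 16 > 0 by norm_num)
  unfold codeCoord
  constructor <;> omega

theorem packFn_eq (f : Fin 24 → ℤ) : packFn f = ∑ i, f i * 4096 ^ i.val :=
  foldr_eq_sum fun i => f i * 4096 ^ i.val

theorem digits_zero {B : ℤ} (hB : 0 < B) : ∀ (n : ℕ) (d : Fin n → ℤ), (∀ i, |d i| < B) →
    ∑ i, d i * B ^ i.val = 0 → ∀ i, d i = 0
  | 0, _, _, _, i => i.elim0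
  | n + 1, d, hd, h, i => by
    rw [Fin.sum_univ_succ] at h
    have e : ∑ i : Fin n, d i.succ * B ^ (i.succ : ℕ) = B * ∑ i : Fin n, d i.succ * B ^ i.val := by
      rw [Finset.mul_sum]
      exact Finset.sum_congr rfl fun i _ => by rw [Fin.val_succ, pow_succ]; ring
    rw [e, Fin.val_zero, pow_zero, mul_one] at h
    have h0 : d 0 = 0 :=
      Int.eq_zero_of_abs_lt_dvd ⟨-∑ i : Fin n, d i.succ * B ^ i.val, by linear_combination h⟩ (hd 0)
    rw [h0, zero_add, mul_eq_zero, or_iff_right hB.ne'] at h
    refine Fin.cases h0 (fun i => ?_) i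
    exact digits_zero hB n _ (fun i => hd i.succ) h i

theorem matDot_of_stepOk {M : List (List ℤ)} (hb : boundOk M = true) {a b : ℕ}
    (h : stepOk (packCols M) a b = true) (i : Fin 24) : matDot M (codeVec a) i = 8 * codeCoord b i := by
  simp only [boundOk, List.all_eq_true, decide_eq_true_eq] at hb
  rw [stepOk, beq_iff_eq, packKey_eq, packCols, ← List.ofFn_eq_map, stepSum_eq] at h
  change ∑ j : Fin 24, codeCoord a j * packFn (fun i => matEntry M i j) = 8 * ∑ i : Fin 24, codeCoord b i * 4096 ^ i.val at h
  simp only [packFn_eq, Finset.mul_sum] at h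
  rw [Finset.sum_comm] at h
  have hz : ∑ i : Fin 24, (matDot M (codeVec a) i - 8 * codeCoord b i) * 4096 ^ i.val = 0 := by
    simp only [sub_mul, Finset.sum_sub_distrib, matDot_eq, Finset.sum_mul, codeVec, gidx_gpt]
    rw [sub_eq_zero]
    refine Eq.trans ?_ (h.trans (Finset.sum_congr rfl fun i _ => (mul_assoc _ _ _).symm))
    exact Finset.sum_congr rfl fun i _ => Finset.sum_congr rfl fun j _ => by ring
  refine sub_eq_zero.1 (digits_zero (by norm_num) 24 _ (fun i => ?_) hz i)
  refine lt_of_le_of_lt (abs_sub _ _) ?_
  have h1 : |matDot M (codeVec a) i| ≤ ∑ _j : Fin 24, (64 : ℤ) := by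
    rw [matDot_eq]
    refine (Finset.abs_sum_le_sum_abs _ _).trans (Finset.sum_le_sum fun j _ => ?_)
    rw [abs_mul, codeVec, gidx_gpt]
    have e1 : |matEntry M i j| ≤ 8 := by
      have := hb i (List.mem_finRange _) j (List.mem_finRange _)
      rw [Int.abs_eq_natAbs]; omega
    have e2 : |codeCoord a j| ≤ 8 := by
      have := codeCoord_bound a j
      rw [abs_le]; omega
    exact (mul_le_mul e1 e2 (abs_nonneg _) (by norm_num)).trans (by norm_num)
  have h2 : |8 * codeCoord b i| ≤ 64 := by
    have := codeCoord_bound b i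
    rw [abs_le]; omega
  rw [Finset.sum_const, Finset.card_univ, Fintype.card_fin, nsmul_eq_mul] at h1
  push_cast at h1 ⊢
  omega

theorem smul_of_stepOk {M : List (List ℤ)} (hM : matOk M = true) (hb : boundOk M = true) {a b : ℕ}
    (h : stepOk (packCols M) a b = true) {va : leechLattice} (ha : (va : GolayPt → ℤ) = codeVec a) :
    ((matCo0 M hM • va : leechLattice) : GolayPt → ℤ) = codeVec b := funext fun p => by
  rw [matCo0_apply, ha]
  show matDot M (codeVec a) (gidx p) / 8 = codeVec b p
  rw [matDot_of_stepOk hb h, Int.mul_ediv_cancel_left _ (by norm_num)]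
  rfl

theorem codeVec_inj {a b : ℕ} (ha : a < 16 ^ 24) (hb : b < 16 ^ 24) (h : codeVec a = codeVec b) : a = b := by
  have key : ∀ k, k ≤ 24 → a % 16 ^ k = b % 16 ^ k := by
    intro k
    induction k with
    | zero => simp [Nat.mod_one]
    | succ k ih =>
      intro hk
      have e := congrFun h (gpt ⟨k, hk⟩)
      simp only [codeVec, gidx_gpt, codeCoord] at e
      rw [Nat.mod_pow_succ, Nat.mod_pow_succ, ih (by omega), show a / 16 ^ k % 16 = b / 16 ^ k % 16 by omega]
  have := key 24 le_rfl
  rwa [Nat.mod_eq_of_lt ha, Nat.mod_eq_of_lt hb] at this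

/-- Natural-number digit sum along shifted packed columns. -/
def natSum : List ℕ → ℕ → ℕ
  | [], _ => 0
  | c :: cs, a => a % 16 * c + natSum cs (a / 16)

/-- The sum of the first digits. -/
def digitSum : ℕ → ℕ → ℕ
  | 0, _ => 0
  | n + 1, a => a % 16 + digitSum n (a / 16)

/-- The packed digits of a key, unshifted. -/
def natPack : ℕ → ℕ → ℕ
  | 0, _ => 0
  | n + 1, b => b % 16 + 4096 * natPack n (b / 16)

/-- The packed all-ones vector. -/
def onesPack : ℕ → ℕ
  | 0 => 0
  | n + 1 => 1 + 4096 * onesPack n

/-- The shift of packed columns. -/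
def colShift : ℕ := 2 ^ 300

/-- The shifted columns, unshifted. -/
def unshift (cs : List ℕ) : List ℤ := cs.map fun c : ℕ => (c : ℤ) - (colShift : ℤ)

/-- The test of a step in natural numbers. -/
def natStepOk (cs : List ℕ) (a b : ℕ) : Bool :=
  natSum cs a + (64 * onesPack 24 + 8 * cs.length * colShift) ==
    8 * natPack 24 b + colShift * digitSum cs.length a + 8 * cs.sum

theorem stepSum_unshift : ∀ (cs : List ℕ) (a : ℕ), stepSum (unshift cs) a =
    (natSum cs a : ℤ) - 8 * (cs.sum : ℕ) - colShift * digitSum cs.length a + 8 * cs.length * colShift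
  | [], a => by simp [stepSum, unshift, natSum, digitSum]
  | c :: cs, a => by
    have ih := stepSum_unshift cs (a / 16)
    simp only [unshift, List.map_cons, List.length_cons, List.sum_cons, stepSum, natSum, digitSum] at ih ⊢
    rw [ih]
    push_cast
    ring

theorem packKey_nat : ∀ n b : ℕ, packKey n b = (natPack n b : ℤ) - 8 * onesPack n
  | 0, b => by simp [packKey, natPack, onesPack]
  | n + 1, b => by
    rw [packKey, packKey_nat n, natPack, onesPack]
    push_cast
    ring

theorem stepOk_of_nat {cs : List ℕ} {a b : ℕ} (h : natStepOk cs a b = true) : stepOk (unshift cs) a b = true := by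
  rw [natStepOk, beq_iff_eq] at h
  rw [stepOk, beq_iff_eq, stepSum_unshift, packKey_nat]
  have h' := congrArg (fun x : ℕ => (x : ℤ)) h
  push_cast at h' ⊢
  linarith

/-- The entry with the given index in a chunked list of (key, depth, parent, generator). -/
def certAt (size : ℕ) (chunks : List (List (ℕ × ℕ × ℕ × ℕ))) (i : ℕ) : ℕ × ℕ × ℕ × ℕ :=
  (chunks.getD (i / size) []).getD (i % size) (0, 0, 0, 0)

/-- A certificate: sorted distinct keys, each descending to the root by a packed generator. -/
def orbitOk (cols : List (List ℕ)) (n size root : ℕ) (chunks : List (List (ℕ × ℕ × ℕ × ℕ))) : Bool :=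
  (List.range n).all fun i =>
    match certAt size chunks i with
    | (key, d, p, g) =>
      decide (key < 79228162514264337593543950336) &&
      (decide (n ≤ i + 1) || decide (key < (certAt size chunks (i + 1)).1)) &&
      if d = 0 then decide (key = root) else
        match certAt size chunks p with
        | (pk, pd, _, _) => decide (p < n) && decide (pd < d) && decide (g < cols.length) && natStepOk (cols.getD g []) pk key

/-- The generators with their packed columns. -/
def certGensOk (gens : List (List (List ℤ))) (cols : List (List ℕ)) : Bool :=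
  gens.all (fun M => matOk M && boundOk M) && gens.map packCols == cols.map unshift

/-- The certified size is a lower bound for the orbit. -/
theorem le_orbit_of_cert (gens : List (List (List ℤ))) (cols : List (List ℕ)) (n size root : ℕ)
    (chunks : List (List (ℕ × ℕ × ℕ × ℕ))) (hg : certGensOk gens cols = true)
    (hc : orbitOk cols n size root chunks = true) (H : Subgroup Co0)
    (hH : ∀ M (hM : matOk M = true), M ∈ gens → matCo0 M hM ∈ H)
    (y : leechLattice) (hy : (y : GolayPt → ℤ) = codeVec root) (hfin : (MulAction.orbit H y).Finite) :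
    n ≤ (MulAction.orbit H y).ncard := by
  classical
  simp only [certGensOk, Bool.and_eq_true, List.all_eq_true, beq_iff_eq] at hg
  obtain ⟨hgens, hcols⟩ := hg
  have hlc : cols.length = gens.length := by simpa using (congrArg List.length hcols).symm
  have hrow : ∀ i < n, ∀ key d p g, certAt size chunks i = (key, d, p, g) →
      key < 16 ^ 24 ∧ (n ≤ i + 1 ∨ key < (certAt size chunks (i + 1)).1) ∧
      (if d = 0 then key = root else p < n ∧ (certAt size chunks p).2.1 < d ∧ g < gens.length ∧
        natStepOk (cols.getD g []) (certAt size chunks p).1 key = true) := by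
    intro i hi key d p g e
    have h := List.all_eq_true.1 hc i (List.mem_range.2 hi)
    rw [e] at h
    generalize hp : certAt size chunks p = q at h
    obtain ⟨pk, pd, pp, pg⟩ := q
    simp only [Bool.and_eq_true, Bool.or_eq_true, decide_eq_true_eq] at h
    refine ⟨by norm_num; exact h.1.1, h.1.2, ?_⟩
    by_cases hd : d = 0
    · simpa [hd] using h.2
    · simp only [hd, if_false, Bool.and_eq_true, decide_eq_true_eq, hp, hlc] at h ⊢
      exact ⟨h.2.1.1.1, h.2.1.1.2, h.2.1.2, h.2.2⟩
  have reach : ∀ d i, i < n → (certAt size chunks i).2.1 = d →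
      ∃ h : H, ((h • y : leechLattice) : GolayPt → ℤ) = codeVec (certAt size chunks i).1 := by
    intro d
    induction d using Nat.strong_induction_on with
    | _ d ih =>
      intro i hi hd
      generalize he : certAt size chunks i = q at hd ⊢
      obtain ⟨key, d', p, g⟩ := q
      obtain ⟨-, -, h3⟩ := hrow i hi key d' p g he
      simp only at hd
      subst hd
      by_cases h0 : d' = 0
      · rw [if_pos h0] at h3
        exact ⟨1, by rw [one_smul, hy]; exact congrArg codeVec h3.symm⟩
      · rw [if_neg h0] at h3
        obtain ⟨hp, hpd, hgl, hst⟩ := h3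
        obtain ⟨h, hh⟩ := ih _ hpd p hp rfl
        have hmem : gens.getD g [] ∈ gens := by
          rw [List.getD_eq_getElem _ _ hgl]; exact List.getElem_mem hgl
        have hst' : stepOk (packCols (gens.getD g [])) (certAt size chunks p).1 key = true := by
          have e : packCols (gens.getD g []) = unshift (cols.getD g []) := by
            have h1 := congrArg (fun l => l.getD g []) hcols
            simp only [List.getD_eq_getElem?_getD, List.getElem?_map, List.getElem?_eq_getElem hgl,
              List.getElem?_eq_getElem (hlc ▸ hgl : g < cols.length), Option.map_some, Option.getD_some] at h1 ⊢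
            exact h1
          rw [e]
          exact stepOk_of_nat hst
        refine ⟨⟨matCo0 _ (hgens _ hmem).1, hH _ _ hmem⟩ * h, ?_⟩
        rw [mul_smul]
        exact smul_of_stepOk (hgens _ hmem).1 (hgens _ hmem).2 hst' (va := h • y) hh
  have mono : ∀ i j, i < j → j < n → (certAt size chunks i).1 < (certAt size chunks j).1 := by
    intro i j hij hj
    induction j, hij using Nat.le_induction with
    | base => exact (hrow i (by omega) _ _ _ _ rfl).2.1.resolve_left (by omega)
    | succ j hj' ih =>
      exact (ih (by omega)).trans ((hrow j (by omega) _ _ _ _ rfl).2.1.resolve_left (by omega))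
  choose f hf using fun i : Fin n => reach _ i.val i.isLt rfl
  have hinj : Function.Injective fun i : Fin n => (f i • y : leechLattice) := fun i j e => by
    have e' := congrArg Subtype.val e
    rw [hf, hf] at e'
    have e'' := codeVec_inj (hrow i.val i.isLt _ _ _ _ rfl).1 (hrow j.val j.isLt _ _ _ _ rfl).1 e'
    rcases lt_trichotomy i.val j.val with h | h | h
    · exact absurd e'' (mono _ _ h j.isLt).ne
    · exact Fin.ext h
    · exact absurd e'' (mono _ _ h i.isLt).ne'
  have hsub : Set.range (fun i : Fin n => (f i • y : leechLattice)) ⊆ MulAction.orbit H y := by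
    rintro _ ⟨i, rfl⟩
    exact ⟨f i, rfl⟩
  have h := Set.ncard_le_ncard hsub hfin
  rwa [Set.ncard_range_of_injective hinj, Nat.card_fin] at h

/-- Orbits of a subgroup fixing `x`, separated by the product with `x`, have their certified sizes. -/
theorem orbit_ncard_of_classes {ι : Type*} [Fintype ι] (H : Subgroup Co0) (x : leechLattice)
    (hx : ∀ h ∈ H, h • x = x) (T : Set leechLattice) (hT : T.Finite)
    (hTH : ∀ h ∈ H, ∀ z ∈ T, h • z ∈ T) (y : ι → leechLattice) (hy : ∀ i, y i ∈ T)
    (hc : Function.Injective fun i => dotInt (x : GolayPt → ℤ) (y i : GolayPt → ℤ))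
    (s : ι → ℕ) (hs : ∀ i, s i ≤ (MulAction.orbit H (y i)).ncard) (hsum : T.ncard ≤ ∑ i, s i) :
    (∀ i, (MulAction.orbit H (y i)).ncard = s i) ∧ T = ⋃ i, MulAction.orbit H (y i) := by
  classical
  have hsub : ∀ i, MulAction.orbit H (y i) ⊆ T := by
    rintro i _ ⟨h, rfl⟩
    exact hTH _ h.2 _ (hy i)
  have hdot : ∀ i, ∀ z ∈ MulAction.orbit H (y i),
      dotInt (x : GolayPt → ℤ) (z : GolayPt → ℤ) = dotInt (x : GolayPt → ℤ) (y i : GolayPt → ℤ) := by
    rintro i _ ⟨h, rfl⟩
    have := co0_dot (h : Co0) x (y i)
    rwa [hx _ h.2] at this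
  have hdisj : Pairwise (Function.onFun Disjoint fun i => MulAction.orbit H (y i)) := fun i j hij =>
    Set.disjoint_left.2 fun z hi hj => hij (hc ((hdot i z hi).symm.trans (hdot j z hj)))
  have hU : (⋃ i, MulAction.orbit H (y i)).ncard = ∑ i, (MulAction.orbit H (y i)).ncard := by
    rw [Set.ncard_iUnion_of_finite (fun i => hT.subset (hsub i)) hdisj, finsum_eq_sum_of_fintype]
  have hle : (⋃ i, MulAction.orbit H (y i)).ncard ≤ T.ncard := Set.ncard_le_ncard (Set.iUnion_subset hsub) hT
  have hss : ∑ i, s i ≤ ∑ i, (MulAction.orbit H (y i)).ncard := Finset.sum_le_sum fun i _ => hs i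
  refine ⟨fun i => ?_, (Set.eq_of_subset_of_ncard_le (Set.iUnion_subset hsub) (by omega) hT).symm⟩
  exact ((Finset.sum_eq_sum_iff_of_le fun i _ => hs i).1 (by omega) i (Finset.mem_univ i)).symm

end Cfsg.Lib.Concrete
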