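import Cfsg.Prelude.Def_KGroupFacts
import Mathlib

/-!
Central extensions with kernel of prime order: transfer and monomial criteria for splitting.
-/

set_option autoImplicit false

namespace Cfsg.Lib.Concrete

open MulAction
open scoped Pointwise

/-- No central extension of `G` with kernel of order `p` is stem. -/
def NoStem (p : ℕ) (G : Type) [Group G] : Prop :=
  ∀ (Γ : Type) [Group Γ] [Finite Γ] (σ : Γ →* G), Function.Surjective σ → σ.ker ≤ Subgroup.center Γ →
    Nat.card σ.ker = p → ¬ σ.ker ≤ commutator Γ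

theorem NoStem.of_equiv {p : ℕ} {G H : Type} [Group G] [Group H] (e : G ≃* H) (h : NoStem p G) :
    NoStem p H := by
  intro Γ _ _ σ hs hc hp hle
  have hk : (e.symm.toMonoidHom.comp σ).ker = σ.ker := by
    ext x; simp [MonoidHom.mem_ker]
  exact h Γ (e.symm.toMonoidHom.comp σ) (e.symm.surjective.comp hs) (hk ▸ hc) (by rw [hk]; exact hp)
    (hk ▸ hle)

theorem commutator_le_of_abelian_quot {Γ : Type} [Group Γ] {A : Subgroup Γ} {Z : Subgroup Γ}
    (hZ : Z ≤ Subgroup.center Γ) (hsup : A ⊔ Z = ⊤) : commutator Γ ≤ A := by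
  rw [commutator_def, Subgroup.commutator_le]
  intro x _ y _
  have key : ∀ x : Γ, ∃ a ∈ A, ∃ z ∈ Z, x = a * z := by
    intro x
    have hn : Z.Normal := ⟨fun n hn g => by
      rw [Subgroup.mem_center_iff.1 (hZ hn) g, mul_inv_cancel_right]; exact hn⟩
    have hx : x ∈ A ⊔ Z := hsup ▸ Subgroup.mem_top x
    obtain ⟨a, ha, z, hz, e⟩ := Set.mem_mul.1 (Subgroup.mul_normal A Z ▸ hx : x ∈ (↑A * ↑Z : Set Γ))
    exact ⟨a, ha, z, hz, e.symm⟩
  obtain ⟨a, ha, z, hz, rfl⟩ := key x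
  obtain ⟨b, hb, w, hw, rfl⟩ := key y
  have cz := Subgroup.mem_center_iff.1 (hZ hz)
  have cw := Subgroup.mem_center_iff.1 (hZ hw)
  have : a * z * (b * w) * (a * z)⁻¹ * (b * w)⁻¹ = a * b * a⁻¹ * b⁻¹ := by
    calc a * z * (b * w) * (a * z)⁻¹ * (b * w)⁻¹ = a * (z * (b * w)) * z⁻¹ * a⁻¹ * w⁻¹ * b⁻¹ := by group
      _ = a * ((b * w) * z) * z⁻¹ * a⁻¹ * w⁻¹ * b⁻¹ := by rw [cz]
      _ = a * b * (w * a⁻¹) * w⁻¹ * b⁻¹ := by group
      _ = a * b * (a⁻¹ * w) * w⁻¹ * b⁻¹ := by rw [cw]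
      _ = a * b * a⁻¹ * b⁻¹ := by group
  rw [commutatorElement_def, this]
  exact A.mul_mem (A.mul_mem (A.mul_mem ha hb) (A.inv_mem ha)) (A.inv_mem hb)

/-- A homomorphism to an abelian group kills the commutator subgroup; transfer of an abelian-valued map. -/
theorem center_pow_index_eq_one {Γ : Type} [Group Γ] [Finite Γ] (H : Subgroup Γ) {A : Type} [CommGroup A]
    (φ : H →* A) {z : Γ} (hz : z ∈ Subgroup.center Γ) (hz' : z ∈ commutator Γ) (hzH : z ∈ H) :
    φ ⟨z, hzH⟩ ^ H.index = 1 := by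
  have h1 : φ.transfer z = 1 := Abelianization.commutator_subset_ker φ.transfer hz'
  rw [MonoidHom.transfer_eq_pow φ z (fun k g₀ _ => by
    rw [mul_assoc, ← Subgroup.mem_center_iff.1 (Subgroup.pow_mem _ hz k) g₀, inv_mul_cancel_left])] at h1
  rw [← map_pow]
  exact h1

/-- If a Sylow `p`-subgroup has order at most `p` there is no stem extension with kernel of order `p`. -/
theorem noStem_of_not_sq_dvd {G : Type} [Group G] [Finite G] {p : ℕ} (hp : p.Prime)
    (h : ¬ p ^ 2 ∣ Nat.card G) : NoStem p G := by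
  intro Γ _ _ σ hs hc hcard hle
  haveI := Fact.mk hp
  obtain ⟨P, hP⟩ := IsPGroup.exists_le_sylow (IsPGroup.of_card (p := p) (n := 1) (by rw [hcard, pow_one]) : IsPGroup p σ.ker)
  have hker : (σ.comp (P : Subgroup Γ).subtype).ker ≤ Subgroup.center (P : Subgroup Γ) := fun x hx =>
    Subgroup.mem_center_iff.2 fun y => Subtype.ext (Subgroup.mem_center_iff.1 (hc (show (x : Γ) ∈ σ.ker from hx)) y)
  have hcyc : IsCyclic (σ.comp (P : Subgroup Γ).subtype).range := by
    obtain ⟨k, hk⟩ := IsPGroup.iff_card.1 (P.2.of_surjective (σ.comp (P : Subgroup Γ).subtype).rangeRestrict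
      (MonoidHom.rangeRestrict_surjective _))
    have hk1 : k ≤ 1 := by
      by_contra hk'
      push Not at hk'
      exact h (((pow_dvd_pow p hk').trans (dvd_of_eq hk.symm)).trans (Subgroup.card_subgroup_dvd_card _))
    rcases Nat.le_one_iff_eq_zero_or_eq_one.1 hk1 with rfl | rfl
    · rw [pow_zero, Nat.card_eq_one_iff_unique] at hk
      have := hk.1
      infer_instance
    · rw [pow_one] at hk
      exact isCyclic_of_prime_card hk
  have hcomm : IsMulCommutative (P : Subgroup Γ) :=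
    MonoidHom.isMulCommutative_of_isCyclic_of_ker_le_center (σ.comp (P : Subgroup Γ).subtype).rangeRestrict
      (by rw [MonoidHom.ker_rangeRestrict]; exact hker)
  letI : CommGroup (P : Subgroup Γ) := { (inferInstance : Group (P : Subgroup Γ)) with mul_comm := hcomm.is_comm.comm }
  have hone : ∀ z, z ∈ σ.ker → z = 1 := by
    intro z hz
    have h1 : (⟨z, hP hz⟩ : (P : Subgroup Γ)) ^ (P : Subgroup Γ).index = 1 :=
      center_pow_index_eq_one (P : Subgroup Γ) (MonoidHom.id _) (hc hz) (hle hz) (hP hz)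
    have hz1 : z ^ (P : Subgroup Γ).index = 1 := congrArg Subtype.val h1
    have hzp : z ^ p = 1 := by
      have : (⟨z, hz⟩ : σ.ker) ^ p = 1 := hcard ▸ pow_card_eq_one'
      exact congrArg Subtype.val this
    have hcop : Nat.Coprime p (P : Subgroup Γ).index := hp.coprime_iff_not_dvd.2 P.not_dvd_index
    have := (pow_gcd_eq_one).2 ⟨hzp, hz1⟩
    rwa [hcop.gcd_eq_one, pow_one] at this
  have : σ.ker = ⊥ := (Subgroup.eq_bot_iff_forall _).2 hone
  rw [this, Subgroup.card_bot] at hcard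
  exact hp.ne_one hcard.symm

/-- Inside the preimage of a perfect subgroup without stem extensions, the derived group is a complement. -/
theorem exists_complement_of_noStem {G Γ : Type} [Group G] [Group Γ] [Finite Γ] {p : ℕ} (hp : p.Prime)
    (σ : Γ →* G) (hs : Function.Surjective σ) (hc : σ.ker ≤ Subgroup.center Γ) (hcard : Nat.card σ.ker = p)
    (H : Subgroup G) (hperf : ⁅H, H⁆ = H) (hno : NoStem p H) :
    ∃ K : Subgroup Γ, K ≤ H.comap σ ∧ K ⊓ σ.ker = ⊥ ∧ K ⊔ σ.ker = H.comap σ := by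
  set Ht := H.comap σ
  have hkerle : σ.ker ≤ Ht := fun x hx => by
    show σ x ∈ H
    rw [MonoidHom.mem_ker.1 hx]; exact H.one_mem
  let τ : Ht →* H := (σ.comp Ht.subtype).codRestrict H fun x => x.2
  have hτs : Function.Surjective τ := fun y => by
    obtain ⟨x, hx⟩ := hs y
    exact ⟨⟨x, show σ x ∈ H from hx ▸ y.2⟩, Subtype.ext hx⟩
  have hτk : τ.ker = σ.ker.subgroupOf Ht := by
    ext x
    exact ⟨fun h => (congrArg Subtype.val h : σ x = 1), fun h => Subtype.ext h⟩
  have hτc : τ.ker ≤ Subgroup.center Ht := fun x hx => Subgroup.mem_center_iff.2 fun y =>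
    Subtype.ext (Subgroup.mem_center_iff.1 (hc (by rw [hτk] at hx; exact hx)) y)
  have hτcard : Nat.card τ.ker = p := by
    rw [hτk, Nat.card_congr (Subgroup.subgroupOfEquivOfLe hkerle).toEquiv, hcard]
  refine ⟨⁅Ht, Ht⁆, Subgroup.commutator_le_self _, ?_, ?_⟩
  · by_contra hne
    refine hno Ht τ hτs hτc hτcard ?_
    intro x hx
    rw [hτk] at hx
    have hzle : σ.ker ≤ ⁅Ht, Ht⁆ := by
      haveI := Fact.mk hp
      have hdvd : Nat.card ↥(⁅Ht, Ht⁆ ⊓ σ.ker) ∣ p := hcard ▸ Subgroup.card_dvd_of_le inf_le_right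
      rcases (Nat.dvd_prime hp).1 hdvd with e | e
      · exact absurd (Subgroup.eq_bot_of_card_eq _ e) hne
      · have := Subgroup.eq_of_le_of_card_ge (inf_le_right : ⁅Ht, Ht⁆ ⊓ σ.ker ≤ σ.ker) (by rw [e, hcard])
        exact this ▸ inf_le_left
    have h2 : Subgroup.map Ht.subtype (commutator Ht) = ⁅Ht, Ht⁆ := by
      rw [commutator_def, Subgroup.map_commutator, ← MonoidHom.range_eq_map, Subgroup.range_subtype]
    obtain ⟨y, hy, hyx⟩ := (h2.symm ▸ hzle hx : (x : Γ) ∈ Subgroup.map Ht.subtype (commutator Ht))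
    exact (Subtype.ext hyx : y = x) ▸ hy
  · refine le_antisymm (sup_le (Subgroup.commutator_le_self _) hkerle) ?_
    have : Subgroup.map σ ⁅Ht, Ht⁆ = H := by
      rw [Subgroup.map_commutator, Subgroup.map_comap_eq_self_of_surjective hs, hperf]
    rw [← Subgroup.comap_map_eq, this]

/-- If `p` does not divide the index of a split subgroup there is no stem extension. -/
theorem noStem_of_index {G : Type} [Group G] [Finite G] {p : ℕ} (hp : p.Prime) (H : Subgroup G)
    (hperf : ⁅H, H⁆ = H) (hno : NoStem p H) (hidx : ¬ p ∣ H.index) : NoStem p G := by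
  intro Γ _ _ σ hs hc hcard hle
  obtain ⟨K, hKle, hKd, hKs⟩ := exists_complement_of_noStem hp σ hs hc hcard H hperf hno
  set Ht := H.comap σ with hHt
  have hn : (K.subgroupOf Ht).Normal := by
    constructor
    intro n hn g
    show (g : Γ) * (n : Γ) * (g : Γ)⁻¹ ∈ K
    have hzn : σ.ker.Normal := MonoidHom.normal_ker σ
    obtain ⟨k, hk, z, hz, e⟩ := Set.mem_mul.1
      (Subgroup.mul_normal K σ.ker ▸ (hKs.symm ▸ g.2 : (g : Γ) ∈ K ⊔ σ.ker) : (g : Γ) ∈ (↑K * ↑σ.ker : Set Γ))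
    rw [← e, show k * z * (n : Γ) * (k * z)⁻¹ = k * (z * (n : Γ)) * z⁻¹ * k⁻¹ by group,
      ← Subgroup.mem_center_iff.1 (hc hz), show k * ((n : Γ) * z) * z⁻¹ * k⁻¹ = k * n * k⁻¹ by group]
    exact K.mul_mem (K.mul_mem hk hn) (K.inv_mem hk)
  have hq : ∀ a b : Ht ⧸ K.subgroupOf Ht, a * b = b * a := by
    intro a b
    obtain ⟨x, rfl⟩ := QuotientGroup.mk_surjective a
    obtain ⟨y, rfl⟩ := QuotientGroup.mk_surjective b
    rw [← QuotientGroup.mk_mul, ← QuotientGroup.mk_mul, QuotientGroup.eq]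
    show ((x * y : Ht) : Γ)⁻¹ * ((y * x : Ht) : Γ) ∈ K
    have hzn : σ.ker.Normal := MonoidHom.normal_ker σ
    obtain ⟨k, hk, z, hz, ex⟩ := Set.mem_mul.1
      (Subgroup.mul_normal K σ.ker ▸ (hKs.symm ▸ x.2 : (x : Γ) ∈ K ⊔ σ.ker) : (x : Γ) ∈ (↑K * ↑σ.ker : Set Γ))
    obtain ⟨l, hl, w, hw, ey⟩ := Set.mem_mul.1
      (Subgroup.mul_normal K σ.ker ▸ (hKs.symm ▸ y.2 : (y : Γ) ∈ K ⊔ σ.ker) : (y : Γ) ∈ (↑K * ↑σ.ker : Set Γ))
    push_cast
    rw [← ex, ← ey]
    have cz := Subgroup.mem_center_iff.1 (hc hz)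
    have cw := Subgroup.mem_center_iff.1 (hc hw)
    have : (k * z * (l * w))⁻¹ * (l * w * (k * z)) = l⁻¹ * k⁻¹ * l * k := by
      calc (k * z * (l * w))⁻¹ * (l * w * (k * z)) = w⁻¹ * l⁻¹ * z⁻¹ * k⁻¹ * l * (w * (k * z)) := by group
        _ = w⁻¹ * l⁻¹ * z⁻¹ * k⁻¹ * l * ((k * z) * w) := by rw [cw]
        _ = w⁻¹ * (l⁻¹ * z⁻¹ * k⁻¹ * l * k * z) * w := by group
        _ = w⁻¹ * ((l⁻¹ * z⁻¹ * k⁻¹ * l * k * z) * w) := by group
        _ = w⁻¹ * (w * (l⁻¹ * z⁻¹ * k⁻¹ * l * k * z)) := by rw [cw]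
        _ = l⁻¹ * (z⁻¹ * (k⁻¹ * l * k * z)) := by group
        _ = l⁻¹ * (z⁻¹ * (z * (k⁻¹ * l * k))) := by rw [cz]
        _ = l⁻¹ * k⁻¹ * l * k := by group
    rw [this]
    exact K.mul_mem (K.mul_mem (K.mul_mem (K.inv_mem hl) (K.inv_mem hk)) hl) hk
  letI : CommGroup (Ht ⧸ K.subgroupOf Ht) :=
    { (inferInstance : Group (Ht ⧸ K.subgroupOf Ht)) with mul_comm := hq }
  have hone : ∀ z, z ∈ σ.ker → z = 1 := by
    intro z hz
    have hzH : z ∈ Ht := hKs ▸ Subgroup.mem_sup_right hz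
    have h1 : (QuotientGroup.mk' (K.subgroupOf Ht)) ⟨z, hzH⟩ ^ Ht.index = 1 :=
      center_pow_index_eq_one Ht (QuotientGroup.mk' (K.subgroupOf Ht)) (hc hz) (hle hz) hzH
    rw [← map_pow, QuotientGroup.mk'_apply, QuotientGroup.eq_one_iff] at h1
    have hmem : z ^ Ht.index ∈ K ⊓ σ.ker := ⟨h1, σ.ker.pow_mem hz _⟩
    rw [hKd, Subgroup.mem_bot] at hmem
    have hzp : z ^ p = 1 := by
      have : (⟨z, hz⟩ : σ.ker) ^ p = 1 := hcard ▸ pow_card_eq_one'
      exact congrArg Subtype.val this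
    have hcop : Nat.Coprime p Ht.index := by
      rw [hHt, Subgroup.index_comap_of_surjective _ hs]
      exact hp.coprime_iff_not_dvd.2 hidx
    have := (pow_gcd_eq_one).2 ⟨hzp, hmem⟩
    rwa [hcop.gcd_eq_one, pow_one] at this
  have : σ.ker = ⊥ := (Subgroup.eq_bot_iff_forall _).2 hone
  rw [this, Subgroup.card_bot] at hcard
  exact hp.ne_one hcard.symm

/-- A trivial multiplier follows from the absence of stem extensions with kernel of prime order. -/
theorem hasTrivialMultiplier {G : Type} [Group G] [Finite G] (h : ∀ p : ℕ, p.Prime → NoStem p G) :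
    Cfsg.HasCyclicSchurMultiplier G 1 := by
  have hid : (MonoidHom.id G).ker = ⊥ := (MonoidHom.ker_eq_bot_iff _).2 fun _ _ e => e
  refine ⟨⟨G, inferInstance, inferInstance, MonoidHom.id G, ⟨Function.surjective_id, by rw [hid]; exact bot_le,
    by rw [hid]; exact bot_le⟩, ?_⟩, ?_⟩
  · exact ⟨{ toFun := fun _ => 1, invFun := fun _ => 1
             left_inv := fun x => Subtype.ext (MonoidHom.mem_ker.1 x.2).symm
             right_inv := fun _ => Subsingleton.elim _ _
             map_mul' := fun _ _ => Subsingleton.elim _ _ }⟩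
  intro Γ _ _ σ hσ
  obtain ⟨hs, hc, hle⟩ := hσ
  have hker : σ.ker = ⊥ := by
    classical
    by_contra hne
    obtain ⟨M, ⟨hML, hMne⟩, hmax⟩ := (Set.toFinite {M : Subgroup Γ | M ≤ σ.ker ∧ M ≠ σ.ker}).exists_maximalFor
      id _ ⟨⊥, bot_le, Ne.symm hne⟩
    have hMn : M.Normal := ⟨fun n hn g => by
      rw [Subgroup.mem_center_iff.1 (hc (hML hn)) g, mul_inv_cancel_right]; exact hn⟩
    let σ' : Γ ⧸ M →* G := QuotientGroup.lift M σ hML
    have hs' : Function.Surjective σ' := fun g => by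
      obtain ⟨x, rfl⟩ := hs g; exact ⟨QuotientGroup.mk x, rfl⟩
    have hk' : σ'.ker = σ.ker.map (QuotientGroup.mk' M) := QuotientGroup.ker_lift _ _ _
    have hc' : σ'.ker ≤ Subgroup.center (Γ ⧸ M) := by
      rw [hk']
      rintro _ ⟨x, hx, rfl⟩
      refine Subgroup.mem_center_iff.2 fun g => ?_
      obtain ⟨g, rfl⟩ := QuotientGroup.mk_surjective g
      exact congrArg (QuotientGroup.mk' M) (Subgroup.mem_center_iff.1 (hc hx) g)
    have hle' : σ'.ker ≤ commutator (Γ ⧸ M) := by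
      rw [hk', commutator_def, ← Subgroup.map_top_of_surjective (QuotientGroup.mk' M)
        (QuotientGroup.mk'_surjective M), ← Subgroup.map_commutator, ← commutator_def]
      exact Subgroup.map_mono hle
    obtain ⟨p, hp, hcard⟩ : ∃ p : ℕ, p.Prime ∧ Nat.card σ'.ker = p := by
      have hne1 : Nat.card σ'.ker ≠ 1 := by
        intro e
        refine hMne (le_antisymm hML fun x hx => ?_)
        have := (Subgroup.eq_bot_iff_forall _).1 (Subgroup.eq_bot_of_card_eq _ e) (QuotientGroup.mk x)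
          (show σ x = 1 from hx)
        exact (QuotientGroup.eq_one_iff _).1 this
      obtain ⟨p, hp, hpd⟩ := Nat.exists_prime_and_dvd hne1
      haveI := Fact.mk hp
      obtain ⟨⟨y, hy⟩, hyo⟩ := exists_prime_orderOf_dvd_card' (G := σ'.ker) p hpd
      refine ⟨p, hp, ?_⟩
      have hyo' : orderOf y = p := by rw [← hyo]; exact Subgroup.orderOf_coe (⟨y, hy⟩ : σ'.ker)
      have hcomap : (Subgroup.zpowers y).comap (QuotientGroup.mk' M) = σ.ker := by
        have hMle : M ≤ (Subgroup.zpowers y).comap (QuotientGroup.mk' M) := fun x hx => by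
          show QuotientGroup.mk' M x ∈ Subgroup.zpowers y
          rw [QuotientGroup.mk'_apply, (QuotientGroup.eq_one_iff x).2 hx]; exact one_mem _
        have hle2 : (Subgroup.zpowers y).comap (QuotientGroup.mk' M) ≤ σ.ker := fun x hx =>
          show σ' (QuotientGroup.mk x) = 1 from (Subgroup.zpowers_le.2 hy : Subgroup.zpowers y ≤ σ'.ker) hx
        by_contra hne2
        have heq := le_antisymm (hmax ⟨hle2, hne2⟩ hMle) hMle
        obtain ⟨x, rfl⟩ := QuotientGroup.mk_surjective y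
        have : x ∈ M := by
          rw [← show (Subgroup.zpowers (QuotientGroup.mk x : Γ ⧸ M)).comap (QuotientGroup.mk' M) = M from heq]
          exact Subgroup.mem_zpowers _
        rw [(QuotientGroup.eq_one_iff x).2 this, orderOf_one] at hyo'
        exact hp.ne_one hyo'.symm
      rw [hk', ← hcomap, Subgroup.map_comap_eq_self_of_surjective (QuotientGroup.mk'_surjective M),
        Nat.card_zpowers, hyo']
    exact h p hp (Γ ⧸ M) σ' hs' hc' hcard hle'
  exact ⟨1, fun x => ⟨1, Subtype.ext (by have := x.2; simp only [hker, Subgroup.mem_bot] at this; simpa using this.symm)⟩⟩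

end Cfsg.Lib.Concrete
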