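import Cfsg.Agent.Lib.Concrete.OrbitStd

/-!
Orbits of the stabiliser of two disjoint octads on the octads disjoint from the first.
-/

set_option autoImplicit false
set_option maxRecDepth 20000

namespace Cfsg.Lib.Concrete

/-- Generators. -/
def oOAOctGens : List (ℕ × ℕ) := [(980220556842760084942400863107877937, 961369353247924693002964549118266417), (233014764931970154763670768819684375, 21320230549077399252413919602971745)]

/-- An orbit. -/
def oOAOct0 : OrbCert := ⟨6889680, 1, 0x6920d0, 0x0⟩

/-- An orbit. -/
def oOAOct1 : OrbCert := ⟨4038912, 28, 0x182d505481d0659280742a40258c5060b5401d0a90293e000527c020ab9011b8c051a6100995906c07105833803886c02c19c03434907898105d14404cac80498b400cb250453910401ed0710d803113503da100, 0x190015101410131012100f000e100d000c100c000b100a00091009000810071006000510041004000300021002000110010000100000000⟩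

/-- An orbit. -/
def oOAOct2 : OrbCert := ⟨1351424, 1, 0x149f00, 0x0⟩

/-- The orbits. -/
def oOAOct : List OrbCert := [oOAOct0, oOAOct1, oOAOct2]

/-- Positions of the candidates. -/
def oOAOctIx : ℕ := 0x301400201b00701701200601501800b00401100901300e00c01000f01600a00800d00101900501a000000

end Cfsg.Lib.Concrete
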