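import Cfsg.Agent.Lib.Concrete.SixPoints
import Cfsg.Agent.Lib.Concrete.TrioSext
import Cfsg.Agent.Lib.Concrete.OctadStabData

/-!
The stabiliser of an octad in M24: action on the octad, complements, joint stabilisers of two
octads, and trios through the octad.
-/

set_option autoImplicit false

namespace Cfsg.Lib.Concrete

open Finset
open scoped Pointwise
open MulAction (stabilizer orbit)

/-- The test: an element fixing six points of the base octad fixes all of it. -/
def fixCheck (pq : ℕ × ℕ) : Bool :=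
  bits24.all fun i => !(Nat.testBit m24BaseOctad i) || Nat.beq (pget pq.1 (pget pq.2 i)) i

theorem fix_six_check : (fix5Pairs.all fun pq =>
    !(Nat.beq (pget pq.1 (pget pq.2 (gidx (bp 6)).val)) (gidx (bp 6)).val) || fixCheck pq) = true := by
  decide +kernel

theorem fix_base_six {h : Equiv.Perm GolayPt} (hh : h ∈ fixB 5) (h6 : h (bp 6) = bp 6) :
    ∀ x ∈ baseOctad, h x = x := by
  obtain ⟨pq, hpq, -, hap⟩ := fixB_five_decomp hh
  have hc := List.all_eq_true.1 fix_six_check pq hpq
  have hb : Nat.beq (pget pq.1 (pget pq.2 (gidx (bp 6)).val)) (gidx (bp 6)).val = true := by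
    rw [Nat.beq_eq, ← hap, h6]
  rw [hb, Bool.not_true, Bool.false_or] at hc
  intro x hx
  refine gidx_injective (Fin.ext ?_)
  have := List.all_eq_true.1 hc (gidx x).val (mem_bits24.2 (gidx x).isLt)
  have hbit : Nat.testBit m24BaseOctad (gidx x).val = true := mem_mset.1 hx
  rw [hbit, Bool.not_true, Bool.false_or, Nat.beq_eq] at this
  rw [hap, this]

theorem smul_eq_self_of_fix {g : Equiv.Perm GolayPt} {s : Finset GolayPt} (h : ∀ a ∈ s, g a = a) : g • s = s :=
  (image_congr fun a ha => h a ha).trans image_id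

/-- An element of M24 fixing six points of an octad fixes the octad pointwise. -/
theorem fix_six_octad {g : Equiv.Perm GolayPt} (hg : g ∈ M24) {o A : Finset GolayPt} (ho : o ∈ octads)
    (hA : A.card = 6) (hAo : A ⊆ o) (hfix : ∀ a ∈ A, g a = a) : ∀ x ∈ o, g x = x := by
  obtain ⟨c, hc, b, hb, hiff, rfl⟩ := exists_smul_base_six hA
  obtain rfl := hiff.2 ⟨o, ho, hAo⟩
  have ho' : c • baseOctad = o := by
    refine octads_eq_of_five (smul_octad_mem hc baseOctad_mem) ho (s := c • (Finset.range 5).image bp)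
      (by rw [card_smul_points, base_card]) (Finset.smul_finset_subset_smul_finset fun y hy => ?_)
      ((Finset.smul_finset_subset_smul_finset (subset_insert _ _)).trans hAo)
    obtain ⟨j, hj, rfl⟩ := mem_image.1 hy
    exact bp_mem_baseOctad j (mem_range.1 hj)
  have hpt : ∀ a ∈ insert (bp 6) ((Finset.range 5).image bp), (c⁻¹ * g * c) a = a := fun a ha => by
    simp only [Equiv.Perm.mul_apply]
    rw [hfix (c a) (Finset.smul_mem_smul_finset ha)]
    simp
  have hh : c⁻¹ * g * c ∈ fixB 5 := ⟨mul_mem (mul_mem (inv_mem hc) hg) hc,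
    fun j hj => hpt _ (mem_insert_of_mem (mem_image_of_mem _ (mem_range.2 hj)))⟩
  intro x hx
  rw [← ho'] at hx
  obtain ⟨y, hy, rfl⟩ := mem_image.1 hx
  have := fix_base_six hh (hpt _ (mem_insert_self _ _)) y hy
  simp only [Equiv.Perm.mul_apply] at this
  show g (c y) = c y
  conv_rhs => rw [← this]
  simp

theorem card_fixSet_octad {o : Finset GolayPt} (ho : o ∈ octads) : Nat.card (fixSet o) = 16 := by
  obtain ⟨A, hAo, hA⟩ := exists_subset_card_eq (show 6 ≤ o.card by rw [ho.2]; norm_num)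
  have : fixSet o = fixSet A := by
    ext g
    simp only [mem_fixSet]
    exact ⟨fun h => ⟨h.1, fun a ha => h.2 a (hAo ha)⟩, fun h => ⟨h.1, fix_six_octad h.1 ho hA hAo h.2⟩⟩
  rw [this, (card_fixSet_six hA).1 ⟨o, ho, hAo⟩]

theorem card_octad_stabilizer {o : Finset GolayPt} (ho : o ∈ octads) : Nat.card (stabilizer M24 o) = 322560 := by
  have horb : orbit M24 o = octads := by
    ext X
    constructor
    · rintro ⟨g, rfl⟩; exact smul_octad_mem g.2 ho
    · intro hX
      obtain ⟨g, hg, h⟩ := M24_octad_transitive ho hX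
      exact ⟨⟨g, hg⟩, h⟩
  have h := Nat.card_congr (MulAction.orbitProdStabilizerEquivGroup M24 o)
  rw [Nat.card_prod, Nat.card_coe_set_eq, horb, octads_ncard, card_M24] at h
  omega

theorem stab_mem_iff {o : Finset GolayPt} (g : stabilizer M24 o) (x : GolayPt) : g.1.1 x ∈ o ↔ x ∈ o := by
  have he : g.1.1 • o = o := g.2
  exact (Finset.ext_iff.1 he (g.1.1 x)).symm.trans (Finset.smul_mem_smul_finset_iff g.1.1)

/-- Restriction to the octad. -/
def toOctadPerm (o : Finset GolayPt) : stabilizer M24 o →* Equiv.Perm ↥o where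
  toFun g := g.1.1.subtypePerm (stab_mem_iff g)
  map_one' := Equiv.ext fun _ => rfl
  map_mul' _ _ := Equiv.ext fun _ => rfl

theorem toOctadPerm_apply {o : Finset GolayPt} (g : stabilizer M24 o) (p : ↥o) :
    (toOctadPerm o g p : GolayPt) = g.1.1 p := rfl

theorem toOctadPerm_eq_one {o : Finset GolayPt} (g : stabilizer M24 o) :
    toOctadPerm o g = 1 ↔ ∀ x ∈ o, g.1.1 x = x :=
  ⟨fun h x hx => congrArg Subtype.val (Equiv.congr_fun h ⟨x, hx⟩),
    fun h => Equiv.ext fun p => Subtype.ext (h p p.2)⟩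

theorem range_toOctadPerm {o : Finset GolayPt} (ho : o ∈ octads) :
    (toOctadPerm o).range = alternatingGroup ↥o := by
  have hker : Nat.card (toOctadPerm o).ker = 16 := by
    rw [← card_fixSet_octad ho]
    exact Nat.card_congr ⟨fun g => ⟨g.1.1.1, mem_fixSet.2 ⟨g.1.1.2, (toOctadPerm_eq_one g.1).1 g.2⟩⟩,
      fun g => ⟨⟨⟨g.1, (mem_fixSet.1 g.2).1⟩, smul_eq_self_of_fix (mem_fixSet.1 g.2).2⟩,
        (toOctadPerm_eq_one _).2 (mem_fixSet.1 g.2).2⟩, fun g => rfl, fun g => rfl⟩
  have h := (toOctadPerm o).ker.card_mul_index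
  rw [hker, card_octad_stabilizer ho, Subgroup.index_ker] at h
  have h2 := (toOctadPerm o).range.card_mul_index
  rw [Nat.card_perm, Nat.card_eq_fintype_card (α := ↥o), Fintype.card_coe, ho.2,
    show (8 : ℕ).factorial = 40320 from rfl] at h2
  refine Equiv.Perm.eq_alternatingGroup_of_index_eq_two ?_
  have : Nat.card (toOctadPerm o).range = 20160 := by omega
  rw [this] at h2
  omega

/-- The pointwise stabiliser is transitive outside the octad. -/
theorem fixSet_octad_transitive {o : Finset GolayPt} (ho : o ∈ octads) {p q : GolayPt} (hp : p ∉ o) (hq : q ∉ o) :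
    ∃ g ∈ fixSet o, g p = q := by
  classical
  have hst : stabilizer (fixSet o) p = ⊥ := by
    rw [eq_bot_iff]
    intro g hg
    refine Subgroup.mem_bot.2 (Subtype.ext ?_)
    refine eq_one_of_nine_fixed (mem_fixSet.1 g.2).1 (s := insert p o)
      (by rw [card_insert_of_notMem hp, ho.2]) fun x hx => ?_
    rcases mem_insert.1 hx with rfl | hx
    · exact hg
    · exact (mem_fixSet.1 g.2).2 x hx
  have h := Nat.card_congr (MulAction.orbitProdStabilizerEquivGroup (fixSet o) p)
  rw [Nat.card_prod, hst, Subgroup.card_bot, mul_one, Nat.card_coe_set_eq, card_fixSet_octad ho] at h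
  have heq : orbit (fixSet o) p = ↑oᶜ := by
    refine Set.eq_of_subset_of_ncard_le ?_ ?_ (Set.toFinite _)
    · rintro _ ⟨g, rfl⟩
      refine mem_coe.2 (mem_compl.2 fun hg => hp ?_)
      have hg' : g.1 p ∈ o := hg
      have h1 : g.1 p = p := g.1.injective ((mem_fixSet.1 g.2).2 _ hg')
      rwa [h1] at hg'
    · rw [h, Set.ncard_coe_finset, card_compl, ho.2]; rfl
  obtain ⟨g, hg⟩ : q ∈ orbit (fixSet o) p := heq.symm ▸ mem_coe.2 (mem_compl.2 hq)
  exact ⟨g.1, g.2, hg⟩

/-- Splitting of the octad stabiliser. -/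
theorem octad_stabilizer_split {o : Finset GolayPt} (ho : o ∈ octads) {p : GolayPt} (hp : p ∉ o) :
    (M24 ⊓ fixingSubgroup (Equiv.Perm GolayPt) (o : Set GolayPt)) ⊓
        (M24 ⊓ stabilizer (Equiv.Perm GolayPt) o ⊓ stabilizer (Equiv.Perm GolayPt) p) = ⊥ ∧
      (M24 ⊓ fixingSubgroup (Equiv.Perm GolayPt) (o : Set GolayPt)) ⊔
        (M24 ⊓ stabilizer (Equiv.Perm GolayPt) o ⊓ stabilizer (Equiv.Perm GolayPt) p) =
          M24 ⊓ stabilizer (Equiv.Perm GolayPt) o ∧
      Nonempty (↥(M24 ⊓ stabilizer (Equiv.Perm GolayPt) o ⊓ stabilizer (Equiv.Perm GolayPt) p) ≃*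
        alternatingGroup (Fin 8)) := by
  have hA : M24 ⊓ fixingSubgroup (Equiv.Perm GolayPt) (o : Set GolayPt) = fixSet o := rfl
  rw [hA]
  set S := M24 ⊓ stabilizer (Equiv.Perm GolayPt) o
  set T := S ⊓ stabilizer (Equiv.Perm GolayPt) p
  have hAS : fixSet o ≤ S := fun g hg =>
    ⟨(mem_fixSet.1 hg).1, smul_eq_self_of_fix (mem_fixSet.1 hg).2⟩
  have hadj : ∀ g ∈ S, ∃ a ∈ fixSet o, a⁻¹ * g ∈ T := by
    intro g hg
    have hgp : g p ∉ o := fun h => hp ((stab_mem_iff ⟨⟨g, hg.1⟩, hg.2⟩ p).1 h)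
    obtain ⟨a, ha, hap⟩ := fixSet_octad_transitive ho hp hgp
    have hS : a⁻¹ * g ∈ S := S.mul_mem (S.inv_mem (hAS ha)) hg
    refine ⟨a, ha, hS, ?_⟩
    show a⁻¹ (g p) = p
    rw [← hap]; simp
  refine ⟨?_, ?_, ?_⟩
  · rw [eq_bot_iff]
    rintro g ⟨hga, -, hgp⟩
    refine Subgroup.mem_bot.2 (eq_one_of_nine_fixed (mem_fixSet.1 hga).1 (s := insert p o)
      (by rw [card_insert_of_notMem hp, ho.2]) fun x hx => ?_)
    rcases mem_insert.1 hx with rfl | hx
    · exact hgp
    · exact (mem_fixSet.1 hga).2 x hx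
  · refine le_antisymm (sup_le hAS inf_le_left) fun g hg => ?_
    obtain ⟨a, ha, hat⟩ := hadj g hg
    have := Subgroup.mul_mem_sup ha hat
    rwa [mul_inv_cancel_left] at this
  · let ρ : T →* Equiv.Perm ↥o :=
      (toOctadPerm o).comp
        { toFun := fun g => ⟨⟨g.1, g.2.1.1⟩, g.2.1.2⟩
          map_one' := rfl
          map_mul' := fun _ _ => rfl }
    have hinj : Function.Injective ρ := by
      rw [injective_iff_map_eq_one]
      intro g hg
      refine Subtype.ext (eq_one_of_nine_fixed g.2.1.1 (s := insert p o)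
        (by rw [card_insert_of_notMem hp, ho.2]) fun x hx => ?_)
      rcases mem_insert.1 hx with rfl | hx
      · exact g.2.2
      · exact (toOctadPerm_eq_one _).1 hg x hx
    have hrange : ρ.range = alternatingGroup ↥o := by
      rw [← range_toOctadPerm ho]
      ext σ
      constructor
      · rintro ⟨g, rfl⟩; exact ⟨_, rfl⟩
      · rintro ⟨g, rfl⟩
        obtain ⟨a, ha, hat⟩ := hadj g.1.1 ⟨g.1.2, g.2⟩
        refine ⟨⟨a⁻¹ * g.1.1, hat⟩, Equiv.ext fun x => Subtype.ext ?_⟩
        show (a⁻¹ * g.1.1) x = g.1.1 x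
        rw [Equiv.Perm.mul_apply, Equiv.Perm.inv_def, Equiv.symm_apply_eq]
        exact ((mem_fixSet.1 ha).2 _ ((stab_mem_iff g _).2 x.2)).symm
    exact ⟨((MonoidHom.ofInjective hinj).trans (MulEquiv.subgroupCongr hrange)).trans
      (Equiv.altCongrHom (o.equivFinOfCardEq ho.2))⟩

theorem octad_inter_count {o : Finset GolayPt} (ho : o ∈ octads) (k : ℕ) :
    {X : Finset GolayPt | X ∈ octads ∧ (o ∩ X).card = k}.ncard =
      (octList.filter fun m => Nat.beq (pcnt (Nat.land m24BaseOctad m)) k).length :=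
  ncard_std (std_octad ho) octList_nodup (fun m hm => octList_lt hm) (fun X => X ∈ octads)
    (fun X => (o ∩ X).card = k) _ oct_cands (fun g hg X => smul_mem_octads_iff hg X) fun g _ he X m _ e => by
      simp only [List.map_cons, List.map_nil, List.cons.injEq, and_true] at he
      rw [Nat.beq_eq, ← inter_card_of_smul he e]

theorem two_octad_stabilizer_card {o o' : Finset GolayPt} (ho : o ∈ octads) (ho' : o' ∈ octads) :
    Nat.card ↥(stabilizer M24 o ⊓ stabilizer M24 o') *
      (octList.filter fun m => Nat.beq (pcnt (Nat.land m24BaseOctad m)) (o ∩ o').card).length = 322560 := by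
  set H := stabilizer M24 o
  have horb : orbit H o' = {X | X ∈ octads ∧ (o ∩ X).card = (o ∩ o').card} := by
    ext X
    constructor
    · rintro ⟨g, rfl⟩
      have he : g.1.1 • o = o := g.2
      refine ⟨smul_octad_mem g.1.2 ho', ?_⟩
      show (o ∩ g.1.1 • o').card = _
      conv_lhs => rw [← he]
      rw [← Finset.smul_finset_inter, card_smul_points]
    · rintro ⟨hX, hk⟩
      obtain ⟨g, hg, h1, h2⟩ := octad_rank ho ho' hX hk.symm
      exact ⟨⟨⟨g, hg⟩, h1⟩, h2⟩
  have h := Nat.card_congr (MulAction.orbitProdStabilizerEquivGroup H o')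
  rw [Nat.card_prod, Nat.card_coe_set_eq, horb, octad_inter_count ho, card_octad_stabilizer ho] at h
  rw [mul_comm, ← h]
  congr 1
  exact Nat.card_congr ⟨fun g => ⟨⟨g.1, g.2.1⟩, g.2.2⟩, fun g => ⟨g.1.1, g.1.2, g.2⟩, fun g => rfl, fun g => rfl⟩

theorem two_octad_card {o o' : Finset GolayPt} (ho : o ∈ octads) (ho' : o' ∈ octads) :
    ((o ∩ o').card = 0 → Nat.card ↥(stabilizer M24 o ⊓ stabilizer M24 o') = 10752) ∧
    ((o ∩ o').card = 4 → Nat.card ↥(stabilizer M24 o ⊓ stabilizer M24 o') = 1152) ∧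
    ((o ∩ o').card = 2 → Nat.card ↥(stabilizer M24 o ⊓ stabilizer M24 o') = 720) := by
  have h := two_octad_stabilizer_card ho ho'
  refine ⟨fun hk => ?_, fun hk => ?_, fun hk => ?_⟩ <;> rw [hk] at h
  · rw [show (octList.filter fun m => Nat.beq (pcnt (Nat.land m24BaseOctad m)) 0).length = 30 by decide +kernel] at h
    omega
  · rw [show (octList.filter fun m => Nat.beq (pcnt (Nat.land m24BaseOctad m)) 4).length = 280 by decide +kernel] at h
    omega
  · rw [show (octList.filter fun m => Nat.beq (pcnt (Nat.land m24BaseOctad m)) 2).length = 448 by decide +kernel] at h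
    omega

theorem duo_check : ((fix5Pairs.filter fixCheck).all fun pq =>
    (bits24.all fun i => Nat.beq (pget pq.1 (pget pq.2 i)) i) ||
      ((octList.filter fun m => Nat.beq (pcnt (Nat.land m24BaseOctad m)) 2).all fun m =>
        Nat.blt (pimg pq.1 (pimg pq.2 m)) 16777216 && !(Nat.beq (pimg pq.1 (pimg pq.2 m)) m))) = true := by
  decide +kernel

theorem trio_check : ((fix5Pairs.filter fixCheck).all fun pq =>
    (octList.filter fun m => Nat.beq (pcnt (Nat.land m24BaseOctad m)) 0).all fun m =>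
      Nat.beq (pimg pq.1 (pimg pq.2 m)) m ||
        Nat.beq (pimg pq.1 (pimg pq.2 m)) (Nat.xor (Nat.xor 16777215 m24BaseOctad) m)) = true := by
  decide +kernel

theorem pointwise_base {h : Equiv.Perm GolayPt} (hh : h ∈ M24) (hfix : ∀ x ∈ baseOctad, h x = x) :
    ∃ pq ∈ fix5Pairs.filter fixCheck, (∀ m, h • mset m = mset (pimg pq.1 (pimg pq.2 m))) ∧
      ∀ x, (gidx (h x)).val = pget pq.1 (pget pq.2 (gidx x).val) := by
  obtain ⟨pq, hpq, hm, hap⟩ := fixB_five_decomp (h := h) ⟨hh, fun j hj => hfix _ (bp_mem_baseOctad j hj)⟩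
  refine ⟨pq, List.mem_filter.2 ⟨hpq, List.all_eq_true.2 fun i hi => ?_⟩, hm, hap⟩
  cases hb : Nat.testBit m24BaseOctad i
  · rfl
  · rw [Bool.not_true, Bool.false_or, Nat.beq_eq]
    have hi' := mem_bits24.1 hi
    have hx : gpt ⟨i, hi'⟩ ∈ baseOctad := mem_mset.2 (by rw [gidx_gpt]; exact hb)
    have := hap (gpt ⟨i, hi'⟩)
    rw [hfix _ hx, gidx_gpt] at this
    exact this.symm

/-- No nonidentity element fixing an octad pointwise fixes an octad meeting it in two points. -/
theorem fixSet_octad_moves_duo {o o' : Finset GolayPt} (ho : o ∈ octads) (ho' : o' ∈ octads)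
    (h2 : (o ∩ o').card = 2) {g : Equiv.Perm GolayPt} (hg : g ∈ fixSet o) (hgo : g • o' = o') : g = 1 := by
  obtain ⟨c, hc, hco⟩ := exists_octad_std ho
  obtain ⟨hgM, hfix⟩ := mem_fixSet.1 hg
  have hh : ∀ x ∈ baseOctad, (c⁻¹ * g * c) x = x := fun x hx => by
    simp only [Equiv.Perm.mul_apply]
    rw [hfix (c x) (hco ▸ Finset.smul_mem_smul_finset hx)]
    simp
  obtain ⟨pq, hpq, hm, hap⟩ := pointwise_base (mul_mem (mul_mem (inv_mem hc) hgM) hc) hh
  obtain ⟨m, hml, hme⟩ := exists_image_oct (inv_mem hc) ho'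
  have hcard : pcnt (Nat.land m24BaseOctad m) = 2 := by
    rw [← h2, inter_card_of_smul (g := c⁻¹) (A := o) (B := o') (a := m24BaseOctad) _ hme]
    rw [← hco, inv_smul_smul]; rfl
  have hfixm : mset (pimg pq.1 (pimg pq.2 m)) = mset m := by
    rw [← hm, ← hme, mul_smul, mul_smul, smul_inv_smul, hgo]
  have hc' := List.all_eq_true.1 duo_check pq hpq
  rw [Bool.or_eq_true] at hc'
  rcases hc' with hid | hall
  · have h1 : c⁻¹ * g * c = 1 := by
      ext x : 1
      refine gidx_injective (Fin.ext ?_)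
      have := List.all_eq_true.1 hid (gidx x).val (mem_bits24.2 (gidx x).isLt)
      rw [Nat.beq_eq] at this
      rw [hap, this]; rfl
    exact conj_eq_one_iff.1 (show c⁻¹ * g * c⁻¹⁻¹ = 1 by rwa [inv_inv])
  · have := List.all_eq_true.1 hall m (List.mem_filter.2 ⟨hml, by rw [Nat.beq_eq]; exact hcard⟩)
    rw [Bool.and_eq_true, Nat.blt_eq, Bool.not_eq_true', ← Bool.not_eq_true, Nat.beq_eq] at this
    exact absurd (mset_inj (by omega) (octList_lt hml) hfixm) this.2

end Cfsg.Lib.Concrete
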