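import Cfsg.Agent.Lib.Concrete.LeechCount
import Cfsg.Agent.Lib.Concrete.Mathieu
import Cfsg.Prelude.Def_SporadicCombinatorics

/-!
The monomial automorphisms of the rank-24 lattice: the stabiliser of the standard cross, and the
centre of the automorphism group.
-/

set_option autoImplicit false

namespace Cfsg.Lib.Concrete

open scoped Pointwise
open Finset

/-- The code supports. -/
abbrev codeSets : Set (Finset GolayPt) := supports (golayCode : Set (GolayPt → ZMod 2))

theorem signedPerm_mem {σ : Equiv.Perm GolayPt} (hσ : σ ∈ M24) {c : Finset GolayPt} (hc : c ∈ codeSets)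
    {x : GolayPt → ℤ} (hx : x ∈ leechLattice) : signedPerm σ c x ∈ leechLattice := by
  rw [mem_leechLattice_iff] at hx ⊢
  exact signChange_mem_leechSet hc (perm_mem_leechSet (inv_mem hσ) hx)

theorem signedPerm_add (σ : Equiv.Perm GolayPt) (c : Finset GolayPt) (x y : GolayPt → ℤ) :
    signedPerm σ c (x + y) = signedPerm σ c x + signedPerm σ c y := by
  funext i
  simp only [signedPerm, Pi.add_apply]
  split <;> ring

theorem signedPerm_sqNorm (σ : Equiv.Perm GolayPt) (c : Finset GolayPt) (x : GolayPt → ℤ) :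
    sqNorm (signedPerm σ c x) = sqNorm x := by
  have h : ∀ i, signedPerm σ c x i ^ 2 = x (σ.symm i) ^ 2 := fun i => by
    simp only [signedPerm]; split <;> ring
  simp only [sqNorm, h]
  exact Equiv.sum_comp σ.symm fun i => x i ^ 2

theorem signedPerm_injective (σ : Equiv.Perm GolayPt) (c : Finset GolayPt) :
    Function.Injective (signedPerm σ c) := by
  intro x y h
  funext i
  have := congrFun h (σ i)
  simp only [signedPerm, Equiv.symm_apply_apply] at this
  split at this <;> linarith

theorem signedPerm_single (σ : Equiv.Perm GolayPt) (c : Finset GolayPt) (i : GolayPt) (s : ℤ) :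
    signedPerm σ c (Pi.single i s) = Pi.single (σ i) (if σ i ∈ c then -s else s) := by
  funext j
  simp only [signedPerm, Pi.single_apply]
  by_cases hj : j = σ i
  · subst hj; simp
  · have : σ.symm j ≠ i := fun h => hj (by rw [← h, Equiv.apply_symm_apply])
    simp [hj, this]

/-- A monomial map as an automorphism of the lattice. -/
noncomputable def monoCo0 (σ : Equiv.Perm GolayPt) (hσ : σ ∈ M24) (c : Finset GolayPt) (hc : c ∈ codeSets) : Co0 := by
  refine ⟨Equiv.ofBijective (fun v => ⟨signedPerm σ c v.1, signedPerm_mem hσ hc v.2⟩) ⟨fun v w h => ?_, fun v => ?_⟩, ?_, ?_⟩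
  · exact Subtype.ext (signedPerm_injective σ c (congrArg Subtype.val h))
  · have h1 : (fun i => if i ∈ c then -v.1 i else v.1 i) ∈ leechSet :=
      signChange_mem_leechSet hc (mem_leechLattice_iff.1 v.2)
    refine ⟨⟨_, mem_leechLattice_iff.2 (perm_mem_leechSet hσ h1)⟩, Subtype.ext (funext fun i => ?_)⟩
    simp only [signedPerm, Equiv.apply_symm_apply]
    split <;> simp_all
  · exact fun v w => Subtype.ext (signedPerm_add σ c v.1 w.1)
  · exact fun v => signedPerm_sqNorm σ c v.1

theorem monoCo0_apply (σ : Equiv.Perm GolayPt) (hσ : σ ∈ M24) (c : Finset GolayPt) (hc : c ∈ codeSets)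
    (v : leechLattice) : ((monoCo0 σ hσ c hc : Equiv.Perm leechLattice) v : GolayPt → ℤ) = signedPerm σ c v := rfl

/-- An element of the automorphism group as an additive map. -/
def co0Hom (g : Co0) : leechLattice →+ leechLattice := AddMonoidHom.mk' (fun v => (g : Equiv.Perm leechLattice) v) g.2.1

theorem eight_single_mem (i : GolayPt) (s : ℤ) (hs : (8 : ℤ) ∣ s) : (Pi.single i s : GolayPt → ℤ) ∈ leechLattice := by
  obtain ⟨k, rfl⟩ := hs
  refine mem_leechLattice_iff.2 (mem_leechSet_iff.2 ⟨0, 0, zero_mem _, fun j => ?_, ?_⟩)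
  · simp only [Pi.single_apply, Pi.zero_apply, ZMod.val_zero, Nat.cast_zero, mul_zero, add_zero]
    unfold Int.ModEq
    split <;> omega
  · rw [Finset.sum_pi_single']
    unfold Int.ModEq
    simp

/-- The vector with 8 at one point. -/
def e8 (i : GolayPt) : leechLattice := ⟨Pi.single i 8, eight_single_mem i 8 dvd_rfl⟩

theorem sum_smul_e8 (v : leechLattice) : (8 : ℤ) • v = ∑ i, (v.1 i) • e8 i := by
  apply Subtype.ext
  funext j
  rw [AddSubgroup.coe_zsmul, AddSubgroup.val_finsetSum, Finset.sum_apply,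
    Finset.sum_eq_single j (fun i _ hij => ?_) (by simp)]
  · simp [e8, Pi.single_apply, mul_comm]
  · simp [e8, Pi.single_apply, Ne.symm hij]

/-- An automorphism is determined by the images of the vectors with a single 8. -/
theorem co0_eq_of_e8 {g : Co0} {f : (GolayPt → ℤ) → GolayPt → ℤ}
    (hadd : ∀ x y, f (x + y) = f x + f y)
    (he : ∀ i, ((g : Equiv.Perm leechLattice) (e8 i) : GolayPt → ℤ) = f (Pi.single i 8)) (v : leechLattice) :
    ((g : Equiv.Perm leechLattice) v : GolayPt → ℤ) = f v := by
  let F : (GolayPt → ℤ) →+ (GolayPt → ℤ) := AddMonoidHom.mk' f hadd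
  have h1 : co0Hom g ((8 : ℤ) • v) = co0Hom g (∑ i, (v.1 i) • e8 i) := by rw [sum_smul_e8]
  have h2 : F ((8 : ℤ) • v.1) = F (∑ i, (v.1 i) • (e8 i).1) := by
    rw [show (8 : ℤ) • v.1 = (((8 : ℤ) • v : leechLattice) : GolayPt → ℤ) from rfl, sum_smul_e8, AddSubgroup.val_finsetSum]
    rfl
  rw [map_zsmul, map_sum] at h1 h2
  have h3 : (8 : ℤ) • ((co0Hom g v : leechLattice) : GolayPt → ℤ) = (8 : ℤ) • F v.1 := by
    rw [← AddSubgroup.coe_zsmul, h1, h2, AddSubgroup.val_finsetSum]
    refine Finset.sum_congr rfl fun i _ => ?_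
    rw [map_zsmul, map_zsmul, AddSubgroup.coe_zsmul]
    exact congrArg ((v.1 i) • ·) (he i)
  funext j
  have := congrFun h3 j
  simp only [Pi.smul_apply, smul_eq_mul] at this
  exact (mul_left_cancel₀ (by norm_num) this)

theorem octList_separates : ∀ a b : Fin 24, a ≠ b →
    octList.any (fun m => m.testBit a.val && !(m.testBit b.val)) = true := by
  decide +kernel

theorem exists_code_separating {a b : GolayPt} (h : a ≠ b) : ∃ c ∈ codeSets, a ∈ c ∧ b ∉ c := by
  obtain ⟨m, hm, hab⟩ := List.any_eq_true.1 (octList_separates (gidx a) (gidx b) fun e => h (gidx_injective e))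
  simp only [Bool.and_eq_true, Bool.not_eq_true'] at hab
  exact ⟨mset m, ((mset_mem_octads_iff (octList_lt hm)).2 hm).1, by simpa using hab.1, by simp [hab.2]⟩

theorem mem_center_apply {g : Co0} (hg : g ∈ Subgroup.center Co0) (v : leechLattice) :
    ∃ s : ℤ, (s = 1 ∨ s = -1) ∧ ∀ w : leechLattice, ((g : Equiv.Perm leechLattice) w : GolayPt → ℤ) = s • (w : GolayPt → ℤ) := by
  classical
  have hcomm : ∀ (k : Co0) (w : leechLattice),
      (k : Equiv.Perm leechLattice) ((g : Equiv.Perm leechLattice) w) = (g : Equiv.Perm leechLattice) ((k : Equiv.Perm leechLattice) w) :=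
    fun k w => congrArg (fun z : Co0 => (z : Equiv.Perm leechLattice) w) (Subgroup.mem_center_iff.1 hg k)
  set y : GolayPt → GolayPt → ℤ := fun i => ((g : Equiv.Perm leechLattice) (e8 i) : GolayPt → ℤ) with hy
  have hperm : ∀ σ ∈ M24, ∀ i j, y (σ i) j = y i (σ.symm j) := by
    intro σ hσ i j
    have hc : (∅ : Finset GolayPt) ∈ codeSets := ⟨0, zero_mem _, by simp [support₂]⟩
    have h := congrArg (fun w : leechLattice => (w : GolayPt → ℤ) j) (hcomm (monoCo0 σ hσ ∅ hc) (e8 i))
    rw [show ((monoCo0 σ hσ ∅ hc : Equiv.Perm leechLattice) (e8 i)) = e8 (σ i) from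
      Subtype.ext (by rw [monoCo0_apply]; simp [e8, signedPerm_single])] at h
    simp only [monoCo0_apply, signedPerm, Finset.notMem_empty, if_false] at h
    exact h.symm
  have hoff : ∀ i j, j ≠ i → y i j = 0 := by
    intro i j hji
    obtain ⟨c, hc, hjc, hic⟩ := exists_code_separating hji
    have h := congrArg (fun w : leechLattice => (w : GolayPt → ℤ) j) (hcomm (monoCo0 1 (one_mem _) c hc) (e8 i))
    rw [show ((monoCo0 1 (one_mem _) c hc : Equiv.Perm leechLattice) (e8 i)) = e8 i from
      Subtype.ext (by rw [monoCo0_apply]; simp [e8, signedPerm_single, hic])] at h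
    simp only [monoCo0_apply, signedPerm, hjc, if_true] at h
    have h' : -y i j = y i j := h
    omega
  have hdiag : ∀ i, y i = Pi.single i (y i i) := fun i => funext fun j => by
    by_cases h : j = i
    · subst h; simp
    · simp [hoff i j h, h]
  have hnorm : y none none = 8 ∨ y none none = -8 := by
    have h := g.2.2 (e8 none)
    rw [show (((g : Equiv.Perm leechLattice) (e8 none) : leechLattice) : GolayPt → ℤ) = Pi.single none (y none none) from hdiag none] at h
    have hs : ∀ a : ℤ, sqNorm (Pi.single (none : GolayPt) a) = a ^ 2 := fun a => by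
      rw [sqNorm, Finset.sum_eq_single (none : GolayPt) (fun j _ hj => by simp [hj]) (by simp), Pi.single_eq_same]
    rw [show ((e8 none : leechLattice) : GolayPt → ℤ) = Pi.single none 8 from rfl, hs, hs] at h
    exact sq_eq_sq_iff_eq_or_eq_neg.1 h
  have hconst : ∀ i, y i i = y none none := fun i => by
    haveI := M24_isPretransitive
    obtain ⟨σ, hσ⟩ := MulAction.exists_smul_eq M24 (none : GolayPt) i
    have := hperm σ.1 σ.2 none i
    rw [show σ.1 none = i from hσ] at this
    rw [this, show σ.1.symm i = none from (Equiv.symm_apply_eq _).2 hσ.symm]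
  refine ⟨y none none / 8, by omega, fun w => co0_eq_of_e8 (f := fun x => (y none none / 8) • x) (fun a b => smul_add _ a b) (fun i => ?_) w⟩
  rw [show (((g : Equiv.Perm leechLattice) (e8 i) : leechLattice) : GolayPt → ℤ) = Pi.single i (y i i) from hdiag i, hconst, ← Pi.single_smul]
  congr 1
  simp only [smul_eq_mul]
  omega

theorem card_center_Co0 : Nat.card (Subgroup.center Co0) = 2 := by
  classical
  let neg : Co0 := ⟨Equiv.neg leechLattice, fun v w => neg_add v w, fun v => by
    show sqNorm (-(v : GolayPt → ℤ)) = _; simp [sqNorm]⟩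
  have hc : neg ∈ Subgroup.center Co0 := Subgroup.mem_center_iff.2 fun k => Subtype.ext (Equiv.ext fun v => by
    show (k : Equiv.Perm leechLattice) (-v) = -((k : Equiv.Perm leechLattice) v)
    exact map_neg (co0Hom k) v)
  have hne : neg ≠ 1 := fun h => by
    have := congrArg (fun z : Co0 => ((z : Equiv.Perm leechLattice) (e8 none) : GolayPt → ℤ) none) h
    simp [neg, e8] at this
  have hset : (Subgroup.center Co0 : Set Co0) = {1, neg} := by
    ext g
    simp only [SetLike.mem_coe, Set.mem_insert_iff, Set.mem_singleton_iff]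
    refine ⟨fun hg => ?_, fun h => h.elim (fun e => e ▸ one_mem _) (fun e => e ▸ hc)⟩
    obtain ⟨s, hs, h⟩ := mem_center_apply hg 0
    rcases hs with rfl | rfl
    · exact Or.inl (Subtype.ext (Equiv.ext fun w => Subtype.ext (by rw [h w, one_smul]; rfl)))
    · exact Or.inr (Subtype.ext (Equiv.ext fun w => Subtype.ext (by rw [h w, neg_one_smul]; rfl)))
  rw [← SetLike.coe_sort_coe, Nat.card_coe_set_eq, hset, Set.ncard_pair hne.symm]

theorem e8_mem_stdCross (i : GolayPt) : ((e8 i : leechLattice) : GolayPt → ℤ) ∈ stdCross :=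
  ⟨i, 8, Or.inl rfl, rfl⟩

theorem oct_vector_mem {o : Finset GolayPt} (ho : o ∈ octads) :
    (fun p => if p ∈ o then (2 : ℤ) else 0) ∈ leechLattice := by
  obtain ⟨⟨w, hw, rfl⟩, h8⟩ := ho
  have he : (fun p => if p ∈ support₂ w then (2 : ℤ) else 0) = fun p => 2 * ((w p).val : ℤ) := funext fun p => by
    rw [zmod_two_val]; by_cases h : w p = 0 <;> simp [support₂, h]
  rw [he]
  refine mem_leechLattice_iff.2 (mem_leechSet_iff.2 ⟨0, w, hw, fun i => by simp, ?_⟩)
  rw [← Finset.mul_sum, sum_val_eq_card, h8]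
  decide

theorem basis_mem_octads : basisMasks.all (fun b => isCode b && decide (b < 16777216) && Nat.beq (pcnt b) 8) = true := by
  decide +kernel

theorem mem_M24_of_octads {g : Equiv.Perm GolayPt} (h : ∀ o ∈ octads, g • o ∈ octads) : g ∈ M24 := by
  refine mem_M24_iff.2 fun s hs => ?_
  obtain ⟨m, hm, rfl⟩ := mem_supports_iff.1 hs
  obtain ⟨c, -, rfl⟩ := List.mem_map.1 (codeList_eq ▸ hm)
  refine smul_mset_comboAux_mem g basisMasks (fun b hb => ?_) c
  have hb' := List.all_eq_true.1 basis_mem_octads b hb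
  simp only [Bool.and_eq_true, decide_eq_true_eq, Nat.beq_eq] at hb'
  exact (h _ ⟨(mset_mem_supports_iff hb'.1.2).2 hb'.1.1, by rw [mset_card, mcnt_eq_pcnt, hb'.2]⟩).1

theorem stab_cross_monomial (g : Co0)
    (h : ∀ v : leechLattice, (v : GolayPt → ℤ) ∈ stdCross → ((g • v : leechLattice) : GolayPt → ℤ) ∈ stdCross) :
    ∃ σ ∈ M24, ∃ c ∈ codeSets, ∀ v : leechLattice, ((g • v : leechLattice) : GolayPt → ℤ) = signedPerm σ c v := by
  classical
  choose f s hs he using fun i => h (e8 i) (e8_mem_stdCross i)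
  have hsmul : ∀ v : leechLattice, g • v = (g : Equiv.Perm leechLattice) v := fun _ => rfl
  simp only [hsmul] at he ⊢
  have hinj : Function.Injective f := by
    intro i j hij
    by_contra hne
    have hs' : s i = s j ∨ s i = -s j := by rcases hs i with a | a <;> rcases hs j with b | b <;> omega
    rcases hs' with e | e
    · have : e8 i = e8 j := (g : Equiv.Perm leechLattice).injective (Subtype.ext (by rw [he, he, hij, e]))
      have := congrFun (congrArg Subtype.val this) i
      simp [e8, Pi.single_apply, hne] at this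
    · have : e8 i = -e8 j := (g : Equiv.Perm leechLattice).injective (Subtype.ext (by
        rw [show (g : Equiv.Perm leechLattice) (-e8 j) = -((g : Equiv.Perm leechLattice) (e8 j)) from map_neg (co0Hom g) (e8 j),
          AddSubgroup.coe_neg, he, he, hij, e, Pi.single_neg]))
      have := congrFun (congrArg Subtype.val this) i
      simp [e8, Pi.single_apply, hne] at this
  set σ := Equiv.ofBijective f (Finite.injective_iff_bijective.1 hinj) with hσ
  set c := (Finset.univ.filter fun p => s (σ.symm p) = -8) with hc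
  have hg : ∀ v : leechLattice, ((g : Equiv.Perm leechLattice) v : GolayPt → ℤ) = signedPerm σ c v := by
    refine co0_eq_of_e8 (f := signedPerm σ c) (signedPerm_add σ c) fun i => ?_
    rw [signedPerm_single, he]
    show (Pi.single (σ i) (s i) : GolayPt → ℤ) = _
    congr 1
    rcases hs i with e | e <;> simp [hc, e]
  have hmem : ∀ v ∈ leechLattice, signedPerm σ c v ∈ leechLattice := fun v hv => by
    have := hg ⟨v, hv⟩
    rw [← this]; exact ((g : Equiv.Perm leechLattice) ⟨v, hv⟩).2
  have hσM : σ ∈ M24 := by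
    have hoct : ∀ o ∈ octads, σ • o ∈ octads := by
      intro o ho
      obtain ⟨m, w, hw, h1, h2⟩ := mem_leechSet_iff.1 (mem_leechLattice_iff.1 (hmem _ (oct_vector_mem ho)))
      have hval : ∀ p, signedPerm σ c (fun p => if p ∈ o then (2 : ℤ) else 0) p % 4 = if p ∈ σ • o then 2 else 0 := fun p => by
        have hiff : p ∈ σ • o ↔ σ.symm p ∈ o := by rw [← Finset.inv_smul_mem_iff]; rfl
        simp only [signedPerm, hiff]
        split <;> split <;> rfl
      obtain ⟨q, hq⟩ : ∃ q, q ∈ σ • o := Finset.card_pos.1 (by rw [Finset.card_smul_finset, ho.2]; norm_num)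
      have hm : m % 2 = 0 := by
        have := h1 q
        have := hval q
        rw [if_pos hq] at this
        unfold Int.ModEq at *
        omega
      refine ⟨?_, by rw [Finset.card_smul_finset, ho.2]⟩
      have hw' : w + ((m / 2 : ℤ) : ZMod 2) • (1 : GolayPt → ZMod 2) ∈ golayCode :=
        add_mem hw (Submodule.smul_mem _ _ one_mem_golayCode)
      refine ⟨_, hw', ?_⟩
      ext p
      have e1 := h1 p
      have e2 := hval p
      simp only [support₂, Finset.mem_filter, Finset.mem_univ, true_and, Pi.add_apply, Pi.smul_apply, Pi.one_apply,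
        smul_eq_mul, mul_one]
      have hc2 : ((m / 2 : ℤ) : ZMod 2) = if (m / 2) % 2 = 0 then 0 else 1 := by
        rw [← ZMod.intCast_mod]
        rcases Int.emod_two_eq_zero_or_one (m / 2) with h | h <;> simp [h]
      rw [zmod_two_val] at e1
      rw [hc2]
      unfold Int.ModEq at e1
      have h01 : ∀ a : ZMod 2, a = 0 ∨ a = 1 := by decide
      have h11 : (1 : ZMod 2) + 1 = 0 := by decide
      rcases h01 (w p) with a | a <;> rcases Int.emod_two_eq_zero_or_one (m / 2) with b | b <;>
        by_cases d : p ∈ σ • o <;> simp [a, b, d, h11] at e1 e2 ⊢ <;> omega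
    exact mem_M24_of_octads hoct
  refine ⟨σ, hσM, c, ?_, hg⟩
  let v : GolayPt → ℤ := fun p => if p = none then -3 else 1
  have hv : v ∈ leechLattice := mem_leechLattice_iff.2 (mem_leechSet_iff.2 ⟨1, 0, zero_mem _, fun p => by
    simp only [v, Pi.zero_apply, ZMod.val_zero]; split <;> decide, by simp only [v]; decide⟩)
  obtain ⟨m, w, hw, h1, -⟩ := mem_leechSet_iff.1 (mem_leechLattice_iff.1 (hmem v hv))
  refine ⟨w + (((m - 1) / 2 : ℤ) : ZMod 2) • (1 : GolayPt → ZMod 2), add_mem hw (Submodule.smul_mem _ _ one_mem_golayCode), ?_⟩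
  ext p
  have hval : signedPerm σ c v p % 4 = if p ∈ c then 3 else 1 := by
    simp only [signedPerm, v]; split <;> split <;> rfl
  have e1 := h1 p
  have e2 := h1 none
  simp only [support₂, Finset.mem_filter, Finset.mem_univ, true_and, Pi.add_apply, Pi.smul_apply, Pi.one_apply,
    smul_eq_mul, mul_one]
  have hc2 : (((m - 1) / 2 : ℤ) : ZMod 2) = if ((m - 1) / 2) % 2 = 0 then 0 else 1 := by
    rw [← ZMod.intCast_mod]
    rcases Int.emod_two_eq_zero_or_one ((m - 1) / 2) with h | h <;> simp [h]
  rw [zmod_two_val] at e1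
  rw [hc2]
  unfold Int.ModEq at e1
  have h01 : ∀ a : ZMod 2, a = 0 ∨ a = 1 := by decide
  have h11 : (1 : ZMod 2) + 1 = 0 := by decide
  rcases h01 (w p) with a | a <;> rcases Int.emod_two_eq_zero_or_one ((m - 1) / 2) with b | b <;>
    by_cases d : p ∈ c <;> simp [a, b, d, h11] at e1 hval ⊢ <;> omega

theorem card_cross_stabilizer :
    Nat.card {g : Co0 // ∀ v : leechLattice, (v : GolayPt → ℤ) ∈ stdCross → ((g • v : leechLattice) : GolayPt → ℤ) ∈ stdCross} =
      4096 * 244823040 := by
  classical
  rw [← card_M24, mul_comm]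
  have hsets : Nat.card codeSets = 4096 := by
    rw [Nat.card_coe_set_eq, show codeSets = support₂ '' (golayCode : Set (GolayPt → ZMod 2)) from rfl,
      Set.ncard_image_of_injective _ support₂_injective]
    have : (golayCode : Set (GolayPt → ZMod 2)) = ↑codeWords := by ext w; simp [mem_codeWords]
    rw [this, Set.ncard_coe_finset, codeWords, Finset.card_image_of_injOn fun a ha b hb h =>
      word_injOn (codeList_lt (by simpa using ha)) (codeList_lt (by simpa using hb)) h,
      List.toFinset_card_of_nodup codeList_nodup, codeList_eq, List.length_map, List.length_range]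
  rw [← hsets, ← Nat.card_prod]
  have hmono : ∀ p : M24 × codeSets, ∀ v : leechLattice, (v : GolayPt → ℤ) ∈ stdCross →
      ((monoCo0 p.1.1 p.1.2 p.2.1 p.2.2 • v : leechLattice) : GolayPt → ℤ) ∈ stdCross := by
    rintro p v ⟨i, s, hs, e⟩
    refine ⟨p.1.1 i, if p.1.1 i ∈ (p.2.1) then -s else s, by split <;> omega, ?_⟩
    show ((monoCo0 p.1.1 p.1.2 p.2.1 p.2.2 : Equiv.Perm leechLattice) v : GolayPt → ℤ) = _
    rw [monoCo0_apply, e, signedPerm_single]
  refine (Nat.card_eq_of_bijective (fun p : M24 × codeSets => ⟨monoCo0 p.1.1 p.1.2 p.2.1 p.2.2, hmono p⟩) ⟨?_, ?_⟩).symm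
  · rintro ⟨σ, c⟩ ⟨τ, d⟩ h
    have h' : ∀ i, signedPerm σ.1 c.1 (Pi.single i 8) = signedPerm τ.1 d.1 (Pi.single i 8) := fun i =>
      congrArg (fun z : Co0 => ((z : Equiv.Perm leechLattice) (e8 i) : GolayPt → ℤ)) (congrArg Subtype.val h)
    simp only [signedPerm_single] at h'
    have hst : ∀ i, σ.1 i = τ.1 i := fun i => by
      by_contra hne
      have := congrFun (h' i) (σ.1 i)
      rw [Pi.single_eq_same, Pi.single_eq_of_ne hne] at this
      split at this <;> omega
    refine Prod.ext (Subtype.ext (Equiv.ext hst)) (Subtype.ext (Finset.ext fun p => ?_))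
    have := congrFun (h' (σ.1.symm p)) p
    rw [← hst, Equiv.apply_symm_apply, Pi.single_eq_same, Pi.single_eq_same] at this
    by_cases h1 : p ∈ c.1 <;> by_cases h2 : p ∈ d.1 <;> simp only [h1, h2, if_true, if_false] at this ⊢ <;> omega
  · rintro ⟨g, hg⟩
    obtain ⟨σ, hσ, c, hc, e⟩ := stab_cross_monomial g hg
    exact ⟨(⟨σ, hσ⟩, ⟨c, hc⟩), Subtype.ext (Subtype.ext (Equiv.ext fun v => Subtype.ext (e v).symm))⟩

end Cfsg.Lib.Concrete
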