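import Cfsg.Agent.Lib.Concrete.LeechGroup
import Cfsg.Agent.Lib.Concrete.Mathieu
import Cfsg.Agent.S5408

/-!
The stabiliser of the standard cross of the rank-24 lattice: the extension of the sign group by M24.
-/

set_option autoImplicit false

namespace Cfsg.Lib.Concrete

open Cfsg

/-- The lattice vectors congruent to `top` modulo twice the lattice, in norm 64, form the standard cross. -/
theorem cross_top : cross ((top : leechLattice) : GolayPt → ℤ) = stdCross := by
  have hn : sqNorm ((top : leechLattice) : GolayPt → ℤ) = 64 := (stdCross_subset (e8_mem_stdCross none)).2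
  have hsub : stdCross ⊆ cross ((top : leechLattice) : GolayPt → ℤ) := by
    intro y hy
    obtain ⟨hyL, hyn⟩ := stdCross_subset hy
    obtain ⟨i, s, hs, rfl⟩ := hy
    have ht : ((top : leechLattice) : GolayPt → ℤ) = Pi.single none 8 := rfl
    refine ⟨hyL, hyn.trans hn.symm, ?_⟩
    by_cases hi : i = none
    · subst hi
      rcases hs with rfl | rfl
      · exact ⟨0, zero_mem _, by rw [ht]; simp⟩
      · refine ⟨_, (e8 none).2, funext fun p => ?_⟩
        simp only [ht, e8, Pi.sub_apply, Pi.smul_apply, Pi.single_apply, nsmul_eq_mul]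
        split_ifs <;> norm_num
    rcases hs with rfl | rfl
    · refine ⟨_, ((Cfsg.Agent.S5408.fourPair none i) - e8 i).2, funext fun p => ?_⟩
      simp only [ht, e8, AddSubgroup.coe_sub, Pi.sub_apply, Pi.smul_apply, Pi.single_apply, nsmul_eq_mul,
        Cfsg.Agent.S5408.fourPair_apply]
      split_ifs <;> simp_all
    · refine ⟨_, (Cfsg.Agent.S5408.fourPair none i).2, funext fun p => ?_⟩
      simp only [ht, Pi.sub_apply, Pi.smul_apply, Pi.single_apply, nsmul_eq_mul, Cfsg.Agent.S5408.fourPair_apply]
      split_ifs <;> simp_all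
  have h48 : stdCross.ncard = 48 := by
    rw [← ncard_stdCrossSet, ← Set.ncard_image_of_injective stdCrossSet Subtype.val_injective]
    refine congrArg Set.ncard (Set.ext fun y => ⟨fun hy => ⟨⟨y, (stdCross_subset hy).1⟩, hy, rfl⟩, ?_⟩)
    rintro ⟨x, hx, rfl⟩; exact hx
  exact (Set.eq_of_subset_of_ncard_le hsub (by rw [cross_ncard (top : leechLattice).2 hn, h48])
    (Set.finite_of_ncard_ne_zero (by rw [cross_ncard (top : leechLattice).2 hn]; norm_num))).symm

/-- Membership in the cross stabiliser is decided at the top vector. -/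
theorem mem_crossStab_iff_top {g : Co0} : g ∈ crossStab ↔ ((g • top : leechLattice) : GolayPt → ℤ) ∈ stdCross := by
  refine ⟨fun hg => (hg top).1 (e8_mem_stdCross none), fun hg => ?_⟩
  have h : g • top ∈ MulAction.orbit crossStab top := by rw [orbit_crossStab_top]; exact hg
  obtain ⟨⟨k, hk⟩, e⟩ := h
  have e' : k • top = g • top := e
  have h1 : k⁻¹ * g ∈ MulAction.stabilizer Co0 top := by
    show (k⁻¹ * g) • top = top
    rw [mul_smul, ← e', inv_smul_smul]
  have := mul_mem hk (stabilizer_le_crossStab h1)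
  rwa [mul_inv_cancel_left] at this

theorem mono_mem_crossStab (σ : Equiv.Perm GolayPt) (hσ : σ ∈ M24) (c : Finset GolayPt) (hc : c ∈ codeSets) :
    monoCo0 σ hσ c hc ∈ crossStab := by
  refine mem_crossStab_iff.2 ?_
  rintro v ⟨i, s, hs, e⟩
  rw [monoCo0_smul, e, signedPerm_single]
  exact ⟨σ i, _, by split <;> omega, rfl⟩

theorem mono_unique {σ τ : Equiv.Perm GolayPt} {c d : Finset GolayPt}
    (h : ∀ v : leechLattice, signedPerm σ c v = signedPerm τ d v) : σ = τ := by
  refine Equiv.ext fun i => ?_
  have h' := h (e8 i)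
  rw [show ((e8 i : leechLattice) : GolayPt → ℤ) = Pi.single i 8 from rfl, signedPerm_single, signedPerm_single] at h'
  by_contra hne
  have := congrFun h' (σ i)
  rw [Pi.single_eq_same, Pi.single_eq_of_ne hne] at this
  split at this <;> omega

theorem crossStab_monomial (g : crossStab) : ∃ σ : M24, ∃ c ∈ codeSets,
    ∀ v : leechLattice, (((g : Co0) • v : leechLattice) : GolayPt → ℤ) = signedPerm σ.1 c v := by
  obtain ⟨σ, hσ, c, hc, h⟩ := stab_cross_monomial g.1 (mem_crossStab_iff.1 g.2)
  exact ⟨⟨σ, hσ⟩, c, hc, h⟩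

/-- The point permutation of an element of the cross stabiliser. -/
noncomputable def crossPerm : crossStab →* M24 :=
  MonoidHom.mk' (fun g => (crossStab_monomial g).choose) fun g h => by
    obtain ⟨c, hc, hg⟩ := (crossStab_monomial g).choose_spec
    obtain ⟨d, hd, hh⟩ := (crossStab_monomial h).choose_spec
    obtain ⟨e, he, hgh⟩ := (crossStab_monomial (g * h)).choose_spec
    refine Subtype.ext (Equiv.ext fun i => ?_)
    have h1 := (hgh (e8 i)).symm.trans ((congrArg Subtype.val (mul_smul (g : Co0) (h : Co0) (e8 i))).trans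
      ((hg _).trans (congrArg (signedPerm _ c) (hh _))))
    rw [show ((e8 i : leechLattice) : GolayPt → ℤ) = Pi.single i 8 from rfl, signedPerm_single, signedPerm_single,
      signedPerm_single] at h1
    by_contra hne
    simp only [Subgroup.coe_mul, Equiv.Perm.mul_apply] at hne
    have := congrFun h1 ((crossStab_monomial (g * h)).choose.1 i)
    rw [Pi.single_eq_same, Pi.single_eq_of_ne hne] at this
    split at this <;> omega

theorem crossPerm_spec (g : crossStab) : ∃ c ∈ codeSets,
    ∀ v : leechLattice, (((g : Co0) • v : leechLattice) : GolayPt → ℤ) = signedPerm (crossPerm g).1 c v :=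
  (crossStab_monomial g).choose_spec

/-- The permutation matrices of M24. -/
noncomputable def permHom : M24 →* Co0 :=
  MonoidHom.mk' (fun σ => monoCo0 σ.1 σ.2 ∅ empty_mem_codeSets) fun σ τ => Subtype.ext (Equiv.ext fun v =>
    Subtype.ext (funext fun p => by
      show signedPerm (σ * τ).1 ∅ v.1 p = signedPerm σ.1 ∅ (signedPerm τ.1 ∅ v.1) p
      simp [signedPerm, Equiv.Perm.mul_def]))

theorem permHom_mem (σ : M24) : permHom σ ∈ crossStab := mono_mem_crossStab _ σ.2 _ empty_mem_codeSets

theorem crossPerm_permHom (σ : M24) : crossPerm ⟨permHom σ, permHom_mem σ⟩ = σ := by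
  obtain ⟨c, -, h⟩ := crossPerm_spec ⟨permHom σ, permHom_mem σ⟩
  exact Subtype.ext (mono_unique fun v => ((h v).symm.trans (monoCo0_smul σ.1 σ.2 ∅ empty_mem_codeSets v)))

theorem crossPerm_surjective : Function.Surjective crossPerm := fun σ => ⟨_, crossPerm_permHom σ⟩

/-- The sign group. -/
noncomputable def signSub : Subgroup Co0 := crossPerm.ker.map crossStab.subtype

theorem signSub_le : signSub ≤ crossStab := Subgroup.map_subtype_le _

theorem signSub_flip {g : Co0} (hg : g ∈ signSub) :
    ∃ c ∈ codeSets, ∀ v : leechLattice, ((g • v : leechLattice) : GolayPt → ℤ) = signedPerm 1 c v := by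
  obtain ⟨k, hk, rfl⟩ := hg
  obtain ⟨c, hc, h⟩ := crossPerm_spec k
  rw [show crossPerm k = 1 from hk] at h
  exact ⟨c, hc, h⟩

theorem signSub_sq {g : Co0} (hg : g ∈ signSub) : g * g = 1 := by
  obtain ⟨c, -, h⟩ := signSub_flip hg
  refine Subtype.ext (Equiv.ext fun v => Subtype.ext ?_)
  show ((g • (g • v) : leechLattice) : GolayPt → ℤ) = v.1
  rw [h, h]
  funext p
  simp only [signedPerm_one]
  split <;> simp

theorem signSub_comm {g h : Co0} (hg : g ∈ signSub) (hh : h ∈ signSub) : g * h = h * g := by
  have e := signSub_sq (mul_mem hg hh)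
  have a := signSub_sq hg
  have b := signSub_sq hh
  calc g * h = (g * h)⁻¹ := (inv_eq_of_mul_eq_one_right e).symm
    _ = h⁻¹ * g⁻¹ := mul_inv_rev g h
    _ = h * g := by rw [inv_eq_of_mul_eq_one_right a, inv_eq_of_mul_eq_one_right b]

theorem card_signSub : Nat.card signSub = 4096 := by
  rw [signSub, Subgroup.card_map_of_injective crossStab.subtype_injective]
  have h := Subgroup.card_mul_index crossPerm.ker
  rw [Subgroup.index_ker, MonoidHom.range_eq_top.2 crossPerm_surjective, Subgroup.card_top, card_M24,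
    card_crossStab] at h
  exact Nat.eq_of_mul_eq_mul_right (show 0 < 244823040 by norm_num) h

theorem center_le_crossStab : Subgroup.center Co0 ≤ crossStab := by
  intro g hg
  rw [mem_crossStab_iff_top]
  obtain ⟨t, ht, h⟩ := mem_center_apply hg 0
  have h' : ((g • top : leechLattice) : GolayPt → ℤ) = t • ((top : leechLattice) : GolayPt → ℤ) := h top
  rw [h', show ((top : leechLattice) : GolayPt → ℤ) = Pi.single none 8 from rfl, ← Pi.single_smul]
  exact ⟨none, _, by rcases ht with rfl | rfl <;> simp, rfl⟩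

theorem center_le_signSub : Subgroup.center Co0 ≤ signSub := by
  intro g hg
  refine ⟨⟨g, center_le_crossStab hg⟩, ?_, rfl⟩
  obtain ⟨t, ht, h⟩ := mem_center_apply hg 0
  obtain ⟨c, -, hc⟩ := crossPerm_spec ⟨g, center_le_crossStab hg⟩
  refine MonoidHom.mem_ker.2 (Subtype.ext ?_)
  rcases ht with rfl | rfl
  · exact mono_unique (d := ∅) fun v => by
      rw [← hc v, show ((g • v : leechLattice) : GolayPt → ℤ) = (1 : ℤ) • v.1 from h v]
      funext p; simp [signedPerm]; rfl
  · exact mono_unique (d := Finset.univ) fun v => by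
      rw [← hc v, show ((g • v : leechLattice) : GolayPt → ℤ) = (-1 : ℤ) • v.1 from h v]
      funext p; simp [signedPerm]; rfl

/-- A normal 2-subgroup of the cross stabiliser consists of sign changes. -/
theorem le_signSub {M : Subgroup Co0} (hle : M ≤ crossStab) (hnorm : ∀ g ∈ crossStab, ∀ m ∈ M, g * m * g⁻¹ ∈ M)
    (h2 : IsPGroup 2 M) : M ≤ signSub := by
  set N := (M.subgroupOf crossStab).map crossPerm
  haveI : (M.subgroupOf crossStab).Normal := ⟨fun m hm g => hnorm g g.2 m hm⟩
  haveI hN : N.Normal := Subgroup.Normal.map inferInstance _ crossPerm_surjective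
  have hNp : IsPGroup 2 N := (h2.comap_of_injective crossStab.subtype Subtype.val_injective).map _
  haveI := isSimple_M24
  haveI : Fact (Nat.Prime 2) := ⟨Nat.prime_two⟩
  haveI : Finite M24 := Nat.finite_of_card_ne_zero (by rw [card_M24]; norm_num)
  rcases hN.eq_bot_or_eq_top with hb | ht
  · intro m hm
    refine ⟨⟨m, hle hm⟩, ?_, rfl⟩
    have : crossPerm ⟨m, hle hm⟩ ∈ N := ⟨⟨m, hle hm⟩, hm, rfl⟩
    rw [hb, Subgroup.mem_bot] at this
    exact this
  · exfalso
    obtain ⟨k, hk⟩ := hNp.exists_card_eq
    rw [ht, Subgroup.card_top, card_M24] at hk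
    have h3 : 3 ∣ 2 ^ k := hk ▸ (show (3 : ℕ) ∣ 244823040 by norm_num)
    exact absurd (Nat.prime_three.dvd_of_dvd_pow h3) (by norm_num)

end Cfsg.Lib.Concrete
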