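import Cfsg.Agent.Lib.Concrete.GolayPerm
import Cfsg.Agent.Lib.Concrete.M24Data

/-!
The order of M24, its five-fold transitivity and its generation by the three standard maps.
-/

set_option autoImplicit false

namespace Cfsg.Lib.Concrete

open scoped Pointwise

/-- The shift `x ↦ x + 1`. -/
abbrev mShift : Equiv.Perm GolayPt := Equiv.optionCongr (Equiv.addRight (1 : ZMod 23))

/-- The three standard generators. -/
abbrev m24Gens : Set (Equiv.Perm GolayPt) := {mShift, projInv, cubeTwist}

theorem rep_mShift : Rep mShift (m24Perms.getD 1 0) := by unfold Rep; decide +kernel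

theorem rep_projInv : Rep projInv (m24Perms.getD 2 0) := by unfold Rep; decide +kernel

theorem rep_cubeTwist : Rep cubeTwist (m24Perms.getD 3 0) := by
  have h : ∀ x : GolayPt, (gidx (cubeTwistFun x)).val = pget (m24Perms.getD 3 0) (gidx x).val := by
    decide +kernel
  exact h

theorem mShift_mem : mShift ∈ M24 := rep_mem_M24 rep_mShift (by decide +kernel)

theorem projInv_mem : projInv ∈ M24 := rep_mem_M24 rep_projInv (by decide +kernel)

theorem cubeTwist_mem : cubeTwist ∈ M24 := rep_mem_M24 rep_cubeTwist (by decide +kernel)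

theorem closure_gens_le : Subgroup.closure m24Gens ≤ M24 := by
  rw [Subgroup.closure_le]
  rintro g (rfl | rfl | rfl)
  exacts [mShift_mem, projInv_mem, cubeTwist_mem]

theorem steps_check :
    ((List.range m24Steps.length).all fun k =>
      decide ((m24Steps.getD k (0, 0)).1 < 4 + k) && decide ((m24Steps.getD k (0, 0)).2 < 4 + k) &&
      prodCheck (m24Perms.getD (m24Steps.getD k (0, 0)).1 0)
        (m24Perms.getD (m24Steps.getD k (0, 0)).2 0) (m24Perms.getD (4 + k) 0)) = true := by
  decide +kernel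

theorem exists_rep : ∀ k < 4 + m24Steps.length,
    ∃ g ∈ Subgroup.closure m24Gens, Rep g (m24Perms.getD k 0) := by
  intro k
  induction k using Nat.strong_induction_on with
  | _ k ih =>
    intro hk
    by_cases h4 : k < 4
    · interval_cases k
      · exact ⟨1, one_mem _, by
          have : m24Perms.getD 0 0 = pId := by decide +kernel
          rw [this]; exact rep_one⟩
      · exact ⟨_, Subgroup.subset_closure (Or.inl rfl), rep_mShift⟩
      · exact ⟨_, Subgroup.subset_closure (Or.inr (Or.inl rfl)), rep_projInv⟩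
      · exact ⟨_, Subgroup.subset_closure (Or.inr (Or.inr rfl)), rep_cubeTwist⟩
    · obtain ⟨j, rfl⟩ : ∃ j, k = 4 + j := ⟨k - 4, by omega⟩
      have h := List.all_eq_true.1 steps_check j (List.mem_range.2 (by omega))
      simp only [Bool.and_eq_true, decide_eq_true_eq] at h
      obtain ⟨a, ha, hra⟩ := ih _ h.1.1 (by omega)
      obtain ⟨b, hb, hrb⟩ := ih _ h.1.2 (by omega)
      exact ⟨a * b, mul_mem ha hb, hra.mul hrb h.2⟩

/-- The `j`-th base point. -/
def bp (j : ℕ) : GolayPt := gpt (Fin.ofNat 24 (m24Base.getD j 0))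

/-- The permutations in M24 fixing the first `k` base points. -/
def fixB (k : ℕ) : Subgroup (Equiv.Perm GolayPt) where
  carrier := {g | g ∈ M24 ∧ ∀ j < k, g (bp j) = bp j}
  one_mem' := ⟨one_mem _, fun _ _ => rfl⟩
  mul_mem' := fun ha hb => ⟨mul_mem ha.1 hb.1, fun j hj => by
    rw [Equiv.Perm.mul_apply, hb.2 j hj, ha.2 j hj]⟩
  inv_mem' := fun {a} ha => ⟨inv_mem ha.1, fun j hj => by
    conv_lhs => rw [← ha.2 j hj]
    exact a.symm_apply_apply _⟩

/-- The possible images of the `k`-th base point inside `fixB k`. -/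
def trPts (k : ℕ) : Finset GolayPt :=
  ((m24Tr.getD k []).map fun e => gpt (Fin.ofNat 24 e.1)).toFinset

theorem tr_check :
    ((List.range 7).all fun k => (m24Tr.getD k []).all fun e =>
      decide (e.1 < 24) && decide (e.2 < 4 + m24Steps.length) &&
      Nat.beq (pget (m24Perms.getD e.2 0) (m24Base.getD k 0)) e.1 &&
      (List.range k).all fun j =>
        Nat.beq (pget (m24Perms.getD e.2 0) (m24Base.getD j 0)) (m24Base.getD j 0)) = true := by
  decide +kernel

theorem base_lt : ∀ j < 7, m24Base.getD j 0 < 24 := by decide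

theorem exists_rep_trPts {k : ℕ} (hk : k < 7) {x : GolayPt} (hx : x ∈ trPts k) :
    ∃ g ∈ Subgroup.closure m24Gens, g ∈ fixB k ∧ g (bp k) = x := by
  obtain ⟨e, he, rfl⟩ := List.mem_map.1 (List.mem_toFinset.1 hx)
  have h := List.all_eq_true.1 (List.all_eq_true.1 tr_check k (List.mem_range.2 hk)) e he
  simp only [Bool.and_eq_true, decide_eq_true_eq, Nat.beq_eq, List.all_eq_true,
    List.mem_range] at h
  obtain ⟨⟨⟨h1, h2⟩, h3⟩, h4⟩ := h
  obtain ⟨g, hg, hr⟩ := exists_rep e.2 h2
  refine ⟨g, hg, ⟨closure_gens_le hg, fun j hj => ?_⟩, ?_⟩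
  · refine hr.apply_eq ?_
    simp only [Fin.val_ofNat, Nat.mod_eq_of_lt (base_lt j (by omega))]
    exact h4 j hj
  · refine hr.apply_eq ?_
    simp only [Fin.val_ofNat, Nat.mod_eq_of_lt (base_lt k hk), Nat.mod_eq_of_lt h1]
    exact h3

theorem mem_trPts_small : ∀ k < 5, ∀ x : GolayPt, (∀ j < k, x ≠ bp j) → x ∈ trPts k := by
  decide +kernel

/-- The octad through the first five base points. -/
def baseOctad : Finset GolayPt := mset m24BaseOctad

theorem baseOctad_mem : baseOctad ∈ octads :=
  (mset_mem_octads_iff (by decide)).2 (by decide +kernel)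

theorem bp_mem_baseOctad : ∀ j < 5, bp j ∈ baseOctad := by decide +kernel

theorem mem_trPts_five : ∀ x : GolayPt, x ∉ baseOctad → x ∈ trPts 5 := by decide +kernel

theorem mem_trPts_six :
    ∀ x : GolayPt, x ∈ baseOctad → (∀ j < 5, x ≠ bp j) → x ∈ trPts 6 := by decide +kernel

theorem bp_five_not_mem : bp 5 ∉ baseOctad := by decide +kernel

theorem bp_six_mem : bp 6 ∈ baseOctad := by decide +kernel

theorem bp_six_ne : ∀ j < 5, bp 6 ≠ bp j := by decide +kernel

theorem base_card : ((Finset.range 5).image bp).card = 5 := by decide +kernel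

theorem smul_octad_mem {g : Equiv.Perm GolayPt} (hg : g ∈ M24) {o : Finset GolayPt}
    (ho : o ∈ octads) : g • o ∈ octads :=
  ⟨mem_M24_iff.1 hg o ho.1, by rw [card_smul_points, ho.2]⟩

theorem smul_dodecad_mem {g : Equiv.Perm GolayPt} (hg : g ∈ M24) {o : Finset GolayPt}
    (ho : o ∈ dodecads) : g • o ∈ dodecads :=
  ⟨mem_M24_iff.1 hg o ho.1, by rw [card_smul_points, ho.2]⟩

/-- An element of M24 fixing five points of an octad maps the octad to itself. -/
theorem smul_octad_eq_of_five {g : Equiv.Perm GolayPt} (hg : g ∈ M24) {o : Finset GolayPt}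
    (ho : o ∈ octads) {s : Finset GolayPt} (hs : 5 ≤ s.card) (hso : s ⊆ o)
    (hfix : ∀ x ∈ s, g x = x) : g • o = o :=
  octads_eq_of_five (smul_octad_mem hg ho) ho hs
    (fun x hx => Finset.mem_smul_finset.2 ⟨x, hso hx, hfix x hx⟩) hso

theorem apply_mem_trPts {k : ℕ} (hk : k < 7) {g : Equiv.Perm GolayPt} (hg : g ∈ fixB k) :
    g (bp k) ∈ trPts k := by
  have hne : ∀ j < k, bp k ≠ bp j → g (bp k) ≠ bp j := fun j hj hb h =>
    hb (g.injective (h.trans (hg.2 j hj).symm))
  have hbp : ∀ k < 7, ∀ j < k, bp k ≠ bp j := by decide +kernel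
  have hinv : 5 ≤ k → ∀ x, g x ∈ baseOctad ↔ x ∈ baseOctad := by
    intro h5 x
    have e := smul_octad_eq_of_five hg.1 baseOctad_mem base_card.ge
      (fun y hy => by
        obtain ⟨j, hj, rfl⟩ := Finset.mem_image.1 hy
        exact bp_mem_baseOctad j (Finset.mem_range.1 hj))
      (fun y hy => by
        obtain ⟨j, hj, rfl⟩ := Finset.mem_image.1 hy
        exact hg.2 j (lt_of_lt_of_le (Finset.mem_range.1 hj) h5))
    conv_lhs => rw [← e]
    exact Finset.smul_mem_smul_finset_iff g
  by_cases h5 : k < 5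
  · exact mem_trPts_small k h5 _ fun j hj => hne j hj (hbp k hk j hj)
  · interval_cases k
    · exact mem_trPts_five _ fun h => bp_five_not_mem ((hinv le_rfl _).1 h)
    · exact mem_trPts_six _ ((hinv (by norm_num) _).2 bp_six_mem)
        fun j hj => hne j (by omega) (bp_six_ne j hj)

theorem rigid_check :
    (List.range m24Rigid.length).all (fun i =>
      (m24Rigid.getD i (0, [])).2.all (fun e =>
        isCode e.1 && decide (e.1 < 16777216) && pcnt e.1 == 8 && decide (5 ≤ pcnt e.2) &&
        (e.2 &&& e.1 == e.2) &&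
        (e.2 &&& (((m24Rigid.take i).foldl (fun a r => a ||| 1 <<< r.1)
          (m24Base.foldl (fun a r => a ||| 1 <<< r) 0))) == e.2)) &&
      (((m24Rigid.getD i (0, [])).2.foldl (fun (a : ℕ) (e : ℕ × ℕ) => a &&& e.1) 16777215) |||
        ((m24Rigid.take i).foldl (fun a r => a ||| 1 <<< r.1)
          (m24Base.foldl (fun a r => a ||| 1 <<< r) 0)) ==
        ((m24Rigid.take (i + 1)).foldl (fun a r => a ||| 1 <<< r.1)
          (m24Base.foldl (fun a r => a ||| 1 <<< r) 0))) &&
      decide ((m24Rigid.getD i (0, [])).1 < 24) &&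
      ((m24Rigid.getD i (0, [])).2.foldl (fun (a : ℕ) (e : ℕ × ℕ) => a &&& e.1) 16777215).testBit
        (m24Rigid.getD i (0, [])).1 &&
      ((m24Rigid.take (i + 1)).foldl (fun a r => a ||| 1 <<< r.1)
          (m24Base.foldl (fun a r => a ||| 1 <<< r) 0) ==
        ((m24Rigid.take i).foldl (fun a r => a ||| 1 <<< r.1)
          (m24Base.foldl (fun a r => a ||| 1 <<< r) 0)) ||| 1 <<< (m24Rigid.getD i (0, [])).1)) =
      true := by
  decide +kernel

theorem fix_andFold {g : Equiv.Perm GolayPt} (L : List (ℕ × ℕ))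
    (hL : ∀ e ∈ L, g • mset e.1 = mset e.1) (a : ℕ) (ha : g • mset a = mset a) :
    g • mset (L.foldl (fun (a : ℕ) (e : ℕ × ℕ) => a &&& e.1) a) = mset (L.foldl (fun (a : ℕ) (e : ℕ × ℕ) => a &&& e.1) a) := by
  induction L generalizing a with
  | nil => exact ha
  | cons e L ih =>
    refine ih (fun x hx => hL x (List.mem_cons_of_mem _ hx)) _ ?_
    rw [mset_and, Finset.smul_finset_inter, ha, hL e (List.mem_cons_self ..)]

/-- An element of M24 fixing the seven base points is the identity. -/
theorem fixB_seven : fixB 7 = ⊥ := by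
  rw [eq_bot_iff]
  intro g hg
  rw [Subgroup.mem_bot]
  set F : ℕ → ℕ := fun i => (m24Rigid.take i).foldl (fun a r => a ||| 1 <<< r.1)
    (m24Base.foldl (fun a r => a ||| 1 <<< r) 0) with hF
  have hfix : ∀ i ≤ m24Rigid.length, ∀ x ∈ mset (F i), g x = x := by
    intro i
    induction i with
    | zero =>
      intro _ x hx
      have hb : ∀ x ∈ mset (m24Base.foldl (fun a r => a ||| 1 <<< r) 0),
          ∃ j < 7, x = bp j := by decide +kernel
      obtain ⟨j, hj, rfl⟩ := hb x hx
      exact hg.2 j hj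
    | succ i ih =>
      intro hi x hx
      have ihi := ih (by omega)
      have h := List.all_eq_true.1 rigid_check i (List.mem_range.2 (by omega))
      simp only [Bool.and_eq_true, decide_eq_true_eq, beq_iff_eq, List.all_eq_true] at h
      obtain ⟨⟨⟨⟨hoct, hcov⟩, hlt⟩, hbit⟩, hnext⟩ := h
      set A := (m24Rigid.getD i (0, [])).2.foldl (fun (a : ℕ) (e : ℕ × ℕ) => a &&& e.1) 16777215 with hA
      have hgA : g • mset A = mset A := by
        refine fix_andFold _ (fun e he => ?_) _ ?_
        · obtain ⟨⟨⟨⟨⟨c1, c2⟩, c3⟩, c4⟩, c5⟩, c6⟩ := hoct e he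
          have c2' : e.1 < 2 ^ 24 := by simpa using c2
          have ho : mset e.1 ∈ octads :=
            ⟨(mset_mem_supports_iff c2').2 c1, by rw [mset_card, mcnt_eq_pcnt]; exact c3⟩
          refine smul_octad_eq_of_five hg.1 ho (s := mset e.2) ?_ ?_ ?_
          · rw [mset_card, mcnt_eq_pcnt]; exact c4
          · rw [← c5, mset_and]; exact Finset.inter_subset_right
          · intro y hy
            refine ihi y ?_
            rw [← c6, mset_and] at hy
            exact (Finset.mem_inter.1 hy).2
        · rw [mset_full]; exact Finset.smul_finset_univ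
      have hstep : F (i + 1) = F i ||| 1 <<< (m24Rigid.getD i (0, [])).1 := hnext
      rw [hstep, mset_or, Finset.mem_union] at hx
      rcases hx with hx | hx
      · exact ihi x hx
      · simp only [mem_mset, Nat.one_shiftLeft, Nat.testBit_two_pow, decide_eq_true_eq] at hx
        have hxA : x ∈ mset A := by rw [mem_mset, ← hx]; exact hbit
        have hgx : g x ∈ mset A := hgA ▸ Finset.smul_mem_smul_finset hxA
        by_contra hne
        have hx' : g x ∈ mset (F (i + 1)) := by
          have e : A ||| F i = F (i + 1) := hcov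
          rw [← e, mset_or]
          exact Finset.mem_union_left _ hgx
        rw [hstep, mset_or, Finset.mem_union] at hx'
        rcases hx' with h' | h'
        · exact hne (g.injective (ihi _ h'))
        · simp only [mem_mset, Nat.one_shiftLeft, Nat.testBit_two_pow, decide_eq_true_eq] at h'
          exact hne (gidx_injective (Fin.ext (h'.symm.trans hx)))
  ext x : 1
  have hall : mset (F m24Rigid.length) = Finset.univ := by
    rw [hF]; decide +kernel
  exact hfix _ le_rfl x (hall ▸ Finset.mem_univ x)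

theorem card_fixB_succ {k : ℕ} (hk : k < 7) :
    Nat.card (fixB k) = (trPts k).card * Nat.card (fixB (k + 1)) := by
  classical
  choose r _ hr hb using fun x : trPts k => exists_rep_trPts hk x.2
  have hmem : ∀ g : fixB k, (r ⟨_, apply_mem_trPts hk g.2⟩)⁻¹ * (g : Equiv.Perm GolayPt) ∈
      fixB (k + 1) := by
    intro g
    set x : trPts k := ⟨_, apply_mem_trPts hk g.2⟩ with hx
    have hin : (r x)⁻¹ * (g : Equiv.Perm GolayPt) ∈ fixB k := mul_mem (inv_mem (hr x)) g.2
    refine ⟨hin.1, fun j hj => ?_⟩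
    rcases Nat.lt_succ_iff_lt_or_eq.1 hj with hj | rfl
    · exact hin.2 j hj
    · rw [Equiv.Perm.mul_apply]
      apply (r x).injective
      rw [hb x]
      exact (r x).apply_symm_apply _
  have hmul : ∀ (x : trPts k) (h : fixB (k + 1)), r x * (h : Equiv.Perm GolayPt) ∈ fixB k :=
    fun x h => mul_mem (hr x) ⟨h.2.1, fun j hj => h.2.2 j (by omega)⟩
  have happ : ∀ (x : trPts k) (h : fixB (k + 1)),
      (r x * (h : Equiv.Perm GolayPt)) (bp k) = x := by
    intro x h
    rw [Equiv.Perm.mul_apply, h.2.2 k (by omega), hb x]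
  let e : fixB k ≃ trPts k × fixB (k + 1) :=
    { toFun := fun g => (⟨_, apply_mem_trPts hk g.2⟩, ⟨_, hmem g⟩)
      invFun := fun p => ⟨_, hmul p.1 p.2⟩
      left_inv := fun g => Subtype.ext (mul_inv_cancel_left _ _)
      right_inv := fun p => by
        have hx : (⟨_, apply_mem_trPts hk (hmul p.1 p.2)⟩ : trPts k) = p.1 :=
          Subtype.ext (happ p.1 p.2)
        refine Prod.ext hx (Subtype.ext ?_)
        show (r ⟨_, _⟩)⁻¹ * (r p.1 * (p.2 : Equiv.Perm GolayPt)) = _
        rw [hx, inv_mul_cancel_left] }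
  rw [Nat.card_congr e, Nat.card_prod, Nat.card_eq_fintype_card, Fintype.card_coe]

theorem trPts_card : ∀ k < 7, (trPts k).card = [24, 23, 22, 21, 20, 16, 3].getD k 0 := by
  decide +kernel

theorem fixB_zero : fixB 0 = M24 := by
  ext g
  exact ⟨fun h => h.1, fun h => ⟨h, fun j hj => absurd hj (Nat.not_lt_zero _)⟩⟩

theorem card_fixB_eq {k : ℕ} (hk : k ≤ 7) :
    Nat.card (fixB k) = ([24, 23, 22, 21, 20, 16, 3].drop k).prod := by
  induction hn : 7 - k generalizing k with
  | zero =>
    obtain rfl : k = 7 := by omega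
    rw [fixB_seven]; simp
  | succ n ih =>
    rw [card_fixB_succ (by omega), trPts_card k (by omega), ih (by omega) (by omega)]
    have : k < 7 := by omega
    interval_cases k <;> rfl

theorem card_M24 : Nat.card M24 = 244823040 := by
  rw [← fixB_zero, card_fixB_eq (by norm_num)]; rfl

theorem M24_eq_closure : Subgroup.closure m24Gens = M24 := by
  refine le_antisymm closure_gens_le ?_
  have key : ∀ n, ∀ k, k + n = 7 → ∀ g ∈ fixB k, g ∈ Subgroup.closure m24Gens := by
    intro n
    induction n with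
    | zero =>
      intro k hk g hg
      obtain rfl : k = 7 := by omega
      rw [fixB_seven, Subgroup.mem_bot] at hg
      rw [hg]; exact one_mem _
    | succ n ih =>
      intro k hk g hg
      obtain ⟨r, hrc, hr, hb⟩ := exists_rep_trPts (by omega) (apply_mem_trPts (k := k) (by omega) hg)
      have hin : r⁻¹ * g ∈ fixB k := mul_mem (inv_mem hr) hg
      have : r⁻¹ * g ∈ fixB (k + 1) := by
        refine ⟨hin.1, fun j hj => ?_⟩
        rcases Nat.lt_succ_iff_lt_or_eq.1 hj with hj | rfl
        · exact hin.2 j hj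
        · rw [Equiv.Perm.mul_apply]
          apply r.injective
          rw [hb]
          exact r.apply_symm_apply _
      have := mul_mem hrc (ih (k + 1) (by omega) _ this)
      rwa [mul_inv_cancel_left] at this
  intro g hg
  exact key 7 0 rfl g (fixB_zero ▸ hg)

/-- Any five distinct points can be moved to the first five base points. -/
theorem exists_map_base (x : Fin 5 ↪ GolayPt) : ∃ g ∈ M24, ∀ i : Fin 5, g (bp i.val) = x i := by
  have key : ∀ k ≤ 5, ∃ g ∈ M24, ∀ i : Fin 5, i.val < k → g (bp i.val) = x i := by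
    intro k
    induction k with
    | zero => exact fun _ => ⟨1, one_mem _, fun i hi => absurd hi (Nat.not_lt_zero _)⟩
    | succ k ih =>
      intro hk
      obtain ⟨g, hg, hgx⟩ := ih (by omega)
      have hy : g⁻¹ (x ⟨k, by omega⟩) ∈ trPts k := by
        refine mem_trPts_small k (by omega) _ fun j hj h => ?_
        have h' := congrArg g h
        rw [Equiv.Perm.inv_def, Equiv.apply_symm_apply, hgx ⟨j, by omega⟩ hj] at h'
        have := congrArg Fin.val (x.injective h')
        simp only at this
        omega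
      obtain ⟨r, -, hr, hb⟩ := exists_rep_trPts (by omega) hy
      refine ⟨g * r, mul_mem hg hr.1, fun i hi => ?_⟩
      rw [Equiv.Perm.mul_apply]
      rcases Nat.lt_succ_iff_lt_or_eq.1 hi with hi | hi
      · rw [hr.2 _ hi, hgx i hi]
      · rw [hi, hb, Equiv.Perm.inv_def, Equiv.apply_symm_apply]
        congr 1
        exact (Fin.ext hi).symm
  obtain ⟨g, hg, h⟩ := key 5 le_rfl
  exact ⟨g, hg, fun i => h i i.isLt⟩

theorem M24_five_transitive : MulAction.IsMultiplyPretransitive M24 GolayPt 5 := by
  rw [MulAction.isMultiplyPretransitive_iff]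
  intro x y
  obtain ⟨g, hg, hgx⟩ := exists_map_base x
  obtain ⟨h, hh, hhy⟩ := exists_map_base y
  refine ⟨⟨h * g⁻¹, mul_mem hh (inv_mem hg)⟩, ?_⟩
  ext i : 1
  show (h * g⁻¹) (x i) = y i
  rw [← hgx i, Equiv.Perm.mul_apply, ← hhy i]
  congr 1
  exact g.symm_apply_apply _

/-- The standard position: any five-element set is moved onto the first five base points. -/
theorem exists_smul_base {s : Finset GolayPt} (hs : s.card = 5) :
    ∃ g ∈ M24, g • ((Finset.range 5).image bp) = s := by
  let x : Fin 5 ↪ GolayPt :=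
    ((s.equivFinOfCardEq hs).symm.toEmbedding).trans (Function.Embedding.subtype _)
  obtain ⟨g, hg, hgx⟩ := exists_map_base x
  refine ⟨g, hg, Finset.eq_of_subset_of_card_le ?_ ?_⟩
  · intro y hy
    obtain ⟨z, hz, rfl⟩ := Finset.mem_smul_finset.1 hy
    obtain ⟨j, hj, rfl⟩ := Finset.mem_image.1 hz
    have : g (bp j) = x ⟨j, Finset.mem_range.1 hj⟩ := hgx ⟨j, Finset.mem_range.1 hj⟩
    show g (bp j) ∈ s
    rw [this]
    exact ((s.equivFinOfCardEq hs).symm ⟨j, Finset.mem_range.1 hj⟩).2
  · rw [hs, card_smul_points, base_card]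

/-- Existence and uniqueness of the octad through five points. -/
theorem octads_steiner : IsSteinerSystem 5 8 octads := by
  refine ⟨fun b hb => hb.2, fun s hs => ?_⟩
  obtain ⟨g, hg, rfl⟩ := exists_smul_base hs
  refine ⟨g • baseOctad, ⟨smul_octad_mem hg baseOctad_mem, ?_⟩, ?_⟩
  · refine Finset.smul_finset_subset_smul_finset ?_
    intro y hy
    obtain ⟨j, hj, rfl⟩ := Finset.mem_image.1 hy
    exact bp_mem_baseOctad j (Finset.mem_range.1 hj)
  · rintro o ⟨ho, hso⟩
    refine octads_eq_of_five ho (smul_octad_mem hg baseOctad_mem) hs.ge hso ?_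
    refine Finset.smul_finset_subset_smul_finset ?_
    intro y hy
    obtain ⟨j, hj, rfl⟩ := Finset.mem_image.1 hy
    exact bp_mem_baseOctad j (Finset.mem_range.1 hj)

theorem M24_octad_transitive {o o' : Finset GolayPt} (ho : o ∈ octads) (ho' : o' ∈ octads) :
    ∃ g ∈ M24, g • o = o' := by
  have key : ∀ o ∈ octads, ∃ g ∈ M24, g • baseOctad = o := by
    intro o ho
    obtain ⟨s, hso, hs⟩ := Finset.exists_subset_card_eq (show 5 ≤ o.card by rw [ho.2]; norm_num)
    obtain ⟨g, hg, rfl⟩ := exists_smul_base hs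
    refine ⟨g, hg, octads_eq_of_five (smul_octad_mem hg baseOctad_mem) ho hs.ge ?_ hso⟩
    refine Finset.smul_finset_subset_smul_finset ?_
    intro y hy
    obtain ⟨j, hj, rfl⟩ := Finset.mem_image.1 hy
    exact bp_mem_baseOctad j (Finset.mem_range.1 hj)
  obtain ⟨g, hg, rfl⟩ := key o ho
  obtain ⟨h, hh, rfl⟩ := key o' ho'
  exact ⟨h * g⁻¹, mul_mem hh (inv_mem hg), by rw [mul_smul, inv_smul_smul]⟩

end Cfsg.Lib.Concrete
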