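import Cfsg.Agent.Lib.Concrete.M24

/-!
The pointwise stabiliser of five base points, as 48 computable products; dodecads; fixed points.
-/

set_option autoImplicit false

namespace Cfsg.Lib.Concrete

open scoped Pointwise

/-- Pairs of packed permutations whose products are the 48 elements of `fixB 5`. -/
def fix5Pairs : List (ℕ × ℕ) :=
  (m24Tr.getD 5 []).flatMap fun a => (m24Tr.getD 6 []).map fun b =>
    (m24Perms.getD a.2 0, m24Perms.getD b.2 0)

theorem exists_rep_tr {k : ℕ} (hk : k < 7) {e : ℕ × ℕ} (he : e ∈ m24Tr.getD k []) :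
    ∃ g ∈ fixB k, g (bp k) = gpt (Fin.ofNat 24 e.1) ∧ Rep g (m24Perms.getD e.2 0) := by
  have h := List.all_eq_true.1 (List.all_eq_true.1 tr_check k (List.mem_range.2 hk)) e he
  simp only [Bool.and_eq_true, decide_eq_true_eq, Nat.beq_eq, List.all_eq_true,
    List.mem_range] at h
  obtain ⟨⟨⟨h1, h2⟩, h3⟩, h4⟩ := h
  obtain ⟨g, hg, hr⟩ := exists_rep e.2 h2
  refine ⟨g, ⟨closure_gens_le hg, fun j hj => ?_⟩, ?_, hr⟩
  · refine hr.apply_eq ?_
    simp only [Fin.val_ofNat, Nat.mod_eq_of_lt (base_lt j (by omega))]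
    exact h4 j hj
  · refine hr.apply_eq ?_
    simp only [Fin.val_ofNat, Nat.mod_eq_of_lt (base_lt k hk), Nat.mod_eq_of_lt h1]
    exact h3

theorem fixB_step_decomp {k : ℕ} (hk : k < 7) {g : Equiv.Perm GolayPt} (hg : g ∈ fixB k) :
    ∃ e ∈ m24Tr.getD k [], ∃ r, Rep r (m24Perms.getD e.2 0) ∧ r⁻¹ * g ∈ fixB (k + 1) := by
  obtain ⟨e, he, hx⟩ := List.mem_map.1 (List.mem_toFinset.1 (apply_mem_trPts hk hg))
  obtain ⟨r, hr, hb, hrep⟩ := exists_rep_tr hk he
  have hin : r⁻¹ * g ∈ fixB k := mul_mem (inv_mem hr) hg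
  refine ⟨e, he, r, hrep, hin.1, fun j hj => ?_⟩
  rcases Nat.lt_succ_iff_lt_or_eq.1 hj with hj | rfl
  · exact hin.2 j hj
  · rw [Equiv.Perm.mul_apply]
    apply r.injective
    rw [hb, hx]
    exact r.apply_symm_apply _

/-- An element of `fixB 5` is one of the 48 products. -/
theorem fixB_five_decomp {h : Equiv.Perm GolayPt} (hh : h ∈ fixB 5) :
    ∃ pq ∈ fix5Pairs, (∀ m, h • mset m = mset (pimg pq.1 (pimg pq.2 m))) ∧
      ∀ x, (gidx (h x)).val = pget pq.1 (pget pq.2 (gidx x).val) := by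
  obtain ⟨a, ha, r, hr, h6⟩ := fixB_step_decomp (by norm_num) hh
  obtain ⟨b, hb, s, hs, h7⟩ := fixB_step_decomp (by norm_num) h6
  rw [fixB_seven, Subgroup.mem_bot, inv_mul_eq_one, eq_inv_mul_iff_mul_eq] at h7
  refine ⟨(m24Perms.getD a.2 0, m24Perms.getD b.2 0),
    List.mem_flatMap.2 ⟨a, ha, List.mem_map.2 ⟨b, hb, rfl⟩⟩, fun m => ?_, fun x => ?_⟩
  · rw [← h7, mul_smul, hs.smul_mset, hr.smul_mset]
  · rw [← h7, Equiv.Perm.mul_apply, hr, hs]

theorem exists_fix5_pair {pq : ℕ × ℕ} (hpq : pq ∈ fix5Pairs) :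
    ∃ h ∈ fixB 5, ∀ m, h • mset m = mset (pimg pq.1 (pimg pq.2 m)) := by
  obtain ⟨a, ha, hb'⟩ := List.mem_flatMap.1 hpq
  obtain ⟨b, hb, rfl⟩ := List.mem_map.1 hb'
  obtain ⟨r, hr, -, hrep⟩ := exists_rep_tr (by norm_num) ha
  obtain ⟨s, hs, -, hsep⟩ := exists_rep_tr (by norm_num) hb
  exact ⟨r * s, mul_mem hr ⟨hs.1, fun j hj => hs.2 j (by omega)⟩,
    fun m => by rw [mul_smul, hsep.smul_mset, hrep.smul_mset]⟩

/-- A dodecad containing the first five base points. -/
def baseDodecad : Finset GolayPt := mset 11472927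

theorem baseDodecad_mem : baseDodecad ∈ dodecads :=
  (mset_mem_dodecads_iff (by norm_num)).2 (by decide +kernel)

theorem bp_mem_baseDodecad : ∀ j < 5, bp j ∈ baseDodecad := by decide +kernel

/-- The mask of the first five base points. -/
def baseFive : ℕ := 8388623

theorem mset_baseFive : mset baseFive = (Finset.range 5).image bp := by decide +kernel

theorem dod_cover :
    (dodList.filter fun m => Nat.beq (Nat.land m baseFive) baseFive).all (fun m =>
      fix5Pairs.any fun pq => Nat.beq (pimg pq.1 (pimg pq.2 11472927)) m) = true := by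
  decide +kernel

theorem fix5_trivial_on_dodecad :
    fix5Pairs.all (fun pq => !(Nat.beq (pimg pq.1 (pimg pq.2 11472927)) 11472927) ||
      bits24.all fun i => Nat.beq (pget pq.1 (pget pq.2 i)) i) = true := by
  decide +kernel

/-- The stabiliser of a dodecad is regular on the five-tuples of its points. -/
theorem exists_dodecad_map {d : Finset GolayPt} (hd : d ∈ dodecads) (x : Fin 5 ↪ GolayPt)
    (hx : ∀ i, x i ∈ d) :
    ∃ g ∈ M24, g • baseDodecad = d ∧ ∀ i : Fin 5, g (bp i.val) = x i := by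
  obtain ⟨g, hg, hgx⟩ := exists_map_base x
  have he : g⁻¹ • d ∈ dodecads := smul_dodecad_mem (inv_mem hg) hd
  obtain ⟨m, hm, hme⟩ := mem_dodecads_iff.1 he
  have hlt := codeList_lt (List.mem_filter.1 hm).1
  have h5 : Nat.land m baseFive = baseFive := by
    refine mset_inj (lt_of_le_of_lt Nat.and_le_left hlt) (by decide) ?_
    show mset (m &&& baseFive) = mset baseFive
    rw [mset_and, hme, mset_baseFive, Finset.inter_eq_right]
    intro y hy
    obtain ⟨j, hj, rfl⟩ := Finset.mem_image.1 hy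
    refine Finset.mem_inv_smul_finset_iff.2 ?_
    show g (bp j) ∈ d
    rw [hgx ⟨j, Finset.mem_range.1 hj⟩]
    exact hx _
  have h := List.all_eq_true.1 dod_cover m (List.mem_filter.2 ⟨hm, by rw [Nat.beq_eq, h5]⟩)
  obtain ⟨pq, hpq, hb⟩ := List.any_eq_true.1 h
  rw [Nat.beq_eq] at hb
  obtain ⟨k, hk, hkm⟩ := exists_fix5_pair hpq
  refine ⟨g * k, mul_mem hg hk.1, ?_, fun i => ?_⟩
  · rw [mul_smul, show k • baseDodecad = g⁻¹ • d by
      rw [← hme, ← hb]; exact hkm _, smul_inv_smul]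
  · rw [Equiv.Perm.mul_apply, hk.2 _ i.isLt, hgx]

/-- An element fixing five base points and the base dodecad is the identity. -/
theorem eq_one_of_fix_dodecad {h : Equiv.Perm GolayPt} (hh : h ∈ fixB 5)
    (hd : h • baseDodecad = baseDodecad) : h = 1 := by
  obtain ⟨pq, hpq, him, hap⟩ := fixB_five_decomp hh
  have hc := List.all_eq_true.1 fix5_trivial_on_dodecad pq hpq
  have hd' : mset (pimg pq.1 (pimg pq.2 11472927)) = mset 11472927 := (him _).symm.trans hd
  have hlt : ∀ pq ∈ fix5Pairs, pimg pq.1 (pimg pq.2 11472927) < 16777216 := by decide +kernel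
  have := mset_inj (by simpa using hlt pq hpq) (by norm_num) hd'
  simp only [this, Nat.beq_refl, Bool.not_true, Bool.false_or, List.all_eq_true, Nat.beq_eq]
    at hc
  ext x : 1
  refine gidx_injective (Fin.ext ?_)
  rw [hap, hc _ (mem_bits24.2 (gidx x).isLt)]
  rfl

theorem M24_dodecad_transitive {d d' : Finset GolayPt} (hd : d ∈ dodecads) (hd' : d' ∈ dodecads) :
    ∃ g ∈ M24, g • d = d' := by
  have key : ∀ d ∈ dodecads, ∃ g ∈ M24, g • baseDodecad = d := by
    intro d hd
    have h5 : 5 ≤ Fintype.card {p // p ∈ d} := by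
      rw [Fintype.card_coe, hd.2]; norm_num
    let x : Fin 5 ↪ GolayPt :=
      ((Fin.castLEEmb h5).trans (Fintype.equivFin {p // p ∈ d}).symm.toEmbedding).trans
        (Function.Embedding.subtype _)
    obtain ⟨g, hg, hgd, -⟩ := exists_dodecad_map hd x fun i => Subtype.prop _
    exact ⟨g, hg, hgd⟩
  obtain ⟨g, hg, rfl⟩ := key d hd
  obtain ⟨h, hh, rfl⟩ := key d' hd'
  exact ⟨h * g⁻¹, mul_mem hh (inv_mem hg), by rw [mul_smul, inv_smul_smul]⟩

theorem fix5_few_fixed :
    fix5Pairs.all (fun pq =>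
      decide ((bits24.countP fun i => Nat.beq (pget pq.1 (pget pq.2 i)) i) ≤ 8) ||
      bits24.all fun i => Nat.beq (pget pq.1 (pget pq.2 i)) i) = true := by
  decide +kernel

/-- A nonidentity element of M24 fixes at most eight points. -/
theorem eq_one_of_nine_fixed {g : Equiv.Perm GolayPt} (hg : g ∈ M24) {s : Finset GolayPt}
    (hs : 9 ≤ s.card) (hfix : ∀ x ∈ s, g x = x) : g = 1 := by
  classical
  obtain ⟨t, hts, ht⟩ := Finset.exists_subset_card_eq (show 5 ≤ s.card by omega)
  obtain ⟨c, hc, rfl⟩ := exists_smul_base ht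
  have hh : c⁻¹ * g * c ∈ fixB 5 := by
    refine ⟨mul_mem (mul_mem (inv_mem hc) hg) hc, fun j hj => ?_⟩
    rw [Equiv.Perm.mul_apply, Equiv.Perm.mul_apply,
      hfix (c (bp j)) (hts (Finset.smul_mem_smul_finset
        (Finset.mem_image_of_mem _ (Finset.mem_range.2 hj))))]
    exact c.symm_apply_apply _
  obtain ⟨pq, hpq, -, hap⟩ := fixB_five_decomp hh
  have hc' := List.all_eq_true.1 fix5_few_fixed pq hpq
  simp only [Bool.or_eq_true, decide_eq_true_eq, List.all_eq_true, Nat.beq_eq] at hc'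
  rcases hc' with h8 | hall
  · exfalso
    have hnd : bits24.Nodup := by decide
    rw [List.countP_eq_length_filter, ← List.toFinset_card_of_nodup (hnd.filter _)] at h8
    have hsub : ((c⁻¹ • s).image fun x => (gidx x).val) ⊆
        (bits24.filter fun i => Nat.beq (pget pq.1 (pget pq.2 i)) i).toFinset := by
      intro i hi
      obtain ⟨x, hx, rfl⟩ := Finset.mem_image.1 hi
      have hcx : c x ∈ s := Finset.mem_inv_smul_finset_iff.1 hx
      have hfx : (c⁻¹ * g * c) x = x := by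
        rw [Equiv.Perm.mul_apply, Equiv.Perm.mul_apply, hfix _ hcx]
        exact c.symm_apply_apply _
      rw [List.mem_toFinset, List.mem_filter, Nat.beq_eq, ← hap, hfx]
      exact ⟨mem_bits24.2 (gidx x).isLt, rfl⟩
    have hcard := Finset.card_le_card hsub
    rw [Finset.card_image_of_injective _ (fun a b h => gidx_injective (Fin.ext h)),
      card_smul_points] at hcard
    omega
  · have hone : c⁻¹ * g * c = 1 := by
      ext x : 1
      refine gidx_injective (Fin.ext ?_)
      rw [hap, hall _ (mem_bits24.2 (gidx x).isLt)]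
      rfl
    exact conj_eq_one_iff.1 (show c⁻¹ * g * c⁻¹⁻¹ = 1 by rwa [inv_inv])

end Cfsg.Lib.Concrete
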