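import Cfsg.Agent.Lib.Concrete.Orbit

/-!
Reductions to standard octads and dodecads, and counting of octads and dodecads with a property.
-/

set_option autoImplicit false

namespace Cfsg.Lib.Concrete

open scoped Pointwise

/-- Translating a family by `g` preserves its cardinality. -/
theorem ncard_eq_of_smul {β : Type*} [MulAction (Equiv.Perm GolayPt) β] {S T : Set β}
    (g : Equiv.Perm GolayPt) (h : ∀ s, g • s ∈ S ↔ s ∈ T) : S.ncard = T.ncard := by
  have : S = g • T := by
    ext s
    rw [Set.mem_smul_set_iff_inv_smul_mem, ← h, smul_inv_smul]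
  rw [this, Set.ncard_smul_set]

theorem smul_mem_octads_iff {g : Equiv.Perm GolayPt} (hg : g ∈ M24) (o : Finset GolayPt) :
    g • o ∈ octads ↔ o ∈ octads :=
  ⟨fun h => by simpa using smul_octad_mem (inv_mem hg) h, smul_octad_mem hg⟩

theorem smul_mem_dodecads_iff {g : Equiv.Perm GolayPt} (hg : g ∈ M24) (o : Finset GolayPt) :
    g • o ∈ dodecads ↔ o ∈ dodecads :=
  ⟨fun h => by simpa using smul_dodecad_mem (inv_mem hg) h, smul_dodecad_mem hg⟩

/-- Number of octads with a decidable property. -/
theorem ncard_octads (P : Finset GolayPt → Prop) (p : ℕ → Bool)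
    (h : ∀ m ∈ octList, P (mset m) ↔ p m = true) :
    {o : Finset GolayPt | o ∈ octads ∧ P o}.ncard = (octList.filter p).length := by
  refine ncard_of_masks (octList_nodup.filter _)
    (fun m hm => octList_lt (List.mem_filter.1 hm).1) fun m hm => ?_
  rw [Set.mem_setOf_eq, mset_mem_octads_iff hm, List.mem_filter]
  exact and_congr_right fun hmem => h m hmem

/-- Number of dodecads with a decidable property. -/
theorem ncard_dodecads_filter (P : Finset GolayPt → Prop) (p : ℕ → Bool)
    (h : ∀ m ∈ dodList, P (mset m) ↔ p m = true) :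
    {o : Finset GolayPt | o ∈ dodecads ∧ P o}.ncard = (dodList.filter p).length := by
  refine ncard_of_masks ((codeList_nodup.filter _).filter _)
    (fun m hm => codeList_lt (List.mem_filter.1 (List.mem_filter.1 hm).1).1) fun m hm => ?_
  rw [Set.mem_setOf_eq, mset_mem_dodecads_iff hm, List.mem_filter]
  exact and_congr_right fun hmem => h m hmem

/-- The number of common points of two masks. -/
theorem card_mset_inter (a b : ℕ) : (mset a ∩ mset b).card = pcnt (Nat.land a b) := by
  rw [← mset_and, mset_card, mcnt_eq_pcnt]
  rfl

theorem exists_octad_std {o : Finset GolayPt} (ho : o ∈ octads) :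
    ∃ g ∈ M24, g • baseOctad = o := M24_octad_transitive baseOctad_mem ho

theorem exists_dodecad_std {d : Finset GolayPt} (hd : d ∈ dodecads) :
    ∃ g ∈ M24, g • baseDodecad = d := M24_dodecad_transitive baseDodecad_mem hd

theorem octads_ncard : octads.ncard = 759 := by
  rw [ncard_of_masks octList_nodup (fun m hm => octList_lt hm)
    fun m hm => mset_mem_octads_iff hm]
  decide +kernel

theorem mset_inter_baseOctad (m : ℕ) :
    (mset m ∩ baseOctad).card = pcnt (Nat.land m m24BaseOctad) := card_mset_inter m _

end Cfsg.Lib.Concrete
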