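import Mathlib
import Cfsg.Prelude.Def_Sporadic_a

/-!
Counting in Steiner systems: blocks containing a given set, and blocks meeting a given block
in a given set.
-/

set_option autoImplicit false

namespace Cfsg.Lib.Concrete

open Finset

variable {α : Type*} [Fintype α] [DecidableEq α] {t k : ℕ} {B : Set (Finset α)}

/-- The blocks of a family, as a finset. -/
noncomputable def blocksFinset (B : Set (Finset α)) : Finset (Finset α) :=
  B.toFinite.toFinset

theorem mem_blocksFinset {b : Finset α} : b ∈ blocksFinset B ↔ b ∈ B :=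
  B.toFinite.mem_toFinset

theorem ncard_sep_blocks (B : Set (Finset α)) (P : Finset α → Prop) [DecidablePred P] :
    {c : Finset α | c ∈ B ∧ P c}.ncard = ((blocksFinset B).filter P).card := by
  rw [← Set.ncard_coe_finset]
  congr 1
  ext c
  simp [mem_blocksFinset]

/-- Number of `m`-element sets between `s` and `b`. -/
theorem card_between {s b : Finset α} (h : s ⊆ b) {m : ℕ} (hm : s.card ≤ m) :
    ((b.powersetCard m).filter (s ⊆ ·)).card = (b.card - s.card).choose (m - s.card) := by
  rw [← card_sdiff_of_subset h, ← card_powersetCard]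
  refine card_bij (fun u _ => u \ s) ?_ ?_ ?_
  · intro u hu
    obtain ⟨hu, hsu⟩ := mem_filter.1 hu
    obtain ⟨hub, hcard⟩ := mem_powersetCard.1 hu
    exact mem_powersetCard.2 ⟨sdiff_subset_sdiff hub subset_rfl,
      by rw [card_sdiff_of_subset hsu, hcard]⟩
  · intro u hu v hv huv
    rw [← union_sdiff_of_subset (mem_filter.1 hu).2,
      ← union_sdiff_of_subset (mem_filter.1 hv).2, huv]
  · intro w hw
    obtain ⟨hwb, hcard⟩ := mem_powersetCard.1 hw
    have hdisj : Disjoint s w :=
      disjoint_of_subset_right hwb disjoint_sdiff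
    refine ⟨s ∪ w, mem_filter.2 ⟨mem_powersetCard.2 ⟨union_subset h (hwb.trans sdiff_subset), ?_⟩,
      subset_union_left⟩, union_sdiff_cancel_left hdisj⟩
    rw [card_union_of_disjoint hdisj, hcard]
    omega

/-- Blocks containing a set of at most `t` points, counted against `t`-sets. -/
theorem steiner_card_containing (hB : IsSteinerSystem t k B) {s : Finset α} (hs : s.card ≤ t) :
    ((blocksFinset B).filter (s ⊆ ·)).card * (k - s.card).choose (t - s.card) =
      (Fintype.card α - s.card).choose (t - s.card) := by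
  rw [← card_univ, ← card_between (subset_univ s) hs]
  refine (?_ : _ = ∑ b ∈ (blocksFinset B).filter (s ⊆ ·),
    ((b.powersetCard t).filter (s ⊆ ·)).card).trans ?_
  · rw [sum_const_nat]
    intro b hb
    obtain ⟨hb, hsb⟩ := mem_filter.1 hb
    rw [card_between hsb hs, hB.1 b (mem_blocksFinset.1 hb)]
  · rw [← card_biUnion]
    · congr 1
      ext u
      simp only [mem_biUnion, mem_filter, mem_powersetCard, mem_blocksFinset]
      constructor
      · rintro ⟨b, -, ⟨-, hu⟩, hsu⟩; exact ⟨⟨subset_univ _, hu⟩, hsu⟩
      · rintro ⟨⟨-, hu⟩, hsu⟩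
        obtain ⟨b, ⟨hb, hub⟩, -⟩ := hB.2 u hu
        exact ⟨b, ⟨hb, hsu.trans hub⟩, ⟨hub, hu⟩, hsu⟩
    · intro b hb c hc hbc
      refine disjoint_left.2 fun u hub huc => hbc ?_
      obtain ⟨hub, -⟩ := mem_filter.1 hub
      obtain ⟨huc, -⟩ := mem_filter.1 huc
      obtain ⟨hub, hu⟩ := mem_powersetCard.1 hub
      obtain ⟨huc, -⟩ := mem_powersetCard.1 huc
      exact (hB.2 u hu).unique ⟨mem_blocksFinset.1 (mem_filter.1 hb).1, hub⟩
        ⟨mem_blocksFinset.1 (mem_filter.1 hc).1, huc⟩

/-- Intersection numbers: if `x` solves the recursion of the block counts `l`, then it counts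
the blocks meeting `b` in a given set. -/
theorem steiner_inter_count (hB : IsSteinerSystem t k B) (x l : ℕ → ℕ)
    (hl : ∀ i < t, l i * (k - i).choose (t - i) = (Fintype.card α - i).choose (t - i) ∧
      0 < (k - i).choose (t - i))
    (hx0 : ∀ i ∈ Icc t k, x i = 0)
    (hx : ∀ i < t, l i = 1 + ∑ j ∈ range (k + 1), if i ≤ j then (k - i).choose (j - i) * x j else 0)
    {b : Finset α} (hb : b ∈ B) {s : Finset α} (hs : s ⊆ b) :
    {c : Finset α | c ∈ B ∧ c ≠ b ∧ b ∩ c = s}.ncard = x s.card := by
  classical
  have hkey : ∀ n, ∀ s : Finset α, s ⊆ b → k - s.card = n →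
      (((blocksFinset B).erase b).filter (fun c => b ∩ c = s)).card = x s.card := by
    intro n
    induction n using Nat.strong_induction_on with
    | _ n ih =>
      intro s hs hn
      have hbk : b.card = k := hB.1 b hb
      have hsk : s.card ≤ k := hbk ▸ card_le_card hs
      by_cases hst : t ≤ s.card
      · rw [hx0 _ (mem_Icc.2 ⟨hst, hsk⟩), card_eq_zero, filter_eq_empty_iff]
        intro c hc hcs
        obtain ⟨hcb, hc⟩ := mem_erase.1 hc
        obtain ⟨u, hus, hu⟩ := exists_subset_card_eq hst
        have hsc : s ⊆ c := hcs ▸ inter_subset_right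
        exact hcb ((hB.2 u hu).unique ⟨mem_blocksFinset.1 hc, hus.trans hsc⟩ ⟨hb, hus.trans hs⟩)
      push Not at hst
      obtain ⟨hl1, hlpos⟩ := hl _ hst
      have hcont : ((blocksFinset B).filter (s ⊆ ·)).card = l s.card :=
        Nat.eq_of_mul_eq_mul_right hlpos
          ((steiner_card_containing hB hst.le).trans hl1.symm)
      have hother : (((blocksFinset B).erase b).filter (s ⊆ ·)).card + 1 = l s.card := by
        rw [← hcont, filter_erase, card_erase_add_one]
        exact mem_filter.2 ⟨mem_blocksFinset.2 hb, hs⟩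
      have hmaps : ∀ c ∈ ((blocksFinset B).erase b).filter (s ⊆ ·),
          b ∩ c ∈ b.powerset.filter (s ⊆ ·) := fun c hc =>
        mem_filter.2 ⟨mem_powerset.2 inter_subset_left,
          subset_inter hs (mem_filter.1 hc).2⟩
      have hsum := card_eq_sum_card_fiberwise hmaps
      have hfib : ∀ u ∈ b.powerset.filter (s ⊆ ·),
          ((((blocksFinset B).erase b).filter (s ⊆ ·)).filter (fun c => b ∩ c = u)).card =
            if u = s then (((blocksFinset B).erase b).filter (fun c => b ∩ c = s)).card
            else x u.card := by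
        intro u hu
        obtain ⟨hub, hsu⟩ := mem_filter.1 hu
        have heq : (((blocksFinset B).erase b).filter (s ⊆ ·)).filter (fun c => b ∩ c = u) =
            ((blocksFinset B).erase b).filter (fun c => b ∩ c = u) := by
          ext c
          simp only [mem_filter]
          exact ⟨fun h => ⟨h.1.1, h.2⟩,
            fun h => ⟨⟨h.1, hsu.trans (h.2 ▸ inter_subset_right)⟩, h.2⟩⟩
        rw [heq]
        split
        · next h => rw [h]
        · next h =>
          have hlt : s.card < u.card :=
            card_lt_card (lt_of_le_of_ne hsu (Ne.symm h))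
          have huk : u.card ≤ k := hbk ▸ card_le_card (mem_powerset.1 hub)
          exact ih (k - u.card) (by omega) u (mem_powerset.1 hub) rfl
      rw [sum_congr rfl hfib] at hsum
      have hxsum : ∑ u ∈ b.powerset.filter (s ⊆ ·), x u.card =
          ∑ j ∈ range (k + 1), if s.card ≤ j then (k - s.card).choose (j - s.card) * x j else 0 := by
        rw [sum_filter, sum_powerset, hbk]
        refine sum_congr rfl fun j _ => ?_
        rw [← sum_filter, sum_const_nat (m := x j)
          (fun u hu => by rw [(mem_powersetCard.1 (mem_filter.1 hu).1).2])]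
        split
        · next h => rw [card_between hs h, hbk]
        · next h =>
          rw [show (b.powersetCard j).filter (s ⊆ ·) = ∅ from filter_eq_empty_iff.2 fun u hu hsu =>
            h ((mem_powersetCard.1 hu).2 ▸ card_le_card hsu)]
          simp
      have hmem : s ∈ b.powerset.filter (s ⊆ ·) :=
        mem_filter.2 ⟨mem_powerset.2 hs, subset_rfl⟩
      rw [← add_sum_erase _ _ hmem, if_pos rfl,
        sum_congr rfl fun u hu => if_neg (ne_of_mem_erase hu)] at hsum
      rw [← add_sum_erase _ _ hmem] at hxsum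
      have := hx _ hst
      omega
  rw [ncard_sep_blocks B fun c => c ≠ b ∧ b ∩ c = s, ← hkey _ s hs rfl]
  congr 1
  ext c
  simp only [mem_filter, mem_erase]
  tauto

/-- The possible sizes of intersections of two blocks. -/
theorem steiner_inter_card (hB : IsSteinerSystem t k B) (x l : ℕ → ℕ)
    (hl : ∀ i < t, l i * (k - i).choose (t - i) = (Fintype.card α - i).choose (t - i) ∧
      0 < (k - i).choose (t - i))
    (hx0 : ∀ i ∈ Icc t k, x i = 0)
    (hx : ∀ i < t, l i = 1 + ∑ j ∈ range (k + 1), if i ≤ j then (k - i).choose (j - i) * x j else 0)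
    {b c : Finset α} (hb : b ∈ B) (hc : c ∈ B) (hcb : c ≠ b) : x (b ∩ c).card ≠ 0 := by
  rw [← steiner_inter_count hB x l hl hx0 hx hb inter_subset_left]
  exact Set.ncard_ne_zero_of_mem (⟨hc, hcb, rfl⟩ : c ∈ {d | d ∈ B ∧ d ≠ b ∧ b ∩ d = b ∩ c})
    (Set.toFinite _)

end Cfsg.Lib.Concrete
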