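import Cfsg.Agent.Lib.Concrete.GolayUnique
import Cfsg.Agent.Lib.Concrete.Steiner
import Cfsg.Agent.Lib.Concrete.M24

/-!
Families of subsets of a 24-element set which determine the code of length 24: pairwise even
intersections, and every nonempty set of at most seven points meets some member in an odd number
of points.
-/

set_option autoImplicit false

namespace Cfsg.Lib.Concrete

open Finset
open scoped symmDiff Pointwise

/-- Every nonempty set of at most seven points meets some member in an odd number of points. -/
def SeparatesSmall {β : Type*} [DecidableEq β] (G : Set (Finset β)) : Prop :=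
  ∀ S : Finset β, S.Nonempty → S.card ≤ 7 → ∃ g ∈ G, Odd (S ∩ g).card

/-- The sets meeting every member evenly. -/
noncomputable def evenPerp {β : Type*} [Fintype β] [DecidableEq β] (G : Set (Finset β)) : Finset (Finset β) := by
  classical exact univ.filter fun S => ∀ g ∈ G, Even (S ∩ g).card

variable {β : Type*} [Fintype β] [DecidableEq β]

theorem mem_evenPerp {G : Set (Finset β)} {S : Finset β} : S ∈ evenPerp G ↔ ∀ g ∈ G, Even (S ∩ g).card := by
  classical
  rw [evenPerp, mem_filter]
  simp only [mem_univ, true_and]

/-- A binary code of length 24 and distance 8 has at most 4096 words. -/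
theorem card_le_of_dist (hβ : Fintype.card β = 24) (D : Finset (Finset β))
    (hD : ∀ s ∈ D, ∀ t ∈ D, s ≠ t → 8 ≤ (s ∆ t).card) : D.card ≤ 4096 := by
  classical
  obtain ⟨i⟩ : Nonempty β := Fintype.card_pos_iff.1 (by omega)
  set U : Finset β := univ.erase i with hU
  have hUc : U.card = 23 := by simp [hU, hβ]
  set P : Finset (Finset β) := (range 4).biUnion fun k => U.powersetCard k with hP
  have hPmem : ∀ e, e ∈ P ↔ e ⊆ U ∧ e.card ≤ 3 := by
    intro e
    simp only [hP, mem_biUnion, mem_range, mem_powersetCard]
    constructor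
    · rintro ⟨k, hk, he, rfl⟩; exact ⟨he, by omega⟩
    · rintro ⟨he, hk⟩; exact ⟨e.card, by omega, he, rfl⟩
  have hPc : P.card = 2048 := by
    rw [hP, card_biUnion]
    · simp only [card_powersetCard, hUc, Finset.sum_range_succ, Finset.sum_range_zero]
      decide
    · intro a _ b _ hab
      rw [Function.onFun, Finset.disjoint_left]
      intro e he he'
      exact hab ((mem_powersetCard.mp he).2.symm.trans (mem_powersetCard.mp he').2)
  have hle : (D ×ˢ P).card ≤ U.powerset.card := by
    refine card_le_card_of_injOn (fun p => (p.1.erase i) ∆ p.2) ?_ ?_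
    · rintro ⟨c, e⟩ hp
      obtain ⟨-, he⟩ := mem_product.1 (mem_coe.1 hp)
      refine mem_coe.2 (mem_powerset.2 fun j hj => ?_)
      rcases Finset.mem_symmDiff.mp hj with ⟨h, -⟩ | ⟨h, -⟩
      · rw [mem_erase] at h; rw [hU, mem_erase]; exact ⟨h.1, mem_univ j⟩
      · exact ((hPmem e).1 he).1 h
    · rintro ⟨c, e⟩ hp ⟨c', e'⟩ hp' h
      obtain ⟨hc, he⟩ := mem_product.1 (mem_coe.1 hp)
      obtain ⟨hc', he'⟩ := mem_product.1 (mem_coe.1 hp')
      obtain ⟨-, hec⟩ := (hPmem e).1 he
      obtain ⟨-, hec'⟩ := (hPmem e').1 he'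
      have h1 : (c.erase i) ∆ e = (c'.erase i) ∆ e' := h
      have hsub : c ∆ c' ⊆ e ∪ e' ∪ {i} := by
        intro j hj
        by_contra hne
        simp only [mem_union, mem_singleton, not_or] at hne
        have := Finset.ext_iff.mp h1 j
        simp only [Finset.mem_symmDiff, mem_erase, hne.1.1, hne.1.2, not_false_eq_true, and_true,
          false_and, or_false, ne_eq, hne.2] at this
        simp only [Finset.mem_symmDiff] at hj
        tauto
      have hcc : c = c' := by
        by_contra hne
        have h8 := (hD c hc c' hc' hne).trans ((card_le_card hsub).trans (card_union_le _ _))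
        have := card_union_le e e'
        rw [card_singleton] at h8
        omega
      subst hcc
      rw [symmDiff_right_inj.mp h1]
  rw [card_product, hPc, card_powerset, hUc] at hle
  omega

theorem card_evenPerp_le (hβ : Fintype.card β = 24) {G : Set (Finset β)} (hsep : SeparatesSmall G) :
    (evenPerp G).card ≤ 4096 := by
  refine card_le_of_dist hβ _ fun s hs t ht hne => ?_
  by_contra hlt
  obtain ⟨g, hg, hodd⟩ := hsep (s ∆ t) (nonempty_iff_ne_empty.2 fun e => hne (symmDiff_eq_bot.1 e)) (by omega)
  have h : ((s ∆ t) ∩ g).card + 2 * (s ∩ g ∩ (t ∩ g)).card = (s ∩ g).card + (t ∩ g).card := by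
    rw [show (s ∆ t) ∩ g = (s ∩ g) ∆ (t ∩ g) by ext x; simp only [Finset.mem_symmDiff, mem_inter]; tauto,
      symmDiff_def, sup_eq_union, card_union_of_disjoint disjoint_sdiff_sdiff]
    have e1 := card_sdiff_add_card_inter (s ∩ g) (t ∩ g)
    have e2 := card_sdiff_add_card_inter (t ∩ g) (s ∩ g)
    rw [inter_comm (t ∩ g) (s ∩ g)] at e2
    omega
  have e1 := Nat.even_iff.1 (mem_evenPerp.1 hs g hg)
  have e2 := Nat.even_iff.1 (mem_evenPerp.1 ht g hg)
  rw [Nat.odd_iff] at hodd
  omega

/-- The supports of the code, as a finset. -/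
noncomputable def supportsFinset : Finset (Finset GolayPt) :=
  (supports (golayCode : Set (GolayPt → ZMod 2))).toFinite.toFinset

theorem mem_supportsFinset {s : Finset GolayPt} :
    s ∈ supportsFinset ↔ s ∈ supports (golayCode : Set (GolayPt → ZMod 2)) := Set.Finite.mem_toFinset _

theorem card_supportsFinset : supportsFinset.card = 4096 := by
  have h : supportsFinset = codeList.toFinset.image mset := by
    ext s
    rw [mem_supportsFinset, mem_supports_iff, mem_image]
    simp only [List.mem_toFinset]
  rw [h, card_image_of_injOn fun a ha b hb e => mset_inj (codeList_lt (List.mem_toFinset.1 (mem_coe.1 ha)))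
    (codeList_lt (List.mem_toFinset.1 (mem_coe.1 hb))) e, List.toFinset_card_of_nodup codeList_nodup, codeList_eq,
    List.length_map, List.length_range]

theorem supports_dvd_four {s : Finset GolayPt} (hs : s ∈ supports (golayCode : Set (GolayPt → ZMod 2))) :
    4 ∣ s.card := by
  obtain ⟨m, hm, rfl⟩ := mem_supports_iff.1 hs
  have := List.all_eq_true.1 code_weights m hm
  rw [mset_card, mcnt_eq_pcnt]
  simp only [Bool.or_eq_true, beq_iff_eq] at this
  omega

theorem supports_even_inter {s t : Finset GolayPt} (hs : s ∈ supports (golayCode : Set (GolayPt → ZMod 2)))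
    (ht : t ∈ supports (golayCode : Set (GolayPt → ZMod 2))) : Even (s ∩ t).card := by
  have h := supports_dvd_four (symmDiff_mem_supports hs ht)
  have h1 := supports_dvd_four hs
  have h2 := supports_dvd_four ht
  rw [symmDiff_def, sup_eq_union, card_union_of_disjoint disjoint_sdiff_sdiff] at h
  have e1 := card_sdiff_add_card_inter s t
  have e2 := card_sdiff_add_card_inter t s
  rw [inter_comm t s] at e2
  rw [Nat.even_iff]
  omega

theorem card_golayPt : Fintype.card GolayPt = 24 := rfl

/-- A separating family of supports determines the code. -/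
theorem mem_supports_of_even {G : Set (Finset GolayPt)}
    (hG : G ⊆ supports (golayCode : Set (GolayPt → ZMod 2))) (hsep : SeparatesSmall G) {S : Finset GolayPt}
    (hS : ∀ g ∈ G, Even (S ∩ g).card) : S ∈ supports (golayCode : Set (GolayPt → ZMod 2)) := by
  have hsub : supportsFinset ⊆ evenPerp G := fun s hs =>
    mem_evenPerp.2 fun g hg => supports_even_inter (mem_supportsFinset.1 hs) (hG hg)
  have h := eq_of_subset_of_card_le hsub (by rw [card_supportsFinset]; exact card_evenPerp_le card_golayPt hsep)
  exact mem_supportsFinset.1 (h ▸ mem_evenPerp.2 hS)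

theorem separatesSmall_image {γ : Type*} [DecidableEq γ] {G : Set (Finset β)} (hsep : SeparatesSmall G) (e : β ≃ γ) :
    SeparatesSmall ((fun b => b.image e) '' G) := by
  intro S hne hS
  obtain ⟨g, hg, hodd⟩ := hsep (S.image e.symm) (hne.image _) (card_image_le.trans hS)
  refine ⟨g.image e, ⟨g, hg, rfl⟩, ?_⟩
  rwa [show S ∩ g.image e = (S.image e.symm ∩ g).image e by
    rw [image_inter _ _ e.injective, image_image, e.self_comp_symm, image_id],
    card_image_of_injective _ e.injective]

/-- A permutation mapping a separating family of supports to supports lies in M24. -/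
theorem mem_M24_of_family {G : Set (Finset GolayPt)} (hG : G ⊆ supports (golayCode : Set (GolayPt → ZMod 2)))
    (hsep : SeparatesSmall G) {τ : Equiv.Perm GolayPt}
    (hτ : ∀ g ∈ G, τ • g ∈ supports (golayCode : Set (GolayPt → ZMod 2))) : τ ∈ M24 := by
  refine mem_M24_iff.2 fun s hs => mem_supports_of_even (G := (fun g => g.image τ) '' G) ?_
    (separatesSmall_image hsep τ) ?_
  · rintro _ ⟨g, hg, rfl⟩
    exact hτ g hg
  · rintro _ ⟨g, hg, rfl⟩
    rw [show τ • s ∩ g.image τ = (s ∩ g).image τ by rw [image_inter _ _ τ.injective]; rfl,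
      card_image_of_injective _ τ.injective]
    exact supports_even_inter hs (hG hg)

/-- The word of a set. -/
def indWord (s : Finset β) : β → ZMod 2 := fun a => if a ∈ s then 1 else 0

theorem sum_indWord (s t : Finset β) : ∑ a, indWord s a * indWord t a = ((s ∩ t).card : ZMod 2) := by
  have h : ∀ a, indWord s a * indWord t a = if a ∈ s ∩ t then 1 else 0 := fun a => by
    simp only [indWord, mem_inter]
    split_ifs <;> simp_all
  rw [sum_congr rfl fun a _ => h a, sum_boole]
  congr 2; ext a; simp

/-- The dot product as a map to the dual. -/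
noncomputable def dotPair : (β → ZMod 2) →ₗ[ZMod 2] Module.Dual (ZMod 2) (β → ZMod 2) :=
  LinearMap.mk₂ (ZMod 2) (fun v w => ∑ i, v i * w i)
    (fun v v' w => by simp [add_mul, sum_add_distrib]) (fun c v w => by simp [mul_sum, mul_assoc])
    (fun v w w' => by simp [mul_add, sum_add_distrib]) (fun c v w => by simp [mul_sum, mul_left_comm])

theorem dotPair_apply (v w : β → ZMod 2) : dotPair v w = ∑ i, v i * w i := rfl

attribute [irreducible] dotPair

/-- A separating family with even intersections is carried into the supports of the code. -/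
theorem exists_golay {α : Type*} [Fintype α] [DecidableEq α] (hα : Fintype.card α = 24) {G : Set (Finset α)}
    (heven : ∀ g ∈ G, ∀ h ∈ G, Even (g ∩ h).card) (hsep : SeparatesSmall G) :
    ∃ e : α ≃ GolayPt, ∀ g ∈ G, g.image e ∈ supports (golayCode : Set (GolayPt → ZMod 2)) := by
  classical
  let e0 : α ≃ Fin 24 := (Fintype.equivFin α).trans (finCongr hα)
  let G' : Set (Finset (Fin 24)) := (fun b => b.image e0) '' G
  have hsep' : SeparatesSmall G' := separatesSmall_image hsep e0
  have heven' : ∀ g ∈ G', ∀ h ∈ G', Even (g ∩ h).card := by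
    rintro _ ⟨g, hg, rfl⟩ _ ⟨h, hh, rfl⟩
    rw [← image_inter _ _ e0.injective, card_image_of_injective _ e0.injective]
    exact heven g hg h hh
  set C : Submodule (ZMod 2) (Fin 24 → ZMod 2) := Submodule.span (ZMod 2) (indWord '' G') with hC
  have hpinj : Function.Injective (dotPair (β := Fin 24)) := fun v w h => funext fun i => by
    have := LinearMap.congr_fun h (Pi.single i 1)
    simpa [dotPair_apply, Pi.single_apply] using this
  have horth : ∀ v ∈ C, ∀ w ∈ C, ∑ i, v i * w i = 0 := by
    have h1 : ∀ g ∈ G', ∀ w ∈ C, ∑ i, indWord g i * w i = 0 := fun g hg w hw => by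
      have hle : C ≤ LinearMap.ker (dotPair (indWord g)) := Submodule.span_le.2 (by
        rintro _ ⟨h, hh, rfl⟩
        rw [SetLike.mem_coe, LinearMap.mem_ker, dotPair_apply, sum_indWord]
        exact ZMod.natCast_eq_zero_iff_even.2 (heven' g hg h hh))
      have := LinearMap.mem_ker.1 (hle hw)
      rwa [dotPair_apply] at this
    intro v hv w hw
    have h2 : C ≤ LinearMap.ker (dotPair w) := Submodule.span_le.2 (by
      rintro _ ⟨g, hg, rfl⟩
      rw [SetLike.mem_coe, LinearMap.mem_ker, dotPair_apply, ← h1 g hg w hw]
      exact sum_congr rfl fun i _ => mul_comm _ _)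
    have := LinearMap.mem_ker.1 (h2 hv)
    rw [dotPair_apply] at this
    rw [← this]
    exact sum_congr rfl fun i _ => mul_comm _ _
  have hperp : ∀ φ ∈ C.dualAnnihilator, (univ.filter fun i => φ (Pi.single i 1) ≠ 0) ∈ evenPerp G' := by
    intro φ hφ
    refine mem_evenPerp.2 fun g hg => ?_
    rw [← ZMod.natCast_eq_zero_iff_even, ← sum_indWord]
    have h0 : φ (indWord g) = 0 := (Submodule.mem_dualAnnihilator φ).1 hφ _ (Submodule.subset_span ⟨g, hg, rfl⟩)
    refine Eq.trans ?_ h0
    conv_rhs => rw [pi_eq_sum_univ' (indWord g)]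
    rw [map_sum]
    refine sum_congr rfl fun i _ => ?_
    rw [map_smul, smul_eq_mul, mul_comm (indWord g i)]
    congr 1
    simp only [indWord, mem_filter, mem_univ, true_and]
    generalize φ (Pi.single i 1) = a
    revert a; decide
  haveI : Finite (Module.Dual (ZMod 2) (Fin 24 → ZMod 2)) := Module.finite_of_finite (ZMod 2)
  haveI : Fintype C.dualAnnihilator := Fintype.ofFinite _
  have hann : Nat.card C.dualAnnihilator ≤ 4096 := by
    rw [Nat.card_eq_fintype_card]
    refine le_trans ?_ (card_evenPerp_le (Fintype.card_fin 24) hsep')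
    rw [← Fintype.card_coe (evenPerp G')]
    refine Fintype.card_le_of_injective (fun φ => ⟨_, hperp φ.1 φ.2⟩) fun φ ψ h => ?_
    have hs := Finset.ext_iff.1 (congrArg Subtype.val h)
    refine Subtype.ext (LinearMap.pi_ext fun i x => ?_)
    have hi := hs i
    simp only [mem_filter, mem_univ, true_and] at hi
    have hx : Pi.single i x = x • (Pi.single i 1 : Fin 24 → ZMod 2) := by rw [← Pi.single_smul]; simp
    rw [hx, map_smul, map_smul]
    congr 1
    generalize φ.1 (Pi.single i 1) = a at hi
    generalize ψ.1 (Pi.single i 1) = b at hi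
    revert hi; revert a b; decide
  have hsum := Subspace.finrank_add_finrank_dualAnnihilator_eq C
  rw [Module.finrank_fin_fun] at hsum
  have hle12 : Module.finrank (ZMod 2) C.dualAnnihilator ≤ 12 := by
    rw [Module.natCard_eq_pow_finrank (K := ZMod 2), Nat.card_zmod] at hann
    exact (Nat.pow_le_pow_iff_right (show 1 < 2 by norm_num)).1 hann
  have hge : Module.finrank (ZMod 2) C ≤ Module.finrank (ZMod 2) C.dualAnnihilator := by
    rw [← LinearMap.finrank_range_of_inj (f := (dotPair (β := Fin 24)).comp C.subtype) (hpinj.comp Subtype.val_injective)]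
    refine Submodule.finrank_mono ?_
    rintro _ ⟨v, rfl⟩
    exact (Submodule.mem_dualAnnihilator _).2 fun w hw => (dotPair_apply _ _).trans (horth v v.2 w hw)
  have hcode : GolayUnique.IsCode C := by
    refine ⟨by omega, horth, fun w hw hw0 => ?_⟩
    by_contra hlt
    obtain ⟨g, hg, hodd⟩ := hsep' (univ.filter fun i => w i ≠ 0)
      (nonempty_iff_ne_empty.2 fun he => hw0 (funext fun i => by
        by_contra hi
        exact notMem_empty i (he ▸ mem_filter.2 ⟨mem_univ _, hi⟩)))
      (by show hammingNorm w ≤ 7; omega)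
    have h0 := horth w hw _ (Submodule.subset_span ⟨g, hg, rfl⟩)
    rw [show w = indWord (univ.filter fun i => w i ≠ 0) from funext fun i => by
      simp only [indWord, mem_filter, mem_univ, true_and]
      generalize w i = a
      revert a; decide, sum_indWord, ZMod.natCast_eq_zero_iff_even] at h0
    exact (Nat.not_odd_iff_even.2 h0) hodd
  obtain ⟨e1, he1⟩ := GolayUnique.exists_equiv hcode
  refine ⟨e0.trans e1, fun g hg => ?_⟩
  refine ⟨indWord (g.image (e0.trans e1)), (he1 _).2 ?_, ?_⟩
  · have : (fun i => indWord (g.image (e0.trans e1)) (e1 i)) = indWord (g.image e0) := funext fun i => by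
      simp only [indWord]
      congr 1
      rw [eq_iff_iff, mem_image, mem_image]
      simp
    rw [this]
    exact Submodule.subset_span ⟨_, ⟨g, hg, rfl⟩, rfl⟩
  · ext x
    simp [support₂, indWord]

/-- The same, together with the fact that the family determines the code. -/
theorem exists_golay_perp {α : Type*} [Fintype α] [DecidableEq α] (hα : Fintype.card α = 24) {G : Set (Finset α)}
    (heven : ∀ g ∈ G, ∀ h ∈ G, Even (g ∩ h).card) (hsep : SeparatesSmall G) :
    ∃ e : α ≃ GolayPt, (∀ g ∈ G, g.image e ∈ supports (golayCode : Set (GolayPt → ZMod 2))) ∧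
      ∀ S : Finset α, (∀ g ∈ G, Even (S ∩ g).card) →
        S.image e ∈ supports (golayCode : Set (GolayPt → ZMod 2)) := by
  obtain ⟨e, he⟩ := exists_golay hα heven hsep
  refine ⟨e, he, fun S hS => mem_supports_of_even (G := (fun b => b.image e) '' G) ?_ (separatesSmall_image hsep e) ?_⟩
  · rintro _ ⟨g, hg, rfl⟩; exact he g hg
  · rintro _ ⟨g, hg, rfl⟩
    rw [← image_inter _ _ e.injective, card_image_of_injective _ e.injective]
    exact hS g hg

end Cfsg.Lib.Concrete
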