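import Cfsg.Agent.Lib.Concrete.MonsterPairing
import Cfsg.Agent.Lib.Core.Layer
import Cfsg.Agent.Lib.PGroup.Basic

/-!
The stabiliser of a short class in a group shaped like `2^(1+24).Co1`, modulo that class, is shaped like `2^(1+22).Co2`.
-/

set_option autoImplicit false

namespace Cfsg.Lib.Concrete

open Cfsg

theorem extraspecial_of_center {R : Type*} [Group R] [Finite R] (hp : IsPGroup 2 R)
    (hZ : Nat.card (Subgroup.center R) = 2)
    (hcomm : ∀ a b : R, a * b * a⁻¹ * b⁻¹ ∈ Subgroup.center R) (hsq : ∀ a : R, a * a ∈ Subgroup.center R)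
    (hna : ∃ a b : R, a * b ≠ b * a) : IsExtraspecial 2 R := by
  haveI : Fact (Nat.Prime 2) := ⟨Nat.prime_two⟩
  have hle : commutator R ≤ Subgroup.center R := by
    rw [commutator_def, Subgroup.commutator_le]; exact fun a _ b _ => hcomm a b
  obtain ⟨a, b, hab⟩ := hna
  have heq : commutator R = Subgroup.center R := by
    refine le_antisymm hle fun c hc => ?_
    have hm : a * b * a⁻¹ * b⁻¹ ∈ commutator R :=
      Subgroup.commutator_mem_commutator (Subgroup.mem_top a) (Subgroup.mem_top b)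
    by_cases hc1 : c = 1
    · rw [hc1]; exact one_mem _
    · rw [center_eq_of_ne_one hZ hc (hle hm) hc1 fun h => hab (commutatorElement_eq_one_iff_mul_comm.1 h)]
      exact hm
  refine ⟨⟨hp, le_antisymm ?_ (heq ▸ Cfsg.Lib.PGroup.commutator_le_frattini hp), heq⟩, hZ⟩
  exact Cfsg.Lib.PGroup.frattini_le_of_commutator_le_of_pow_mem (p := 2) hle fun x => by rw [pow_two]; exact hsq x

theorem eq_of_mk_eq_of_fix {g g' : Co0} {v : leechLattice} (hv : (v : GolayPt → ℤ) ≠ 0)
    (hg : g • v = v) (hg' : g' • v = v) (h : (QuotientGroup.mk g : Spor.Co1) = QuotientGroup.mk g') : g = g' := by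
  have hc : g⁻¹ * g' ∈ Subgroup.center Co0 := QuotientGroup.eq.1 h
  obtain ⟨t, ht, hw⟩ := mem_center_apply hc 0
  have hfix : (g⁻¹ * g') • v = v := by rw [mul_smul, hg', inv_smul_eq_iff, hg]
  rcases ht with rfl | rfl
  · rw [← inv_mul_eq_one]
    exact Subtype.ext (Equiv.ext fun w => Subtype.ext (by rw [hw w, one_smul]; rfl))
  · have h0 := hw v
    rw [show ((g⁻¹ * g' : Co0) : Equiv.Perm leechLattice) v = v from hfix, neg_one_smul] at h0
    exact absurd (funext fun p => by
      have := congrFun h0 p; simp only [Pi.neg_apply] at this; simp only [Pi.zero_apply]; omega) hv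

/-- Negation. -/
def negAut : Co0 := ⟨Equiv.neg leechLattice, fun a b => neg_add a b, fun a => by
  show sqNorm (-(a : GolayPt → ℤ)) = _; simp [sqNorm]⟩

theorem negAut_center : negAut ∈ Subgroup.center Co0 := Subgroup.mem_center_iff.2 fun k => Subtype.ext (Equiv.ext fun a => by
  show (k : Equiv.Perm leechLattice) (-a) = -((k : Equiv.Perm leechLattice) a)
  exact map_neg (co0Hom k) a)

theorem leechU_norm : sqNorm ((Spor.leechU : leechLattice) : GolayPt → ℤ) = 32 :=
  show sqNorm Spor.vecU = 32 by decide +kernel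

theorem leechU_ne : ((Spor.leechU : leechLattice) : GolayPt → ℤ) ≠ 0 := fun h => by
  have := leechU_norm
  rw [h] at this; simp [sqNorm] at this

/-- The inclusion of `Co2` in `Co0`. -/
def co2Incl : Spor.Co2 →* Co0 := Subgroup.inclusion inf_le_left

theorem co2Incl_smul (g : Spor.Co2) (v : leechLattice) : co2Incl g • v = g • v := rfl

theorem co2Incl_fix (g : Spor.Co2) : co2Incl g • Spor.leechU = Spor.leechU := g.2.2

theorem co2_smul_mem {g : Spor.Co2} {x : leechLattice} (hx : x ∈ leechPerpU) : g • x ∈ leechPerpU := by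
  show (16 : ℤ) ∣ dotInt ((g • x : leechLattice) : GolayPt → ℤ) ((Spor.leechU : leechLattice) : GolayPt → ℤ)
  rw [← co2Incl_smul, ← co2Incl_fix g, co0_dot]
  exact hx

theorem baby_core {C : Type*} [Group C] [Finite C] (Q : Subgroup C) [Q.Normal] (e : C ⧸ Q ≃* Spor.Co1)
    (ψ : leechLattice → Q ⧸ Subgroup.center Q) (hadd : ∀ v w : leechLattice, ψ (v + w) = ψ v * ψ w)
    (hsurj : Function.Surjective ψ) (hker : ∀ v : leechLattice, ψ v = 1 ↔ ∃ w : leechLattice, v = w + w)
    (hconj : ∀ (h : C) (g : Co0), (QuotientGroup.mk g : Spor.Co1) = e (QuotientGroup.mk h) →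
      ∀ (v : leechLattice) (q : Q), ψ v = QuotientGroup.mk q →
        ψ (g • v) = QuotientGroup.mk (MulAut.conjNormal h q))
    (hZ : Nat.card (Subgroup.center Q) = 2) (hcard : Nat.card Q = 2 ^ 25) (tq : Q)
    (ht : ψ Spor.leechU = QuotientGroup.mk tq) (L : Subgroup C)
    (memL : ∀ l : C, l ∈ L ↔ (tq : C) * l = l * (tq : C)) {C' : Type*} [Group C'] [Finite C']
    (φ : L →* C') (hφ : Function.Surjective φ)
    (hφk : ∀ l, φ l = 1 ↔ (l : C) = 1 ∨ (l : C) = (tq : C)) :
    ∃ _ : ((Q.subgroupOf L).map φ).Normal,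
      generalizedFittingSubgroup C' = (Q.subgroupOf L).map φ ∧
      IsExtraspecial 2 ↥((Q.subgroupOf L).map φ) ∧
      Nat.card ↥((Q.subgroupOf L).map φ) = 2 ^ 23 ∧
      ∃ (e' : C' ⧸ ((Q.subgroupOf L).map φ) ≃* Spor.Co2)
        (ψ' : leechPerpU → ↥((Q.subgroupOf L).map φ) ⧸
          Subgroup.center ↥((Q.subgroupOf L).map φ)),
        (∀ x y : leechPerpU, ψ' (x + y) = ψ' x * ψ' y) ∧ Function.Surjective ψ' ∧
        (∀ x : leechPerpU, ψ' x = 1 ↔ (∃ w : leechLattice, (x : leechLattice) = w + w) ∨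
          ∃ w : leechLattice, (x : leechLattice) = Spor.leechU + (w + w)) ∧
        ∀ (h : C') (g : Spor.Co2), e' (QuotientGroup.mk h) = g → ∀ (x y : leechPerpU),
          g • (x : leechLattice) = (y : leechLattice) →
          ∀ q : ↥((Q.subgroupOf L).map φ), ψ' x = QuotientGroup.mk q →
            ψ' y = QuotientGroup.mk (MulAut.conjNormal h q) := by
  classical
  haveI : Fact (Nat.Prime 2) := ⟨Nat.prime_two⟩
  have h2 : ∀ w, ψ (w + w) = 1 := fun w => (hker _).2 ⟨w, rfl⟩
  have hbig : 2 < Nat.card Q := by rw [hcard]; norm_num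
  have hinv : ∀ g : Co0, ∃ θ : Q ≃* Q, ∀ v q, ψ v = QuotientGroup.mk q →
      ψ (g • v) = QuotientGroup.mk (θ q) := fun g => by
    obtain ⟨h, hh⟩ := QuotientGroup.mk_surjective (e.symm (QuotientGroup.mk g))
    exact ⟨MulAut.conjNormal h, hconj h g (by rw [hh, MulEquiv.apply_symm_apply])⟩
  have hab : ∀ x y : Q ⧸ Subgroup.center Q, x * y = y * x := by
    intro x y
    obtain ⟨a, rfl⟩ := hsurj x
    obtain ⟨b, rfl⟩ := hsurj y
    rw [← hadd, ← hadd, add_comm]
  have hcd : ∀ {v w : leechLattice} {a b : Q}, ψ v = QuotientGroup.mk a → ψ w = QuotientGroup.mk b →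
      (a * b = b * a ↔ (16 : ℤ) ∣ dotInt (v : GolayPt → ℤ) (w : GolayPt → ℤ)) :=
    fun {v w a b} ha hb => commute_iff_dot hadd hsurj h2 hZ hinv hbig ha hb
  have hperp : ∀ {v : leechLattice} {a : Q}, ψ v = QuotientGroup.mk a → (a * tq = tq * a ↔ v ∈ leechPerpU) :=
    fun ha => hcd ha ht
  have htc : tq ∉ Subgroup.center Q := fun h => by
    obtain ⟨w, hw⟩ := (hker _).1 (ht.trans ((QuotientGroup.eq_one_iff tq).2 h))
    have hn := congrArg (fun v : leechLattice => sqNorm (v : GolayPt → ℤ)) hw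
    simp only [leechU_norm, AddSubgroup.coe_add, sqNorm_add, dotInt_self] at hn
    have hx0 : (w : GolayPt → ℤ) ≠ 0 := fun h0 => by rw [h0] at hn; simp [sqNorm] at hn
    have := sqNorm_ge (mem_leechLattice_iff.1 w.2) hx0
    omega
  obtain ⟨c, hc, hc1⟩ : ∃ c ∈ Subgroup.center Q, c ≠ 1 := by
    obtain ⟨y, hy, -⟩ := (Nat.card_eq_two_iff' (1 : Subgroup.center Q)).1 hZ
    exact ⟨y, y.2, fun h => hy (Subtype.ext h)⟩
  have hcen : ∀ q ∈ Subgroup.center Q, q = 1 ∨ q = c := fun q hq =>
    (em (q = 1)).imp_right fun h => center_eq_of_ne_one hZ hq hc h hc1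
  have hQL : ∀ {q : Q}, q * tq = tq * q → (q : C) ∈ L := fun {q} h => (memL _).2 (congrArg Subtype.val h).symm
  have hLQ : ∀ {q : Q}, (q : C) ∈ L → q * tq = tq * q := fun {q} h => Subtype.ext ((memL _).1 h).symm
  have hcQ : ∀ {q : Q}, q ∈ Subgroup.center Q → (q : C) ∈ L := fun {q} h =>
    hQL (Subgroup.mem_center_iff.1 h tq).symm
  -- the map to the stabiliser
  have hfix : ∀ (l : L) (g : Co0), (QuotientGroup.mk g : Spor.Co1) = e (QuotientGroup.mk (l : C)) →
      ∃ g' : Co0, g' • Spor.leechU = Spor.leechU ∧ (QuotientGroup.mk g' : Spor.Co1) = QuotientGroup.mk g := by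
    intro l g hg
    have h1 : ψ (g • Spor.leechU) = ψ Spor.leechU := by
      rw [hconj l g hg _ _ ht, ht]
      congr 1
      refine Subtype.ext ?_
      show (l : C) * (tq : C) * (l : C)⁻¹ = tq
      rw [← (memL _).1 l.2, mul_inv_cancel_right]
    obtain ⟨w, hw⟩ := (hker (g • Spor.leechU - Spor.leechU)).1 (by
      have h := hadd (g • Spor.leechU - Spor.leechU) Spor.leechU
      rw [sub_add_cancel, h1] at h
      exact right_eq_mul.mp h)
    rcases close_pair Spor.leechU.2 (g • Spor.leechU).2 (leechU_norm.le.trans (by norm_num))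
      (((co0_sqNorm g _).trans leechU_norm).le.trans (by norm_num))
      ⟨_, w.2, by rw [← AddSubgroup.coe_sub, hw, AddSubgroup.coe_add, two_nsmul]⟩ with r | r | ⟨r, -⟩
    · exact ⟨g, Subtype.ext r, rfl⟩
    · refine ⟨negAut * g, ?_, ?_⟩
      · rw [mul_smul]
        show -(g • Spor.leechU) = Spor.leechU
        rw [show g • Spor.leechU = -Spor.leechU from Subtype.ext r, neg_neg]
      · rw [QuotientGroup.mk_mul, (QuotientGroup.eq_one_iff negAut).2 negAut_center, one_mul]
    · rw [leechU_norm] at r; omega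
  let ι : Spor.Co2 →* Spor.Co1 := (QuotientGroup.mk' (Subgroup.center Co0)).comp co2Incl
  have hι : Function.Injective ι := fun a b h =>
    Subgroup.inclusion_injective inf_le_left (eq_of_mk_eq_of_fix leechU_ne (co2Incl_fix a) (co2Incl_fix b) h)
  let f : L →* Spor.Co1 := (e.toMonoidHom.comp (QuotientGroup.mk' Q)).comp L.subtype
  have hrange : ∀ l, f l ∈ ι.range := by
    intro l
    obtain ⟨g, hg⟩ := QuotientGroup.mk_surjective (f l)
    obtain ⟨g', hg', he⟩ := hfix l g hg
    exact ⟨⟨(g' : Equiv.Perm leechLattice), g'.2, hg'⟩, he.trans hg⟩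
  let ρ : L →* Spor.Co2 := (MonoidHom.ofInjective hι).symm.toMonoidHom.comp (f.codRestrict ι.range hrange)
  have hρ : ∀ l, ι (ρ l) = f l := fun l => by
    show ι ((MonoidHom.ofInjective hι).symm ⟨f l, hrange l⟩) = f l
    rw [MonoidHom.apply_ofInjective_symm hι]
  have hρconj : ∀ (l : L) (v : leechLattice) (q : Q), ψ v = QuotientGroup.mk q →
      ψ (ρ l • v) = QuotientGroup.mk (MulAut.conjNormal (l : C) q) := fun l v q hq => by
    rw [← co2Incl_smul]
    exact hconj l (co2Incl (ρ l)) (hρ l) v q hq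
  have hρsurj : Function.Surjective ρ := by
    intro g
    obtain ⟨h0, hh0⟩ := QuotientGroup.mk_surjective (e.symm (ι g))
    have hh : e (QuotientGroup.mk h0) = ι g := by rw [hh0, MulEquiv.apply_symm_apply]
    have h1 := hconj h0 (co2Incl g) hh.symm _ _ ht
    rw [co2Incl_fix, ht, QuotientGroup.eq] at h1
    have done : ∀ h : C, (MulAut.conjNormal h tq : Q) = tq → e (QuotientGroup.mk h) = ι g → ∃ l, ρ l = g :=
      fun h hf hm => ⟨⟨h, (memL h).2 (by
        have h3 : h * (tq : C) * h⁻¹ = tq := congrArg Subtype.val hf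
        exact (mul_inv_eq_iff_eq_mul.1 h3).symm)⟩, hι ((hρ _).trans hm)⟩
    rcases hcen _ h1 with r | r
    · exact done h0 (inv_mul_eq_one.1 r).symm hh
    · obtain ⟨y, hy⟩ : ∃ y : Q, y * tq ≠ tq * y := by
        by_contra hall
        push Not at hall
        exact htc (Subgroup.mem_center_iff.2 hall)
      refine done ((y : C) * h0) ?_ (by rw [QuotientGroup.mk_mul, (QuotientGroup.eq_one_iff _).2 y.2, one_mul, hh])
      have r' : (MulAut.conjNormal h0 tq : Q) = tq * c := by rw [← r]; exact (mul_inv_cancel_left _ _).symm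
      have hyz : y * tq * y⁻¹ * tq⁻¹ = c :=
        (hcen _ (comm_mem_center hab y tq)).resolve_left fun e1 => hy (commutatorElement_eq_one_iff_mul_comm.1 e1)
      have hmul : MulAut.conjNormal ((y : C) * h0) tq = y * (MulAut.conjNormal h0 tq) * y⁻¹ := by
        apply Subtype.ext; simp [mul_assoc]
      rw [hmul, r']
      calc y * (tq * c) * y⁻¹ = y * tq * (c * y⁻¹) := by group
        _ = y * tq * (y⁻¹ * c) := by rw [Subgroup.mem_center_iff.1 hc y⁻¹]
        _ = (y * tq * y⁻¹ * tq⁻¹) * (tq * c) := by group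
        _ = c * (c * tq) := by rw [hyz, Subgroup.mem_center_iff.1 hc tq]
        _ = tq := by rw [← mul_assoc, center_mul_self hZ hc, one_mul]
  have hρker : ρ.ker = Q.subgroupOf L := Subgroup.ext fun l => by
    rw [MonoidHom.mem_ker, Subgroup.mem_subgroupOf, ← hι.eq_iff, hρ, map_one]
    show e (QuotientGroup.mk (l : C)) = 1 ↔ _
    rw [MulEquiv.map_eq_one_iff, QuotientGroup.eq_one_iff]
  -- the quotient
  set Qt := Q.subgroupOf L with hQt
  have hφQ : φ.ker ≤ Qt := fun l hl => by
    rw [hQt, Subgroup.mem_subgroupOf]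
    rcases (hφk l).1 hl with h | h <;> rw [h]
    · exact one_mem _
    · exact tq.2
  set R := Qt.map φ with hR
  let ρb : C' →* Spor.Co2 := MonoidHom.liftOfSurjective φ hφ ⟨ρ, hρker ▸ hφQ⟩
  have hρb : ∀ l, ρb (φ l) = ρ l := fun l => MonoidHom.liftOfRightInverse_comp_apply _ _ _ _ l
  have hρbsurj : Function.Surjective ρb := fun g => by
    obtain ⟨l, hl⟩ := hρsurj g
    exact ⟨φ l, (hρb l).trans hl⟩
  have hkerb : ρb.ker = R := Subgroup.ext fun y => by
    obtain ⟨l, rfl⟩ := hφ y
    rw [MonoidHom.mem_ker, hρb, ← MonoidHom.mem_ker, hρker, hR, ← Subgroup.mem_comap, Subgroup.comap_map_eq,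
      sup_eq_left.2 hφQ]
  haveI hRn : R.Normal := hkerb ▸ inferInstance
  refine ⟨hRn, ?_⟩
  -- order
  have hQtcard : Nat.card Qt = 2 ^ 24 := by
    have e1 : Nat.card Qt = Nat.card (pairChar hZ hab tq).ker := Nat.card_congr
      { toFun := fun l => ⟨⟨(l : L), l.2⟩, (pairChar_apply hZ hab tq _).2 (hLQ (l : L).2)⟩
        invFun := fun q => ⟨⟨(q : Q), hQL ((pairChar_apply hZ hab tq _).1 q.2)⟩, (q : Q).2⟩
        left_inv := fun l => rfl
        right_inv := fun q => rfl }
    rw [e1]
    have h1 := two_mul_card_ker hZ hab tq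
    obtain ⟨k, hk, hk'⟩ := (Nat.dvd_prime_pow Nat.prime_two).1
      (hcard ▸ Subgroup.card_subgroup_dvd_card (pairChar hZ hab tq).ker)
    have hne : k ≠ 25 := fun h => htc (Subgroup.mem_center_iff.2 fun y => (pairChar_apply hZ hab tq y).1 (by
      rw [← MonoidHom.mem_ker, Subgroup.eq_top_of_card_eq _ (hk'.trans (h ▸ hcard.symm))]
      exact Subgroup.mem_top y))
    rw [hk', hcard] at h1
    have : k = 24 := by
      by_contra hk24
      have : 2 ^ k ≤ 2 ^ 23 := Nat.pow_le_pow_right two_pos (by omega)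
      norm_num at h1
      omega
    rw [hk', this]
  have hkercard : Nat.card φ.ker = 2 := by
    have htL : (tq : C) ∈ L := (memL _).2 rfl
    refine (Nat.card_eq_two_iff' (1 : φ.ker)).2 ⟨⟨⟨_, htL⟩, (hφk _).2 (Or.inr rfl)⟩, fun h => htc ?_, fun l hl => ?_⟩
    · rw [show tq = 1 from Subtype.ext (congrArg (fun l : φ.ker => ((l : L) : C)) h)]; exact one_mem _
    · rcases (hφk _).1 l.2 with r | r
      · exact absurd (Subtype.ext (Subtype.ext r)) hl
      · exact Subtype.ext (Subtype.ext r)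
  have hRcard : Nat.card R = 2 ^ 23 := by
    have h1 := Subgroup.card_mul_index Qt
    have h2' := Subgroup.card_mul_index R
    have h3 := Subgroup.card_mul_index φ.ker
    have h4 : R.index = Qt.index := by
      rw [hR, Subgroup.index_map_eq _ hφ hφQ]
    rw [Subgroup.index_ker, MonoidHom.range_eq_top.2 hφ, Subgroup.card_top, hkercard, ← h2', ← h1, h4, hQtcard,
      ← mul_assoc] at h3
    have := Nat.eq_of_mul_eq_mul_right (Nat.pos_of_ne_zero Subgroup.index_ne_zero_of_finite) h3
    omega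
  have hRp : IsPGroup 2 R := IsPGroup.of_card hRcard
  -- elements
  let r : ∀ q : Q, q * tq = tq * q → R := fun q h =>
    ⟨φ ⟨(q : C), hQL h⟩, Subgroup.mem_map_of_mem φ (q.2 : (⟨(q : C), hQL h⟩ : L) ∈ Qt)⟩
  have rsurj : ∀ y : R, ∃ q h, r q h = y := fun y => by
    obtain ⟨l, hl, e1⟩ := y.2
    exact ⟨⟨(l : C), hl⟩, hLQ (l : L).2, Subtype.ext e1⟩
  have rmul : ∀ p q hp hq h, r (p * q) h = r p hp * r q hq := fun p q hp hq h => Subtype.ext (by
    show φ _ = φ _ * φ _
    rw [← map_mul]; rfl)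
  have rkey : ∀ p q hp hq, r p hp = r q hq → p = q ∨ p = q * tq := fun p q hp hq h => by
    have h1 : φ (⟨(q : C), hQL hq⟩⁻¹ * ⟨(p : C), hQL hp⟩) = 1 := by
      rw [map_mul, map_inv, inv_mul_eq_one]
      exact (congrArg Subtype.val h).symm
    rcases (hφk _).1 h1 with e1 | e1
    · exact Or.inl (Subtype.ext (inv_mul_eq_one.1 e1).symm)
    · exact Or.inr (Subtype.ext (inv_mul_eq_iff_eq_mul.1 e1))
  have ctq : ∀ q ∈ Subgroup.center Q, q * tq = tq * q := fun q hq => (Subgroup.mem_center_iff.1 hq tq).symm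
  have rc : ∀ q ∈ Subgroup.center Q, ∀ h, r q h ∈ Subgroup.center R := fun q hq h => Subgroup.mem_center_iff.2 fun y => by
    obtain ⟨p, hp, rfl⟩ := rsurj y
    refine Subtype.ext ?_
    show φ _ * φ _ = φ _ * φ _
    rw [← map_mul, ← map_mul]
    exact congrArg φ (Subtype.ext (congrArg (fun u : Q => (u : C)) (Subgroup.mem_center_iff.1 hq p)))
  have hRZ : ∀ y ∈ Subgroup.center R, y = 1 ∨ y = r c (ctq c hc) := by
    intro y hy
    obtain ⟨q, hq, rfl⟩ := rsurj y
    have hK : ∀ p : Q, p * tq = tq * p → q * p = p * q := by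
      intro p hp
      have h1 := Subgroup.mem_center_iff.1 hy (r p hp)
      have hqp : q * p * tq = tq * (q * p) := by rw [mul_assoc, hp, ← mul_assoc, hq, mul_assoc]
      have hpq : p * q * tq = tq * (p * q) := by rw [mul_assoc, hq, ← mul_assoc, hp, mul_assoc]
      rw [← rmul p q hp hq hpq, ← rmul q p hq hp hqp] at h1
      rcases rkey _ _ hpq hqp h1 with e1 | e1
      · exact e1.symm
      · exfalso
        refine htc ?_
        rw [show tq = (q * p)⁻¹ * (p * q) by rw [e1, inv_mul_cancel_left],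
          show (q * p)⁻¹ * (p * q) = p⁻¹ * q⁻¹ * p⁻¹⁻¹ * q⁻¹⁻¹ by group]
        exact comm_mem_center hab _ _
    have hqc : q ∈ Subgroup.center Q ∨ q * tq ∈ Subgroup.center Q := by
      by_cases hall : ∀ p : Q, q * p = p * q
      · exact Or.inl (Subgroup.mem_center_iff.2 fun p => (hall p).symm)
      right
      push Not at hall
      obtain ⟨p0, hp0⟩ := hall
      have hp0t : p0 * tq ≠ tq * p0 := fun h => hp0 (hK p0 h)
      refine Subgroup.mem_center_iff.2 fun p => ?_
      by_cases hp : p * tq = tq * p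
      · rw [← mul_assoc, ← hK p hp, mul_assoc, hp, ← mul_assoc]
      · have hpq : q * p ≠ p * q := fun h => by
          have e1 : pairChar hZ hab q (p⁻¹ * p0) = 1 :=
            (pairChar_apply hZ hab q _).2 (hK _ ((pairChar_apply hZ hab tq _).1 (by
              rw [map_mul, map_inv]
              rcases Int.units_eq_one_or (pairChar hZ hab tq p) with u | u
              · exact absurd ((pairChar_apply hZ hab tq p).1 u) hp
              rcases Int.units_eq_one_or (pairChar hZ hab tq p0) with u' | u'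
              · exact absurd ((pairChar_apply hZ hab tq p0).1 u') hp0t
              rw [u, u']; rfl))).symm
          rw [map_mul, map_inv, (pairChar_apply hZ hab q p).2 h.symm, inv_one, one_mul, pairChar_apply] at e1
          exact hp0 e1.symm
        have d1 : p * q * p⁻¹ * q⁻¹ = c :=
          (hcen _ (comm_mem_center hab p q)).resolve_left fun e1 => hpq (commutatorElement_eq_one_iff_mul_comm.1 e1).symm
        have d2 : p * tq * p⁻¹ * tq⁻¹ = c :=
          (hcen _ (comm_mem_center hab p tq)).resolve_left fun e1 => hp (commutatorElement_eq_one_iff_mul_comm.1 e1)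
        calc p * (q * tq) = (p * q * p⁻¹ * q⁻¹) * q * (p * tq * p⁻¹ * tq⁻¹) * tq * p := by group
          _ = c * q * c * tq * p := by rw [d1, d2]
          _ = (c * c) * q * tq * p := by rw [mul_assoc c q c, Subgroup.mem_center_iff.1 hc q, ← mul_assoc]
          _ = _ := by rw [center_mul_self hZ hc, one_mul]
    have hq' : ∀ h, r (q * tq) h = r q hq := fun h => Subtype.ext (by
      show φ _ = φ _
      rw [← mul_one (φ ⟨(q : C), hQL hq⟩), ← (hφk ⟨(tq : C), (memL _).2 rfl⟩).2 (Or.inr rfl), ← map_mul]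
      rfl)
    rcases hqc with h | h
    · rcases hcen _ h with e1 | e1
      · subst e1; exact Or.inl (Subtype.ext (map_one φ))
      · subst e1; exact Or.inr rfl
    · rw [← hq' (ctq _ h)]
      rcases hcen _ h with e1 | e1
      · left
        refine Subtype.ext ((hφk _).2 (Or.inl ?_))
        show ((q * tq : Q) : C) = 1
        rw [e1]; rfl
      · exact Or.inr (Subtype.ext (congrArg φ (Subtype.ext (congrArg (fun u : Q => (u : C)) e1))))
  have hrc1 : r c (ctq c hc) ≠ 1 := fun h => by
    rcases (hφk _).1 (congrArg Subtype.val h) with e1 | e1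
    · exact hc1 (Subtype.ext e1)
    · exact htc (by rw [← show c = tq from Subtype.ext e1]; exact hc)
  have hRZ2 : Nat.card (Subgroup.center R) = 2 := by
    refine (Nat.card_eq_two_iff' (1 : Subgroup.center R)).2 ⟨⟨_, rc c hc (ctq c hc)⟩, fun h => hrc1 (congrArg Subtype.val h), fun y hy => ?_⟩
    rcases hRZ _ y.2 with e1 | e1
    · exact absurd (Subtype.ext e1) hy
    · exact Subtype.ext e1
  have hRext : IsExtraspecial 2 R := by
    refine extraspecial_of_center hRp hRZ2 (fun a b => ?_) (fun a => ?_) ?_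
    · obtain ⟨p, hp, rfl⟩ := rsurj a
      obtain ⟨q, hq, rfl⟩ := rsurj b
      have hh := comm_mem_center hab p q
      convert rc _ hh (ctq _ hh) using 1
      refine Subtype.ext ?_
      show φ _ * φ _ * (φ _)⁻¹ * (φ _)⁻¹ = φ _
      rw [← map_inv, ← map_inv, ← map_mul, ← map_mul, ← map_mul]
      rfl
    · obtain ⟨p, hp, rfl⟩ := rsurj a
      have hh : p * p ∈ Subgroup.center Q := by
        obtain ⟨v, hv⟩ := hsurj (QuotientGroup.mk p)
        rw [← QuotientGroup.eq_one_iff, QuotientGroup.mk_mul, ← hv, ← hadd]; exact h2 v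
      rw [← rmul p p hp hp (ctq _ hh)]
      exact rc _ hh (ctq _ hh)
    · by_contra hall
      push Not at hall
      rw [Nat.card_congr (Equiv.subtypeUnivEquiv fun y => Subgroup.mem_center_iff.2 fun w => hall w y), hRcard] at hRZ2
      norm_num at hRZ2
  -- the module
  choose lift hlift using fun x : leechPerpU => QuotientGroup.mk_surjective (ψ (x : leechLattice))
  have hliftc : ∀ x, lift x * tq = tq * lift x := fun x => (hperp (hlift x).symm).2 x.2
  let ψ' : leechPerpU → R ⧸ Subgroup.center R := fun x => QuotientGroup.mk (r (lift x) (hliftc x))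
  have hψ' : ∀ (x : leechPerpU) (q : Q) h, ψ (x : leechLattice) = QuotientGroup.mk q →
      ψ' x = QuotientGroup.mk (r q h) := fun x q h hq => by
    obtain ⟨d, hd, e1⟩ := Cfsg.Agent.S5408.lift_unique (hlift x).symm hq
    subst e1
    show QuotientGroup.mk _ = QuotientGroup.mk _
    rw [rmul _ d (hliftc x) (ctq d hd) h, QuotientGroup.mk_mul, (QuotientGroup.eq_one_iff _).2 (rc d hd (ctq d hd)), mul_one]
  let e' : C' ⧸ R ≃* Spor.Co2 := (QuotientGroup.quotientMulEquivOfEq hkerb.symm).trans
    (QuotientGroup.quotientKerEquivOfSurjective ρb hρbsurj)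
  have he' : ∀ y : C', e' (QuotientGroup.mk y) = ρb y := fun y => rfl
  have hmapconj : ∀ (l : L) (q : Q) hq h, r (MulAut.conjNormal (l : C) q) h = MulAut.conjNormal (φ l) (r q hq) :=
    fun l q hq h => Subtype.ext (by
      show φ _ = φ l * φ _ * (φ l)⁻¹
      rw [← map_inv, ← map_mul, ← map_mul]
      exact congrArg φ (Subtype.ext rfl))
  have hprop : ∀ (y : C') (x z : leechPerpU), ρb y • (x : leechLattice) = (z : leechLattice) →
      ∀ q : R, ψ' x = QuotientGroup.mk q → ψ' z = QuotientGroup.mk (MulAut.conjNormal y q) := by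
    intro y x z hxz q hq
    obtain ⟨l, rfl⟩ := hφ y
    rw [hρb] at hxz
    have h1 := hρconj l _ _ (hlift x).symm
    rw [hxz] at h1
    rw [hψ' z _ ((hperp h1).2 z.2) h1, hmapconj l _ (hliftc x) ((hperp h1).2 z.2)]
    change QuotientGroup.mk (r (lift x) (hliftc x)) = QuotientGroup.mk q at hq
    rw [QuotientGroup.eq] at hq ⊢
    rw [← map_inv, ← map_mul]
    refine Subgroup.mem_center_iff.2 fun w => ?_
    obtain ⟨w', rfl⟩ := (MulAut.conjNormal (φ l) : MulAut R).surjective w
    rw [← map_mul, ← map_mul, Subgroup.mem_center_iff.1 hq w']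
  have hker' : ∀ x : leechPerpU, ψ' x = 1 ↔ (∃ w : leechLattice, (x : leechLattice) = w + w) ∨
      ∃ w : leechLattice, (x : leechLattice) = Spor.leechU + (w + w) := by
    intro x
    have hU : (∃ w : leechLattice, (x : leechLattice) = Spor.leechU + (w + w)) ↔
        ψ (x : leechLattice) = QuotientGroup.mk tq := by
      constructor
      · rintro ⟨w, hw⟩; rw [hw, hadd, h2, mul_one, ht]
      · intro h
        obtain ⟨w, hw⟩ := (hker ((x : leechLattice) - Spor.leechU)).1 (by
          have h' := hadd ((x : leechLattice) - Spor.leechU) Spor.leechU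
          rw [sub_add_cancel, h, ht] at h'
          exact right_eq_mul.mp h')
        exact ⟨w, by rw [← hw]; abel⟩
    rw [← hker, hU]
    constructor
    · intro h
      rcases hRZ _ ((QuotientGroup.eq_one_iff _).1 h) with e1 | e1
      · rcases (hφk _).1 (congrArg Subtype.val e1) with e2 | e2
        · left; rw [← hlift x, show lift x = 1 from Subtype.ext e2]; rfl
        · right; rw [← hlift x, show lift x = tq from Subtype.ext e2]
      · rcases rkey _ c (hliftc x) (ctq c hc) e1 with e2 | e2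
        · left; rw [← hlift x, e2, QuotientGroup.eq_one_iff]; exact hc
        · right; rw [← hlift x, e2, QuotientGroup.mk_mul, (QuotientGroup.eq_one_iff c).2 hc, one_mul]
    · rintro (h | h)
      · rw [hψ' x 1 (by rw [one_mul, mul_one]) h]
        exact (QuotientGroup.eq_one_iff _).2 (rc 1 (one_mem _) (ctq 1 (one_mem _)))
      · rw [hψ' x tq rfl h]
        refine (QuotientGroup.eq_one_iff _).2 ?_
        convert one_mem (Subgroup.center R) using 1
        exact Subtype.ext ((hφk _).2 (Or.inr rfl))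
  have hadd' : ∀ x y : leechPerpU, ψ' (x + y) = ψ' x * ψ' y := fun x y => by
    have h1 := Cfsg.Agent.S5408.lift_mul hadd (hlift x).symm (hlift y).symm
    rw [hψ' (x + y) _ ((hperp h1).2 (x + y).2) (by rw [AddSubgroup.coe_add]; exact h1), rmul _ _ (hliftc x) (hliftc y) ((hperp h1).2 (x + y).2)]
    rfl
  have hsurj' : Function.Surjective ψ' := fun y => by
    obtain ⟨y, rfl⟩ := QuotientGroup.mk_surjective y
    obtain ⟨q, hq, rfl⟩ := rsurj y
    obtain ⟨v, hv⟩ := hsurj (QuotientGroup.mk q)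
    exact ⟨⟨v, (hperp hv).1 hq⟩, hψ' _ q hq hv⟩
  refine ⟨?_, hRext, hRcard, e', ψ', hadd', hsurj', hker', fun y g hg x z hxz q hq =>
    hprop y x z (by rw [← he', hg]; exact hxz) q hq⟩
  -- the core
  have hcore : pCore 2 C' = R := by
    refine le_antisymm ?_ (Cfsg.Lib.Core.le_pCore hRp)
    have hN : ((pCore 2 C').map ρb).map co2Incl = ⊥ := by
      haveI : (pCore 2 C').Normal := inferInstance
      refine stabilizer_core leechU_norm _ ?_ (fun g hg n hn => ?_)
        (((Cfsg.Lib.Core.pCore_isPGroup 2 C').map _).map _)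
      · rintro _ ⟨a, -, rfl⟩; exact co2Incl_fix a
      · obtain ⟨a, ha, rfl⟩ := hn
        have hn' := Subgroup.Normal.map (inferInstance : (pCore 2 C').Normal) ρb hρbsurj
        exact ⟨⟨(g : Equiv.Perm leechLattice), g.2, hg⟩ * a * ⟨(g : Equiv.Perm leechLattice), g.2, hg⟩⁻¹,
          hn'.conj_mem a ha _, rfl⟩
    rw [Subgroup.map_eq_bot_iff_of_injective _ (show Function.Injective co2Incl from Subgroup.inclusion_injective inf_le_left),
      Subgroup.map_eq_bot_iff,
      hkerb] at hN
    exact hN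
  rw [← hcore, Cfsg.Lib.Core.generalizedFitting_eq_pCore_iff, hcore]
  intro y hy
  rw [← hkerb, MonoidHom.mem_ker]
  have hfixR : ∀ q : R, MulAut.conjNormal y q = q := fun q => Subtype.ext (by
    show y * (q : C') * y⁻¹ = q
    rw [← Subgroup.mem_centralizer_iff.1 hy q q.2, mul_inv_cancel_right])
  set g := co2Incl (ρb y) with hg
  have hgU : g • Spor.leechU = Spor.leechU := co2Incl_fix _
  have hdich : ∀ w : leechLattice, sqNorm (w : GolayPt → ℤ) = 32 →
      dotInt ((Spor.leechU : leechLattice) : GolayPt → ℤ) (w : GolayPt → ℤ) = -16 →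
      g • w = w ∨ g • w = -Spor.leechU - w := by
    intro w hn hd
    have hw : w ∈ leechPerpU := by
      show (16 : ℤ) ∣ dotInt (w : GolayPt → ℤ) ((Spor.leechU : leechLattice) : GolayPt → ℤ)
      rw [dotInt_comm, hd]; norm_num
    have hgw : g • w ∈ leechPerpU := co2_smul_mem hw
    set z : leechPerpU := ⟨g • w, hgw⟩
    have h1 : ψ' z = ψ' ⟨w, hw⟩ := by
      rw [hprop y ⟨w, hw⟩ z rfl _ rfl, hfixR]
    have h3 : ψ' (z - ⟨w, hw⟩) = 1 := by
      have h := hadd' (z - ⟨w, hw⟩) ⟨w, hw⟩
      rw [sub_add_cancel, h1] at h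
      exact right_eq_mul.mp h
    have hgn : sqNorm ((g • w : leechLattice) : GolayPt → ℤ) = 32 := (co0_sqNorm g w).trans hn
    have hgd : dotInt ((Spor.leechU : leechLattice) : GolayPt → ℤ) ((g • w : leechLattice) : GolayPt → ℤ) = -16 := by
      rw [← hgU, co0_dot, hd]
    set m : leechLattice := -Spor.leechU - w with hm
    have hmn : sqNorm (m : GolayPt → ℤ) = 32 := by
      rw [show (m : GolayPt → ℤ) = -(((Spor.leechU : leechLattice) : GolayPt → ℤ) + (w : GolayPt → ℤ)) by
        rw [hm, AddSubgroup.coe_sub, AddSubgroup.coe_neg]; abel, sqNorm_neg', sqNorm_add, leechU_norm, hn]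
      omega
    have hmd : dotInt ((Spor.leechU : leechLattice) : GolayPt → ℤ) (m : GolayPt → ℤ) = -16 := by
      rw [hm, AddSubgroup.coe_sub, AddSubgroup.coe_neg, sub_eq_add_neg, dotInt_add_right, dotInt_neg_right,
        dotInt_neg_right, dotInt_self, leechU_norm, hd]
      norm_num
    have hsel : ∀ v : leechLattice, sqNorm (v : GolayPt → ℤ) = 32 →
        dotInt ((Spor.leechU : leechLattice) : GolayPt → ℤ) (v : GolayPt → ℤ) = -16 →
        (∃ u : leechLattice, g • w - v = u + u) → g • w = v := by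
      intro v vn vd hu
      obtain ⟨u, hu⟩ := hu
      rcases close_pair v.2 (g • w).2 (vn.le.trans (by norm_num)) (hgn.le.trans (by norm_num))
        ⟨_, u.2, by rw [← AddSubgroup.coe_sub, hu, AddSubgroup.coe_add, two_nsmul]⟩ with e1 | e1 | ⟨e1, -⟩
      · exact Subtype.ext e1
      · rw [e1, dotInt_neg_right, vd] at hgd; omega
      · omega
    rcases (hker' _).1 h3 with ⟨u, hu⟩ | ⟨u, hu⟩
    · exact Or.inl (hsel w hn hd ⟨u, hu⟩)
    · refine Or.inr (hsel m hmn hmd ⟨Spor.leechU + u + w, ?_⟩)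
      have hu' : g • w = Spor.leechU + (u + u) + w := sub_eq_iff_eq_add.1 hu
      rw [hu', hm]; abel
  obtain ⟨h, hh⟩ := exists_smul_eq_of_moves (moves32 pairL.2 pairBase_check.2.1) (moves32 Spor.leechU.2 leechU_norm)
  have hn1 : h⁻¹ * g * h = 1 := eq_one_of_pairs (by rw [mul_smul, mul_smul, hh, hgU, ← hh, inv_smul_smul]) fun w hw => by
    rcases hdich (h • w) ((co0_sqNorm h w).trans (mem_shell.1 hw.1).2) (by
      rw [← hh, co0_dot, show ((pairL : leechLattice) : GolayPt → ℤ) = pairBase from rfl, dot_pairBase, hw.2]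
      norm_num) with e1 | e1
    · left; rw [mul_smul, mul_smul, e1, inv_smul_smul]
    · right
      rw [mul_smul, mul_smul, e1, inv_smul_eq_iff, ← hh]
      exact (by rw [map_sub, map_neg] : co0Hom h (-pairL - w) = -co0Hom h pairL - co0Hom h w).symm
  have hg1 : g = 1 := by
    rw [show g = h * (h⁻¹ * g * h) * h⁻¹ by group, hn1]; group
  exact Subgroup.inclusion_injective inf_le_left (hg1.trans (map_one _).symm)

end Cfsg.Lib.Concrete
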