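import Mathlib

/-!
Element orders of alternating groups via cycle types.
-/

set_option autoImplicit false

namespace Cfsg.Lib.Concrete

open Equiv Equiv.Perm

theorem exists_mem_of_prime_dvd_lcm {r : ℕ} (hr : r.Prime) : ∀ {m : Multiset ℕ}, r ∣ m.lcm → ∃ a ∈ m, r ∣ a := by
  intro m
  induction m using Multiset.induction_on with
  | empty => intro h; simp at h; exact absurd h hr.ne_one
  | cons a m ih =>
    intro h
    rw [Multiset.lcm_cons] at h
    rcases hr.dvd_mul.1 (h.trans (Nat.lcm_dvd_mul _ _)) with h | h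
    · exact ⟨a, Multiset.mem_cons_self _ _, h⟩
    · obtain ⟨b, hb, hb'⟩ := ih h
      exact ⟨b, Multiset.mem_cons_of_mem hb, hb'⟩

theorem even_sum_add_card_of_odd : ∀ (m : Multiset ℕ), (∀ a ∈ m, Odd a) → Even (m.sum + m.card) := by
  intro m
  induction m using Multiset.induction_on with
  | empty => simp
  | cons a m ih =>
    intro h
    have h1 := ih fun b hb => h b (Multiset.mem_cons_of_mem hb)
    have h2 := h a (Multiset.mem_cons_self _ _)
    rw [Multiset.sum_cons, Multiset.card_cons]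
    rw [Nat.odd_iff] at h2
    rw [Nat.even_iff] at h1 ⊢
    omega

/-- An alternating group contains an element of every admissible even cycle type. -/
theorem exists_alt_orderOf {n : ℕ} (m : Multiset ℕ) (hsum : m.sum ≤ n) (h2 : ∀ a ∈ m, 2 ≤ a)
    (hev : Even (m.sum + m.card)) :
    m.lcm ∈ Set.range (orderOf : alternatingGroup (Fin n) → ℕ) := by
  obtain ⟨g, hg⟩ := (Equiv.Perm.exists_with_cycleType_iff (Fin n) (m := m)).2
    ⟨by simpa using hsum, h2⟩
  refine ⟨⟨g, ?_⟩, ?_⟩
  · rw [Equiv.Perm.mem_alternatingGroup, sign_of_cycleType, hg, hev.neg_one_pow]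
  · rw [← Subgroup.orderOf_coe, ← lcm_cycleType, hg]

/-- Data of an element of an alternating group of given order. -/
theorem alt_cycleType_data {n k : ℕ} (h : k ∈ Set.range (orderOf : alternatingGroup (Fin n) → ℕ)) :
    ∃ m : Multiset ℕ, m.sum ≤ n ∧ (∀ a ∈ m, 2 ≤ a) ∧ Even (m.sum + m.card) ∧ m.lcm = k := by
  obtain ⟨⟨g, hg⟩, rfl⟩ := h
  refine ⟨g.cycleType, by simpa using sum_cycleType_le g, fun a ha => two_le_of_mem_cycleType ha, ?_, ?_⟩
  · rw [Equiv.Perm.mem_alternatingGroup, sign_of_cycleType] at hg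
    by_contra hodd
    rw [(Nat.not_even_iff_odd.1 hodd).neg_one_pow] at hg
    exact absurd hg (by decide)
  · rw [← Subgroup.orderOf_coe, lcm_cycleType]

end Cfsg.Lib.Concrete
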