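import Mathlib

/-!
A group of order `2 p ^ 3` with self-centralising projective representations of unbounded degree.
-/

set_option autoImplicit false

namespace Cfsg.Lib.Concrete.Bricks

open Matrix

variable {p : ℕ} [Fact p.Prime]

/-- The elementary abelian part. -/
abbrev Tri (p : ℕ) : Type := Multiplicative (Fin 3 → ZMod p)

/-- Inversion. -/
def invAct : ℤˣ →* MulAut (Tri p) where
  toFun ε := if ε = 1 then 1 else MulEquiv.inv (Tri p)
  map_one' := if_pos rfl
  map_mul' a b := by
    rcases Int.units_eq_one_or a with rfl | rfl <;> rcases Int.units_eq_one_or b with rfl | rfl <;>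
      refine MulEquiv.ext fun x => ?_ <;> simp

/-- The group. -/
abbrev Grp (p : ℕ) [Fact p.Prime] : Type := Tri p ⋊[invAct] ℤˣ

variable (p) (m : ℕ)

/-- The upper shift. -/
def shiftUp : Matrix (Fin m) (Fin m) (ZMod p) := fun i j => if j.val = i.val + 1 then 1 else 0

/-- The lower shift. -/
def shiftDown : Matrix (Fin m) (Fin m) (ZMod p) := (shiftUp p m)ᵀ

/-- The corner of the image of a triple. -/
def corner (v : Fin 3 → ZMod p) : Matrix (Fin m) (Fin m) (ZMod p) := v 0 • 1 + v 1 • shiftUp p m + v 2 • shiftDown p m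

variable {p m}

theorem eq_scalar_of_commute_shifts {A : Matrix (Fin m) (Fin m) (ZMod p)} (h1 : A * shiftUp p m = shiftUp p m * A)
    (h2 : A * shiftDown p m = shiftDown p m * A) : ∃ a : ZMod p, A = a • 1 := by
  have hsum : ∀ (M : Matrix (Fin m) (Fin m) (ZMod p)) (i : Fin m) (j : ℕ) (hj : j + 1 < m),
      (M * shiftUp p m) i ⟨j + 1, hj⟩ = M i ⟨j, by omega⟩ ∧
      (shiftUp p m * M) ⟨j, by omega⟩ i = M ⟨j + 1, hj⟩ i := by
    intro M i j hj
    constructor
    · rw [Matrix.mul_apply, Finset.sum_eq_single ⟨j, by omega⟩]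
      · simp [shiftUp]
      · intro k _ hk
        rw [shiftUp, if_neg (fun e => hk (Fin.ext (show k.val = j by simp only at e; omega))), mul_zero]
      · simp
    · rw [Matrix.mul_apply, Finset.sum_eq_single ⟨j + 1, hj⟩]
      · simp [shiftUp]
      · intro k _ hk
        rw [shiftUp, if_neg (fun e => hk (Fin.ext (by simpa using e))), zero_mul]
      · simp
  have hzero : ∀ (M : Matrix (Fin m) (Fin m) (ZMod p)), M * shiftUp p m = shiftUp p m * M →
      ∀ (j i : ℕ) (hi : i < m) (hj : j < m), j < i → M ⟨i, hi⟩ ⟨j, hj⟩ = 0 := by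
    intro M hM j
    induction j with
    | zero =>
      intro i hi hj hlt
      obtain ⟨k, rfl⟩ := Nat.exists_eq_succ_of_ne_zero hlt.ne'
      have h := congrFun (congrFun hM ⟨k, by omega⟩) ⟨0, hj⟩
      rw [(hsum M ⟨0, hj⟩ k hi).2, Matrix.mul_apply, Finset.sum_eq_zero fun l _ => by simp [shiftUp]] at h
      exact h.symm
    | succ j ih =>
      intro i hi hj hlt
      obtain ⟨k, rfl⟩ := Nat.exists_eq_succ_of_ne_zero (Nat.ne_of_gt (by omega : 0 < i))
      have h := congrFun (congrFun hM ⟨k, by omega⟩) ⟨j + 1, hj⟩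
      rw [(hsum M ⟨k, by omega⟩ j hj).1, (hsum M ⟨j + 1, hj⟩ k hi).2, ih k (by omega) (by omega) (by omega)] at h
      exact h.symm
  rcases Nat.eq_zero_or_pos m with rfl | hm
  · exact ⟨0, Matrix.ext fun i => i.elim0⟩
  refine ⟨A ⟨0, hm⟩ ⟨0, hm⟩, ?_⟩
  have hdiag : ∀ (i : ℕ) (hi : i < m), A ⟨i, hi⟩ ⟨i, hi⟩ = A ⟨0, hm⟩ ⟨0, hm⟩ := by
    intro i
    induction i with
    | zero => exact fun _ => rfl
    | succ i ih =>
      intro hi
      have h := congrFun (congrFun h1 ⟨i, by omega⟩) ⟨i + 1, hi⟩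
      rw [(hsum A ⟨i, by omega⟩ i hi).1, (hsum A ⟨i + 1, hi⟩ i hi).2] at h
      rw [← h, ih]
  have h2' : Aᵀ * shiftUp p m = shiftUp p m * Aᵀ := by
    have := congrArg Matrix.transpose h2
    rw [shiftDown, Matrix.transpose_mul, Matrix.transpose_mul, Matrix.transpose_transpose] at this
    exact this.symm
  ext ⟨i, hi⟩ ⟨j, hj⟩
  rcases lt_trichotomy i j with h | h | h
  · have := hzero _ h2' i j hj hi h
    rw [Matrix.transpose_apply] at this
    rw [this, Matrix.smul_apply, Matrix.one_apply_ne (fun e => h.ne (congrArg Fin.val e)), smul_zero]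
  · subst h
    simp [hdiag i hi]
  · rw [hzero A h1 j i hi hj h, Matrix.smul_apply, Matrix.one_apply_ne (fun e => h.ne' (congrArg Fin.val e)), smul_zero]

theorem corner_add (v w : Fin 3 → ZMod p) : corner p m (v + w) = corner p m v + corner p m w := by
  simp only [corner, Pi.add_apply, add_smul]
  abel

theorem corner_injective (hm : 2 ≤ m) {v : Fin 3 → ZMod p} (h : corner p m v = 0) : v = 0 := by
  have h00 := congrFun (congrFun h ⟨0, by omega⟩) ⟨0, by omega⟩
  have h01 := congrFun (congrFun h ⟨0, by omega⟩) ⟨1, by omega⟩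
  have h10 := congrFun (congrFun h ⟨1, by omega⟩) ⟨0, by omega⟩
  simp [corner, shiftUp, shiftDown, Matrix.add_apply, Matrix.one_apply] at h00 h01 h10
  funext i
  fin_cases i
  exacts [h00, h01, h10]

/-- The representation into SL. -/
def rep (hm : Even m) : Grp p →* Matrix.SpecialLinearGroup (Fin m ⊕ Fin m) (ZMod p) :=
  SemidirectProduct.lift
    { toFun := fun v => ⟨Matrix.fromBlocks 1 0 (corner p m (Multiplicative.toAdd v)) 1, by
        rw [Matrix.det_fromBlocks_zero₁₂, Matrix.det_one, mul_one]⟩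
      map_one' := Subtype.ext (by
        show Matrix.fromBlocks 1 0 (corner p m 0) 1 = 1
        simp [corner, fromBlocks_one])
      map_mul' := fun v w => Subtype.ext (by
        show Matrix.fromBlocks 1 0 (corner p m (Multiplicative.toAdd v + Multiplicative.toAdd w)) 1 =
          Matrix.fromBlocks 1 0 _ 1 * Matrix.fromBlocks 1 0 _ 1
        rw [fromBlocks_multiply, corner_add]
        simp [add_comm]) }
    { toFun := fun ε => ⟨Matrix.fromBlocks (((ε : ℤ) : ZMod p) • (1 : Matrix (Fin m) (Fin m) (ZMod p))) 0 0 1, by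
        rw [Matrix.det_fromBlocks_zero₁₂, Matrix.det_smul, Matrix.det_one, mul_one, mul_one, Fintype.card_fin]
        rcases Int.units_eq_one_or ε with rfl | rfl
        · simp
        · simp [hm.neg_one_pow]⟩
      map_one' := Subtype.ext (by
        show Matrix.fromBlocks _ 0 0 1 = (1 : Matrix _ _ _)
        simp [fromBlocks_one])
      map_mul' := fun a b => Subtype.ext (by
        show Matrix.fromBlocks _ 0 0 1 = Matrix.fromBlocks _ 0 0 1 * Matrix.fromBlocks _ 0 0 1
        rw [fromBlocks_multiply]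
        simp [smul_smul, mul_comm]) }
    (fun ε => by
      refine MonoidHom.ext fun v => ?_
      simp only [MonoidHom.comp_apply, MulEquiv.coe_toMonoidHom, MulAut.conj_apply]
      rw [eq_mul_inv_iff_mul_eq]
      refine Subtype.ext ?_
      rcases Int.units_eq_one_or ε with rfl | rfl
      · show Matrix.fromBlocks 1 0 (corner p m (Multiplicative.toAdd v)) 1 * Matrix.fromBlocks _ 0 0 1 =
          Matrix.fromBlocks _ 0 0 1 * Matrix.fromBlocks 1 0 _ 1
        rw [fromBlocks_multiply, fromBlocks_multiply]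
        simp
      · show Matrix.fromBlocks 1 0 (corner p m (-Multiplicative.toAdd v)) 1 * Matrix.fromBlocks _ 0 0 1 =
          Matrix.fromBlocks _ 0 0 1 * Matrix.fromBlocks 1 0 _ 1
        rw [fromBlocks_multiply, fromBlocks_multiply]
        simp [corner]
        abel)

theorem rep_inl (hm : Even m) (v : Fin 3 → ZMod p) :
    (rep hm (SemidirectProduct.inl (Multiplicative.ofAdd v)) : Matrix (Fin m ⊕ Fin m) (Fin m ⊕ Fin m) (ZMod p)) =
      Matrix.fromBlocks 1 0 (corner p m v) 1 := by
  rw [rep, SemidirectProduct.lift_inl]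
  rfl

theorem rep_inr (hm : Even m) (ε : ℤˣ) :
    (rep hm (SemidirectProduct.inr ε : Grp p) : Matrix (Fin m ⊕ Fin m) (Fin m ⊕ Fin m) (ZMod p)) =
      Matrix.fromBlocks (((ε : ℤ) : ZMod p) • 1) 0 0 1 := by
  rw [rep, SemidirectProduct.lift_inr]
  rfl

theorem card_grp : Nat.card (Grp p) = 2 * p ^ 3 := by
  have e : Grp p ≃ Tri p × ℤˣ := SemidirectProduct.equivProd
  rw [Nat.card_congr e, Nat.card_prod, Nat.card_eq_fintype_card (α := ℤˣ)]
  simp [mul_comm]

theorem scalar_of_rep (hp : p ≠ 2) (hm : Even m) (hm2 : 2 ≤ m) {h : Grp p} {r : ZMod p}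
    (hr : (rep hm h : Matrix (Fin m ⊕ Fin m) (Fin m ⊕ Fin m) (ZMod p)) = r • 1) : h = 1 := by
  rw [← SemidirectProduct.inl_left_mul_inr_right h, map_mul, Matrix.SpecialLinearGroup.coe_mul,
    show h.left = Multiplicative.ofAdd (Multiplicative.toAdd h.left) from rfl, rep_inl, rep_inr,
    fromBlocks_multiply, ← fromBlocks_one, fromBlocks_smul, fromBlocks_inj] at hr
  obtain ⟨ha, -, hc, hd⟩ := hr
  simp only [Matrix.mul_one, Matrix.one_mul, Matrix.mul_zero, Matrix.zero_mul, add_zero, zero_add, smul_zero] at ha hc hd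
  have hr1 : r = 1 := by
    have := congrFun (congrFun hd ⟨0, by omega⟩) ⟨0, by omega⟩
    simpa using this.symm
  subst hr1
  have hε : h.right = 1 := by
    rcases Int.units_eq_one_or h.right with e | e
    · exact e
    · exfalso
      have := congrFun (congrFun ha ⟨0, by omega⟩) ⟨0, by omega⟩
      rw [e] at this
      simp at this
      have h2 : ((2 : ℕ) : ZMod p) = 0 := by
        push_cast
        linear_combination -this
      exact hp ((Nat.prime_dvd_prime_iff_eq Fact.out Nat.prime_two).1 ((ZMod.natCast_eq_zero_iff 2 p).1 h2))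
  rw [hε] at hc
  simp at hc
  refine SemidirectProduct.ext ?_ hε
  exact Multiplicative.toAdd.injective (corner_injective hm2 hc)

theorem scalar_of_centralizes (hp : p ≠ 2) (hm : Even m) {G : Matrix (Fin m ⊕ Fin m) (Fin m ⊕ Fin m) (ZMod p)}
    (hG : G.det = 1) (hcomm : ∀ h : Grp p, ∃ c : ZMod p, G * (rep hm h).1 = c • ((rep hm h).1 * G)) :
    ∃ a : ZMod p, G = a • 1 := by
  set A := G.toBlocks₁₁ with hA
  set B := G.toBlocks₁₂ with hB
  set C := G.toBlocks₂₁ with hC
  set D := G.toBlocks₂₂ with hD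
  have hGb : G = Matrix.fromBlocks A B C D := (fromBlocks_toBlocks G).symm
  have hunip : ∀ v : Fin 3 → ZMod p, A + B * corner p m v = A ∧ C + D * corner p m v = corner p m v * A + C := by
    intro v
    obtain ⟨c, hc⟩ := hcomm (SemidirectProduct.inl (Multiplicative.ofAdd v))
    set U := rep hm (SemidirectProduct.inl (Multiplicative.ofAdd v) : Grp p) with hUdef
    have hUp : U ^ p = 1 := by
      rw [hUdef, ← map_pow, ← map_pow, ← ofAdd_nsmul]
      simp
    have hpow : ∀ k : ℕ, G * U.1 ^ k = c ^ k • (U.1 ^ k * G) := by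
      intro k
      induction k with
      | zero => simp
      | succ k ih =>
        rw [pow_succ, ← Matrix.mul_assoc, ih, Matrix.smul_mul, Matrix.mul_assoc, hc, Matrix.mul_smul, smul_smul,
          ← Matrix.mul_assoc, ← pow_succ, ← pow_succ]
    have h1 := hpow p
    rw [← Matrix.SpecialLinearGroup.coe_pow, hUp, Matrix.SpecialLinearGroup.coe_one, Matrix.mul_one, Matrix.one_mul,
      ZMod.pow_card] at h1
    have hm0 : m = 0 ∨ 0 < m := Nat.eq_zero_or_pos m
    have hc1 : c = 1 ∨ m = 0 := by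
      rcases hm0 with h0 | h0
      · exact Or.inr h0
      left
      by_contra hne
      have hz : (c - 1) • G = 0 := by rw [sub_smul, one_smul, ← h1, sub_self]
      rcases smul_eq_zero.1 hz with h | h
      · exact hne (sub_eq_zero.1 h)
      · have : Nonempty (Fin m ⊕ Fin m) := ⟨Sum.inl ⟨0, h0⟩⟩
        rw [h, Matrix.det_zero] at hG
        exact zero_ne_one hG
    rcases hc1 with rfl | h0
    · rw [one_smul, hUdef, rep_inl, hGb, fromBlocks_multiply, fromBlocks_multiply, fromBlocks_inj] at hc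
      simp only [Matrix.mul_one, Matrix.one_mul, Matrix.mul_zero, Matrix.zero_mul, add_zero, zero_add] at hc
      exact ⟨hc.1, hc.2.2.1⟩
    · subst h0
      exact ⟨Matrix.ext fun i => i.elim0, Matrix.ext fun i => i.elim0⟩
  have e0 : corner p m (Pi.single 0 1) = 1 := by simp [corner]
  have e1 : corner p m (Pi.single 1 1) = shiftUp p m := by simp [corner]
  have e2 : corner p m (Pi.single 2 1) = shiftDown p m := by simp [corner]
  obtain ⟨hB0, hDA⟩ := hunip (Pi.single 0 1)
  rw [e0, Matrix.mul_one] at hB0 hDA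
  rw [Matrix.one_mul, add_comm A C, add_right_inj] at hDA
  have hB' : B = 0 := by simpa using hB0
  have hT : A * shiftUp p m = shiftUp p m * A := by
    have := (hunip (Pi.single 1 1)).2
    rw [e1, hDA, add_comm _ C, add_right_inj] at this
    exact this
  have hS : A * shiftDown p m = shiftDown p m * A := by
    have := (hunip (Pi.single 2 1)).2
    rw [e2, hDA, add_comm _ C, add_right_inj] at this
    exact this
  obtain ⟨a, ha⟩ := eq_scalar_of_commute_shifts hT hS
  obtain ⟨c, hc⟩ := hcomm (SemidirectProduct.inr (-1))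
  rw [rep_inr, hGb, fromBlocks_multiply, fromBlocks_multiply, fromBlocks_smul, fromBlocks_inj] at hc
  simp only [Units.val_neg, Units.val_one, Int.cast_neg, Int.cast_one, neg_smul, one_smul, Matrix.mul_one, Matrix.one_mul,
    Matrix.mul_zero, Matrix.zero_mul, add_zero, zero_add, Matrix.mul_neg, Matrix.neg_mul, smul_neg, neg_inj] at hc
  refine ⟨a, ?_⟩
  rcases Nat.eq_zero_or_pos m with rfl | hmpos
  · exact Matrix.ext fun i => (i.elim (fun x => x.elim0) (fun x => x.elim0))
  have ha0 : a ≠ 0 := by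
    intro h0
    rw [hGb, hB', Matrix.det_fromBlocks_zero₁₂, ha, h0, zero_smul] at hG
    have : Nonempty (Fin m) := ⟨⟨0, hmpos⟩⟩
    rw [Matrix.det_zero, zero_mul] at hG
    exact zero_ne_one hG
  have hc1 : c = 1 := by
    have := congrFun (congrFun hc.1 ⟨0, hmpos⟩) ⟨0, hmpos⟩
    rw [ha] at this
    simp [Matrix.smul_apply] at this
    exact (mul_eq_right₀ ha0).1 this.symm
  have hC' : C = 0 := by
    have h := hc.2.2.1
    rw [hc1, one_smul] at h
    ext i j
    have hij : -C i j = C i j := congrFun (congrFun h i) j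
    have h2 : (2 : ZMod p) ≠ 0 := fun e =>
      hp ((Nat.prime_dvd_prime_iff_eq Fact.out Nat.prime_two).1 ((ZMod.natCast_eq_zero_iff 2 p).1 (by exact_mod_cast e)))
    exact (mul_eq_zero.1 (show (2 : ZMod p) * C i j = 0 by linear_combination -hij)).resolve_left h2
  rw [hGb, hB', hC', hDA, ha, ← fromBlocks_one, fromBlocks_smul, smul_zero]

theorem exists_group (hp : p ≠ 2) :
    ∃ (H : Type) (_ : Group H) (_ : Finite H), Nat.card H = 2 * p ^ 3 ∧
      ∀ N : ℕ, ∃ n, N ≤ n ∧ ∃ φ : H →* Matrix.ProjectiveSpecialLinearGroup (Fin n) (ZMod p),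
        Function.Injective φ ∧
          Subgroup.centralizer (φ.range : Set (Matrix.ProjectiveSpecialLinearGroup (Fin n) (ZMod p))) = ⊥ := by
  refine ⟨Grp p, inferInstance, Nat.finite_of_card_ne_zero (by
    rw [card_grp]; exact mul_ne_zero two_ne_zero (pow_ne_zero _ (Fact.out : p.Prime).ne_zero)), card_grp, fun N => ?_⟩
  set m := 2 * (N + 1) with hm
  have hme : Even m := even_two_mul _
  let e : Fin m ⊕ Fin m ≃ Fin (m + m) := finSumFinEquiv
  let θ : Matrix.SpecialLinearGroup (Fin m ⊕ Fin m) (ZMod p) →* Matrix.SpecialLinearGroup (Fin (m + m)) (ZMod p) :=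
    { toFun := fun A => ⟨Matrix.reindexAlgEquiv (ZMod p) _ e A.1, by rw [Matrix.det_reindexAlgEquiv]; exact A.2⟩
      map_one' := Subtype.ext (map_one (Matrix.reindexAlgEquiv (ZMod p) (ZMod p) e))
      map_mul' := fun A B => Subtype.ext (map_mul (Matrix.reindexAlgEquiv (ZMod p) (ZMod p) e) A.1 B.1) }
  refine ⟨m + m, by omega, (QuotientGroup.mk' _).comp (θ.comp (rep hme)), ?_, ?_⟩
  · refine (injective_iff_map_eq_one _).2 fun h hh => ?_
    rw [MonoidHom.comp_apply, QuotientGroup.mk'_apply, QuotientGroup.eq_one_iff,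
      Matrix.SpecialLinearGroup.mem_center_iff] at hh
    obtain ⟨r, -, hr⟩ := hh
    refine scalar_of_rep hp hme (by omega) (r := r) ?_
    refine (Matrix.reindexAlgEquiv (ZMod p) (ZMod p) e).injective ?_
    rw [map_smul, map_one]
    refine Eq.trans hr.symm ?_
    rw [← Matrix.diagonal_one, ← Matrix.diagonal_smul]
    simp [Matrix.scalar_apply, Pi.smul_def]
  · rw [Subgroup.eq_bot_iff_forall]
    intro g hg
    obtain ⟨g, rfl⟩ := QuotientGroup.mk_surjective g
    rw [QuotientGroup.eq_one_iff, Matrix.SpecialLinearGroup.mem_center_iff]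
    let G : Matrix (Fin m ⊕ Fin m) (Fin m ⊕ Fin m) (ZMod p) := (Matrix.reindexAlgEquiv (ZMod p) (ZMod p) e).symm g.1
    have hGdet : G.det = 1 := by
      have h := Matrix.det_reindexAlgEquiv (ZMod p) (ZMod p) e G
      rw [AlgEquiv.apply_symm_apply] at h
      exact h.symm.trans g.2
    obtain ⟨a, ha⟩ := scalar_of_centralizes hp hme hGdet fun h => by
      have := Subgroup.mem_centralizer_iff.1 hg _ ⟨h, rfl⟩
      rw [MonoidHom.comp_apply, QuotientGroup.mk'_apply, ← QuotientGroup.mk_mul, ← QuotientGroup.mk_mul,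
        QuotientGroup.eq, Matrix.SpecialLinearGroup.mem_center_iff] at this
      obtain ⟨r, -, hr⟩ := this
      simp only [MonoidHom.comp_apply] at hr
      refine ⟨r, (Matrix.reindexAlgEquiv (ZMod p) (ZMod p) e).injective ?_⟩
      rw [map_mul, map_smul, map_mul, AlgEquiv.apply_symm_apply]
      have h1 : (θ (rep hme h) * g) * ((θ (rep hme h) * g)⁻¹ * (g * θ (rep hme h))) = g * θ (rep hme h) :=
        mul_inv_cancel_left _ _
      have h2 := congrArg Subtype.val h1
      rw [Matrix.SpecialLinearGroup.coe_mul, Matrix.SpecialLinearGroup.coe_mul _ g,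
        Matrix.SpecialLinearGroup.coe_mul g] at h2
      rw [← hr] at h2
      change Matrix.reindexAlgEquiv (ZMod p) (ZMod p) e (rep hme h).1 * g.1 * Matrix.scalar _ r =
        g.1 * Matrix.reindexAlgEquiv (ZMod p) (ZMod p) e (rep hme h).1 at h2
      rw [← h2, Matrix.scalar_apply, ← Matrix.smul_one_eq_diagonal, Matrix.mul_smul, Matrix.mul_one]
    have hga : g.1 = a • (1 : Matrix (Fin (m + m)) (Fin (m + m)) (ZMod p)) := by
      have h := congrArg (Matrix.reindexAlgEquiv (ZMod p) (ZMod p) e) ha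
      rwa [AlgEquiv.apply_symm_apply, map_smul, map_one] at h
    refine ⟨a, ?_, by rw [hga, Matrix.scalar_apply, Matrix.smul_one_eq_diagonal]⟩
    have hd := g.2
    rw [hga, Matrix.det_smul, Matrix.det_one, mul_one] at hd
    exact hd

end Cfsg.Lib.Concrete.Bricks
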