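import Cfsg.Agent.Lib.Concrete.OrbitStd

/-!
Images of masks by look-up in byte tables.
-/

set_option autoImplicit false

namespace Cfsg.Lib.Concrete

/-- Three tables of 256 images of one byte each. -/
structure ByteTab where
  t0 : ℕ
  t1 : ℕ
  t2 : ℕ

/-- The image of a mask by look-up. -/
def bimg (T : ByteTab) (m : ℕ) : ℕ :=
  Nat.lor (field 24 T.t0 (Nat.land m 255))
    (Nat.lor (field 24 T.t1 (Nat.land (Nat.shiftRight m 8) 255))
      (field 24 T.t2 (Nat.land (Nat.shiftRight m 16) 255)))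

/-- The tables agree with the permutation. -/
def byteTabOk (p : ℕ) (T : ByteTab) : Bool :=
  (List.range 256).all fun b => Nat.beq (field 24 T.t0 b) (pimg p b) &&
    Nat.beq (field 24 T.t1 b) (pimg p (Nat.shiftLeft b 8)) &&
    Nat.beq (field 24 T.t2 b) (pimg p (Nat.shiftLeft b 16))

theorem pimg_or (p a b : ℕ) : pimg p (a ||| b) = pimg p a ||| pimg p b := by
  refine Nat.eq_of_testBit_eq fun j => Bool.eq_iff_iff.2 ?_
  rw [Nat.testBit_or, Bool.or_eq_true, pimg, pimg, pimg, testBit_orMask, testBit_orMask, testBit_orMask]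
  simp only [Nat.testBit_or, Bool.or_eq_true]
  constructor
  · rintro ⟨i, hi, h | h, e⟩
    · exact Or.inl ⟨i, hi, h, e⟩
    · exact Or.inr ⟨i, hi, h, e⟩
  · rintro (⟨i, hi, h, e⟩ | ⟨i, hi, h, e⟩)
    · exact ⟨i, hi, Or.inl h, e⟩
    · exact ⟨i, hi, Or.inr h, e⟩

theorem pimg_low (p m : ℕ) :
    pimg p m = pimg p ((m &&& 255) ||| (((m >>> 8 &&& 255) <<< 8) ||| ((m >>> 16 &&& 255) <<< 16))) := by
  refine Nat.eq_of_testBit_eq fun j => Bool.eq_iff_iff.2 ?_
  rw [pimg, pimg, testBit_orMask, testBit_orMask]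
  have key : ∀ i < 24, ((m &&& 255) ||| (((m >>> 8 &&& 255) <<< 8) ||| ((m >>> 16 &&& 255) <<< 16))).testBit i =
      m.testBit i := by
    intro i hi
    simp only [Nat.testBit_or, Nat.testBit_and, Nat.testBit_shiftLeft, Nat.testBit_shiftRight,
      show (255 : ℕ) = 2 ^ 8 - 1 from rfl, Nat.testBit_two_pow_sub_one]
    rcases lt_or_ge i 8 with h | h
    · simp [h, show ¬ (8 ≤ i) by omega, show ¬ (16 ≤ i) by omega]
    rcases lt_or_ge i 16 with h' | h'
    · simp [show ¬ (i < 8) by omega, h, show i - 8 < 8 by omega, show ¬ (16 ≤ i) by omega, Nat.add_sub_cancel' h]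
    · simp [show ¬ (i < 8) by omega, h, h', show ¬ (i - 8 < 8) by omega, show i - 16 < 8 by omega,
        Nat.add_sub_cancel' h']
  constructor <;> rintro ⟨i, hi, h, e⟩ <;> refine ⟨i, hi, ?_, e⟩
  · rwa [key i (mem_bits24.1 hi)]
  · rwa [key i (mem_bits24.1 hi)] at h

theorem bimg_eq {p : ℕ} {T : ByteTab} (h : byteTabOk p T = true) (m : ℕ) : bimg T m = pimg p m := by
  simp only [byteTabOk, List.all_eq_true, List.mem_range, Bool.and_eq_true, Nat.beq_eq] at h
  have hb : ∀ x : ℕ, x &&& 255 < 256 := fun x => Nat.lt_succ_of_le Nat.and_le_right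
  rw [pimg_low p m, pimg_or, pimg_or]
  show field 24 T.t0 (m &&& 255) ||| (field 24 T.t1 (m >>> 8 &&& 255) ||| field 24 T.t2 (m >>> 16 &&& 255)) = _
  rw [(h _ (hb m)).1.1, (h _ (hb _)).1.2, (h _ (hb _)).2]
  rfl

end Cfsg.Lib.Concrete
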