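import Cfsg.Agent.Lib.Concrete.Classes
import Cfsg.Agent.Lib.Concrete.TrioSext
import Cfsg.Agent.Lib.Concrete.OrbitFacts

/-!
Fixed points and invariant octads, dodecads, trios and sextets of elements of order 2 and 3 of M24.
-/

set_option autoImplicit false

namespace Cfsg.Lib.Concrete

open scoped Pointwise
open MulAction

/-- The fixed positions. -/
def fixMask (p : ℕ) : ℕ := orMask bits24 (fun i => Nat.beq (pget p i) i) id

theorem fixed_eq_mset {h : Equiv.Perm GolayPt} {p : ℕ} (hh : Rep h p) :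
    (Finset.univ.filter fun x => h x = x) = mset (fixMask p) := by
  ext x
  rw [Finset.mem_filter, mem_mset, fixMask, testBit_orMask]
  constructor
  · intro hx
    exact ⟨_, mem_bits24.2 (gidx x).isLt, by rw [Nat.beq_eq, ← hh, hx.2], rfl⟩
  · rintro ⟨i, -, h1, h2⟩
    rw [Nat.beq_eq] at h1
    simp only [id] at h2
    subst h2
    exact ⟨Finset.mem_univ _, gidx_injective (Fin.ext (by rw [hh, h1]))⟩

theorem smul_fixed {g c : Equiv.Perm GolayPt} :
    c • (Finset.univ.filter fun x => (c⁻¹ * g * c) x = x) = Finset.univ.filter fun x => g x = x := by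
  ext x
  rw [← Finset.inv_smul_mem_iff, Finset.mem_filter, Finset.mem_filter]
  simp only [Finset.mem_univ, true_and, Equiv.Perm.smul_def, Equiv.Perm.mul_apply, Equiv.Perm.inv_def,
    Equiv.apply_symm_apply, EmbeddingLike.apply_eq_iff_eq]

theorem fixed_card_eq {g c : Equiv.Perm GolayPt} {p : ℕ} (hp : Rep (c⁻¹ * g * c) p) :
    (Finset.univ.filter fun x => g x = x).card = pcnt (fixMask p) := by
  rw [← smul_fixed (g := g) (c := c), Finset.card_smul_finset, fixed_eq_mset hp, mset_card, mcnt_eq_pcnt]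

theorem pimg_lt {h : Equiv.Perm GolayPt} {p : ℕ} (hh : Rep h p) (m : ℕ) : pimg p m < 2 ^ 24 :=
  orMask_lt _ _ _ fun i hi _ => by
    rw [← hh.apply ⟨i, mem_bits24.1 hi⟩]
    exact Fin.isLt _

theorem fix_mask_iff {h : Equiv.Perm GolayPt} {p : ℕ} (hh : Rep h p) {m : ℕ} (hm : m < 2 ^ 24) :
    h • mset m = mset m ↔ Nat.beq (pimg p m) m = true := by
  rw [hh.smul_mset, Nat.beq_eq]
  exact ⟨mset_inj (pimg_lt hh m) hm, fun e => by rw [e]⟩

theorem fix_fam_iff {h : Equiv.Perm GolayPt} {p : ℕ} (hh : Rep h p) {l : List ℕ} (hl : ∀ a ∈ l, a < 2 ^ 24) :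
    h • lset l = lset l ↔ sameList (l.map (pimg p)) l = true := by
  rw [lmap_sound h p l hh]
  refine ⟨fun e => ?_, sameList_sound _ _⟩
  have hl' : ∀ a ∈ l.map (pimg p), a < 2 ^ 24 := fun a ha => by
    obtain ⟨b, -, rfl⟩ := List.mem_map.1 ha; exact pimg_lt hh b
  simp only [sameList, Bool.and_eq_true, List.all_eq_true, List.any_eq_true, Nat.beq_eq]
  exact ⟨fun a ha => ⟨a, mem_of_mset_mem hl (hl' a ha) (e ▸ List.mem_toFinset.2 (List.mem_map.2 ⟨a, ha, rfl⟩)), rfl⟩,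
    fun a ha => ⟨a, mem_of_mset_mem hl' (hl a ha) (e.symm ▸ List.mem_toFinset.2 (List.mem_map.2 ⟨a, ha, rfl⟩)), rfl⟩⟩

theorem smul_fix_conj {β : Type*} [MulAction (Equiv.Perm GolayPt) β] {g c : Equiv.Perm GolayPt} (s : β) :
    (c⁻¹ * g * c) • (c⁻¹ • s) = c⁻¹ • s ↔ g • s = s := by
  rw [mul_smul, mul_smul, smul_inv_smul, smul_left_cancel_iff]

theorem count_fixed_masks {g c : Equiv.Perm GolayPt} {p : ℕ} (hcM : c ∈ M24) (hp : Rep (c⁻¹ * g * c) p)
    {cands : List ℕ} (hnd : cands.Nodup) (hlt : ∀ m ∈ cands, m < 2 ^ 24) (Q : Set (Finset GolayPt))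
    (hQ : ∀ X, X ∈ Q ↔ ∃ m ∈ cands, X = mset m) (hinv : ∀ k ∈ M24, ∀ X, k • X ∈ Q ↔ X ∈ Q) :
    {X | X ∈ Q ∧ g • X = X}.ncard = (cands.filter fun m => Nat.beq (pimg p m) m).length := by
  rw [← ncard_eq_of_smul (S := {X | X ∈ Q ∧ (c⁻¹ * g * c) • X = X}) (T := {X | X ∈ Q ∧ g • X = X}) c⁻¹
    fun s => by
      show c⁻¹ • s ∈ Q ∧ _ ↔ s ∈ Q ∧ g • s = s
      rw [hinv _ (inv_mem hcM), smul_fix_conj]]
  refine ncard_of_masks (hnd.filter _) (fun m hm => hlt m (List.mem_filter.1 hm).1) fun m hm => ?_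
  rw [Set.mem_setOf_eq, List.mem_filter, fix_mask_iff hp hm, hQ]
  refine and_congr_left fun _ => ⟨?_, fun h => ⟨m, h, rfl⟩⟩
  rintro ⟨m', hm', e⟩
  rwa [mset_inj hm (hlt m' hm') e]

theorem count_fixed_fams {g c : Equiv.Perm GolayPt} {p : ℕ} (hcM : c ∈ M24) (hp : Rep (c⁻¹ * g * c) p)
    {L : List (List ℕ)} (hL : famsOk L = true) (Q : Set (Finset (Finset GolayPt)))
    (hQ : Q = ↑(famSet L)) (hinv : ∀ k ∈ M24, ∀ X, k • X ∈ Q ↔ X ∈ Q) :
    {X | X ∈ Q ∧ g • X = X}.ncard = (L.filter fun l => sameList (l.map (pimg p)) l).length := by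
  rw [← ncard_eq_of_smul (S := {X | X ∈ Q ∧ (c⁻¹ * g * c) • X = X}) (T := {X | X ∈ Q ∧ g • X = X}) c⁻¹
    fun s => by
      show c⁻¹ • s ∈ Q ∧ _ ↔ s ∈ Q ∧ g • s = s
      rw [hinv _ (inv_mem hcM), smul_fix_conj]]
  have hok : ∀ l ∈ L, ∀ a ∈ l, a < 2 ^ 24 := fun l hl => by
    simp only [famsOk, Bool.and_eq_true, List.all_eq_true] at hL
    exact (famOk_sound (hL.2 l hl)).2
  have hset : {X | X ∈ Q ∧ (c⁻¹ * g * c) • X = X} =
      ↑((L.filter fun l => sameList (l.map (pimg p)) l).map lset).toFinset := by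
    ext X
    rw [Set.mem_setOf_eq, hQ, Finset.mem_coe, Finset.mem_coe, mem_famSet, List.mem_toFinset, List.mem_map]
    constructor
    · rintro ⟨⟨l, hl, rfl⟩, hX⟩
      exact ⟨l, List.mem_filter.2 ⟨hl, (fix_fam_iff hp (hok l hl)).1 hX⟩, rfl⟩
    · rintro ⟨l, hl, rfl⟩
      obtain ⟨hl1, hl2⟩ := List.mem_filter.1 hl
      exact ⟨⟨l, hl1, rfl⟩, (fix_fam_iff hp (hok l hl1)).2 hl2⟩
  rw [hset, Set.ncard_coe_finset, List.toFinset_card_of_nodup, List.length_map]
  exact (List.Sublist.map lset List.filter_sublist).nodup (fams_nodup hL)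

/-- Number of fixed masks. -/
def fixCountM (cands : List ℕ) (p : ℕ) : ℕ := (cands.filter fun m => Nat.beq (pimg p m) m).length

/-- Number of fixed families. -/
def fixCountF (L : List (List ℕ)) (p : ℕ) : ℕ := (L.filter fun l => sameList (l.map (pimg p)) l).length

theorem count_octads {g c : Equiv.Perm GolayPt} {p : ℕ} (hcM : c ∈ M24) (hp : Rep (c⁻¹ * g * c) p) :
    {X | X ∈ octads ∧ g • X = X}.ncard = fixCountM octList p :=
  count_fixed_masks hcM hp octList_nodup (fun _ hm => octList_lt hm) _ oct_cands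
    (fun _ hk X => smul_mem_octads_iff hk X)

theorem count_dodecads {g c : Equiv.Perm GolayPt} {p : ℕ} (hcM : c ∈ M24) (hp : Rep (c⁻¹ * g * c) p) :
    {X | X ∈ dodecads ∧ g • X = X}.ncard = fixCountM dodList p :=
  count_fixed_masks hcM hp (codeList_nodup.filter _) (fun _ hm => dodList_lt hm) _ dod_cands
    (fun _ hk X => smul_mem_dodecads_iff hk X)

theorem count_trios {g c : Equiv.Perm GolayPt} {p : ℕ} (hcM : c ∈ M24) (hp : Rep (c⁻¹ * g * c) p) :
    {X | X ∈ trios ∧ g • X = X}.ncard = fixCountF trioList p :=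
  count_fixed_fams hcM hp trioFams _ trios_eq (fun _ hk X => smul_mem_trios_iff hk X)

theorem count_sextets {g c : Equiv.Perm GolayPt} {p : ℕ} (hcM : c ∈ M24) (hp : Rep (c⁻¹ * g * c) p) :
    {X | X ∈ sextets ∧ g • X = X}.ncard = fixCountF sextList p :=
  count_fixed_fams hcM hp sextFams _ sextets_eq (fun _ hk X => smul_mem_sextets_iff hk X)

theorem fix_zero_iff (g : Equiv.Perm GolayPt) :
    (Finset.univ.filter fun x => g x = x).card = 0 ↔ ∀ p, g p ≠ p := by
  simp [Finset.card_eq_zero, Finset.filter_eq_empty_iff]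

/-- An involution, by its number of fixed points. -/
theorem involution_of_fixed {g : Equiv.Perm GolayPt} (hg : g ∈ M24) (h2 : orderOf g = 2) :
    ((Finset.univ.filter fun x => g x = x).card = 8 ∧
      ∃ c ∈ M24, Rep (c⁻¹ * g * c) (invTargets.getD 0 (0, 0)).1) ∨
    ((Finset.univ.filter fun x => g x = x).card = 0 ∧
      ∃ c ∈ M24, Rep (c⁻¹ * g * c) (invTargets.getD 1 (0, 0)).1) := by
  obtain ⟨t, ht, c, hc, hr⟩ := involution_class hg h2
  rw [invTargets, List.mem_cons, List.mem_singleton] at ht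
  rw [fixed_card_eq hr]
  rcases ht with rfl | rfl
  · exact Or.inl ⟨by decide +kernel, c, hc, hr⟩
  · exact Or.inr ⟨by decide +kernel, c, hc, hr⟩

/-- An element of order three, by its number of fixed points. -/
theorem three_of_fixed {g : Equiv.Perm GolayPt} (hg : g ∈ M24) (h3 : orderOf g = 3) :
    ((Finset.univ.filter fun x => g x = x).card = 6 ∧
      ∃ c ∈ M24, Rep (c⁻¹ * g * c) (threeTargets.getD 0 (0, 0)).1) ∨
    ((Finset.univ.filter fun x => g x = x).card = 0 ∧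
      ∃ c ∈ M24, Rep (c⁻¹ * g * c) (threeTargets.getD 1 (0, 0)).1) := by
  obtain ⟨t, ht, c, hc, hr⟩ := three_class hg h3
  rw [threeTargets, List.mem_cons, List.mem_singleton] at ht
  rw [fixed_card_eq hr]
  rcases ht with rfl | rfl
  · exact Or.inl ⟨by decide +kernel, c, hc, hr⟩
  · exact Or.inr ⟨by decide +kernel, c, hc, hr⟩

theorem exists_target {n p q : ℕ} (hn : n.Prime) (h : m24Check p q = true) (he : hasExp n p = true) :
    ∃ g ∈ M24, Rep g p ∧ orderOf g = n := by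
  obtain ⟨g, hg, hr, -⟩ := exists_of_m24Check h
  haveI := Fact.mk hn
  simp only [hasExp, Bool.and_eq_true, List.all_eq_true, List.any_eq_true, Nat.beq_eq, Bool.not_eq_true'] at he
  refine ⟨g, hg, hr, orderOf_eq_prime ?_ fun h1 => ?_⟩
  · refine Equiv.ext fun x => gidx_injective (Fin.ext ?_)
    rw [piter_eq hr, he.1 _ (mem_bits24.2 (gidx x).isLt)]; rfl
  · obtain ⟨i, hi, hne⟩ := he.2
    have := hr.apply ⟨i, mem_bits24.1 hi⟩
    rw [h1, Equiv.Perm.one_apply, gidx_gpt] at this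
    rw [← this] at hne
    simp at hne

theorem conj_of_same_rep {g h c d : Equiv.Perm GolayPt} {p : ℕ} (hc : c ∈ M24) (hd : d ∈ M24)
    (h1 : Rep (c⁻¹ * g * c) p) (h2 : Rep (d⁻¹ * h * d) p) : ∃ k ∈ M24, k * g * k⁻¹ = h := by
  refine ⟨d * c⁻¹, mul_mem hd (inv_mem hc), ?_⟩
  calc d * c⁻¹ * g * (d * c⁻¹)⁻¹ = d * (c⁻¹ * g * c) * d⁻¹ := by group
    _ = d * (d⁻¹ * h * d) * d⁻¹ := by rw [h1.ext h2]
    _ = h := by group

theorem involution_classes :
    (∀ g ∈ M24, orderOf g = 2 → (Finset.univ.filter fun p => g p = p) ∈ octads ∨ ∀ p, g p ≠ p) ∧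
    (∃ g ∈ M24, orderOf g = 2 ∧ (Finset.univ.filter fun p => g p = p) ∈ octads) ∧
    (∃ g ∈ M24, orderOf g = 2 ∧ ∀ p, g p ≠ p) ∧
    ∀ g ∈ M24, ∀ h ∈ M24, orderOf g = 2 → orderOf h = 2 →
      ((∀ p, g p ≠ p) ↔ (∀ p, h p ≠ p)) → ∃ k ∈ M24, k * g * k⁻¹ = h := by
  refine ⟨fun g hg h2 => ?_, ?_, ?_, fun g hg h hh hg2 hh2 hiff => ?_⟩
  · rcases involution_of_fixed hg h2 with ⟨-, c, hc, hr⟩ | ⟨h0, -⟩
    · left
      rw [← smul_fixed (g := g) (c := c), fixed_eq_mset hr]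
      refine smul_octad_mem hc (octMask_sound ?_ (by decide +kernel))
      exact orMask_lt _ _ _ fun i hi _ => mem_bits24.1 hi
    · exact Or.inr ((fix_zero_iff g).1 h0)
  · obtain ⟨g, hg, hr, ho⟩ := exists_target (p := (invTargets.getD 0 (0, 0)).1)
      (q := (invTargets.getD 0 (0, 0)).2) Nat.prime_two (by decide +kernel) (by decide +kernel)
    refine ⟨g, hg, ho, ?_⟩
    rw [fixed_eq_mset hr]
    exact octMask_sound (orMask_lt _ _ _ fun i hi _ => mem_bits24.1 hi) (by decide +kernel)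
  · obtain ⟨g, hg, hr, ho⟩ := exists_target (p := (invTargets.getD 1 (0, 0)).1)
      (q := (invTargets.getD 1 (0, 0)).2) Nat.prime_two (by decide +kernel) (by decide +kernel)
    refine ⟨g, hg, ho, (fix_zero_iff g).1 ?_⟩
    rw [fixed_eq_mset hr, mset_card, mcnt_eq_pcnt]
    decide +kernel
  · rw [← fix_zero_iff, ← fix_zero_iff] at hiff
    rcases involution_of_fixed hg hg2 with ⟨a1, c, hc, hr⟩ | ⟨a1, c, hc, hr⟩ <;>
      rcases involution_of_fixed hh hh2 with ⟨b1, d, hd, hs⟩ | ⟨b1, d, hd, hs⟩ <;>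
      simp only [a1, b1] at hiff <;> first | exact conj_of_same_rep hc hd hr hs | simp at hiff

theorem fixed_zpowers (x : M24) :
    {p : GolayPt | ∀ y ∈ Subgroup.zpowers x, ((y : M24) : Equiv.Perm GolayPt) p = p}.ncard =
      (Finset.univ.filter fun p => (x : Equiv.Perm GolayPt) p = p).card := by
  rw [← Set.ncard_coe_finset]
  congr 1
  ext p
  simp only [Set.mem_setOf_eq, Finset.coe_filter, Finset.mem_univ, true_and]
  constructor
  · exact fun h => h x (Subgroup.mem_zpowers x)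
  · intro h y hy
    have : Subgroup.zpowers x ≤ stabilizer M24 p := Subgroup.zpowers_le.2 h
    exact this hy

theorem subgroups_of_order_three :
    (∀ X : Subgroup M24, Nat.card X = 3 →
      {p : GolayPt | ∀ x ∈ X, ((x : M24) : Equiv.Perm GolayPt) p = p}.ncard = 6 ∨
      {p : GolayPt | ∀ x ∈ X, ((x : M24) : Equiv.Perm GolayPt) p = p}.ncard = 0) ∧
    (∃ X : Subgroup M24, Nat.card X = 3 ∧
      {p : GolayPt | ∀ x ∈ X, ((x : M24) : Equiv.Perm GolayPt) p = p}.ncard = 6) ∧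
    (∃ X : Subgroup M24, Nat.card X = 3 ∧
      {p : GolayPt | ∀ x ∈ X, ((x : M24) : Equiv.Perm GolayPt) p = p}.ncard = 0) ∧
    ∀ X Y : Subgroup M24, Nat.card X = 3 → Nat.card Y = 3 →
      {p : GolayPt | ∀ x ∈ X, ((x : M24) : Equiv.Perm GolayPt) p = p}.ncard =
        {p : GolayPt | ∀ x ∈ Y, ((x : M24) : Equiv.Perm GolayPt) p = p}.ncard →
      ∃ k : M24, MulAut.conj k • X = Y := by
  haveI : Fact (Nat.Prime 3) := ⟨Nat.prime_three⟩
  have key : ∀ X : Subgroup M24, Nat.card X = 3 →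
      ∃ x : M24, X = Subgroup.zpowers x ∧ orderOf (x : Equiv.Perm GolayPt) = 3 := by
    intro X hX
    obtain ⟨x, hx⟩ := exists_prime_orderOf_dvd_card' (G := X) 3 (by rw [hX])
    refine ⟨x, (Subgroup.eq_of_le_of_card_ge (Subgroup.zpowers_le.2 x.2) ?_).symm, ?_⟩
    · rw [hX, Nat.card_zpowers, Subgroup.orderOf_coe, hx]
    · rw [Subgroup.orderOf_coe, Subgroup.orderOf_coe, hx]
  have ex : ∀ i < 2, ∃ X : Subgroup M24, Nat.card X = 3 ∧
      {p : GolayPt | ∀ x ∈ X, ((x : M24) : Equiv.Perm GolayPt) p = p}.ncard =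
        pcnt (fixMask (threeTargets.getD i (0, 0)).1) := by
    intro i hi
    obtain ⟨g, hg, hr, ho⟩ := exists_target (p := (threeTargets.getD i (0, 0)).1)
      (q := (threeTargets.getD i (0, 0)).2) Nat.prime_three (by interval_cases i <;> decide +kernel)
      (by interval_cases i <;> decide +kernel)
    refine ⟨Subgroup.zpowers (⟨g, hg⟩ : M24), ?_, ?_⟩
    · rw [Nat.card_zpowers, ← Subgroup.orderOf_coe]; exact ho
    · rw [fixed_zpowers, fixed_eq_mset hr, mset_card, mcnt_eq_pcnt]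
  refine ⟨fun X hX => ?_, ?_, ?_, fun X Y hX hY he => ?_⟩
  · obtain ⟨x, rfl, hx⟩ := key X hX
    rw [fixed_zpowers]
    exact (three_of_fixed x.2 hx).imp And.left And.left
  · obtain ⟨X, h1, h2⟩ := ex 0 (by norm_num)
    exact ⟨X, h1, h2.trans (by decide +kernel)⟩
  · obtain ⟨X, h1, h2⟩ := ex 1 (by norm_num)
    exact ⟨X, h1, h2.trans (by decide +kernel)⟩
  · obtain ⟨x, rfl, hx⟩ := key X hX
    obtain ⟨y, rfl, hy⟩ := key Y hY
    rw [fixed_zpowers, fixed_zpowers] at he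
    obtain ⟨k, hk, hkxy⟩ : ∃ k ∈ M24, k * (x : Equiv.Perm GolayPt) * k⁻¹ = y := by
      rcases three_of_fixed x.2 hx with ⟨a1, c, hc, hr⟩ | ⟨a1, c, hc, hr⟩ <;>
        rcases three_of_fixed y.2 hy with ⟨b1, d, hd, hs⟩ | ⟨b1, d, hd, hs⟩ <;>
        rw [a1, b1] at he <;> first | exact conj_of_same_rep hc hd hr hs | omega
    refine ⟨⟨k, hk⟩, ?_⟩
    rw [Subgroup.pointwise_smul_def]
    exact ((MulAut.conj (⟨k, hk⟩ : M24)).toMonoidHom.map_zpowers x).trans
      (congrArg Subgroup.zpowers (Subtype.ext hkxy))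

theorem three_six_counts {g : Equiv.Perm GolayPt} (hg : g ∈ M24) (h3 : orderOf g = 3)
    (h6 : (Finset.univ.filter fun p => g p = p).card = 6) :
    {o | o ∈ octads ∧ g • o = o}.ncard = 21 ∧ {T | T ∈ trios ∧ g • T = T}.ncard = 15 ∧
    {S | S ∈ sextets ∧ g • S = S}.ncard = 16 ∧ {d | d ∈ dodecads ∧ g • d = d}.ncard = 20 := by
  rcases three_of_fixed hg h3 with ⟨-, c, hc, hr⟩ | ⟨h0, -⟩
  · exact ⟨(count_octads hc hr).trans (by decide +kernel), (count_trios hc hr).trans (by decide +kernel),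
      (count_sextets hc hr).trans (by decide +kernel), (count_dodecads hc hr).trans (by decide +kernel)⟩
  · omega

theorem three_free_counts {g : Equiv.Perm GolayPt} (hg : g ∈ M24) (h3 : orderOf g = 3) (h0 : ∀ p, g p ≠ p) :
    {S | S ∈ sextets ∧ g • S = S}.ncard = 7 ∧ {T | T ∈ trios ∧ g • T = T}.ncard = 15 := by
  rcases three_of_fixed hg h3 with ⟨h6, -⟩ | ⟨-, c, hc, hr⟩
  · rw [(fix_zero_iff g).2 h0] at h6; omega
  · exact ⟨(count_sextets hc hr).trans (by decide +kernel), (count_trios hc hr).trans (by decide +kernel)⟩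

theorem involution_octad_counts {g : Equiv.Perm GolayPt} (hg : g ∈ M24) (h2 : orderOf g = 2)
    (h8 : (Finset.univ.filter fun p => g p = p).card = 8) :
    {o | o ∈ octads ∧ g • o = o}.ncard = 71 ∧ {T | T ∈ trios ∧ g • T = T}.ncard = 99 ∧
    {S | S ∈ sextets ∧ g • S = S}.ncard = 91 := by
  rcases involution_of_fixed hg h2 with ⟨-, c, hc, hr⟩ | ⟨h0, -⟩
  · exact ⟨(count_octads hc hr).trans (by decide +kernel), (count_trios hc hr).trans (by decide +kernel),
      (count_sextets hc hr).trans (by decide +kernel)⟩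
  · omega

theorem involution_free_counts {g : Equiv.Perm GolayPt} (hg : g ∈ M24) (h2 : orderOf g = 2) (h0 : ∀ p, g p ≠ p) :
    {o | o ∈ octads ∧ g • o = o}.ncard = 15 ∧ {T | T ∈ trios ∧ g • T = T}.ncard = 75 ∧
    {S | S ∈ sextets ∧ g • S = S}.ncard = 51 := by
  rcases involution_of_fixed hg h2 with ⟨h8, -⟩ | ⟨-, c, hc, hr⟩
  · rw [(fix_zero_iff g).2 h0] at h8; omega
  · exact ⟨(count_octads hc hr).trans (by decide +kernel), (count_trios hc hr).trans (by decide +kernel),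
      (count_sextets hc hr).trans (by decide +kernel)⟩

end Cfsg.Lib.Concrete
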