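import Cfsg.Agent.Lib.Concrete.Mathieu

/-!
Certificates for orbits of stabilisers in M24 on masks and on families of masks.
-/

set_option autoImplicit false

namespace Cfsg.Lib.Concrete

open scoped Pointwise

/-- `p` is an element of M24 (with inverse `q`). -/
def m24Check (p q : ℕ) : Bool := elemCheck 0 16777215 p q

theorem exists_of_m24Check {p q : ℕ} (h : m24Check p q = true) :
    ∃ g ∈ M24, Rep g p ∧ Rep g⁻¹ q := by
  obtain ⟨g, hg, hp, hq⟩ := exists_of_elemCheck (Nat.zero_le 7) h
  exact ⟨g, (mem_mSub.1 hg).1, hp, hq⟩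

/-- The generators: packed pairs whose elements lie in M24 and satisfy `cond`. -/
def gensCheck (gens : List (ℕ × ℕ)) (cond : ℕ → Bool) : Bool :=
  gens.all fun e => m24Check e.1 e.2 && cond e.1

/-- Orbit certificate: entry `i` of `L` is the `(D i).2`-th generator applied to the entry
`(D i).1 < i`, or is the root. -/
def orbitCheck {α : Type} (act : ℕ → α → α) (same : α → α → Bool) (gens : List (ℕ × ℕ))
    (root : α) (L : List α) (D : List (ℕ × ℕ)) : Bool :=
  (List.range L.length).all fun i =>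
    if i = 0 then same (L.getD 0 root) root
    else decide ((D.getD i (0, 0)).1 < i) && decide ((D.getD i (0, 0)).2 < gens.length) &&
      same (L.getD i root) (act (gens.getD (D.getD i (0, 0)).2 (0, 0)).1
        (L.getD (D.getD i (0, 0)).1 root))

theorem orbitCheck_sound {α : Type} {β : Type} [MulAction (Equiv.Perm GolayPt) β]
    {act : ℕ → α → α} {same : α → α → Bool} {sem : α → β}
    (hsame : ∀ a b, same a b = true → sem a = sem b)
    (hact : ∀ (g : Equiv.Perm GolayPt) (p : ℕ) (a : α), Rep g p → g • sem a = sem (act p a))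
    {H : Subgroup (Equiv.Perm GolayPt)} {gens : List (ℕ × ℕ)}
    (hgens : ∀ e ∈ gens, ∃ g ∈ H, Rep g e.1) {root : α} {L : List α} {D : List (ℕ × ℕ)}
    (h : orbitCheck act same gens root L D = true) :
    ∀ a ∈ L, ∃ g ∈ H, g • sem root = sem a := by
  have key : ∀ i < L.length, ∃ g ∈ H, g • sem root = sem (L.getD i root) := by
    intro i
    induction i using Nat.strong_induction_on with
    | _ i ih =>
      intro hi
      have hc := List.all_eq_true.1 h i (List.mem_range.2 hi)
      by_cases h0 : i = 0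
      · subst h0
        simp only [if_true] at hc
        exact ⟨1, one_mem _, by rw [one_smul, hsame _ _ hc]⟩
      · simp only [h0, if_false, Bool.and_eq_true, decide_eq_true_eq] at hc
        obtain ⟨⟨h1, h2⟩, h3⟩ := hc
        obtain ⟨g, hg, hgs⟩ := ih _ h1 (lt_trans h1 hi)
        obtain ⟨s, hs, hsr⟩ := hgens (gens.getD (D.getD i (0, 0)).2 (0, 0))
          (by rw [List.getD_eq_getElem _ _ h2]; exact List.getElem_mem _)
        exact ⟨s * g, mul_mem hs hg, by rw [mul_smul, hgs, hact s _ _ hsr, hsame _ _ h3]⟩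
  intro a ha
  obtain ⟨i, hi, rfl⟩ := List.mem_iff_getElem.1 ha
  have := key i hi
  rwa [List.getD_eq_getElem _ _ hi] at this

/-- Equality of masks. -/
def sameMask (a b : ℕ) : Bool := Nat.beq a b

theorem sameMask_sound (a b : ℕ) (h : sameMask a b = true) : mset a = mset b := by
  rw [sameMask, Nat.beq_eq] at h; rw [h]

theorem pimg_sound (g : Equiv.Perm GolayPt) (p m : ℕ) (hg : Rep g p) :
    g • mset m = mset (pimg p m) := hg.smul_mset m

/-- The family of finsets of a list of masks. -/
def lset (l : List ℕ) : Finset (Finset GolayPt) := (l.map mset).toFinset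

/-- Two lists of masks with the same members. -/
def sameList (a b : List ℕ) : Bool :=
  a.all (fun x => b.any (Nat.beq x)) && b.all (fun x => a.any (Nat.beq x))

theorem sameList_sound (a b : List ℕ) (h : sameList a b = true) : lset a = lset b := by
  simp only [sameList, Bool.and_eq_true, List.all_eq_true, List.any_eq_true, Nat.beq_eq] at h
  have h1 : ∀ x ∈ a, x ∈ b := fun x hx => by
    obtain ⟨y, hy, he⟩ := h.1 x hx; rwa [he]
  have h2 : ∀ x ∈ b, x ∈ a := fun x hx => by
    obtain ⟨y, hy, he⟩ := h.2 x hx; rwa [he]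
  ext s
  simp only [lset, List.mem_toFinset, List.mem_map]
  exact ⟨fun ⟨m, hm, e⟩ => ⟨m, h1 m hm, e⟩, fun ⟨m, hm, e⟩ => ⟨m, h2 m hm, e⟩⟩

theorem lmap_sound (g : Equiv.Perm GolayPt) (p : ℕ) (l : List ℕ) (hg : Rep g p) :
    g • lset l = lset (l.map (pimg p)) := by
  ext s
  simp only [Finset.mem_smul_finset, lset, List.mem_toFinset, List.mem_map]
  constructor
  · rintro ⟨t, ⟨m, hm, rfl⟩, rfl⟩
    exact ⟨_, ⟨m, hm, rfl⟩, (hg.smul_mset m).symm⟩
  · rintro ⟨_, ⟨m, hm, rfl⟩, rfl⟩
    exact ⟨_, ⟨m, hm, rfl⟩, hg.smul_mset m⟩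

/-- The elements of M24 fixing the listed finsets, as a subgroup. -/
def stabMasks (ms : List ℕ) : Subgroup (Equiv.Perm GolayPt) where
  carrier := {g | g ∈ M24 ∧ ∀ m ∈ ms, g • mset m = mset m}
  one_mem' := ⟨one_mem _, fun _ _ => one_smul _ _⟩
  mul_mem' := fun ha hb => ⟨mul_mem ha.1 hb.1, fun m hm => by rw [mul_smul, hb.2 m hm, ha.2 m hm]⟩
  inv_mem' := fun {a} ha => ⟨inv_mem ha.1, fun m hm => by
    conv_lhs => rw [← ha.2 m hm]
    rw [inv_smul_smul]⟩

theorem gens_mem_stabMasks {ms : List ℕ} {gens : List (ℕ × ℕ)}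
    (h : gensCheck gens (fun p => ms.all fun m => Nat.beq (pimg p m) m) = true) :
    ∀ e ∈ gens, ∃ g ∈ stabMasks ms, Rep g e.1 := by
  intro e he
  have := List.all_eq_true.1 h e he
  simp only [Bool.and_eq_true, List.all_eq_true, Nat.beq_eq] at this
  obtain ⟨g, hg, hr, -⟩ := exists_of_m24Check this.1
  exact ⟨g, ⟨hg, fun m hm => by rw [hr.smul_mset, this.2 m hm]⟩, hr⟩

end Cfsg.Lib.Concrete
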