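import Cfsg.Agent.Lib.Concrete.MathieuSearch
import Cfsg.Agent.Lib.Concrete.Orbit
import Cfsg.Agent.Lib.Concrete.M24Fix
import Cfsg.Agent.Lib.Concrete.ClassData

/-!
The elements of order 2, 3 and 7 of M24, up to conjugation.
-/

set_option autoImplicit false

namespace Cfsg.Lib.Concrete

open scoped Pointwise

/-- The packed product of three packed permutations. -/
def pcomp3 (r a b : ℕ) : ℕ := packList (bits24.map fun i => pget r (pget a (pget b i)))

/-- The elements with prescribed images of four base points. -/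
def cosetList (reps : List (ℕ × ℕ)) : List ℕ :=
  reps.flatMap fun r => fix5Pairs.map fun pq => pcomp3 r.1 pq.1 pq.2

/-- Iterated image of a position. -/
def piter (p : ℕ) : ℕ → ℕ → ℕ
  | 0, i => i
  | n + 1, i => pget p (piter p n i)

/-- A nontrivial element of exponent `n`. -/
def hasExp (n p : ℕ) : Bool :=
  (bits24.all fun i => Nat.beq (piter p n i) i) && bits24.any fun i => !(Nat.beq (pget p i) i)

/-- `c` conjugates `p` to one of the targets. -/
def conjOk (p : ℕ) (c : ℕ × ℕ) (ts : List (ℕ × ℕ)) : Bool :=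
  m24Check c.1 c.2 && ts.any fun t => bits24.all fun i => Nat.beq (pget p (pget c.1 i)) (pget c.1 (pget t.1 i))

/-- Conjugators for all candidates. -/
def conjsOk (ts : List (ℕ × ℕ)) : List ℕ → List (ℕ × ℕ) → Bool
  | [], _ => true
  | _ :: _, [] => false
  | p :: ps, c :: cs => conjOk p c ts && conjsOk ts ps cs

/-- Every allowed pattern has a coset representative. -/
def repsCover (pat : List ℕ) (reps : List (ℕ × ℕ)) : Bool :=
  Nat.beq pat.length 4 && (pat.all fun j => Nat.blt j 5) &&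
  (reps.all fun e => m24Check e.1 e.2) &&
  bits24.all fun y => (List.range 5).any (fun j => Nat.beq (m24Base.getD j 0) y) ||
    reps.any fun e => Nat.beq (pget e.1 (m24Base.getD 4 0)) y && (List.range 4).all fun i =>
      Nat.beq (pget e.1 (m24Base.getD i 0)) (m24Base.getD (pat.getD i 0) 0)

theorem conjsOk_sound {ts : List (ℕ × ℕ)} : ∀ (ps : List ℕ) (cs : List (ℕ × ℕ)), conjsOk ts ps cs = true →
    ∀ p ∈ ps, ∃ c, conjOk p c ts = true := by
  intro ps
  induction ps with
  | nil => intro cs _ p hp; simp at hp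
  | cons a ps ih =>
    intro cs h p hp
    cases cs with
    | nil => simp [conjsOk] at h
    | cons c cs =>
      simp only [conjsOk, Bool.and_eq_true] at h
      rcases List.mem_cons.1 hp with rfl | hp
      · exact ⟨c, h.1⟩
      · exact ih cs h.2 p hp

theorem rep_pcomp3 {r h : Equiv.Perm GolayPt} {p a b : ℕ} (hr : Rep r p)
    (hh : ∀ x, (gidx (h x)).val = pget a (pget b (gidx x).val)) : Rep (r * h) (pcomp3 p a b) := by
  intro x
  have hlt : ∀ c ∈ bits24.map (fun i => pget p (pget a (pget b i))), c < 32 := fun c hc => by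
    obtain ⟨i, -, rfl⟩ := List.mem_map.1 hc
    exact Nat.lt_succ_of_le Nat.and_le_right
  rw [pcomp3, pget_packList _ hlt _ (by simpa [bits24] using (gidx x).isLt), Equiv.Perm.mul_apply, hr, hh]
  have hb : bits24 = List.range 24 := by decide
  rw [hb, List.getD_eq_getElem _ _ (by simpa using (gidx x).isLt)]
  simp

theorem piter_eq {g : Equiv.Perm GolayPt} {p : ℕ} (hg : Rep g p) (n : ℕ) (x : GolayPt) :
    (gidx ((g ^ n) x)).val = piter p n (gidx x).val := by
  induction n with
  | zero => rfl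
  | succ n ih => rw [pow_succ', Equiv.Perm.mul_apply, hg, ih, piter]

theorem class_sound {pat : List ℕ} {reps ts cs : List (ℕ × ℕ)} {n : ℕ}
    (hcov : repsCover pat reps = true) (hconj : conjsOk ts ((cosetList reps).filter (hasExp n)) cs = true)
    {g : Equiv.Perm GolayPt} (hg : g ∈ M24) (hne : g ≠ 1) (hn : g ^ n = 1) (x : Fin 5 ↪ GolayPt)
    (hx : ∀ i : Fin 4, g (x ⟨i.val, by omega⟩) = x (Fin.ofNat 5 (pat.getD i.val 0)))
    (hy : ∀ j : Fin 5, g (x 4) ≠ x j) (ht24 : ∀ t ∈ ts, ∀ i ∈ bits24, pget t.1 i < 24) :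
    ∃ t ∈ ts, ∃ c ∈ M24, Rep (c⁻¹ * g * c) t.1 := by
  simp only [repsCover, Bool.and_eq_true, List.all_eq_true, List.any_eq_true, Bool.or_eq_true, Nat.beq_eq,
    Nat.blt_eq, List.mem_range] at hcov
  obtain ⟨⟨⟨hlen, hpat⟩, hrepsM⟩, hy'⟩ := hcov
  obtain ⟨d, hd, hdx⟩ := exists_map_base x
  set h := d⁻¹ * g * d with hh
  have hhM : h ∈ M24 := mul_mem (mul_mem (inv_mem hd) hg) hd
  have happ : ∀ i : Fin 5, h (bp i.val) = d⁻¹ (g (x i)) := fun i => by
    rw [hh, Equiv.Perm.mul_apply, Equiv.Perm.mul_apply, hdx]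
  have hpi : ∀ i : Fin 4, h (bp i.val) = bp (pat.getD i.val 0) := by
    intro i
    have hlt : pat.getD i.val 0 < 5 := hpat _ (by
      rw [List.getD_eq_getElem _ _ (by omega)]; exact List.getElem_mem _)
    have h1 := happ ⟨i.val, by omega⟩
    rw [hx, ← hdx, Equiv.Perm.inv_def, Equiv.symm_apply_apply, Fin.val_ofNat, Nat.mod_eq_of_lt hlt] at h1
    exact h1
  have hnotin : ∀ j < 5, h (bp 4) ≠ bp j := fun j hj e => by
    rw [show (4 : ℕ) = (4 : Fin 5).val from rfl, happ, Equiv.Perm.inv_def, Equiv.symm_apply_eq,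
      show bp j = bp (⟨j, hj⟩ : Fin 5).val from rfl, hdx] at e
    exact hy _ e
  rcases hy' _ (mem_bits24.2 (gidx (h (bp 4))).isLt) with ⟨j, hj, he⟩ | ⟨e, he, he4, hei⟩
  · exact absurd (gidx_injective (Fin.ext (by
      rw [← he]; conv_rhs => rw [bp, gidx_gpt, Fin.val_ofNat, Nat.mod_eq_of_lt (base_lt j (by omega))]))) (hnotin j hj)
  obtain ⟨r, hr, hrep, -⟩ := exists_of_m24Check (hrepsM e he)
  have hfix : r⁻¹ * h ∈ fixB 5 := by
    refine ⟨mul_mem (inv_mem hr) hhM, fun j hj => ?_⟩
    have hrj : r (bp j) = h (bp j) := by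
      apply gidx_injective
      apply Fin.ext
      rw [hrep, bp, gidx_gpt, Fin.val_ofNat, Nat.mod_eq_of_lt (base_lt j (by omega))]
      rcases Nat.lt_succ_iff_lt_or_eq.1 hj with hj4 | rfl
      · rw [hei j hj4]
        have hb := hpi ⟨j, hj4⟩
        simp only at hb
        rw [show (gpt (Fin.ofNat 24 (m24Base.getD j 0))) = bp j from rfl, hb, bp, gidx_gpt, Fin.val_ofNat,
          Nat.mod_eq_of_lt (base_lt _ (lt_of_lt_of_le (hpat _ (by
            rw [List.getD_eq_getElem _ _ (by omega)]; exact List.getElem_mem _)) (by norm_num)))]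
      · rw [he4]; rfl
    rw [Equiv.Perm.mul_apply, ← hrj, Equiv.Perm.inv_def, Equiv.symm_apply_apply]
  obtain ⟨pq, hpq, -, hap⟩ := fixB_five_decomp hfix
  have hrh : Rep h (pcomp3 e.1 pq.1 pq.2) := by
    have := rep_pcomp3 hrep hap
    rwa [mul_inv_cancel_left] at this
  have hexp : hasExp n (pcomp3 e.1 pq.1 pq.2) = true := by
    simp only [hasExp, Bool.and_eq_true, List.all_eq_true, List.any_eq_true, Nat.beq_eq, Bool.not_eq_true']
    refine ⟨fun i hi => ?_, ?_⟩
    · have h1 : h ^ n = 1 := by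
        have e := conj_pow (i := n) (a := d⁻¹) (b := g)
        rw [inv_inv] at e
        rw [hh, e, hn, mul_one, inv_mul_cancel]
      have := piter_eq hrh n (gpt ⟨i, mem_bits24.1 hi⟩)
      rw [h1, Equiv.Perm.one_apply, gidx_gpt] at this
      exact this.symm
    · by_contra hcon
      push Not at hcon
      refine hne ?_
      have h1 : h = 1 := Equiv.ext fun z => gidx_injective (Fin.ext (by
        rw [hrh, Equiv.Perm.one_apply]
        have := hcon _ (mem_bits24.2 (gidx z).isLt)
        cases hb : Nat.beq (pget (pcomp3 e.1 pq.1 pq.2) (gidx z).val) (gidx z).val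
        · exact absurd hb this
        · exact Nat.eq_of_beq_eq_true hb))
      have := congrArg (fun k => d * k * d⁻¹) h1
      simpa [hh, mul_assoc] using this
  obtain ⟨c, hc⟩ := conjsOk_sound _ _ hconj _ (List.mem_filter.2
    ⟨List.mem_flatMap.2 ⟨e, he, List.mem_map.2 ⟨pq, hpq, rfl⟩⟩, hexp⟩)
  simp only [conjOk, Bool.and_eq_true, List.any_eq_true, List.all_eq_true, Nat.beq_eq] at hc
  obtain ⟨hcM, t, ht, hti⟩ := hc
  obtain ⟨k, hk, hkr, hki⟩ := exists_of_m24Check hcM
  refine ⟨t, ht, d * k, mul_mem hd hk, fun z => ?_⟩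
  have hcheck := hcM
  simp only [m24Check, elemCheck, Bool.and_eq_true, List.all_eq_true, decide_eq_true_eq] at hcheck
  have e1 : (d * k)⁻¹ * g * (d * k) = k⁻¹ * h * k := by rw [hh]; group
  rw [e1, Equiv.Perm.mul_apply, Equiv.Perm.mul_apply, hki, hrh, hkr, hti _ (mem_bits24.2 (gidx z).isLt)]
  have hkk : ∀ w : GolayPt, pget c.2 (pget c.1 (gidx w).val) = (gidx w).val := fun w => by
    rw [← hkr, ← hki, Equiv.Perm.inv_def, Equiv.symm_apply_apply]
  have hlt : pget t.1 (gidx z).val < 24 := ht24 t ht _ (mem_bits24.2 (gidx z).isLt)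
  have := hkk (gpt ⟨_, hlt⟩)
  rwa [gidx_gpt] at this

/-- The targets are elements of M24. -/
def targetsOk (n : ℕ) (ts : List (ℕ × ℕ)) : Bool := ts.all fun t => m24Check t.1 t.2 && hasExp n t.1

theorem fixed_card_le {g : Equiv.Perm GolayPt} (hg : g ∈ M24) (hne : g ≠ 1) :
    (Finset.univ.filter fun p => g p = p).card ≤ 8 := by
  by_contra h
  exact hne (eq_one_of_nine_fixed hg (s := Finset.univ.filter fun p => g p = p) (by omega)
    fun x hx => (Finset.mem_filter.1 hx).2)

theorem exists_moved {g : Equiv.Perm GolayPt} (hg : g ∈ M24) (hne : g ≠ 1) (s : Finset GolayPt)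
    (hs : s.card < 16) : ∃ x, x ∉ s ∧ g x ≠ x := by
  by_contra h
  push Not at h
  have h1 : sᶜ ⊆ Finset.univ.filter fun p => g p = p := fun x hx =>
    Finset.mem_filter.2 ⟨Finset.mem_univ _, h x (Finset.mem_compl.1 hx)⟩
  have h2 := Finset.card_le_card h1
  rw [Finset.card_compl, show Fintype.card GolayPt = 24 from rfl] at h2
  have := fixed_card_le hg hne
  omega

/-- An involution is conjugate to one of two representatives. -/
theorem involution_class {g : Equiv.Perm GolayPt} (hg : g ∈ M24) (h2 : orderOf g = 2) :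
    ∃ t ∈ invTargets, ∃ c ∈ M24, Rep (c⁻¹ * g * c) t.1 := by
  have hne : g ≠ 1 := fun e => by rw [e, orderOf_one] at h2; omega
  have hsq : g ^ 2 = 1 := h2 ▸ pow_orderOf_eq_one g
  have hgg : ∀ a, g (g a) = a := fun a => by
    rw [← Equiv.Perm.mul_apply, ← pow_two, hsq]; rfl
  obtain ⟨a, -, ha⟩ := exists_moved hg hne ∅ (by simp)
  obtain ⟨c, hc, hcm⟩ := exists_moved hg hne {a, g a} (by
    have := Finset.card_le_two (a := a) (b := g a); omega)
  obtain ⟨e, he, hem⟩ := exists_moved hg hne {a, g a, c, g c} (by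
    have : ({a, g a, c, g c} : Finset GolayPt).card ≤ 4 := Finset.card_le_four
    omega)
  simp only [Finset.mem_insert, Finset.mem_singleton, not_or] at hc he
  have d1 : g c ≠ a := fun h => hc.2 (by rw [← h, hgg])
  have d2 : g c ≠ g a := fun h => hc.1 (g.injective h)
  have d3 : g e ≠ a := fun h => he.2.1 (by rw [← h, hgg])
  have d4 : g e ≠ g a := fun h => he.1 (g.injective h)
  have d5 : g e ≠ c := fun h => he.2.2.2 (by rw [← h, hgg])
  have d6 : g e ≠ g c := fun h => he.2.2.1 (g.injective h)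
  let x : Fin 5 ↪ GolayPt := ⟨![a, g a, c, g c, e], by
    have hnd : [a, g a, c, g c, e].Nodup := by
      simp only [List.nodup_cons, List.mem_cons, List.not_mem_nil, or_false, not_or, List.nodup_nil,
        and_true, not_false_iff]
      exact ⟨⟨Ne.symm ha, Ne.symm hc.1, Ne.symm d1, Ne.symm he.1⟩,
        ⟨Ne.symm hc.2, Ne.symm d2, Ne.symm he.2.1⟩, ⟨Ne.symm hcm, Ne.symm he.2.2.1⟩, Ne.symm he.2.2.2⟩
    intro i j hij
    have := hnd.get_inj_iff (i := ⟨i.val, by simp⟩) (j := ⟨j.val, by simp⟩)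
    apply Fin.ext
    have h' := this.1 (by fin_cases i <;> fin_cases j <;> first | rfl | simpa using hij)
    simpa using congrArg Fin.val h'⟩
  refine class_sound (pat := [1, 0, 3, 2]) (reps := invReps) (cs := invConj) (n := 2)
    (by decide +kernel) (by decide +kernel) hg hne hsq x (fun i => ?_) (fun j => ?_) ?_
  · fin_cases i
    exacts [rfl, hgg a, rfl, hgg c]
  · fin_cases j
    exacts [d3, d4, d5, d6, hem]
  · decide +kernel

/-- The five points of an embedding. -/
theorem exists_five {a b c d e : GolayPt} (hnd : [a, b, c, d, e].Nodup) :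
    ∃ x : Fin 5 ↪ GolayPt, x 0 = a ∧ x 1 = b ∧ x 2 = c ∧ x 3 = d ∧ x 4 = e := by
  refine ⟨⟨fun i => [a, b, c, d, e].get ⟨i.val, by simp⟩, fun i j h => ?_⟩, rfl, rfl, rfl, rfl, rfl⟩
  exact Fin.ext (by simpa using congrArg Fin.val (hnd.get_inj_iff.1 h))

/-- An element of order three is conjugate to one of two representatives. -/
theorem three_class {g : Equiv.Perm GolayPt} (hg : g ∈ M24) (h3 : orderOf g = 3) :
    ∃ t ∈ threeTargets, ∃ c ∈ M24, Rep (c⁻¹ * g * c) t.1 := by
  have hne : g ≠ 1 := fun e => by rw [e, orderOf_one] at h3; omega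
  have hcube : g ^ 3 = 1 := h3 ▸ pow_orderOf_eq_one g
  have hggg : ∀ a, g (g (g a)) = a := fun a => by
    have := congrArg (fun k : Equiv.Perm GolayPt => k a) hcube
    simpa [pow_succ, Equiv.Perm.mul_apply] using this
  have hinj := g.injective
  obtain ⟨a, -, ha⟩ := exists_moved hg hne ∅ (by simp)
  obtain ⟨d, hd, hdm⟩ := exists_moved hg hne {a, g a, g (g a)} (by
    have := Finset.card_le_three (a := a) (b := g a) (c := g (g a)); omega)
  simp only [Finset.mem_insert, Finset.mem_singleton, not_or] at hd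
  have n1 : g (g a) ≠ a := fun h => ha (by have := hggg a; rwa [h] at this)
  have n2 : g (g a) ≠ g a := fun h => ha (hinj h)
  have m1 : g d ≠ a := fun h => hd.2.2 (hinj (h.trans (hggg a).symm))
  have m2 : g d ≠ g a := fun h => hd.1 (hinj h)
  have m3 : g d ≠ g (g a) := fun h => hd.2.1 (hinj h)
  have k1 : g (g d) ≠ d := fun h => hdm (by have := hggg d; rwa [h] at this)
  obtain ⟨x, x0, x1, x2, x3, x4⟩ := exists_five (a := a) (b := g a) (c := g (g a)) (d := d) (e := g d) (by
    simp only [List.nodup_cons, List.mem_cons, List.not_mem_nil, or_false, not_or, List.nodup_nil, and_true,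
      not_false_iff]
    exact ⟨⟨Ne.symm ha, Ne.symm n1, Ne.symm hd.1, Ne.symm m1⟩, ⟨Ne.symm n2, Ne.symm hd.2.1, Ne.symm m2⟩,
      ⟨Ne.symm hd.2.2, Ne.symm m3⟩, Ne.symm hdm⟩)
  refine class_sound (pat := [1, 2, 0, 4]) (reps := threeReps) (cs := threeConj) (n := 3)
    (by decide +kernel) (by decide +kernel) hg hne hcube x (fun i => ?_) (fun j => ?_) ?_
  · fin_cases i
    · show g (x 0) = x 1; rw [x0, x1]
    · show g (x 1) = x 2; rw [x1, x2]
    · show g (x 2) = x 0; rw [x2, x0, hggg]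
    · show g (x 3) = x 4; rw [x3, x4]
  · rw [x4]
    fin_cases j
    · show g (g d) ≠ x 0; rw [x0]; exact fun h => m3 (hinj (h.trans (hggg a).symm))
    · show g (g d) ≠ x 1; rw [x1]; exact fun h => m1 (hinj h)
    · show g (g d) ≠ x 2; rw [x2]; exact fun h => m2 (hinj h)
    · show g (g d) ≠ x 3; rw [x3]; exact k1
    · show g (g d) ≠ x 4; rw [x4]; exact fun h => hdm (hinj h)
  · decide +kernel

theorem fix_of_pow_fix {g : Equiv.Perm GolayPt} (h7 : g ^ 7 = 1) {a : GolayPt} {k : ℕ} (h0 : 0 < k)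
    (hk : k < 7) (h : (g ^ k) a = a) : g a = a := by
  have hit : ∀ m : ℕ, ((g ^ k) ^ m) a = a := by
    intro m
    induction m with
    | zero => rfl
    | succ m ih => rw [pow_succ', Equiv.Perm.mul_apply, ih, h]
  have key : ∀ q r : ℕ, k * q = 7 * r + 1 → g a = a := fun q r e => by
    have := hit q
    rwa [← pow_mul, e, pow_succ, pow_mul, h7, one_pow, one_mul] at this
  interval_cases k
  exacts [key 1 0 rfl, key 4 1 rfl, key 5 2 rfl, key 2 1 rfl, key 3 2 rfl, key 6 5 rfl]

/-- An element of order seven is conjugate to one of two representatives. -/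
theorem seven_class {g : Equiv.Perm GolayPt} (hg : g ∈ M24) (h7 : orderOf g = 7) :
    ∃ t ∈ sevenTargets, ∃ c ∈ M24, Rep (c⁻¹ * g * c) t.1 := by
  have hne : g ≠ 1 := fun e => by rw [e, orderOf_one] at h7; omega
  have hp : g ^ 7 = 1 := h7 ▸ pow_orderOf_eq_one g
  obtain ⟨a, -, ha⟩ := exists_moved hg hne ∅ (by simp)
  have key : ∀ i j : ℕ, i < j → j < 7 → (g ^ i) a ≠ (g ^ j) a := by
    intro i j hij hj he
    obtain ⟨d, rfl⟩ : ∃ d, j = i + d := ⟨j - i, by omega⟩
    rw [pow_add, Equiv.Perm.mul_apply] at he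
    exact ha (fix_of_pow_fix hp (by omega) (by omega) ((g ^ i).injective he).symm)
  obtain ⟨x, x0, x1, x2, x3, x4⟩ := exists_five (a := a) (b := (g ^ 1) a) (c := (g ^ 2) a) (d := (g ^ 3) a)
    (e := (g ^ 4) a) (by
    simp only [List.nodup_cons, List.mem_cons, List.not_mem_nil, or_false, not_or, List.nodup_nil, and_true,
      not_false_iff]
    exact ⟨⟨key 0 1 (by omega) (by omega), key 0 2 (by omega) (by omega), key 0 3 (by omega) (by omega),
      key 0 4 (by omega) (by omega)⟩, ⟨key 1 2 (by omega) (by omega), key 1 3 (by omega) (by omega),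
      key 1 4 (by omega) (by omega)⟩, ⟨key 2 3 (by omega) (by omega), key 2 4 (by omega) (by omega)⟩,
      key 3 4 (by omega) (by omega)⟩)
  have step : ∀ n : ℕ, g ((g ^ n) a) = (g ^ (n + 1)) a := fun n => by
    rw [pow_succ', Equiv.Perm.mul_apply]
  refine class_sound (pat := [1, 2, 3, 4]) (reps := sevenReps) (cs := sevenConj) (n := 7)
    (by decide +kernel) (by decide +kernel) hg hne hp x (fun i => ?_) (fun j => ?_) ?_
  · fin_cases i
    · show g (x 0) = x 1; rw [x0, x1, pow_one]
    · show g (x 1) = x 2; rw [x1, x2, step]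
    · show g (x 2) = x 3; rw [x2, x3, step]
    · show g (x 3) = x 4; rw [x3, x4, step]
  · rw [x4, step]
    fin_cases j
    · show (g ^ 5) a ≠ x 0; rw [x0]; exact Ne.symm (key 0 5 (by omega) (by omega))
    · show (g ^ 5) a ≠ x 1; rw [x1]; exact Ne.symm (key 1 5 (by omega) (by omega))
    · show (g ^ 5) a ≠ x 2; rw [x2]; exact Ne.symm (key 2 5 (by omega) (by omega))
    · show (g ^ 5) a ≠ x 3; rw [x3]; exact Ne.symm (key 3 5 (by omega) (by omega))
    · show (g ^ 5) a ≠ x 4; rw [x4]; exact Ne.symm (key 4 5 (by omega) (by omega))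
  · decide +kernel

end Cfsg.Lib.Concrete
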