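import Cfsg.Agent.Lib.Concrete.FamTop
import Cfsg.Agent.Lib.Concrete.FamOrbitData
import Cfsg.Agent.Lib.Concrete.OrbitFacts

/-!
Orbits of the stabilisers of octads, sextets, trios and dodecad pairs on octads, sextets and trios.
-/

set_option autoImplicit false
set_option maxHeartbeats 1000000

namespace Cfsg.Lib.Concrete

open scoped Pointwise
open MulAction

/-- The standard pair of complementary dodecads. -/
def mDPair : List ℕ := [11472927, 5304288]

theorem fOS_orbs : forbsOk [m24BaseOctad] fOSGens fOSTabs fOSOrbs = true := by decide +kernel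

theorem fOS_classes : fclassesOk [m24BaseOctad] sextList fOSOrbs fOSIx = true := by decide +kernel

theorem fOT_orbs : forbsOk [m24BaseOctad] fOTGens fOTTabs fOTOrbs = true := by decide +kernel

theorem fOT_classes : fclassesOk [m24BaseOctad] trioList fOTOrbs fOTIx = true := by decide +kernel

theorem fSO_orbs : forbsOk mSextet fSOGens fSOTabs fSOOrbs = true := by decide +kernel

theorem fSO_classes : fclassesOk mSextet octFams fSOOrbs fSOIx = true := by decide +kernel

theorem fST_orbs : forbsOk mSextet fSTGens fSTTabs fSTOrbs = true := by decide +kernel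

theorem fST_classes : fclassesOk mSextet trioList fSTOrbs fSTIx = true := by decide +kernel

theorem fTO_orbs : forbsOk mTrio fTOGens fTOTabs fTOOrbs = true := by decide +kernel

theorem fTO_classes : fclassesOk mTrio octFams fTOOrbs fTOIx = true := by decide +kernel

theorem fTS_orbs : forbsOk mTrio fTSGens fTSTabs fTSOrbs = true := by decide +kernel

theorem fTS_classes : fclassesOk mTrio sextList fTSOrbs fTSIx = true := by decide +kernel

theorem fDS_orbs : forbsOk mDPair fDSGens fDSTabs fDSOrbs = true := by decide +kernel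

theorem fDS_classes : fclassesOk mDPair sextList fDSOrbs fDSIx = true := by decide +kernel

theorem std_octad_single {o : Finset GolayPt} (ho : o ∈ octads) :
    ∃ g ∈ M24, g • ({o} : Finset (Finset GolayPt)) = lset [m24BaseOctad] := by
  obtain ⟨g, hg, he⟩ := std_octad ho
  simp only [List.map_cons, List.map_nil, List.cons.injEq, and_true] at he
  exact ⟨g, hg, by rw [Finset.smul_finset_singleton, he, lset_singleton]⟩

theorem std_dpair {d : Finset GolayPt} (hd : d ∈ dodecads) :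
    ∃ g ∈ M24, g • ({d, Finset.univ \ d} : Finset (Finset GolayPt)) = lset mDPair := by
  obtain ⟨g, hg, he⟩ := std_dodecad hd
  simp only [List.map_cons, List.map_nil, List.cons.injEq, and_true] at he
  have hc : g • (Finset.univ \ d) = mset 5304288 := by
    rw [Finset.smul_finset_sdiff, Finset.smul_finset_univ, he]
    decide +kernel
  refine ⟨g, hg, ?_⟩
  rw [Finset.smul_finset_insert, Finset.smul_finset_singleton, he, hc]
  simp [lset, mDPair]

theorem union_three {β : Type*} {H : Subgroup M24} [MulAction M24 β] {Q : Set β}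
    (hinv : ∀ g ∈ H, ∀ X ∈ Q, g • X ∈ Q) {f : β → ℕ} {v₁ v₂ v₃ : ℕ} {X₁ X₂ X₃ : β}
    (m₁ : X₁ ∈ Q) (m₂ : X₂ ∈ Q) (m₃ : X₃ ∈ Q)
    (h₁ : ∀ Y ∈ Q, f Y = v₁ → Y ∈ orbit ↥H X₁) (h₂ : ∀ Y ∈ Q, f Y = v₂ → Y ∈ orbit ↥H X₂)
    (h₃ : ∀ Y ∈ Q, f Y = v₃ → Y ∈ orbit ↥H X₃) (hv : ∀ Y ∈ Q, f Y ∈ [v₁, v₂, v₃]) :
    Q = orbit ↥H X₁ ∪ orbit ↥H X₂ ∪ orbit ↥H X₃ := by
  ext Y
  constructor
  · intro hY
    have := hv Y hY
    simp only [List.mem_cons, List.not_mem_nil, or_false] at this
    rcases this with h | h | h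
    exacts [Or.inl (Or.inl (h₁ Y hY h)), Or.inl (Or.inr (h₂ Y hY h)), Or.inr (h₃ Y hY h)]
  · rintro ((⟨g, rfl⟩ | ⟨g, rfl⟩) | ⟨g, rfl⟩)
    exacts [hinv g g.2 _ m₁, hinv g g.2 _ m₂, hinv g g.2 _ m₃]

theorem union_four {β : Type*} {H : Subgroup M24} [MulAction M24 β] {Q : Set β}
    (hinv : ∀ g ∈ H, ∀ X ∈ Q, g • X ∈ Q) {f : β → ℕ} {v₁ v₂ v₃ v₄ : ℕ} {X₁ X₂ X₃ X₄ : β}
    (m₁ : X₁ ∈ Q) (m₂ : X₂ ∈ Q) (m₃ : X₃ ∈ Q) (m₄ : X₄ ∈ Q)
    (h₁ : ∀ Y ∈ Q, f Y = v₁ → Y ∈ orbit ↥H X₁) (h₂ : ∀ Y ∈ Q, f Y = v₂ → Y ∈ orbit ↥H X₂)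
    (h₃ : ∀ Y ∈ Q, f Y = v₃ → Y ∈ orbit ↥H X₃) (h₄ : ∀ Y ∈ Q, f Y = v₄ → Y ∈ orbit ↥H X₄)
    (hv : ∀ Y ∈ Q, f Y ∈ [v₁, v₂, v₃, v₄]) :
    Q = orbit ↥H X₁ ∪ orbit ↥H X₂ ∪ orbit ↥H X₃ ∪ orbit ↥H X₄ := by
  ext Y
  constructor
  · intro hY
    have := hv Y hY
    simp only [List.mem_cons, List.not_mem_nil, or_false] at this
    rcases this with h | h | h | h
    exacts [Or.inl (Or.inl (Or.inl (h₁ Y hY h))), Or.inl (Or.inl (Or.inr (h₂ Y hY h))),
      Or.inl (Or.inr (h₃ Y hY h)), Or.inr (h₄ Y hY h)]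
  · rintro (((⟨g, rfl⟩ | ⟨g, rfl⟩) | ⟨g, rfl⟩) | ⟨g, rfl⟩)
    exacts [hinv g g.2 _ m₁, hinv g g.2 _ m₂, hinv g g.2 _ m₃, hinv g g.2 _ m₄]

theorem smul_octads_mem (g : M24) {X : Finset GolayPt} (hX : X ∈ octads) : g • X ∈ octads :=
  smul_octad_mem g.2 hX

/-- Orbits on octads, from the orbits on singletons. -/
theorem exists_orbit_octad {ms : List ℕ} (hms : famOk ms = true) {gens : List (ℕ × ℕ)} {tabs : List ByteTab}
    {os : List FOrb} {idx : ℕ} (ho : forbsOk ms gens tabs os = true) (hc : fclassesOk ms octFams os idx = true)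
    {S : Finset (Finset GolayPt)} (hS : ∃ g ∈ M24, g • S = lset ms) (v : ℕ)
    (hv : octFams.any (fun l => Nat.beq (finvMask ms l) v) = true) :
    ∃ X ∈ octads, (orbit ↥(stabilizer M24 S) X).ncard = finvCount ms octFams v ∧
      ∀ Y ∈ octads, finv S {Y} = v → Y ∈ orbit ↥(stabilizer M24 S) X := by
  obtain ⟨_, ⟨X, hX, rfl⟩, hn, hm⟩ := exists_orbit_of_finv octFams_ok hms
    ho hc octSingles_eq (fun _ hk X => smul_mem_octSingles_iff hk X) hS v hv
  rw [orbit_singleton] at hn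
  rw [Set.ncard_image_of_injective _ Finset.singleton_injective] at hn
  refine ⟨X, hX, hn, fun Y hY he => ?_⟩
  have := hm _ ⟨Y, hY, rfl⟩ he
  rw [orbit_singleton] at this
  obtain ⟨Z, hZ, e⟩ := this
  rwa [Finset.singleton_injective e] at hZ

theorem octad_values {ms : List ℕ} (hms : famOk ms = true) {S : Finset (Finset GolayPt)}
    (hS : ∃ g ∈ M24, g • S = lset ms) (vs : List ℕ)
    (hv : octFams.all (fun l => vs.any (Nat.beq (finvMask ms l))) = true) {Y : Finset GolayPt}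
    (hY : Y ∈ octads) : finv S {Y} ∈ vs :=
  finv_mem_values octFams_ok hms octSingles_eq
    (fun _ hk X => smul_mem_octSingles_iff hk X) hS vs hv ⟨Y, hY, rfl⟩

theorem octad_orbits_trios {o : Finset GolayPt} (ho : o ∈ octads) :
    ∃ X0 ∈ trios, ∃ X1 ∈ trios, ∃ X2 ∈ trios, (orbit ↥(stabilizer M24 o) X0).ncard = 15 ∧ (orbit ↥(stabilizer M24 o) X1).ncard = 420 ∧ (orbit ↥(stabilizer M24 o) X2).ncard = 3360 ∧ trios = orbit ↥(stabilizer M24 o) X0 ∪ orbit ↥(stabilizer M24 o) X1 ∪ orbit ↥(stabilizer M24 o) X2 := by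
  rw [← stabilizer_singleton o]
  obtain ⟨X0, m0, n0, c0⟩ := exists_orbit_of_finv (ms := [m24BaseOctad]) trioFams (by decide +kernel)
    (gens := fOTGens) (tabs := fOTTabs) (os := fOTOrbs) (idx := fOTIx) fOT_orbs fOT_classes trios_eq
    (fun _ hk X => smul_mem_trios_iff hk X) (std_octad_single ho) 64 (by decide +kernel)
  obtain ⟨X1, m1, n1, c1⟩ := exists_orbit_of_finv (ms := [m24BaseOctad]) trioFams (by decide +kernel)
    (gens := fOTGens) (tabs := fOTTabs) (os := fOTOrbs) (idx := fOTIx) fOT_orbs fOT_classes trios_eq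
    (fun _ hk X => smul_mem_trios_iff hk X) (std_octad_single ho) 32 (by decide +kernel)
  obtain ⟨X2, m2, n2, c2⟩ := exists_orbit_of_finv (ms := [m24BaseOctad]) trioFams (by decide +kernel)
    (gens := fOTGens) (tabs := fOTTabs) (os := fOTOrbs) (idx := fOTIx) fOT_orbs fOT_classes trios_eq
    (fun _ hk X => smul_mem_trios_iff hk X) (std_octad_single ho) 24 (by decide +kernel)
  exact ⟨X0, m0, X1, m1, X2, m2, n0.trans (by decide +kernel), n1.trans (by decide +kernel), n2.trans (by decide +kernel),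
    union_three (fun g _ _ hX => smul_trios_mem g hX) m0 m1 m2 c0 c1 c2
      (fun Y hY => finv_mem_values (ms := [m24BaseOctad]) trioFams (by decide +kernel) trios_eq (fun _ hk X => smul_mem_trios_iff hk X) (std_octad_single ho) _ (by decide +kernel) hY)⟩

theorem octad_orbits_sextets {o : Finset GolayPt} (ho : o ∈ octads) :
    ∃ X0 ∈ sextets, ∃ X1 ∈ sextets, ∃ X2 ∈ sextets, (orbit ↥(stabilizer M24 o) X0).ncard = 35 ∧ (orbit ↥(stabilizer M24 o) X1).ncard = 840 ∧ (orbit ↥(stabilizer M24 o) X2).ncard = 896 ∧ sextets = orbit ↥(stabilizer M24 o) X0 ∪ orbit ↥(stabilizer M24 o) X1 ∪ orbit ↥(stabilizer M24 o) X2 := by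
  rw [← stabilizer_singleton o]
  obtain ⟨X0, m0, n0, c0⟩ := exists_orbit_of_finv (ms := [m24BaseOctad]) sextFams (by decide +kernel)
    (gens := fOSGens) (tabs := fOSTabs) (os := fOSOrbs) (idx := fOSIx) fOS_orbs fOS_classes sextets_eq
    (fun _ hk X => smul_mem_sextets_iff hk X) (std_octad_single ho) 32 (by decide +kernel)
  obtain ⟨X1, m1, n1, c1⟩ := exists_orbit_of_finv (ms := [m24BaseOctad]) sextFams (by decide +kernel)
    (gens := fOSGens) (tabs := fOSTabs) (os := fOSOrbs) (idx := fOSIx) fOS_orbs fOS_classes sextets_eq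
    (fun _ hk X => smul_mem_sextets_iff hk X) (std_octad_single ho) 16 (by decide +kernel)
  obtain ⟨X2, m2, n2, c2⟩ := exists_orbit_of_finv (ms := [m24BaseOctad]) sextFams (by decide +kernel)
    (gens := fOSGens) (tabs := fOSTabs) (os := fOSOrbs) (idx := fOSIx) fOS_orbs fOS_classes sextets_eq
    (fun _ hk X => smul_mem_sextets_iff hk X) (std_octad_single ho) 14 (by decide +kernel)
  exact ⟨X0, m0, X1, m1, X2, m2, n0.trans (by decide +kernel), n1.trans (by decide +kernel), n2.trans (by decide +kernel),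
    union_three (fun g _ _ hX => smul_sextets_mem g hX) m0 m1 m2 c0 c1 c2
      (fun Y hY => finv_mem_values (ms := [m24BaseOctad]) sextFams (by decide +kernel) sextets_eq (fun _ hk X => smul_mem_sextets_iff hk X) (std_octad_single ho) _ (by decide +kernel) hY)⟩

theorem sextet_orbits_octads {S : Finset (Finset GolayPt)} (hS : S ∈ sextets) :
    ∃ X0 ∈ octads, ∃ X1 ∈ octads, ∃ X2 ∈ octads, (orbit ↥(stabilizer M24 S) X0).ncard = 15 ∧ (orbit ↥(stabilizer M24 S) X1).ncard = 360 ∧ (orbit ↥(stabilizer M24 S) X2).ncard = 384 ∧ octads = orbit ↥(stabilizer M24 S) X0 ∪ orbit ↥(stabilizer M24 S) X1 ∪ orbit ↥(stabilizer M24 S) X2 := by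
  obtain ⟨X0, m0, n0, c0⟩ := exists_orbit_octad (ms := mSextet) (by decide +kernel)
    (gens := fSOGens) (tabs := fSOTabs) (os := fSOOrbs) (idx := fSOIx) fSO_orbs fSO_classes (std_sextet hS) 32 (by decide +kernel)
  obtain ⟨X1, m1, n1, c1⟩ := exists_orbit_octad (ms := mSextet) (by decide +kernel)
    (gens := fSOGens) (tabs := fSOTabs) (os := fSOOrbs) (idx := fSOIx) fSO_orbs fSO_classes (std_sextet hS) 16 (by decide +kernel)
  obtain ⟨X2, m2, n2, c2⟩ := exists_orbit_octad (ms := mSextet) (by decide +kernel)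
    (gens := fSOGens) (tabs := fSOTabs) (os := fSOOrbs) (idx := fSOIx) fSO_orbs fSO_classes (std_sextet hS) 14 (by decide +kernel)
  exact ⟨X0, m0, X1, m1, X2, m2, n0.trans (by decide +kernel), n1.trans (by decide +kernel), n2.trans (by decide +kernel),
    union_three (fun g _ _ hX => smul_octads_mem g hX) m0 m1 m2 c0 c1 c2
      (fun Y hY => octad_values (ms := mSextet) (by decide +kernel) (std_sextet hS) _ (by decide +kernel) hY)⟩

theorem sextet_orbits_trios {S : Finset (Finset GolayPt)} (hS : S ∈ sextets) :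
    ∃ X0 ∈ trios, ∃ X1 ∈ trios, ∃ X2 ∈ trios, ∃ X3 ∈ trios, (orbit ↥(stabilizer M24 S) X0).ncard = 15 ∧ (orbit ↥(stabilizer M24 S) X1).ncard = 180 ∧ (orbit ↥(stabilizer M24 S) X2).ncard = 720 ∧ (orbit ↥(stabilizer M24 S) X3).ncard = 2880 ∧ trios = orbit ↥(stabilizer M24 S) X0 ∪ orbit ↥(stabilizer M24 S) X1 ∪ orbit ↥(stabilizer M24 S) X2 ∪ orbit ↥(stabilizer M24 S) X3 := by
  obtain ⟨X0, m0, n0, c0⟩ := exists_orbit_of_finv (ms := mSextet) trioFams (by decide +kernel)
    (gens := fSTGens) (tabs := fSTTabs) (os := fSTOrbs) (idx := fSTIx) fST_orbs fST_classes trios_eq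
    (fun _ hk X => smul_mem_trios_iff hk X) (std_sextet hS) 96 (by decide +kernel)
  obtain ⟨X1, m1, n1, c1⟩ := exists_orbit_of_finv (ms := mSextet) trioFams (by decide +kernel)
    (gens := fSTGens) (tabs := fSTTabs) (os := fSTOrbs) (idx := fSTIx) fST_orbs fST_classes trios_eq
    (fun _ hk X => smul_mem_trios_iff hk X) (std_sextet hS) 64 (by decide +kernel)
  obtain ⟨X2, m2, n2, c2⟩ := exists_orbit_of_finv (ms := mSextet) trioFams (by decide +kernel)
    (gens := fSTGens) (tabs := fSTTabs) (os := fSTOrbs) (idx := fSTIx) fST_orbs fST_classes trios_eq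
    (fun _ hk X => smul_mem_trios_iff hk X) (std_sextet hS) 48 (by decide +kernel)
  obtain ⟨X3, m3, n3, c3⟩ := exists_orbit_of_finv (ms := mSextet) trioFams (by decide +kernel)
    (gens := fSTGens) (tabs := fSTTabs) (os := fSTOrbs) (idx := fSTIx) fST_orbs fST_classes trios_eq
    (fun _ hk X => smul_mem_trios_iff hk X) (std_sextet hS) 44 (by decide +kernel)
  exact ⟨X0, m0, X1, m1, X2, m2, X3, m3, n0.trans (by decide +kernel), n1.trans (by decide +kernel), n2.trans (by decide +kernel), n3.trans (by decide +kernel),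
    union_four (fun g _ _ hX => smul_trios_mem g hX) m0 m1 m2 m3 c0 c1 c2 c3
      (fun Y hY => finv_mem_values (ms := mSextet) trioFams (by decide +kernel) trios_eq (fun _ hk X => smul_mem_trios_iff hk X) (std_sextet hS) _ (by decide +kernel) hY)⟩

theorem trio_orbits_octads {T : Finset (Finset GolayPt)} (hT : T ∈ trios) :
    ∃ X0 ∈ octads, ∃ X1 ∈ octads, ∃ X2 ∈ octads, (orbit ↥(stabilizer M24 T) X0).ncard = 3 ∧ (orbit ↥(stabilizer M24 T) X1).ncard = 84 ∧ (orbit ↥(stabilizer M24 T) X2).ncard = 672 ∧ octads = orbit ↥(stabilizer M24 T) X0 ∪ orbit ↥(stabilizer M24 T) X1 ∪ orbit ↥(stabilizer M24 T) X2 := by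
  obtain ⟨X0, m0, n0, c0⟩ := exists_orbit_octad (ms := mTrio) (by decide +kernel)
    (gens := fTOGens) (tabs := fTOTabs) (os := fTOOrbs) (idx := fTOIx) fTO_orbs fTO_classes (std_trio hT) 64 (by decide +kernel)
  obtain ⟨X1, m1, n1, c1⟩ := exists_orbit_octad (ms := mTrio) (by decide +kernel)
    (gens := fTOGens) (tabs := fTOTabs) (os := fTOOrbs) (idx := fTOIx) fTO_orbs fTO_classes (std_trio hT) 32 (by decide +kernel)
  obtain ⟨X2, m2, n2, c2⟩ := exists_orbit_octad (ms := mTrio) (by decide +kernel)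
    (gens := fTOGens) (tabs := fTOTabs) (os := fTOOrbs) (idx := fTOIx) fTO_orbs fTO_classes (std_trio hT) 24 (by decide +kernel)
  exact ⟨X0, m0, X1, m1, X2, m2, n0.trans (by decide +kernel), n1.trans (by decide +kernel), n2.trans (by decide +kernel),
    union_three (fun g _ _ hX => smul_octads_mem g hX) m0 m1 m2 c0 c1 c2
      (fun Y hY => octad_values (ms := mTrio) (by decide +kernel) (std_trio hT) _ (by decide +kernel) hY)⟩

theorem trio_orbits_sextets {T : Finset (Finset GolayPt)} (hT : T ∈ trios) :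
    ∃ X0 ∈ sextets, ∃ X1 ∈ sextets, ∃ X2 ∈ sextets, ∃ X3 ∈ sextets, (orbit ↥(stabilizer M24 T) X0).ncard = 7 ∧ (orbit ↥(stabilizer M24 T) X1).ncard = 84 ∧ (orbit ↥(stabilizer M24 T) X2).ncard = 336 ∧ (orbit ↥(stabilizer M24 T) X3).ncard = 1344 ∧ sextets = orbit ↥(stabilizer M24 T) X0 ∪ orbit ↥(stabilizer M24 T) X1 ∪ orbit ↥(stabilizer M24 T) X2 ∪ orbit ↥(stabilizer M24 T) X3 := by
  obtain ⟨X0, m0, n0, c0⟩ := exists_orbit_of_finv (ms := mTrio) sextFams (by decide +kernel)
    (gens := fTSGens) (tabs := fTSTabs) (os := fTSOrbs) (idx := fTSIx) fTS_orbs fTS_classes sextets_eq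
    (fun _ hk X => smul_mem_sextets_iff hk X) (std_trio hT) 96 (by decide +kernel)
  obtain ⟨X1, m1, n1, c1⟩ := exists_orbit_of_finv (ms := mTrio) sextFams (by decide +kernel)
    (gens := fTSGens) (tabs := fTSTabs) (os := fTSOrbs) (idx := fTSIx) fTS_orbs fTS_classes sextets_eq
    (fun _ hk X => smul_mem_sextets_iff hk X) (std_trio hT) 64 (by decide +kernel)
  obtain ⟨X2, m2, n2, c2⟩ := exists_orbit_of_finv (ms := mTrio) sextFams (by decide +kernel)
    (gens := fTSGens) (tabs := fTSTabs) (os := fTSOrbs) (idx := fTSIx) fTS_orbs fTS_classes sextets_eq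
    (fun _ hk X => smul_mem_sextets_iff hk X) (std_trio hT) 48 (by decide +kernel)
  obtain ⟨X3, m3, n3, c3⟩ := exists_orbit_of_finv (ms := mTrio) sextFams (by decide +kernel)
    (gens := fTSGens) (tabs := fTSTabs) (os := fTSOrbs) (idx := fTSIx) fTS_orbs fTS_classes sextets_eq
    (fun _ hk X => smul_mem_sextets_iff hk X) (std_trio hT) 44 (by decide +kernel)
  exact ⟨X0, m0, X1, m1, X2, m2, X3, m3, n0.trans (by decide +kernel), n1.trans (by decide +kernel), n2.trans (by decide +kernel), n3.trans (by decide +kernel),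
    union_four (fun g _ _ hX => smul_sextets_mem g hX) m0 m1 m2 m3 c0 c1 c2 c3
      (fun Y hY => finv_mem_values (ms := mTrio) sextFams (by decide +kernel) sextets_eq (fun _ hk X => smul_mem_sextets_iff hk X) (std_trio hT) _ (by decide +kernel) hY)⟩

theorem dpair_orbits_sextets {d : Finset GolayPt} (hd : d ∈ dodecads) :
    ∃ X0 ∈ sextets, ∃ X1 ∈ sextets, ∃ X2 ∈ sextets, (orbit ↥(stabilizer M24 ({d, Finset.univ \ d} : Finset (Finset GolayPt))) X0).ncard = 396 ∧ (orbit ↥(stabilizer M24 ({d, Finset.univ \ d} : Finset (Finset GolayPt))) X1).ncard = 495 ∧ (orbit ↥(stabilizer M24 ({d, Finset.univ \ d} : Finset (Finset GolayPt))) X2).ncard = 880 ∧ sextets = orbit ↥(stabilizer M24 ({d, Finset.univ \ d} : Finset (Finset GolayPt))) X0 ∪ orbit ↥(stabilizer M24 ({d, Finset.univ \ d} : Finset (Finset GolayPt))) X1 ∪ orbit ↥(stabilizer M24 ({d, Finset.univ \ d} : Finset (Finset GolayPt))) X2 := by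
  obtain ⟨X0, m0, n0, c0⟩ := exists_orbit_of_finv (ms := mDPair) sextFams (by decide +kernel)
    (gens := fDSGens) (tabs := fDSTabs) (os := fDSOrbs) (idx := fDSIx) fDS_orbs fDS_classes sextets_eq
    (fun _ hk X => smul_mem_sextets_iff hk X) (std_dpair hd) 48 (by decide +kernel)
  obtain ⟨X1, m1, n1, c1⟩ := exists_orbit_of_finv (ms := mDPair) sextFams (by decide +kernel)
    (gens := fDSGens) (tabs := fDSTabs) (os := fDSOrbs) (idx := fDSIx) fDS_orbs fDS_classes sextets_eq
    (fun _ hk X => smul_mem_sextets_iff hk X) (std_dpair hd) 64 (by decide +kernel)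
  obtain ⟨X2, m2, n2, c2⟩ := exists_orbit_of_finv (ms := mDPair) sextFams (by decide +kernel)
    (gens := fDSGens) (tabs := fDSTabs) (os := fDSOrbs) (idx := fDSIx) fDS_orbs fDS_classes sextets_eq
    (fun _ hk X => smul_mem_sextets_iff hk X) (std_dpair hd) 60 (by decide +kernel)
  exact ⟨X0, m0, X1, m1, X2, m2, n0.trans (by decide +kernel), n1.trans (by decide +kernel), n2.trans (by decide +kernel),
    union_three (fun g _ _ hX => smul_sextets_mem g hX) m0 m1 m2 c0 c1 c2
      (fun Y hY => finv_mem_values (ms := mDPair) sextFams (by decide +kernel) sextets_eq (fun _ hk X => smul_mem_sextets_iff hk X) (std_dpair hd) _ (by decide +kernel) hY)⟩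

end Cfsg.Lib.Concrete
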