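import Cfsg.Agent.Lib.Concrete.TrioSext
import Cfsg.Agent.Lib.Concrete.ByteImg
import Cfsg.Agent.Lib.Concrete.OctSorted

/-!
Orbits on families of masks of the stabiliser of a family of masks, separated by intersection numbers.
-/

set_option autoImplicit false

namespace Cfsg.Lib.Concrete

open scoped Pointwise
open MulAction

instance byteTabInhabited : Inhabited ByteTab := ⟨⟨0, 0, 0⟩⟩

/-- An orbit of families: root, size of a member, number of members, members and derivations. -/
structure FOrb where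
  root : List ℕ
  k : ℕ
  n : ℕ
  Lp : ℕ
  Dp : ℕ

/-- A member. -/
def FOrb.mem (o : FOrb) (i : ℕ) : List ℕ :=
  let x := field (Nat.mul 24 o.k) o.Lp i
  (List.range o.k).map fun j => field 24 x j

/-- Validity of the derivations. -/
def fderivOk (gens : List (ℕ × ℕ)) (tabs : List ByteTab) (o : FOrb) : Bool :=
  sameList (o.mem 0) o.root && (List.range o.n).all fun i => Nat.beq i 0 ||
    (Nat.blt (field 16 o.Dp i / 16) i && Nat.blt (field 16 o.Dp i % 16) gens.length &&
      sameList (o.mem i) ((o.mem (field 16 o.Dp i / 16)).map (bimg (tabs.getD (field 16 o.Dp i % 16) default))))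

/-- Generators and orbits inside the stabiliser of the family `ms`. -/
def forbsOk (ms : List ℕ) (gens : List (ℕ × ℕ)) (tabs : List ByteTab) (os : List FOrb) : Bool :=
  gensCheck gens (fun p => sameList (ms.map (pimg p)) ms) &&
    ((List.range gens.length).all fun j => byteTabOk (gens.getD j (0, 0)).1 (tabs.getD j default)) &&
    os.all (fderivOk gens tabs)

/-- The sum of the squared intersection numbers. -/
def finvMask (ms l : List ℕ) : ℕ :=
  (ms.map fun a => (l.map fun b => Nat.mul (pcnt (Nat.land a b)) (pcnt (Nat.land a b))).sum).sum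

/-- The orbits cover the candidates, separated by the invariant. -/
def fcover (ms : List ℕ) (os : List FOrb) (idx : ℕ) : List (List ℕ) → ℕ → Bool
  | [], _ => true
  | l :: rest, k =>
    (os.any fun o => Nat.beq (finvMask ms o.root) (finvMask ms l) && Nat.blt (field 12 idx k) o.n &&
      sameList (o.mem (field 12 idx k)) l) && fcover ms os idx rest (k + 1)

/-- The whole check. -/
def fclassesOk (ms : List ℕ) (cands : List (List ℕ)) (os : List FOrb) (idx : ℕ) : Bool :=
  decide ((os.map fun o => finvMask ms o.root).Nodup) && fcover ms os idx cands 0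

/-- The elements of M24 fixing a family. -/
def famStab (ms : List ℕ) : Subgroup (Equiv.Perm GolayPt) :=
  M24 ⊓ stabilizer (Equiv.Perm GolayPt) (lset ms)

theorem fcover_sound {ms : List ℕ} {os : List FOrb} {idx : ℕ} :
    ∀ (cands : List (List ℕ)) (k : ℕ), fcover ms os idx cands k = true → ∀ l ∈ cands,
      ∃ o ∈ os, finvMask ms o.root = finvMask ms l ∧ ∃ i < o.n, lset (o.mem i) = lset l := by
  intro cands
  induction cands with
  | nil => intro k _ l hl; simp at hl
  | cons a rest ih =>
    intro k h l hl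
    simp only [fcover, Bool.and_eq_true, List.any_eq_true, Nat.beq_eq, Nat.blt_eq] at h
    rcases List.mem_cons.1 hl with rfl | hl
    · obtain ⟨o, ho, ⟨h1, h2⟩, h3⟩ := h.1
      exact ⟨o, ho, h1, _, h2, sameList_sound _ _ h3⟩
    · exact ih _ h.2 l hl

theorem forb_sound {ms : List ℕ} {gens : List (ℕ × ℕ)} {tabs : List ByteTab} {os : List FOrb}
    (h : forbsOk ms gens tabs os = true) {o : FOrb} (ho : o ∈ os) {i : ℕ} (hi : i < o.n) :
    ∃ g ∈ famStab ms, g • lset o.root = lset (o.mem i) := by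
  simp only [forbsOk, gensCheck, Bool.and_eq_true, List.all_eq_true] at h
  obtain ⟨⟨hg, htab⟩, hall⟩ := h
  have hd := hall o ho
  simp only [fderivOk, Bool.and_eq_true, List.all_eq_true, List.mem_range, Bool.or_eq_true, Nat.beq_eq,
    Nat.blt_eq] at hd
  obtain ⟨h0, hd⟩ := hd
  induction i using Nat.strong_induction_on with
  | _ i ih =>
    rcases hd i hi with rfl | ⟨⟨h1, h2⟩, h3⟩
    · exact ⟨1, one_mem _, by rw [one_smul, sameList_sound _ _ h0]⟩
    · obtain ⟨g, hgm, hgs⟩ := ih _ h1 (lt_trans h1 hi)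
      obtain ⟨hm, hf⟩ := hg (gens.getD (field 16 o.Dp i % 16) (0, 0))
        (by rw [List.getD_eq_getElem _ _ h2]; exact List.getElem_mem _)
      obtain ⟨s, hs, hsr, -⟩ := exists_of_m24Check hm
      have hs' : s ∈ famStab ms := ⟨hs, by
        show s • lset ms = lset ms
        rw [lmap_sound s _ _ hsr, sameList_sound _ _ hf]⟩
      rw [List.map_congr_left fun m _ => bimg_eq (htab _ (List.mem_range.2 h2)) m] at h3
      exact ⟨s * g, mul_mem hs' hgm, by rw [mul_smul, hgs, lmap_sound s _ _ hsr, sameList_sound _ _ h3]⟩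

/-- The invariant, on families of sets. -/
def finv (S X : Finset (Finset GolayPt)) : ℕ := ∑ A ∈ S, ∑ B ∈ X, (A ∩ B).card * (A ∩ B).card

theorem finv_smul (g : Equiv.Perm GolayPt) (S X : Finset (Finset GolayPt)) : finv (g • S) (g • X) = finv S X := by
  have key : ∀ (T : Finset (Finset GolayPt)) (F : Finset GolayPt → ℕ), ∑ A ∈ g • T, F A = ∑ A ∈ T, F (g • A) :=
    fun T F => Finset.sum_image fun a _ b _ e => smul_left_cancel g e
  rw [finv, key]
  refine Finset.sum_congr rfl fun A _ => ?_
  rw [key]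
  refine Finset.sum_congr rfl fun B _ => ?_
  rw [← Finset.smul_finset_inter, Finset.card_smul_finset]

theorem finv_lset {ms l : List ℕ} (hms : famOk ms = true) (hl : famOk l = true) :
    finv (lset ms) (lset l) = finvMask ms l := by
  have key : ∀ (L : List ℕ), famOk L = true → ∀ F : Finset GolayPt → ℕ,
      ∑ A ∈ lset L, F A = (L.map fun a => F (mset a)).sum := by
    intro L hL F
    obtain ⟨h1, h2⟩ := famOk_sound hL
    rw [lset, List.sum_toFinset _ (List.Nodup.map_on (fun a ha b hb => mset_inj (h2 a ha) (h2 b hb)) h1),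
      List.map_map]
    rfl
  rw [finv, key ms hms, finvMask]
  congr 1
  refine List.map_congr_left fun a _ => ?_
  rw [key l hl]
  congr 1
  refine List.map_congr_left fun b _ => ?_
  rw [card_mset_inter]
  rfl

/-- The orbit of one family in the stabiliser of another is cut out by the invariant. -/
theorem orbit_by_finv {ms : List ℕ} {L : List (List ℕ)} (hL : famsOk L = true) (hms : famOk ms = true)
    {gens : List (ℕ × ℕ)} {tabs : List ByteTab} {os : List FOrb} {idx : ℕ} (ho : forbsOk ms gens tabs os = true)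
    (hc : fclassesOk ms L os idx = true) {Q : Set (Finset (Finset GolayPt))} (hQ : Q = ↑(famSet L))
    (hinv : ∀ k ∈ M24, ∀ X, k • X ∈ Q ↔ X ∈ Q) {S : Finset (Finset GolayPt)}
    (hS : ∃ g ∈ M24, g • S = lset ms) {X : Finset (Finset GolayPt)} (hX : X ∈ Q) :
    orbit ↥(stabilizer M24 S) X = {Y | Y ∈ Q ∧ finv S Y = finv S X} := by
  obtain ⟨c, hc', hcS⟩ := hS
  have hok : ∀ l ∈ L, famOk l = true := fun l hl => by
    simp only [famsOk, Bool.and_eq_true, List.all_eq_true] at hL
    exact hL.2 l hl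
  ext Y
  constructor
  · rintro ⟨⟨⟨g, hg⟩, hgS⟩, rfl⟩
    have hgS' : g • S = S := hgS
    refine ⟨(hinv g hg X).2 hX, ?_⟩
    show finv S (g • X) = finv S X
    conv_lhs => rw [← hgS']
    exact finv_smul g S X
  · rintro ⟨hY, he⟩
    rw [← hinv c hc', hQ, Finset.mem_coe, mem_famSet] at hX hY
    obtain ⟨lX, hlX, eX⟩ := hX
    obtain ⟨lY, hlY, eY⟩ := hY
    have hinvs : finvMask ms lX = finvMask ms lY := by
      rw [← finv_lset hms (hok lX hlX), ← finv_lset hms (hok lY hlY), ← hcS, ← eX, ← eY, finv_smul,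
        finv_smul, he]
    simp only [fclassesOk, Bool.and_eq_true, decide_eq_true_eq] at hc
    obtain ⟨oX, hoX, hiX, i, hi, hXi⟩ := fcover_sound _ _ hc.2 lX hlX
    obtain ⟨oY, hoY, hiY, j, hj, hYj⟩ := fcover_sound _ _ hc.2 lY hlY
    obtain rfl : oX = oY := List.inj_on_of_nodup_map hc.1 hoX hoY (by rw [hiX, hiY, hinvs])
    obtain ⟨a, ha, hai⟩ := forb_sound ho hoX hi
    obtain ⟨b, hb, hbj⟩ := forb_sound ho hoX hj
    have hk : b * a⁻¹ ∈ famStab ms := mul_mem hb (inv_mem ha)
    obtain ⟨hkM, hkS⟩ := hk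
    refine ⟨⟨⟨c⁻¹ * (b * a⁻¹) * c, mul_mem (mul_mem (inv_mem hc') hkM) hc'⟩, ?_⟩, ?_⟩
    · show (c⁻¹ * (b * a⁻¹) * c) • S = S
      rw [mul_smul, mul_smul, hcS, show (b * a⁻¹) • lset ms = lset ms from hkS, ← hcS, inv_smul_smul]
    · show (c⁻¹ * (b * a⁻¹) * c) • X = Y
      rw [mul_smul, mul_smul, eX, ← hXi, ← hai, mul_smul b a⁻¹, inv_smul_smul, hbj, hYj, ← eY, inv_smul_smul]

/-- Number of candidates with a given invariant. -/
def finvCount (ms : List ℕ) (L : List (List ℕ)) (v : ℕ) : ℕ :=
  (L.filter fun l => Nat.beq (finvMask ms l) v).length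

theorem exists_orbit_of_finv {ms : List ℕ} {L : List (List ℕ)} (hL : famsOk L = true) (hms : famOk ms = true)
    {gens : List (ℕ × ℕ)} {tabs : List ByteTab} {os : List FOrb} {idx : ℕ} (ho : forbsOk ms gens tabs os = true)
    (hc : fclassesOk ms L os idx = true) {Q : Set (Finset (Finset GolayPt))} (hQ : Q = ↑(famSet L))
    (hinv : ∀ k ∈ M24, ∀ X, k • X ∈ Q ↔ X ∈ Q) {S : Finset (Finset GolayPt)}
    (hS : ∃ g ∈ M24, g • S = lset ms) (v : ℕ) (hv : L.any (fun l => Nat.beq (finvMask ms l) v) = true) :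
    ∃ X ∈ Q, (orbit ↥(stabilizer M24 S) X).ncard = finvCount ms L v ∧
      ∀ Y ∈ Q, finv S Y = v → Y ∈ orbit ↥(stabilizer M24 S) X := by
  obtain ⟨c, hc', hcS⟩ := hS
  simp only [List.any_eq_true, Nat.beq_eq] at hv
  obtain ⟨l, hl, hlv⟩ := hv
  have hok : ∀ l ∈ L, famOk l = true := fun l hl => by
    simp only [famsOk, Bool.and_eq_true, List.all_eq_true] at hL
    exact hL.2 l hl
  have htr : ∀ l ∈ L, finv S (c⁻¹ • lset l) = finvMask ms l := fun l hl => by
    rw [← finv_smul c, hcS, smul_inv_smul, finv_lset hms (hok l hl)]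
  have hX : c⁻¹ • lset l ∈ Q := by
    rw [hinv _ (inv_mem hc'), hQ, Finset.mem_coe, mem_famSet]
    exact ⟨l, hl, rfl⟩
  have horb := orbit_by_finv hL hms ho hc hQ hinv ⟨c, hc', hcS⟩ hX
  rw [htr l hl, hlv] at horb
  refine ⟨_, hX, ?_, fun Y hY he => horb ▸ ⟨hY, he⟩⟩
  have hset : {Y | Y ∈ Q ∧ finv S Y = v} =
      ↑((((L.filter fun l => Nat.beq (finvMask ms l) v).map lset).toFinset.image fun Z => c⁻¹ • Z)) := by
    ext Y
    simp only [Set.mem_setOf_eq, Finset.coe_image, Set.mem_image, Finset.mem_coe, List.mem_toFinset,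
      List.mem_map, List.mem_filter, Nat.beq_eq]
    constructor
    · rintro ⟨hY, he⟩
      rw [← hinv c hc', hQ, Finset.mem_coe, mem_famSet] at hY
      obtain ⟨m, hm, e⟩ := hY
      refine ⟨lset m, ⟨m, ⟨hm, ?_⟩, rfl⟩, by rw [← e, inv_smul_smul]⟩
      rw [← htr m hm, ← e, inv_smul_smul, he]
    · rintro ⟨_, ⟨m, ⟨hm, he⟩, rfl⟩, rfl⟩
      refine ⟨?_, by rw [htr m hm, he]⟩
      rw [hinv _ (inv_mem hc'), hQ, Finset.mem_coe, mem_famSet]
      exact ⟨m, hm, rfl⟩
  rw [horb, hset, Set.ncard_coe_finset, Finset.card_image_of_injective _ (MulAction.injective c⁻¹),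
    List.toFinset_card_of_nodup ((List.Sublist.map lset List.filter_sublist).nodup (fams_nodup hL)),
    List.length_map]
  rfl

/-- The values of the invariant. -/
theorem finv_mem_values {ms : List ℕ} {L : List (List ℕ)} (hL : famsOk L = true) (hms : famOk ms = true)
    {Q : Set (Finset (Finset GolayPt))} (hQ : Q = ↑(famSet L)) (hinv : ∀ k ∈ M24, ∀ X, k • X ∈ Q ↔ X ∈ Q)
    {S : Finset (Finset GolayPt)} (hS : ∃ g ∈ M24, g • S = lset ms) (vs : List ℕ)
    (hv : L.all (fun l => vs.any (Nat.beq (finvMask ms l))) = true) {Y : Finset (Finset GolayPt)} (hY : Y ∈ Q) :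
    finv S Y ∈ vs := by
  obtain ⟨c, hc', hcS⟩ := hS
  rw [← hinv c hc', hQ, Finset.mem_coe, mem_famSet] at hY
  obtain ⟨l, hl, e⟩ := hY
  simp only [famsOk, Bool.and_eq_true, List.all_eq_true] at hL
  simp only [List.all_eq_true, List.any_eq_true, Nat.beq_eq] at hv
  obtain ⟨w, hw, hwe⟩ := hv l hl
  rw [← finv_smul c, e, hcS, finv_lset hms (hL.2 l hl), hwe]
  exact hw

/-- Single-member families, ordered by key. -/
def octFams : List (List ℕ) := octSorted.map fun m => [m]

theorem octFams_ok : famsOk octFams = true := by decide +kernel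

theorem octSorted_check : octSorted.all octMask = true ∧ octSorted.length = 759 ∧
    octSorted.all (fun m => decide (m < 16777216)) = true := by decide +kernel

theorem octFams_mem {m : ℕ} (hm : m ∈ octSorted) : mset m ∈ octads := by
  obtain ⟨h1, -, h3⟩ := octSorted_check
  exact octMask_sound (by simpa using List.all_eq_true.1 h3 m hm) (List.all_eq_true.1 h1 m hm)

/-- The octads as single-member families. -/
def octSingles : Set (Finset (Finset GolayPt)) := (fun o => ({o} : Finset (Finset GolayPt))) '' octads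

theorem lset_singleton (m : ℕ) : lset [m] = {mset m} := by simp [lset]

theorem octSingles_eq : octSingles = ↑(famSet octFams) := by
  refine (Set.eq_of_subset_of_ncard_le ?_ ?_ (Set.toFinite _)).symm
  · intro X hX
    obtain ⟨l, hl, rfl⟩ := mem_famSet.1 hX
    obtain ⟨m, hm, rfl⟩ := List.mem_map.1 hl
    exact ⟨mset m, octFams_mem hm, (lset_singleton m).symm⟩
  · rw [octSingles, Set.ncard_image_of_injective _ Finset.singleton_injective, octads_ncard,
      Set.ncard_coe_finset, famSet_card octFams_ok, octFams, List.length_map, octSorted_check.2.1]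

theorem smul_mem_octSingles_iff {g : Equiv.Perm GolayPt} (hg : g ∈ M24) (X : Finset (Finset GolayPt)) :
    g • X ∈ octSingles ↔ X ∈ octSingles := by
  have key : ∀ {k : Equiv.Perm GolayPt}, k ∈ M24 → ∀ X, X ∈ octSingles → k • X ∈ octSingles := by
    rintro k hk _ ⟨o, ho, rfl⟩
    exact ⟨k • o, smul_octad_mem hk ho, (Finset.smul_finset_singleton o).symm⟩
  exact ⟨fun h => by simpa using key (inv_mem hg) _ h, key hg X⟩

theorem stabilizer_singleton (A : Finset GolayPt) :
    stabilizer M24 ({A} : Finset (Finset GolayPt)) = stabilizer M24 A := by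
  ext g
  simp [mem_stabilizer_iff, Finset.smul_finset_singleton]

theorem orbit_singleton (H : Subgroup M24) (A : Finset GolayPt) :
    orbit ↥H ({A} : Finset (Finset GolayPt)) = (fun B => ({B} : Finset (Finset GolayPt))) '' orbit ↥H A := by
  ext Y
  constructor
  · rintro ⟨g, rfl⟩
    exact ⟨g • A, ⟨g, rfl⟩, (Finset.smul_finset_singleton A).symm⟩
  · rintro ⟨_, ⟨g, rfl⟩, rfl⟩
    exact ⟨g, Finset.smul_finset_singleton A⟩

end Cfsg.Lib.Concrete
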