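import Cfsg.Agent.Lib.Concrete.FamOrbitData
import Cfsg.Agent.Lib.Concrete.OrbitFacts

/-!
The standard sextet and trio: M24 is transitive on sextets and on trios.
-/

set_option autoImplicit false
set_option maxHeartbeats 1000000

namespace Cfsg.Lib.Concrete

open scoped Pointwise
open MulAction

/-- The standard sextet. -/
def mSextet : List ℕ := [403456, 606272, 1081368, 2098434, 4194341, 8393344]
/-- The standard trio. -/
def mTrio : List ℕ := [4038912, 4346506, 8391797]
theorem fTopS_orbs : forbsOk [] fTopSGens fTopSTabs fTopSOrbs = true := by decide +kernel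

theorem fTopS_classes : fclassesOk [] sextList fTopSOrbs fTopSIx = true := by decide +kernel

theorem fTopT_orbs : forbsOk [] fTopTGens fTopTTabs fTopTOrbs = true := by decide +kernel

theorem fTopT_classes : fclassesOk [] trioList fTopTOrbs fTopTIx = true := by decide +kernel

theorem std_sextet {S : Finset (Finset GolayPt)} (hS : S ∈ sextets) : ∃ g ∈ M24, g • S = lset mSextet := by
  have hempty : ∃ g ∈ M24, g • (∅ : Finset (Finset GolayPt)) = lset [] :=
    ⟨1, one_mem _, by rw [one_smul]; rfl⟩
  have horb := orbit_by_finv (ms := []) sextFams rfl (gens := fTopSGens) (tabs := fTopSTabs) (os := fTopSOrbs) (idx := fTopSIx)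
    fTopS_orbs fTopS_classes sextets_eq (fun _ hk X => smul_mem_sextets_iff hk X) hempty hS
  have h0 : lset mSextet ∈ sextets := by
    obtain ⟨h1, h2⟩ : (∀ t ∈ mSextet, t < 2 ^ 24) ∧ sextList.any (fun l => sameList l mSextet) = true := by
      decide +kernel
    obtain ⟨l, hl, hs⟩ := List.any_eq_true.1 h2
    exact sameList_sound _ _ hs ▸ lset_mem_sextets hl
  have : lset mSextet ∈ orbit ↥(stabilizer M24 (∅ : Finset (Finset GolayPt))) S :=
    horb ▸ ⟨h0, by simp [finv]⟩
  obtain ⟨g, hg⟩ := this
  exact ⟨_, (g : M24).2, hg⟩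

theorem std_trio {T : Finset (Finset GolayPt)} (hT : T ∈ trios) : ∃ g ∈ M24, g • T = lset mTrio := by
  have hempty : ∃ g ∈ M24, g • (∅ : Finset (Finset GolayPt)) = lset [] :=
    ⟨1, one_mem _, by rw [one_smul]; rfl⟩
  have horb := orbit_by_finv (ms := []) trioFams rfl (gens := fTopTGens) (tabs := fTopTTabs) (os := fTopTOrbs) (idx := fTopTIx)
    fTopT_orbs fTopT_classes trios_eq (fun _ hk X => smul_mem_trios_iff hk X) hempty hT
  have h0 : lset mTrio ∈ trios := by
    obtain ⟨l, hl, hs⟩ := List.any_eq_true.1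
      (show trioList.any (fun l => sameList l mTrio) = true by decide +kernel)
    exact sameList_sound _ _ hs ▸ lset_mem_trios hl
  have : lset mTrio ∈ orbit ↥(stabilizer M24 (∅ : Finset (Finset GolayPt))) T :=
    horb ▸ ⟨h0, by simp [finv]⟩
  obtain ⟨g, hg⟩ := this
  exact ⟨_, (g : M24).2, hg⟩

theorem smul_sextets_mem (g : M24) {X : Finset (Finset GolayPt)} (hX : X ∈ sextets) : g • X ∈ sextets :=
  smul_mem_sextets g.2 hX

theorem smul_trios_mem (g : M24) {X : Finset (Finset GolayPt)} (hX : X ∈ trios) : g • X ∈ trios :=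
  smul_mem_trios g.2 hX

end Cfsg.Lib.Concrete
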