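import Cfsg.Agent.Lib.Concrete.FamStructureData
import Cfsg.Agent.Lib.Concrete.FamTop

/-!
The actions of the stabilisers of a sextet and of a trio on its members, and the structure of
these stabilisers.
-/

set_option autoImplicit false
set_option maxRecDepth 20000

namespace Cfsg.Lib.Concrete

open scoped Pointwise symmDiff
open MulAction

theorem smul_mem_fam_iff {S : Finset (Finset GolayPt)} (g : stabilizer M24 S) (t : Finset GolayPt) :
    g.1.1 • t ∈ S ↔ t ∈ S := by
  have he : g.1.1 • S = S := g.2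
  exact (Finset.ext_iff.1 he (g.1.1 • t)).symm.trans (Finset.smul_mem_smul_finset_iff g.1.1)

/-- The action of the stabiliser of a family on its members. -/
def toFamPerm (S : Finset (Finset GolayPt)) : stabilizer M24 S →* Equiv.Perm ↥S where
  toFun g := (MulAction.toPerm g.1.1 : Equiv.Perm (Finset GolayPt)).subtypePerm (smul_mem_fam_iff g)
  map_one' := Equiv.ext fun t => Subtype.ext (one_smul (Equiv.Perm GolayPt) (t : Finset GolayPt))
  map_mul' a b := Equiv.ext fun t => Subtype.ext (mul_smul a.1.1 b.1.1 (t : Finset GolayPt))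

theorem toFamPerm_apply {S : Finset (Finset GolayPt)} (g : stabilizer M24 S) (t : ↥S) :
    (toFamPerm S g t : Finset GolayPt) = g.1.1 • (t : Finset GolayPt) := rfl

theorem top_of_cycle_swap {n : ℕ} (K : Subgroup (Equiv.Perm (Fin (n + 2)))) (h1 : finRotate (n + 2) ∈ K)
    (h2 : Equiv.swap (0 : Fin (n + 2)) 1 ∈ K) : K = ⊤ := by
  rw [eq_top_iff, ← Equiv.Perm.closure_cycle_adjacent_swap (isCycle_finRotate (n := n)) support_finRotate 0,
    Subgroup.closure_le]
  rintro π (rfl | rfl)
  · exact h1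
  · rwa [finRotate_succ_apply, zero_add]

/-- The pair gives an element of M24 permuting the listed masks as `τ`. -/
def PermsMasks (ms : List ℕ) (e : ℕ × ℕ) (k : ℕ) (τ : Fin k → Fin k) : Prop :=
  m24Check e.1 e.2 = true ∧ ∀ i : Fin k, pimg e.1 (ms.getD i.val 0) = ms.getD (τ i).val 0

theorem getD_inj_of_famOk {ms : List ℕ} (hok : famOk ms = true) {i j : ℕ} (hi : i < ms.length) (hj : j < ms.length)
    (h : mset (ms.getD i 0) = mset (ms.getD j 0)) : i = j := by
  obtain ⟨hnd, hlt⟩ := famOk_sound hok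
  rw [List.getD_eq_getElem _ _ hi, List.getD_eq_getElem _ _ hj] at h
  exact hnd.getElem_inj_iff.1 (mset_inj (hlt _ (List.getElem_mem _)) (hlt _ (List.getElem_mem _)) h)

theorem toFamPerm_surjective {n : ℕ} {ms : List ℕ} (hok : famOk ms = true) (hlen : ms.length = n + 2)
    {a b : ℕ × ℕ} (ha : PermsMasks ms a (n + 2) (finRotate (n + 2)))
    (hb : PermsMasks ms b (n + 2) (Equiv.swap (0 : Fin (n + 2)) 1)) :
    Function.Surjective (toFamPerm (lset ms)) := by
  have hmem : ∀ i : Fin (n + 2), mset (ms.getD i.val 0) ∈ lset ms := fun i => by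
    rw [List.getD_eq_getElem _ _ (show i.val < ms.length by omega)]
    exact List.mem_toFinset.2 (List.mem_map_of_mem (List.getElem_mem _))
  let ε : Fin (n + 2) → ↥(lset ms) := fun i => ⟨_, hmem i⟩
  have hε : Function.Bijective ε := by
    refine (Fintype.bijective_iff_injective_and_card ε).2 ⟨fun i j h => ?_, by simp [lset_card hok, hlen]⟩
    exact Fin.ext (getD_inj_of_famOk hok (by omega) (by omega) (congrArg Subtype.val h))
  let E := Equiv.ofBijective ε hε
  have key : ∀ (e : ℕ × ℕ) (τ : Equiv.Perm (Fin (n + 2))), PermsMasks ms e (n + 2) τ →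
      E.permCongr τ ∈ (toFamPerm (lset ms)).range := by
    rintro e τ ⟨hc, hmap⟩
    obtain ⟨g, hg, hr, -⟩ := exists_of_m24Check hc
    have hpt : ∀ i, g • (E i).1 = (E (τ i)).1 := fun i => by
      show g • mset _ = mset _
      rw [hr.smul_mset, hmap]
    have hstab : (⟨g, hg⟩ : M24) ∈ stabilizer M24 (lset ms) := by
      refine MulAction.mem_stabilizer_iff.2
        (Finset.eq_of_subset_of_card_le (fun t ht => ?_) (Finset.card_smul_finset _ _).ge)
      obtain ⟨u, hu, rfl⟩ := Finset.mem_smul_finset.1 ht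
      obtain ⟨i, hi⟩ := E.surjective ⟨u, hu⟩
      show g • u ∈ lset ms
      rw [show u = (E i).1 from (congrArg Subtype.val hi).symm, hpt]
      exact (E (τ i)).2
    refine ⟨⟨⟨g, hg⟩, hstab⟩, Equiv.ext fun t => Subtype.ext ?_⟩
    obtain ⟨i, rfl⟩ := E.surjective t
    rw [toFamPerm_apply, Equiv.permCongr_apply, Equiv.symm_apply_apply]
    exact hpt i
  have htop : (toFamPerm (lset ms)).range.comap E.permCongrHom.toMonoidHom = ⊤ :=
    top_of_cycle_swap _ (key a _ ha) (key b _ hb)
  intro π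
  obtain ⟨τ, rfl⟩ := E.permCongrHom.surjective π
  have hτ : τ ∈ (toFamPerm (lset ms)).range.comap E.permCongrHom.toMonoidHom := by
    rw [htop]; exact Subgroup.mem_top τ
  exact hτ

theorem toFamPerm_surjective_of_equiv {S S₀ : Finset (Finset GolayPt)} {c : Equiv.Perm GolayPt} (hc : c ∈ M24)
    (hcS : c • S = S₀) (h : Function.Surjective (toFamPerm S₀)) : Function.Surjective (toFamPerm S) := by
  intro e
  let ι : ↥S ≃ ↥S₀ :=
    { toFun := fun t => ⟨c • t.1, hcS ▸ Finset.smul_mem_smul_finset t.2⟩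
      invFun := fun t => ⟨c⁻¹ • t.1, by
        rw [← Finset.smul_mem_smul_finset_iff c, smul_inv_smul, hcS]; exact t.2⟩
      left_inv := fun t => Subtype.ext (inv_smul_smul c t.1)
      right_inv := fun t => Subtype.ext (smul_inv_smul c t.1) }
  obtain ⟨g, hg⟩ := h (ι.permCongr e)
  have hgS : (⟨c, hc⟩⁻¹ * g.1 * ⟨c, hc⟩ : M24) ∈ stabilizer M24 S := by
    rw [MulAction.mem_stabilizer_iff, mul_smul, mul_smul, show (⟨c, hc⟩ : M24) • S = S₀ from hcS,
      MulAction.mem_stabilizer_iff.1 g.2, inv_smul_eq_iff]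
    exact hcS.symm
  refine ⟨⟨_, hgS⟩, Equiv.ext fun t => Subtype.ext ?_⟩
  have h1 : g.1.1 • (c • t.1) = c • (e t).1 := by
    have := congrArg (fun π : Equiv.Perm ↥S₀ => (π (ι t)).1) hg
    simpa [ι, toFamPerm_apply, Equiv.permCongr_apply] using this
  rw [toFamPerm_apply]
  show (c⁻¹ * g.1.1 * c) • t.1 = _
  rw [mul_smul, mul_smul, h1, inv_smul_smul]

theorem card_fam_stabilizer {Q : Set (Finset (Finset GolayPt))}
    (hcl : ∀ g : M24, ∀ X ∈ Q, g • X ∈ Q) {S₀ : Finset (Finset GolayPt)}
    (htr : ∀ X ∈ Q, ∃ g ∈ M24, g • X = S₀) {S : Finset (Finset GolayPt)} (hS : S ∈ Q) :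
    Q.ncard * Nat.card (stabilizer M24 S) = 244823040 := by
  have horb : orbit M24 S = Q := by
    ext X
    constructor
    · rintro ⟨g, rfl⟩; exact hcl g S hS
    · intro hX
      obtain ⟨a, ha, hae⟩ := htr S hS
      obtain ⟨b, hb, hbe⟩ := htr X hX
      refine ⟨⟨b, hb⟩⁻¹ * ⟨a, ha⟩, ?_⟩
      show (b⁻¹ * a) • S = X
      rw [mul_smul, hae, ← hbe, inv_smul_smul]
  rw [← horb, ← MulAction.index_stabilizer, Subgroup.index_mul_card, card_M24]

theorem card_sextet_stabilizer {S : Finset (Finset GolayPt)} (hS : S ∈ sextets) :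
    Nat.card (stabilizer M24 S) = 138240 := by
  have h := card_fam_stabilizer (Q := sextets) (fun g X hX => smul_sextets_mem g hX) (fun X hX => std_sextet hX) hS
  rw [sextets_ncard] at h; omega

theorem card_trio_stabilizer {T : Finset (Finset GolayPt)} (hT : T ∈ trios) :
    Nat.card (stabilizer M24 T) = 64512 := by
  have h := card_fam_stabilizer (Q := trios) (fun g X hX => smul_trios_mem g hX) (fun X hX => std_trio hX) hT
  rw [trios_ncard] at h; omega

theorem card_ker_mul {G H : Type*} [Group G] [Group H] (f : G →* H) (hf : Function.Surjective f) :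
    Nat.card f.ker * Nat.card H = Nat.card G := by
  have h := Subgroup.card_mul_index f.ker
  rwa [Subgroup.index_ker, show f.range = ⊤ from MonoidHom.range_eq_top.2 hf, Subgroup.card_top] at h

/-- The positions of a packed permutation. -/
def pkey (p : ℕ) : List ℕ := bits24.map (pget p)

theorem pkey_eq_of_rep {g : Equiv.Perm GolayPt} {p q : ℕ} (hp : Rep g p) (hq : Rep g q) : pkey p = pkey q := by
  refine List.map_congr_left fun i hi => ?_
  have hlt := mem_bits24.1 hi
  exact (hp.apply ⟨i, hlt⟩).symm.trans (hq.apply ⟨i, hlt⟩)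

/-- A listed family of as many distinct members as the subgroup has elements is all of it. -/
theorem covers {H : Subgroup M24} (A : Subgroup H) {L : List (ℕ × ℕ)}
    (hmem : ∀ e ∈ L, ∃ g ∈ A, Rep g.1.1 e.1) (hnd : (L.map fun e => pkey e.1).Nodup)
    (hcard : Nat.card A = L.length) : ∀ g ∈ A, ∃ e ∈ L, Rep g.1.1 e.1 := by
  have hmem' : ∀ i : Fin L.length, ∃ g : A, Rep g.1.1.1 (L[i.val]).1 := fun i => by
    obtain ⟨g, hg, hr⟩ := hmem _ (List.getElem_mem i.isLt)
    exact ⟨⟨g, hg⟩, hr⟩
  choose F hF using hmem'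
  have hinj : Function.Injective F := fun i j h => by
    have := pkey_eq_of_rep (hF i) (h.symm ▸ hF j)
    exact Fin.ext ((hnd.getElem_inj_iff (hi := by simp) (hj := by simp)).1
      (by rw [List.getElem_map, List.getElem_map]; exact this))
  have hb := hinj.bijective_of_nat_card_le (by rw [hcard, Nat.card_fin])
  intro g hg
  obtain ⟨i, hi⟩ := hb.2 ⟨g, hg⟩
  exact ⟨_, List.getElem_mem i.isLt, by have := hF i; rwa [hi] at this⟩

/-- The packed permutation squares to the identity. -/
def invol (p : ℕ) : Bool := bits24.all fun i => Nat.beq (pget p (pget p i)) i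

/-- The product of the two packed permutations squares to the identity. -/
def involProd (a b : ℕ) : Bool := bits24.all fun i => Nat.beq (pget a (pget b (pget a (pget b i)))) i

theorem invol_iff {g : Equiv.Perm GolayPt} {p : ℕ} (hg : Rep g p) : invol p = true ↔ g * g = 1 := by
  simp only [invol, List.all_eq_true, Nat.beq_eq]
  constructor
  · intro h
    refine Equiv.ext fun x => gidx_injective (Fin.ext ?_)
    rw [Equiv.Perm.mul_apply, hg, hg, Equiv.Perm.one_apply]
    exact h _ (mem_bits24.2 (gidx x).isLt)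
  · intro h i hi
    have hlt := mem_bits24.1 hi
    have h1 : (gidx (g (g (gpt ⟨i, hlt⟩)))).val = i := by
      rw [← Equiv.Perm.mul_apply, h, Equiv.Perm.one_apply, gidx_gpt]
    rw [hg, hg, gidx_gpt] at h1
    exact h1

theorem involProd_sound {g h : Equiv.Perm GolayPt} {p q : ℕ} (hg : Rep g p) (hh : Rep h q)
    (hc : involProd p q = true) : g * h * (g * h) = 1 := by
  simp only [involProd, List.all_eq_true, Nat.beq_eq] at hc
  refine Equiv.ext fun x => gidx_injective (Fin.ext ?_)
  simp only [Equiv.Perm.mul_apply, Equiv.Perm.one_apply]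
  rw [hg, hh, hg, hh]
  exact hc _ (mem_bits24.2 (gidx x).isLt)

/-! ### The sextet -/

theorem sextGens_check : PermsMasks mSextet (sextGens.getD 0 (0, 0)) 6 (finRotate 6) ∧
    PermsMasks mSextet (sextGens.getD 1 (0, 0)) 6 (Equiv.swap (0 : Fin 6) 1) := by
  unfold PermsMasks; decide +kernel

theorem mSextet_ok : famOk mSextet = true ∧ mSextet.length = 6 := by decide +kernel

theorem sextet_induces_sym {S : Finset (Finset GolayPt)} (hS : S ∈ sextets) :
    Function.Surjective (toFamPerm S) := by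
  obtain ⟨c, hc, hcS⟩ := std_sextet hS
  exact toFamPerm_surjective_of_equiv hc hcS
    (toFamPerm_surjective (n := 4) mSextet_ok.1 mSextet_ok.2 sextGens_check.1 sextGens_check.2)

theorem sextet_kernel_card {S : Finset (Finset GolayPt)} (hS : S ∈ sextets) :
    Nat.card (toFamPerm S).ker = 192 := by
  have h := card_ker_mul _ (sextet_induces_sym hS)
  rw [card_sextet_stabilizer hS, Nat.card_perm, Nat.card_eq_finsetCard, hS.1] at h
  rw [show Nat.factorial 6 = 720 from rfl] at h
  omega

theorem sextKer_check : (sextKer.all fun e => m24Check e.1 e.2 && mSextet.all fun m => Nat.beq (pimg e.1 m) m) = true ∧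
    (sextKer.map fun e => pkey e.1).Nodup ∧ sextKer.length = 192 ∧
    (sextKer.filter fun e => invol e.1).length = 64 ∧
    ((sextKer.filter fun e => invol e.1).all fun a => (sextKer.filter fun e => invol e.1).all fun b =>
      involProd a.1 b.1) = true := by
  decide +kernel

theorem sextet_std_mem : lset mSextet ∈ sextets := by
  obtain ⟨l, hl, hs⟩ := List.any_eq_true.1
    (show sextList.any (fun l => sameList l mSextet) = true by decide +kernel)
  exact sameList_sound _ _ hs ▸ lset_mem_sextets hl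

theorem sextet_normal_std : ∃ N : Subgroup (stabilizer M24 (lset mSextet)),
    N.Normal ∧ Nat.card N = 64 ∧ ∀ x ∈ N, x * x = 1 := by
  obtain ⟨hmem, hnd, hlen, h64, hprod⟩ := sextKer_check
  set A := (toFamPerm (lset mSextet)).ker with hA
  have hin : ∀ e ∈ sextKer, ∃ g ∈ A, Rep g.1.1 e.1 := fun e he => by
    have h := List.all_eq_true.1 hmem e he
    simp only [Bool.and_eq_true, List.all_eq_true, Nat.beq_eq] at h
    obtain ⟨g, hg, hr, -⟩ := exists_of_m24Check h.1
    have hfix : ∀ t ∈ lset mSextet, g • t = t := fun t ht => by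
      obtain ⟨m, hm, rfl⟩ := List.mem_map.1 (List.mem_toFinset.1 ht)
      rw [hr.smul_mset, h.2 m hm]
    have hst : (⟨g, hg⟩ : M24) ∈ stabilizer M24 (lset mSextet) := by
      rw [MulAction.mem_stabilizer_iff]
      ext t
      rw [Finset.mem_smul_finset]
      exact ⟨fun ⟨u, hu, hut⟩ => hut ▸ (show g • u ∈ lset mSextet from (hfix u hu).symm ▸ hu),
        fun ht => ⟨t, ht, hfix t ht⟩⟩
    refine ⟨⟨⟨g, hg⟩, hst⟩, ?_, hr⟩
    rw [hA, MonoidHom.mem_ker]
    exact Equiv.ext fun t => Subtype.ext (hfix t.1 t.2)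
  have hcov := covers A hin hnd (by rw [hlen, hA]; exact sextet_kernel_card sextet_std_mem)
  have hsq : ∀ {g : stabilizer M24 (lset mSextet)}, g * g = 1 ↔ g.1.1 * g.1.1 = 1 := fun {g} =>
    ⟨fun h => congrArg (fun x : stabilizer M24 (lset mSextet) => x.1.1) h, fun h => Subtype.ext (Subtype.ext h)⟩
  let N : Subgroup (stabilizer M24 (lset mSextet)) :=
    { carrier := {g | g ∈ A ∧ g * g = 1}
      one_mem' := ⟨one_mem _, one_mul _⟩
      mul_mem' := by
        rintro a b ⟨ha, ha2⟩ ⟨hb, hb2⟩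
        refine ⟨mul_mem ha hb, hsq.2 ?_⟩
        obtain ⟨ea, hea, hra⟩ := hcov a ha
        obtain ⟨eb, heb, hrb⟩ := hcov b hb
        exact involProd_sound hra hrb (List.all_eq_true.1 (List.all_eq_true.1 hprod ea
          (List.mem_filter.2 ⟨hea, (invol_iff hra).2 (hsq.1 ha2)⟩)) eb
          (List.mem_filter.2 ⟨heb, (invol_iff hrb).2 (hsq.1 hb2)⟩))
      inv_mem' := by
        rintro a ⟨ha, ha2⟩
        exact ⟨inv_mem ha, by rw [← mul_inv_rev, ha2, inv_one]⟩ }
  refine ⟨N, ⟨fun n hn g => ⟨MonoidHom.normal_ker _ |>.conj_mem n hn.1 g, by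
      rw [show g * n * g⁻¹ * (g * n * g⁻¹) = g * (n * n) * g⁻¹ by group, hn.2, mul_one, mul_inv_cancel]⟩⟩,
    ?_, fun x hx => hx.2⟩
  set L := sextKer.filter fun e => invol e.1
  have hmemL : ∀ i : Fin L.length, ∃ g : N, Rep g.1.1.1 (L[i.val]).1 := fun i => by
    obtain ⟨h1, h2⟩ := List.mem_filter.1 (List.getElem_mem i.isLt)
    obtain ⟨g, hg, hr⟩ := hin _ h1
    exact ⟨⟨g, hg, hsq.2 ((invol_iff hr).1 h2)⟩, hr⟩
  choose F hF using hmemL
  have hndL : (L.map fun e => pkey e.1).Nodup := hnd.sublist (List.filter_sublist.map _)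
  rw [← h64, ← Nat.card_fin L.length]
  refine (Nat.card_eq_of_bijective F ⟨fun i j h => ?_, fun g => ?_⟩).symm
  · have := pkey_eq_of_rep (hF i) (h.symm ▸ hF j)
    exact Fin.ext ((hndL.getElem_inj_iff (hi := by simp) (hj := by simp)).1
      (by rw [List.getElem_map, List.getElem_map]; exact this))
  · obtain ⟨e, he, hr⟩ := hcov g.1 g.2.1
    obtain ⟨i, hi, hie⟩ := List.getElem_of_mem (List.mem_filter.2 ⟨he, (invol_iff hr).2 (hsq.1 g.2.2)⟩ : e ∈ L)
    exact ⟨⟨i, hi⟩, Subtype.ext (Subtype.ext (Subtype.ext ((hie ▸ hF ⟨i, hi⟩ : Rep _ e.1).ext hr)))⟩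

theorem sextet_normal {S : Finset (Finset GolayPt)} (hS : S ∈ sextets) :
    ∃ N : Subgroup (stabilizer M24 S), N.Normal ∧ Nat.card N = 64 ∧ ∀ x ∈ N, x * x = 1 := by
  obtain ⟨c, hc, hcS⟩ := std_sextet hS
  let E : stabilizer M24 S ≃* stabilizer M24 (lset mSextet) :=
    MulAction.stabilizerEquivStabilizer (show lset mSextet = (⟨c, hc⟩ : M24) • S from hcS.symm)
  obtain ⟨N, hN, hcard, hsq⟩ := sextet_normal_std
  refine ⟨N.comap E.toMonoidHom, inferInstance, ?_, fun x hx => E.injective ?_⟩
  · rw [← hcard]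
    exact Nat.card_congr (E.toEquiv.subtypeEquiv fun _ => Iff.rfl)
  · rw [map_mul, map_one]; exact hsq _ hx

end Cfsg.Lib.Concrete
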