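import Cfsg.Prelude.Def_ParabolicCharacters

/-!
Centralisers and fixed cosets of the Borel subgroup in `GL₂`.
-/

set_option autoImplicit false

namespace Cfsg.Lib.Concrete

open Matrix

variable {F : Type*} [Field F]

local notation "M₂" => Matrix (Fin 2) (Fin 2) F

theorem mem_upperTriangularGL_two (x : GL (Fin 2) F) :
    x ∈ Cfsg.upperTriangularGL 2 F ↔ (x : M₂) 1 0 = 0 := by
  constructor
  · intro h
    exact h (show (0 : Fin 2) < 1 by decide)
  · intro h i j hij
    have hij' : j < i := hij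
    fin_cases i <;> fin_cases j <;> first | exact absurd hij' (by decide) | exact h

/-- Coset representatives of the Borel subgroup of `GL₂`. -/
def borelRep : Option F → GL (Fin 2) F
  | some a => Matrix.GeneralLinearGroup.mkOfDetNeZero !![1, 0; a, 1] (by simp [Matrix.det_fin_two_of])
  | none => Matrix.GeneralLinearGroup.mkOfDetNeZero !![0, 1; 1, 0] (by simp [Matrix.det_fin_two_of])

theorem borelRep_inv_mul_entry (o : Option F) (y : GL (Fin 2) F) :
    (((borelRep o)⁻¹ * y : GL (Fin 2) F) : M₂) 1 0 =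
      match o with
      | some a => (y : M₂) 1 0 - a * (y : M₂) 0 0
      | none => (y : M₂) 0 0 := by
  set z := (borelRep o)⁻¹ * y with hz
  have h : borelRep o * z = y := by rw [hz, mul_inv_cancel_left]
  have h' : (borelRep o : M₂) * (z : M₂) = (y : M₂) := by rw [← Units.val_mul, h]
  have e00 := congrFun (congrFun h' 0) 0
  have e10 := congrFun (congrFun h' 1) 0
  cases o with
  | some a =>
    simp [borelRep, Matrix.GeneralLinearGroup.mkOfDetNeZero, Matrix.mul_apply, Fin.sum_univ_two] at e00 e10 ⊢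
    linear_combination e10 - a * e00
  | none =>
    simp [borelRep, Matrix.GeneralLinearGroup.mkOfDetNeZero, Matrix.mul_apply, Fin.sum_univ_two] at e00 e10 ⊢
    linear_combination e00

theorem borelRep_bijective :
    Function.Bijective fun o : Option F => (QuotientGroup.mk (borelRep o) : GL (Fin 2) F ⧸ Cfsg.upperTriangularGL 2 F) := by
  constructor
  · intro o o' h
    have h1 := QuotientGroup.eq.1 h
    rw [mem_upperTriangularGL_two, borelRep_inv_mul_entry] at h1
    rcases o with _ | a <;> rcases o' with _ | b <;>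
      simp [borelRep, Matrix.GeneralLinearGroup.mkOfDetNeZero] at h1 ⊢
    · linear_combination -h1
  · intro x
    obtain ⟨y, rfl⟩ := QuotientGroup.mk_surjective x
    rcases eq_or_ne ((y : M₂) 0 0) 0 with h | h
    · exact ⟨none, QuotientGroup.eq.2 (by rw [mem_upperTriangularGL_two, borelRep_inv_mul_entry]; exact h)⟩
    · exact ⟨some ((y : M₂) 1 0 / (y : M₂) 0 0),
        QuotientGroup.eq.2 (by rw [mem_upperTriangularGL_two, borelRep_inv_mul_entry]; simp [h])⟩

theorem smul_borelRep_eq_iff (g : GL (Fin 2) F) (o : Option F) :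
    g • (QuotientGroup.mk (borelRep o) : GL (Fin 2) F ⧸ Cfsg.upperTriangularGL 2 F) = QuotientGroup.mk (borelRep o) ↔
      match o with
      | some a => (g : M₂) 1 0 + (g : M₂) 1 1 * a - a * ((g : M₂) 0 0 + (g : M₂) 0 1 * a) = 0
      | none => (g : M₂) 0 1 = 0 := by
  rw [eq_comm]
  show QuotientGroup.mk (borelRep o) = QuotientGroup.mk (g * borelRep o) ↔ _
  rw [QuotientGroup.eq, mem_upperTriangularGL_two, borelRep_inv_mul_entry]
  cases o with
  | some a => simp [borelRep, Matrix.GeneralLinearGroup.mkOfDetNeZero, Matrix.mul_apply, Fin.sum_univ_two]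
  | none => simp [borelRep, Matrix.GeneralLinearGroup.mkOfDetNeZero, Matrix.mul_apply, Fin.sum_univ_two]

theorem card_fixedBy_borel (g : GL (Fin 2) F) :
    Nat.card (MulAction.fixedBy (GL (Fin 2) F ⧸ Cfsg.upperTriangularGL 2 F) g) =
      Nat.card {o : Option F // match o with
        | some a => (g : M₂) 1 0 + (g : M₂) 1 1 * a - a * ((g : M₂) 0 0 + (g : M₂) 0 1 * a) = 0
        | none => (g : M₂) 0 1 = 0} :=
  (Nat.card_congr (Equiv.subtypeEquiv (Equiv.ofBijective _ borelRep_bijective) fun o =>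
    (smul_borelRep_eq_iff g o).symm)).symm

theorem eigen_of_col {g : GL (Fin 2) F} (hno : ∀ (c : F) (v : Fin 2 → F), v ≠ 0 → (g : M₂).mulVec v ≠ c • v)
    (a : F) : (g : M₂) 1 0 + (g : M₂) 1 1 * a - a * ((g : M₂) 0 0 + (g : M₂) 0 1 * a) ≠ 0 := by
  intro h
  refine hno ((g : M₂) 0 0 + (g : M₂) 0 1 * a) ![1, a] (fun e => by simpa using congrFun e 0) ?_
  funext i
  fin_cases i
  · simp [Matrix.mulVec, dotProduct, Fin.sum_univ_two]
  · simp [Matrix.mulVec, dotProduct, Fin.sum_univ_two]; linear_combination h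

theorem eigen_of_none {g : GL (Fin 2) F} (hno : ∀ (c : F) (v : Fin 2 → F), v ≠ 0 → (g : M₂).mulVec v ≠ c • v) :
    (g : M₂) 0 1 ≠ 0 := by
  intro h
  refine hno ((g : M₂) 1 1) ![0, 1] (fun e => by simpa using congrFun e 1) ?_
  funext i
  fin_cases i <;> simp [Matrix.mulVec, dotProduct, Fin.sum_univ_two, h]

theorem card_centralizer_diag [Fintype F] {g : GL (Fin 2) F} (h01 : (g : M₂) 0 1 = 0) (h10 : (g : M₂) 1 0 = 0)
    (hne : (g : M₂) 0 0 ≠ (g : M₂) 1 1) :
    Nat.card (Subgroup.centralizer ({g} : Set (GL (Fin 2) F))) = (Fintype.card F - 1) ^ 2 := by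
  classical
  have hmem : ∀ x : GL (Fin 2) F, x ∈ Subgroup.centralizer ({g} : Set (GL (Fin 2) F)) ↔
      (x : M₂) 0 1 = 0 ∧ (x : M₂) 1 0 = 0 := by
    intro x
    have hd : (g : M₂) 0 0 - (g : M₂) 1 1 ≠ 0 := sub_ne_zero.2 hne
    rw [Subgroup.mem_centralizer_singleton_iff, ← Units.val_inj, Units.val_mul, Units.val_mul,
      ← Matrix.ext_iff, Fin.forall_fin_two, Fin.forall_fin_two, Fin.forall_fin_two]
    simp only [Matrix.mul_apply, Fin.sum_univ_two, h01, h10, mul_zero, zero_mul, add_zero, zero_add]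
    constructor
    · rintro ⟨⟨-, h1⟩, h2, -⟩
      exact ⟨(mul_eq_zero.1 (show (x : M₂) 0 1 * ((g : M₂) 0 0 - (g : M₂) 1 1) = 0 by linear_combination -h1)).resolve_right hd,
        (mul_eq_zero.1 (show (x : M₂) 1 0 * ((g : M₂) 0 0 - (g : M₂) 1 1) = 0 by linear_combination h2)).resolve_right hd⟩
    · rintro ⟨a, b⟩
      rw [a, b]
      refine ⟨⟨?_, ?_⟩, ?_, ?_⟩ <;> ring
  have hdet : ∀ a b : Fˣ, (Matrix.diagonal ![(a : F), (b : F)]).det ≠ 0 := fun a b => by
    simp [Matrix.det_diagonal, Fin.prod_univ_two]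
  have hne0 : ∀ x : GL (Fin 2) F, x ∈ Subgroup.centralizer ({g} : Set (GL (Fin 2) F)) →
      (x : M₂) 0 0 ≠ 0 ∧ (x : M₂) 1 1 ≠ 0 := by
    intro x hx
    have h := x.det_ne_zero
    rw [Matrix.det_fin_two, ((hmem x).1 hx).1, zero_mul, sub_zero] at h
    exact ⟨left_ne_zero_of_mul h, right_ne_zero_of_mul h⟩
  rw [Nat.card_congr (α := Subgroup.centralizer ({g} : Set (GL (Fin 2) F))) (β := Fˣ × Fˣ) ⟨fun x => (Units.mk0 _ (hne0 x x.2).1, Units.mk0 _ (hne0 x x.2).2),
    fun ab => ⟨Matrix.GeneralLinearGroup.mkOfDetNeZero _ (hdet ab.1 ab.2), (hmem _).2 (by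
      simp [Matrix.GeneralLinearGroup.mkOfDetNeZero])⟩, ?_, ?_⟩]
  · rw [Nat.card_prod, Nat.card_eq_fintype_card, Fintype.card_units, sq]
  · rintro ⟨x, hx⟩
    obtain ⟨a, b⟩ := (hmem x).1 hx
    refine Subtype.ext (Units.ext ?_)
    ext i j
    fin_cases i <;> fin_cases j <;> simp [Matrix.GeneralLinearGroup.mkOfDetNeZero, a, b]
  · rintro ⟨a, b⟩
    simp [Matrix.GeneralLinearGroup.mkOfDetNeZero]

theorem card_centralizer_anisotropic [Fintype F] {g : GL (Fin 2) F}
    (hno : ∀ (c : F) (v : Fin 2 → F), v ≠ 0 → (g : M₂).mulVec v ≠ c • v) :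
    Nat.card (Subgroup.centralizer ({g} : Set (GL (Fin 2) F))) = Fintype.card F ^ 2 - 1 := by
  classical
  have hg10 : (g : M₂) 1 0 ≠ 0 := by
    have h := eigen_of_col hno 0
    simpa using h
  have hlin : ∀ a b : F, (a, b) ≠ 0 → (a • (1 : M₂) + b • (g : M₂)).det ≠ 0 := by
    intro a b hab hdet
    obtain ⟨v, hv, hv0⟩ := Matrix.exists_mulVec_eq_zero_iff.2 hdet
    rw [Matrix.add_mulVec, Matrix.smul_mulVec, Matrix.smul_mulVec, Matrix.one_mulVec] at hv0
    rcases eq_or_ne b 0 with rfl | hb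
    · rw [zero_smul, add_zero, smul_eq_zero] at hv0
      exact hab (by rw [hv0.resolve_right hv]; rfl)
    · refine hno (-a / b) v hv ?_
      funext i
      have := congrFun hv0 i
      fin_cases i <;> simp [Matrix.mulVec, dotProduct, Fin.sum_univ_two] at this ⊢ <;> field_simp <;>
        linear_combination this
  have hbwd : ∀ ab : {ab : F × F // ab ≠ 0}, Matrix.GeneralLinearGroup.mkOfDetNeZero
      (ab.1.1 • (1 : M₂) + ab.1.2 • (g : M₂)) (hlin _ _ ab.2) ∈ Subgroup.centralizer ({g} : Set (GL (Fin 2) F)) := by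
    intro ab
    rw [Subgroup.mem_centralizer_singleton_iff]
    refine Units.ext ?_
    show (ab.1.1 • (1 : M₂) + ab.1.2 • (g : M₂)) * (g : M₂) = (g : M₂) * (ab.1.1 • (1 : M₂) + ab.1.2 • (g : M₂))
    simp [add_mul, mul_add]
  let pr : GL (Fin 2) F → F × F := fun x =>
    ((x : M₂) 0 0 - (x : M₂) 1 0 / (g : M₂) 1 0 * (g : M₂) 0 0, (x : M₂) 1 0 / (g : M₂) 1 0)
  have hfwd : ∀ x ∈ Subgroup.centralizer ({g} : Set (GL (Fin 2) F)),
      (pr x).1 • (1 : M₂) + (pr x).2 • (g : M₂) = (x : M₂) := by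
    intro x hx
    rw [Subgroup.mem_centralizer_singleton_iff] at hx
    have h := congrArg Units.val hx
    rw [Units.val_mul, Units.val_mul] at h
    have e00 := congrFun (congrFun h 0) 0
    have e10 := congrFun (congrFun h 1) 0
    simp only [Matrix.mul_apply, Fin.sum_univ_two] at e00 e10
    ext i j
    fin_cases i <;> fin_cases j <;> simp [pr] <;> field_simp <;>
      first | ring1 | linear_combination e00 | linear_combination -e00 | linear_combination e10 | linear_combination -e10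
  rw [Nat.card_congr (α := Subgroup.centralizer ({g} : Set (GL (Fin 2) F))) (β := {ab : F × F // ab ≠ 0}) ⟨fun x => ⟨pr x, fun h0 => by
      have h1 := hfwd x x.2
      have h2 := (x : GL (Fin 2) F).det_ne_zero
      rw [h0] at h1
      simp [← h1] at h2⟩,
    fun ab => ⟨_, hbwd ab⟩, ?_, ?_⟩]
  · rw [Nat.card_eq_fintype_card, Fintype.card_subtype_compl, Fintype.card_subtype_eq, Fintype.card_prod, sq]
  · rintro ⟨x, hx⟩
    exact Subtype.ext (Units.ext (hfwd x hx))
  · rintro ⟨⟨a, b⟩, hab⟩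
    refine Subtype.ext ?_
    simp [pr, Matrix.GeneralLinearGroup.mkOfDetNeZero, hg10]

end Cfsg.Lib.Concrete
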