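import Cfsg.Agent.Lib.Concrete.Mask

/-!
The length-24 code `golayCode` as the 4096 masks `combo c`, with a fast membership test
(`isCode`), and counting of its words by the kernel.
-/

set_option autoImplicit false

namespace Cfsg.Lib.Concrete

open scoped symmDiff

/-- The binary word of a mask. -/
def word (m : ℕ) : GolayPt → ZMod 2 := fun p => if m.testBit (gidx p).val then 1 else 0

theorem word_xor (a b : ℕ) : word (a ^^^ b) = word a + word b := by
  funext p
  simp only [word, Pi.add_apply, Nat.testBit_xor]
  cases a.testBit (gidx p).val <;> cases b.testBit (gidx p).val <;> decide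

theorem support₂_word (m : ℕ) : support₂ (word m) = mset m := by
  ext p
  simp only [support₂, Finset.mem_filter, Finset.mem_univ, true_and, mem_mset]
  cases h : m.testBit (gidx p).val <;> simp [word, h]

theorem support₂_injective : Function.Injective (support₂ : (GolayPt → ZMod 2) → Finset GolayPt) := by
  intro v w h
  funext p
  have hp := Finset.ext_iff.1 h p
  simp only [support₂, Finset.mem_filter, Finset.mem_univ, true_and] at hp
  revert hp
  generalize v p = x
  generalize w p = y
  revert x y
  decide

theorem word_fmask_support₂ (w : GolayPt → ZMod 2) : word (fmask (support₂ w)) = w :=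
  support₂_injective (by rw [support₂_word, mset_fmask])

theorem hammingNorm_word (m : ℕ) : hammingNorm (word m) = mcnt m := by
  rw [← mset_card, ← support₂_word]
  rfl

/-- The masks of the 23 words `qrWord t` and of the all-ones word. -/
def genMasks : List ℕ := [
  340831, 681662, 1363324, 2726648, 5453296, 2517985, 5035970, 1683333, 3366666, 6733332,
  5078057, 1767507, 3535014, 7070028, 5751449, 3114291, 6228582, 4068557, 8137114, 7885621,
  7382635, 6376663, 4364719, 16777215]

/-- A basis of the code in echelon form: the pivot of entry `i` is position `i`. -/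
def basisMasks : List ℕ := [
  13062145, 4845570, 13938692, 7221256, 10170384, 11952160, 15515712, 2019456, 4038912, 8077824,
  11654144, 14919680]

/-- Sum of the basis words selected by the bits of the second argument. -/
def comboAux : List ℕ → ℕ → ℕ
  | [], _ => 0
  | b :: bs, c => (bif c % 2 == 1 then b else 0) ^^^ comboAux bs (c / 2)

/-- The code word with coordinates `c` in the echelon basis. -/
def combo (c : ℕ) : ℕ := comboAux basisMasks c

/-- Membership test for the code. -/
def isCode (m : ℕ) : Bool := combo (m &&& 4095) == m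

/-- All words of the code. -/
def codeList : List ℕ := basisMasks.foldl (fun L b => L ++ L.map (Nat.xor b)) [0]

theorem comboAux_xor (L : List ℕ) (c d : ℕ) :
    comboAux L (c ^^^ d) = comboAux L c ^^^ comboAux L d := by
  induction L generalizing c d with
  | nil => simp [comboAux]
  | cons b bs ih =>
    simp only [comboAux, Nat.xor_div_two, ih]
    have h1 : (((c ^^^ d) % 2 == 1) : Bool) = ((c % 2 == 1) ^^ (d % 2 == 1)) := by
      rw [Nat.xor_mod_two_eq]
      rcases Nat.mod_two_eq_zero_or_one c with hc | hc <;>
        rcases Nat.mod_two_eq_zero_or_one d with hd | hd <;> simp [hc, hd, Nat.add_mod]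
    rw [h1]
    cases (c % 2 == 1) <;> cases (d % 2 == 1) <;>
      simp [Nat.xor_assoc, Nat.xor_left_comm]

theorem combo_xor (c d : ℕ) : combo (c ^^^ d) = combo c ^^^ combo d := comboAux_xor _ c d

set_option maxRecDepth 20000 in
theorem codeList_eq : codeList = (List.range 4096).map combo := by decide +kernel

theorem combo_check :
    (List.range 4096).all (fun c => combo c &&& 4095 == c && decide (combo c < 16777216)) = true := by
  decide +kernel

theorem combo_and {c : ℕ} (hc : c < 4096) : combo c &&& 4095 = c := by
  have := List.all_eq_true.1 combo_check c (List.mem_range.2 hc)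
  simp at this
  exact this.1

theorem combo_lt {c : ℕ} (hc : c < 4096) : combo c < 2 ^ 24 := by
  have := List.all_eq_true.1 combo_check c (List.mem_range.2 hc)
  simp at this
  simpa using this.2

theorem qrWord_eq_word : ∀ t : ZMod 23, qrWord t = word (genMasks.getD t.val 0) := by
  decide +kernel

theorem one_eq_word : (1 : GolayPt → ZMod 2) = word (genMasks.getD 23 0) := by decide +kernel

theorem genMasks_isCode : genMasks.all isCode = true := by decide +kernel

/-- The generators that add up to each basis word. -/
def basisExpr : List (List ℕ) := [[0, 3, 5, 7, 9, 10, 23], [3, 4, 8], [0, 3, 4, 7, 10, 23], [3, 4, 5, 6, 8, 10], [1, 3, 4, 5, 7, 9, 10, 23], [0, 1, 2, 4, 7, 8, 9, 10, 23], [0, 2, 3, 6, 7, 8, 10, 23], [4, 6, 7, 8, 9, 10], [0, 1, 6, 8, 10], [0, 2, 5, 6], [0, 1, 5, 6, 9, 10, 23], [0, 2, 5, 9, 10, 23]]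

theorem basisExpr_spec :
    (List.range 12).all (fun i => (basisExpr.getD i []).foldr
      (fun j acc => genMasks.getD j 0 ^^^ acc) 0 == combo (1 <<< i) &&
      (basisExpr.getD i []).all (fun j => decide (j < 24))) = true := by
  decide +kernel

/-- The code as a submodule, in mask form. -/
def maskCode : Submodule (ZMod 2) (GolayPt → ZMod 2) where
  carrier := {w | ∃ c < 4096, word (combo c) = w}
  zero_mem' := ⟨0, by norm_num, by decide +kernel⟩
  add_mem' := by
    rintro v w ⟨c, hc, rfl⟩ ⟨d, hd, rfl⟩
    exact ⟨c ^^^ d, Nat.xor_lt_two_pow (n := 12) hc hd, by rw [combo_xor, word_xor]⟩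
  smul_mem' := by
    rintro a w ⟨c, hc, rfl⟩
    have ha : a = 0 ∨ a = 1 := by revert a; decide
    rcases ha with rfl | rfl
    · exact ⟨0, by norm_num, by rw [zero_smul]; decide +kernel⟩
    · exact ⟨c, hc, (one_smul _ _).symm⟩

theorem word_genMasks_mem_golayCode {j : ℕ} (hj : j < 24) :
    word (genMasks.getD j 0) ∈ golayCode := by
  by_cases h : j = 23
  · subst h
    rw [← one_eq_word]
    exact Submodule.subset_span (Set.mem_union_right _ rfl)
  · have hv : (j : ZMod 23).val = j := ZMod.val_natCast_of_lt (by omega)
    have := qrWord_eq_word (j : ZMod 23)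
    rw [hv] at this
    rw [← this]
    exact Submodule.subset_span (Set.mem_union_left _ ⟨_, rfl⟩)

theorem word_foldr_mem_golayCode (l : List ℕ) (hl : ∀ j ∈ l, j < 24) :
    word (l.foldr (fun j acc => genMasks.getD j 0 ^^^ acc) 0) ∈ golayCode := by
  induction l with
  | nil =>
    have : word 0 = 0 := by decide +kernel
    simp [this]
  | cons a l ih =>
    rw [List.foldr_cons, word_xor]
    exact add_mem (word_genMasks_mem_golayCode (hl a (List.mem_cons_self ..)))
      (ih fun j hj => hl j (List.mem_cons_of_mem _ hj))

theorem word_combo_two_pow_mem {i : ℕ} (hi : i < 12) : word (combo (2 ^ i)) ∈ golayCode := by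
  have h := List.all_eq_true.1 basisExpr_spec i (List.mem_range.2 hi)
  simp only [Bool.and_eq_true, beq_iff_eq, List.all_eq_true, decide_eq_true_eq,
    Nat.one_shiftLeft] at h
  rw [← h.1]
  exact word_foldr_mem_golayCode _ h.2

theorem word_combo_mem_golayCode : ∀ n ≤ 12, ∀ c < 2 ^ n, word (combo c) ∈ golayCode := by
  intro n hn
  induction n with
  | zero =>
    intro c hc
    obtain rfl : c = 0 := by omega
    have : word (combo 0) = 0 := by decide +kernel
    simp [this]
  | succ n ih =>
    intro c hc
    by_cases h : c < 2 ^ n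
    · exact ih (by omega) c h
    · have e : c = (c ^^^ 2 ^ n) ^^^ 2 ^ n := by simp
      have hlt : c ^^^ 2 ^ n < 2 ^ n := by
        apply Nat.lt_pow_two_of_testBit
        intro i hi
        rw [Nat.testBit_xor, Nat.testBit_two_pow]
        rcases eq_or_lt_of_le hi with rfl | hgt
        · have : c.testBit n = true := by
            rw [Nat.testBit_eq_decide_div_mod_eq, decide_eq_true_eq]
            have : c / 2 ^ n = 1 := Nat.div_eq_of_lt_le (by omega) (by rw [pow_succ] at hc; omega)
            rw [this]
          simp [this]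
        · have : c.testBit i = false := Nat.testBit_lt_two_pow
            (lt_of_lt_of_le hc (Nat.pow_le_pow_right (by norm_num) hgt))
          simp [this, hgt.ne]
      rw [e, combo_xor, word_xor]
      exact add_mem (ih (by omega) _ hlt) (word_combo_two_pow_mem (by omega))

theorem golayCode_eq_maskCode : golayCode = maskCode := by
  apply le_antisymm
  · refine Submodule.span_le.2 ?_
    have key : ∀ j < 24, word (genMasks.getD j 0) ∈ maskCode := by
      intro j hj
      refine ⟨genMasks.getD j 0 &&& 4095, ?_, ?_⟩
      · exact lt_of_le_of_lt Nat.and_le_right (by norm_num)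
      · have hm : genMasks.getD j 0 ∈ genMasks := by
          rw [List.getD_eq_getElem _ _ (show j < genMasks.length from hj)]
          exact List.getElem_mem _
        have := List.all_eq_true.1 genMasks_isCode _ hm
        simp only [isCode, beq_iff_eq] at this
        rw [this]
    rintro w (⟨t, rfl⟩ | hw)
    · rw [qrWord_eq_word]; exact key _ (by have := ZMod.val_lt t; omega)
    · rw [Set.mem_singleton_iff.1 hw, one_eq_word]; exact key _ (by norm_num)
  · rintro w ⟨c, hc, rfl⟩
    exact word_combo_mem_golayCode 12 le_rfl c hc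

theorem mem_golayCode_iff {w : GolayPt → ZMod 2} :
    w ∈ golayCode ↔ ∃ c < 4096, word (combo c) = w := by
  rw [golayCode_eq_maskCode]; rfl

theorem mset_mem_supports_iff {m : ℕ} (hm : m < 2 ^ 24) :
    mset m ∈ supports (golayCode : Set (GolayPt → ZMod 2)) ↔ isCode m = true := by
  constructor
  · rintro ⟨w, hw, hs⟩
    obtain ⟨c, hc, rfl⟩ := mem_golayCode_iff.1 hw
    rw [support₂_word] at hs
    obtain rfl := mset_inj (combo_lt hc) hm hs
    simp [isCode, combo_and hc]
  · intro h
    simp only [isCode, beq_iff_eq] at h
    refine ⟨word m, mem_golayCode_iff.2 ⟨m &&& 4095, ?_, by rw [h]⟩, support₂_word m⟩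
    exact lt_of_le_of_lt Nat.and_le_right (by norm_num)

theorem word_mem_golayCode_iff {m : ℕ} (hm : m < 2 ^ 24) :
    word m ∈ golayCode ↔ isCode m = true := by
  rw [← mset_mem_supports_iff hm]
  constructor
  · exact fun h => ⟨_, h, support₂_word m⟩
  · rintro ⟨w, hw, hs⟩
    rw [← support₂_word] at hs
    rwa [← support₂_injective hs]

theorem mem_supports_iff {s : Finset GolayPt} :
    s ∈ supports (golayCode : Set (GolayPt → ZMod 2)) ↔ ∃ m ∈ codeList, mset m = s := by
  constructor
  · rintro ⟨w, hw, rfl⟩
    obtain ⟨c, hc, rfl⟩ := mem_golayCode_iff.1 hw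
    exact ⟨combo c, codeList_eq ▸ List.mem_map.2 ⟨c, List.mem_range.2 hc, rfl⟩, (support₂_word _).symm⟩
  · rintro ⟨m, hm, rfl⟩
    obtain ⟨c, hc, rfl⟩ := List.mem_map.1 (codeList_eq ▸ hm)
    exact ⟨_, mem_golayCode_iff.2 ⟨c, List.mem_range.1 hc, rfl⟩, support₂_word _⟩

theorem codeList_lt {m : ℕ} (hm : m ∈ codeList) : m < 2 ^ 24 := by
  obtain ⟨c, hc, rfl⟩ := List.mem_map.1 (codeList_eq ▸ hm)
  exact combo_lt (List.mem_range.1 hc)

theorem codeList_nodup : codeList.Nodup := by
  rw [codeList_eq]
  refine List.Nodup.map_on ?_ List.nodup_range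
  intro a ha b hb h
  rw [← combo_and (List.mem_range.1 ha), ← combo_and (List.mem_range.1 hb), h]

theorem mset_mem_supports_iff_mem {m : ℕ} (hm : m < 2 ^ 24) :
    mset m ∈ supports (golayCode : Set (GolayPt → ZMod 2)) ↔ m ∈ codeList := by
  rw [mem_supports_iff]
  exact ⟨fun ⟨a, ha, h⟩ => mset_inj (codeList_lt ha) hm h ▸ ha, fun h => ⟨m, h, rfl⟩⟩

/-- Counting the supports of code words with a decidable property. -/
theorem ncard_supports {S : Set (Finset GolayPt)} (p : ℕ → Bool)
    (h : ∀ m < 2 ^ 24, mset m ∈ S ↔ (mset m ∈ supports (golayCode : Set (GolayPt → ZMod 2)) ∧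
      p m = true)) :
    S.ncard = (codeList.filter p).length := by
  apply ncard_of_masks (codeList_nodup.filter p)
  · exact fun m hm => codeList_lt (List.mem_filter.1 hm).1
  · intro m hm
    rw [h m hm, mset_mem_supports_iff_mem hm, List.mem_filter]

/-- The octads as masks. -/
def octList : List ℕ := [
  13062145, 4845570, 9347075, 13938692, 1302533, 10305542, 5902343, 7221256, 11100169, 2605066,
  14716939, 12222476, 3416079, 10170384, 6053905, 13811730, 1413139, 5210132, 8966165, 421910,
  12656663, 16056344, 3297305, 2207772, 6832158, 11952160, 7417889, 3719203, 6475812, 10846245,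
  2826278, 14176296, 2031657, 9543722, 843820, 4526126, 8536111, 2969648, 15335473, 6594610,
  11538486, 4415544, 8663097, 692282, 5275709, 15515712, 2854977, 10825794, 6447171, 3698756,
  7438406, 8581192, 4563017, 13303882, 806987, 5652556, 9506893, 11575377, 4063314, 10698836,
  6557781, 1687640, 5255258, 663645, 8683614, 5939296, 1265762, 13893731, 9310308, 4800613,
  45159, 3444840, 14688364, 12685424, 442481, 8937586, 1384564, 2162811, 2019456, 14254209,
  5709954, 9465987, 13262980, 864389, 8622214, 4505735, 7397512, 3739786, 10768524, 6488205,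
  8773776, 4370577, 13373586, 737427, 5329044, 9830549, 1613974, 2916505, 10625178, 11055264,
  14762146, 2494627, 8126628, 13009064, 118953, 4726955, 1192108, 3375280, 2121909, 1327290,
  8978620, 15864000, 3489985, 2531524, 11010247, 10232008, 1212619, 4755660, 90318, 6889680,
  2150610, 463064, 12599513, 4485344, 8593633, 884962, 9486564, 2769128, 1577201, 4325622,
  4038912, 7622914, 11731203, 15274244, 3031301, 10543366, 5476616, 9748745, 1728778, 8855820,
  4223245, 622863, 10916112, 6406417, 2634003, 7479572, 13148440, 8474906, 4587803, 1839388,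
  9158944, 5017889, 12726562, 352547, 9969957, 1474854, 2269481, 11272490, 3227948, 1110320,
  5833010, 12861748, 201013, 13721920, 1454401, 9998658, 381252, 12747077, 4989254, 7864649,
  2232654, 4870480, 9240913, 237906, 1065303, 2384216, 6750560, 10506593, 602472, 4243818,
  2654580, 9568632, 2322816, 14950785, 6979970, 3182981, 5063048, 9048457, 307594, 13631886,
  12075408, 2425238, 1122713, 180636, 9769376, 5390753, 4301220, 545190, 926128, 8421811,
  6295992, 582081, 8798658, 4264387, 1769924, 10584520, 5538256, 8401364, 3154402, 262637,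
  8077824, 12325377, 3322370, 6857221, 15073798, 2183687, 1405448, 13771273, 6062602, 12698124,
  430605, 8925710, 14709264, 2564625, 11108882, 3457556, 9323032, 4788761, 57883, 1245726,
  13443616, 684577, 8704546, 4424227, 1675812, 5268006, 10687016, 6570537, 5640752, 9519665,
  8561204, 786999, 3678776, 9929280, 5296705, 1647171, 4403780, 8675909, 705094, 11551306,
  2949708, 832080, 4538962, 8524371, 14156372, 6455896, 2220640, 6820450, 3277413, 8946281,
  402026, 21116, 6656640, 10666625, 2908802, 11608708, 762504, 4346506, 8716939, 1589901,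
  7340691, 2757268, 9474712, 4465308, 1352353, 10093218, 475812, 12587685, 2130606, 4768432,
  78514, 8999616, 5112513, 12624578, 1315526, 2110153, 1204944, 99029, 5309160, 10748656,
  4645632, 8499969, 987906, 13124355, 9589508, 5571333, 2675464, 6365962, 1737489, 9708306,
  615188, 4231958, 10486557, 15762208, 2372388, 1053483, 4850476, 2245426, 361272, 11150144,
  2392899, 12849992, 213833, 1090380, 3216208, 1852256, 8455014, 4203377, 5780352, 1164162,
  9208708, 140167, 3539848, 12780432, 283537, 2687905, 8414120, 6308804, 525274, 168928,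
  11654144, 7767041, 16262146, 6644740, 10630149, 2921478, 1618953, 9835530, 5325835, 742412,
  13370381, 4367374, 2810896, 6493202, 10765331, 3736597, 4510744, 8619033, 861210, 9462812,
  504864, 12641313, 5129250, 8983587, 13829156, 1332261, 6915112, 2126890, 10257456, 1188915,
  4731956, 115766, 2491452, 6100032, 10110017, 1369154, 9020484, 12604486, 459847, 3351624,
  2147405, 12985424, 95313, 4752467, 1217620, 11015256, 2892897, 10650722, 8733800, 4330601,
  1573998, 7357552, 11469952, 6837377, 2204803, 3294342, 12661896, 418953, 8963210, 1410188,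
  3421328, 14714004, 5899416, 5279, 1664160, 5280930, 689317, 8660134, 11535529, 8541360,
  4523185, 4441280, 8688833, 668866, 5252293, 6554826, 9503954, 804052, 2168036, 42232,
  9204992, 4924673, 12944642, 185603, 5817604, 1127686, 14828808, 2430217, 1525008, 13636881,
  304405, 9045270, 3179802, 3806496, 6292775, 5514536, 8426796, 10560816, 542009, 6337856,
  2704706, 11797828, 951624, 8398155, 4261212, 1148257, 157028, 267634, 9610624, 1836419,
  4593028, 8471941, 2631052, 628112, 4220306, 2409888, 198058, 1070536, 2229713, 13108704,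
  13276672, 902657, 8611330, 4470275, 1975812, 9471495, 10790408, 2754059, 7345676, 5350928,
  1594898, 8721940, 4343317, 3474978, 11028004, 1230376, 75309, 2135601, 12584506, 2512448,
  14747201, 4744776, 104010, 2106966, 1312345, 9451104, 4490852, 722544, 13911680, 1250945,
  63108, 4785798, 8922769, 427666, 2180760, 6432416, 792232, 3704512, 8521420, 18147,
  3172097, 2328324, 10028808, 280334, 7079696, 145176, 4282144, 8783649, 567074, 5375810,
  530245, 8439632, 10491778, 4229001, 1050548, 337856, 14919680, 2422785, 11163650, 7145475,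
  3610628, 15747077, 9279496, 4900873, 12871690, 210955, 5842956, 1103886, 7903248, 3237906,
  11282452, 2263063, 1484824, 9963547, 12720156, 346141, 5621792, 9607201, 1849378, 8484900,
  4597797, 13142054, 7473194, 2627629, 632881, 8849458, 4216883, 1722420, 10537016, 1009728,
  13121601, 4626498, 8505411, 1869893, 9578566, 6379592, 10881097, 2664522, 9721936, 5441617,
  4253780, 596054, 12126304, 2377830, 1075305, 231532, 2242672, 4982904, 3811457, 11831426,
  2738308, 6305926, 9652360, 5511305, 8431757, 919694, 6703248, 10557585, 555160, 4294810,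
  4921504, 9193633, 190626, 1116327, 2435240, 13641904, 301236, 1161408, 5785794, 12912836,
  153797, 9078992, 272595, 3147996, 6326497, 8394986, 14551296, 1661185, 5286147, 702724,
  4409606, 8657159, 11548936, 6588684, 4536592, 8546577, 837906, 9537812, 2820376, 6842656,
  2201890, 416040, 12650793, 3410225, 10558, 3328320, 2173253, 1378634, 8931660, 14682450,
  39257, 8694112, 657763, 5249380, 12638592, 493953, 8989058, 1337732, 2115979, 1186194,
  4721045, 10619300, 1608104, 2890176, 4336072, 84464, 10021376, 13703682, 1460739, 5003780,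
  9112069, 371206, 3246601, 2255372, 252432, 12880401, 4860434, 1063445, 2365978, 3050016,
  10496547, 4241960, 608810, 9701932, 6359604, 7612992, 10525252, 1710664, 4196943, 2640465,
  8464984, 12733024, 334433, 1084018, 8796800, 4287105, 563843, 5409412, 15207048, 1903248,
  8407702, 3168928, 133817, 2296514, 314056, 535268, 10832640, 6429441, 3672838, 797449,
  8555274, 5262104, 1256224, 52005, 8919856, 4819776, 31554, 396116, 72588, 2141072,
  4459426, 9440193, 5405696, 9776129, 1805314, 8834052, 4299781, 551943, 3951624, 10554382,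
  13192208, 924689, 8436754, 5508118, 6302745, 14949408, 2313249, 3189796, 9055272, 298027,
  1121336, 3152963, 6949956, 13667400, 277580, 2460752, 150618, 580704, 4271202, 8391797,
  5024896, 351362, 12717187, 9968772, 2268296, 1100945, 208020, 4213932, 2624690, 10513600,
  593097, 1445088, 11046145, 2501890, 126216, 4726026, 1182989, 2120980, 9456930, 855332,
  4361520, 8592704, 4476225, 1584464, 7409024, 8654232, 15777, 36294, 2702848, 6344194,
  4656648, 8412681, 11669008, 560668, 5770785, 138790, 290352, 175681, 9178690, 1134148,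
  2363013, 1060490, 8490656, 4202192, 1351424, 12594948, 69395, 2101096, 675712]

/-- The dodecads as masks. -/
def dodList : List ℕ := codeList.filter fun m => Nat.beq (pcnt m) 12

theorem octList_nodup_lt :
    (octList.all (fun m => decide (m < 16777216) && isCode m && pcnt m == 8)) = true := by
  decide +kernel

theorem octList_eq : octList = codeList.filter fun m => Nat.beq (pcnt m) 8 := by decide +kernel

theorem octList_nodup : octList.Nodup := octList_eq ▸ codeList_nodup.filter _

theorem mset_mem_octads_iff {m : ℕ} (hm : m < 2 ^ 24) :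
    mset m ∈ octads ↔ m ∈ octList := by
  constructor
  · rintro ⟨hs, hc⟩
    rw [mset_card] at hc
    rw [octList_eq]
    refine List.mem_filter.2 ⟨(mset_mem_supports_iff_mem hm).1 hs, ?_⟩
    rw [← mcnt_eq_pcnt, hc]
    rfl
  · intro h
    have := List.all_eq_true.1 octList_nodup_lt m h
    simp only [Bool.and_eq_true, decide_eq_true_eq, beq_iff_eq] at this
    exact ⟨(mset_mem_supports_iff hm).2 this.1.2, by rw [mset_card, mcnt_eq_pcnt]; exact this.2⟩

theorem octList_lt {m : ℕ} (h : m ∈ octList) : m < 2 ^ 24 := by
  have := List.all_eq_true.1 octList_nodup_lt m h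
  simp only [Bool.and_eq_true, decide_eq_true_eq, beq_iff_eq] at this
  simpa using this.1.1

theorem mem_octads_iff {s : Finset GolayPt} : s ∈ octads ↔ ∃ m ∈ octList, mset m = s := by
  constructor
  · intro h
    refine ⟨fmask s, (mset_mem_octads_iff (fmask_lt s)).1 ?_, mset_fmask s⟩
    rwa [mset_fmask]
  · rintro ⟨m, hm, rfl⟩
    exact (mset_mem_octads_iff (octList_lt hm)).2 hm

theorem mset_mem_dodecads_iff {m : ℕ} (hm : m < 2 ^ 24) :
    mset m ∈ dodecads ↔ m ∈ dodList := by
  rw [dodList, List.mem_filter, Nat.beq_eq, ← mcnt_eq_pcnt, ← mset_mem_supports_iff_mem hm,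
    ← mset_card]
  rfl

theorem mem_dodecads_iff {s : Finset GolayPt} : s ∈ dodecads ↔ ∃ m ∈ dodList, mset m = s := by
  constructor
  · intro h
    refine ⟨fmask s, (mset_mem_dodecads_iff (fmask_lt s)).1 ?_, mset_fmask s⟩
    rwa [mset_fmask]
  · rintro ⟨m, hm, rfl⟩
    exact (mset_mem_dodecads_iff (codeList_lt (List.mem_filter.1 hm).1)).2 hm

theorem code_weights :
    codeList.all (fun m => (fun k => k == 0 || k == 8 || k == 12 || k == 16 ||
      k == 24) (pcnt m)) = true := by
  decide +kernel

/-- A nonzero word of the code has weight at least 8. -/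
theorem supports_card_ge {s : Finset GolayPt}
    (hs : s ∈ supports (golayCode : Set (GolayPt → ZMod 2))) (hne : s.Nonempty) : 8 ≤ s.card := by
  obtain ⟨m, hm, rfl⟩ := mem_supports_iff.1 hs
  have := List.all_eq_true.1 code_weights m hm
  have h0 := Finset.card_pos.2 hne
  rw [mset_card, mcnt_eq_pcnt] at h0 ⊢
  simp only [Bool.or_eq_true, beq_iff_eq] at this
  omega

theorem symmDiff_mem_supports {s t : Finset GolayPt}
    (hs : s ∈ supports (golayCode : Set (GolayPt → ZMod 2)))
    (ht : t ∈ supports (golayCode : Set (GolayPt → ZMod 2))) :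
    s ∆ t ∈ supports (golayCode : Set (GolayPt → ZMod 2)) := by
  obtain ⟨a, ha, rfl⟩ := mem_supports_iff.1 hs
  obtain ⟨b, hb, rfl⟩ := mem_supports_iff.1 ht
  obtain ⟨c, hc, rfl⟩ := List.mem_map.1 (codeList_eq ▸ ha)
  obtain ⟨d, hd, rfl⟩ := List.mem_map.1 (codeList_eq ▸ hb)
  rw [← mset_xor, ← combo_xor]
  exact mem_supports_iff.2 ⟨_, codeList_eq ▸ List.mem_map.2 ⟨_,
    List.mem_range.2 (Nat.xor_lt_two_pow (n := 12) (List.mem_range.1 hc) (List.mem_range.1 hd)),
    rfl⟩, rfl⟩

/-- Two octads with five common points are equal. -/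
theorem octads_eq_of_five {o o' : Finset GolayPt} (ho : o ∈ octads) (ho' : o' ∈ octads)
    {s : Finset GolayPt} (hs : 5 ≤ s.card) (h : s ⊆ o) (h' : s ⊆ o') : o = o' := by
  by_contra hne
  have hnz : (o ∆ o').Nonempty :=
    Finset.nonempty_iff_ne_empty.2 fun e => hne (symmDiff_eq_bot.1 e)
  have h8 := supports_card_ge (symmDiff_mem_supports ho.1 ho'.1) hnz
  have hsub : o ∆ o' ⊆ (o \ s) ∪ (o' \ s) := by
    intro x hx
    simp only [Finset.mem_symmDiff, Finset.mem_union, Finset.mem_sdiff] at hx ⊢
    rcases hx with ⟨a, b⟩ | ⟨a, b⟩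
    · exact Or.inl ⟨a, fun hc => b (h' hc)⟩
    · exact Or.inr ⟨a, fun hc => b (h hc)⟩
  have := (Finset.card_le_card hsub).trans (Finset.card_union_le _ _)
  rw [Finset.card_sdiff_of_subset h, Finset.card_sdiff_of_subset h', ho.2, ho'.2] at this
  omega

end Cfsg.Lib.Concrete
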