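import Mathlib

/-!
Self-dual binary codes of length 24 and minimum weight at least 8: perfection of the punctured
code, divisibility of the weights by four, generation by octads.
-/

set_option autoImplicit false

namespace Cfsg.Agent.GolayAbstract

open Finset
open scoped symmDiff

/-- the support -/
def supp (w : Fin 24 → ZMod 2) : Finset (Fin 24) := univ.filter fun j => w j ≠ 0

theorem card_supp (w : Fin 24 → ZMod 2) : (supp w).card = hammingNorm w := rfl

theorem supp_add (v w : Fin 24 → ZMod 2) : supp (v + w) = supp v ∆ supp w := by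
  ext j
  simp only [supp, mem_filter, mem_univ, true_and, Finset.mem_symmDiff, Pi.add_apply]
  generalize v j = a
  generalize w j = b
  revert a b
  decide

theorem supp_eq_empty {w : Fin 24 → ZMod 2} (h : supp w = ∅) : w = 0 := by
  funext j
  by_contra hj
  have : j ∈ supp w := mem_filter.mpr ⟨mem_univ j, hj⟩
  rw [h] at this
  exact absurd this (notMem_empty j)

variable (C : Submodule (ZMod 2) (Fin 24 → ZMod 2)) (hdim : Module.finrank (ZMod 2) C = 12)
  (horth : ∀ v ∈ C, ∀ w ∈ C, ∑ i, v i * w i = 0) (hmin : ∀ w ∈ C, w ≠ 0 → 8 ≤ hammingNorm w)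

include hdim hmin

theorem exists_cover (i : Fin 24) (A : Finset (Fin 24)) (hA : A ⊆ univ.erase i) :
    ∃ o ∈ C, ∃ e : Finset (Fin 24), e.card ≤ 3 ∧ e ⊆ univ.erase i ∧
      ((supp o).erase i) ∆ e = A := by
  set U : Finset (Fin 24) := univ.erase i with hU
  have hUc : U.card = 23 := by simp [hU]
  set P : Finset (Finset (Fin 24)) := (range 4).biUnion fun k => U.powersetCard k with hP
  have hPmem : ∀ e, e ∈ P ↔ e ⊆ U ∧ e.card ≤ 3 := by
    intro e
    simp only [hP, mem_biUnion, mem_range, mem_powersetCard]
    constructor
    · rintro ⟨k, hk, he, rfl⟩; exact ⟨he, by omega⟩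
    · rintro ⟨he, hk⟩; exact ⟨e.card, by omega, he, rfl⟩
  have hPc : P.card = 2048 := by
    rw [hP, card_biUnion]
    · simp only [card_powersetCard, hUc, Finset.sum_range_succ, Finset.sum_range_zero]
      decide
    · intro a _ b _ hab
      rw [Function.onFun, Finset.disjoint_left]
      intro e he he'
      exact hab ((mem_powersetCard.mp he).2.symm.trans (mem_powersetCard.mp he').2)
  let Φ : C × P → U.powerset := fun p => ⟨((supp p.1.1).erase i) ∆ p.2.1, by
    rw [mem_powerset]
    intro j hj
    rcases Finset.mem_symmDiff.mp hj with ⟨h, -⟩ | ⟨h, -⟩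
    · rw [mem_erase] at h
      rw [hU, mem_erase]; exact ⟨h.1, mem_univ j⟩
    · exact ((hPmem _).mp p.2.2).1 h⟩
  have hinj : Function.Injective Φ := by
    rintro ⟨⟨c, hc⟩, ⟨e, he⟩⟩ ⟨⟨c', hc'⟩, ⟨e', he'⟩⟩ h
    have h1 : ((supp c).erase i) ∆ e = ((supp c').erase i) ∆ e' := congrArg Subtype.val h
    obtain ⟨-, hec⟩ := (hPmem e).mp he
    obtain ⟨-, hec'⟩ := (hPmem e').mp he'
    have hsub : supp (c + c') ⊆ e ∪ e' ∪ {i} := by
      rw [supp_add]
      intro j hj
      by_contra hne
      simp only [mem_union, mem_singleton, not_or] at hne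
      have := Finset.ext_iff.mp h1 j
      simp only [Finset.mem_symmDiff, mem_erase, hne.1.1, hne.1.2, not_false_eq_true, and_true,
        false_and, or_false, ne_eq, hne.2] at this
      simp only [Finset.mem_symmDiff] at hj
      tauto
    have hcard : hammingNorm (c + c') ≤ 7 := by
      rw [← card_supp]
      refine (card_le_card hsub).trans ((card_union_le _ _).trans ?_)
      have := card_union_le e e'
      rw [card_singleton]
      omega
    have hcc : c = c' := by
      by_contra hne
      have hne' : c + c' ≠ 0 := fun h0 => hne (by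
        funext j
        have := congrFun h0 j
        simp only [Pi.add_apply, Pi.zero_apply] at this
        exact CharTwo.add_eq_zero.mp this)
      have := hmin _ (C.add_mem hc hc') hne'
      omega
    subst hcc
    have : e = e' := symmDiff_right_inj.mp h1
    subst this
    rfl
  haveI : Fintype C := Fintype.ofFinite _
  have hcardC : Fintype.card C = 4096 := by
    rw [← Nat.card_eq_fintype_card, Module.natCard_eq_pow_finrank (K := ZMod 2), hdim,
      Nat.card_zmod]
    norm_num
  have hbij : Function.Bijective Φ := by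
    rw [Fintype.bijective_iff_injective_and_card]
    refine ⟨hinj, ?_⟩
    rw [Fintype.card_prod, hcardC, Fintype.card_coe, Fintype.card_coe, hPc, card_powerset, hUc]
    norm_num
  obtain ⟨⟨⟨o, ho⟩, ⟨e, he⟩⟩, hoe⟩ := hbij.2 ⟨A, mem_powerset.mpr hA⟩
  exact ⟨o, ho, e, ((hPmem _).mp he).2, ((hPmem _).mp he).1, congrArg Subtype.val hoe⟩

theorem exists_octad (S : Finset (Fin 24)) (hS : S.card = 5) :
    ∃ o ∈ C, hammingNorm o = 8 ∧ S ⊆ supp o := by
  obtain ⟨i, hi⟩ := Finset.card_pos.mp (by omega : 0 < S.card)
  obtain ⟨o, ho, e, hec, -, h1⟩ := exists_cover C hdim hmin i (S.erase i)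
    (Finset.erase_subset_erase i (subset_univ S))
  have h2 : (supp o).erase i = (S.erase i) ∆ e := by
    rw [← h1, symmDiff_symmDiff_cancel_right]
  have hS4 : (S.erase i).card = 4 := by rw [card_erase_of_mem hi, hS]
  have hlow : 1 ≤ ((supp o).erase i).card := by
    have hsub : S.erase i ⊆ ((supp o).erase i) ∪ e := by
      rw [← h1]
      exact fun j hj => by
        simp only [Finset.mem_symmDiff] at hj
        rw [mem_union]; tauto
    have := (card_le_card hsub).trans (card_union_le _ _)
    omega
  have hle : ((supp o).erase i).card ≤ 4 + e.card := by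
    rw [h2, ← hS4]
    refine (card_le_card (fun j hj => ?_)).trans (card_union_le _ _)
    simp only [Finset.mem_symmDiff] at hj
    rw [mem_union]; tauto
  have ho0 : o ≠ 0 := by
    intro h0
    have : ((supp o).erase i).card = 0 := by simp [h0, supp]
    omega
  have h8 := hmin o ho ho0
  rw [← card_supp] at h8
  have her : (supp o).card ≤ ((supp o).erase i).card + 1 := by
    have := pred_card_le_card_erase (a := i) (s := supp o)
    omega
  have hio : i ∈ supp o := by
    by_contra hno
    rw [erase_eq_of_notMem hno] at hle her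
    omega
  have hcard := card_erase_of_mem hio
  refine ⟨o, ho, by rw [← card_supp]; omega, fun j hj => ?_⟩
  by_cases hji : j = i
  · exact hji ▸ hio
  by_contra hjo
  have hje : j ∈ e := by
    have := Finset.ext_iff.mp h1 j
    simp only [Finset.mem_symmDiff, mem_erase, hjo, hj, hji, ne_eq, not_false_eq_true, and_false,
      false_and, and_self, false_or, iff_true] at this
    exact this.1
  have hsub : (supp o).erase i ⊆ (S.erase i).erase j ∪ e.erase j := by
    intro k hk
    rw [h2, Finset.mem_symmDiff] at hk
    have hkj : k ≠ j := by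
      rintro rfl
      rcases hk with ⟨-, h⟩ | ⟨-, h⟩
      · exact h hje
      · exact h (mem_erase.mpr ⟨hji, hj⟩)
    simp only [mem_union, mem_erase] at hk ⊢
    tauto
  have hb := (card_le_card hsub).trans (card_union_le _ _)
  rw [card_erase_of_mem hje, card_erase_of_mem (mem_erase.mpr ⟨hji, hj⟩ : j ∈ S.erase i)] at hb
  omega

include horth

theorem main : ∀ w ∈ C, 4 ∣ hammingNorm w ∧
    w ∈ Submodule.span (ZMod 2) {u : Fin 24 → ZMod 2 | u ∈ C ∧ hammingNorm u = 8} := by
  suffices ∀ k, ∀ w ∈ C, hammingNorm w = k → 4 ∣ hammingNorm w ∧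
      w ∈ Submodule.span (ZMod 2) {u : Fin 24 → ZMod 2 | u ∈ C ∧ hammingNorm u = 8} from
    fun w hw => this _ w hw rfl
  intro k
  induction k using Nat.strong_induction_on with
  | _ k ih =>
    intro w hw hk
    by_cases hw0 : w = 0
    · subst hw0; simp
    have h8 := hmin w hw hw0
    by_cases h8' : hammingNorm w = 8
    · exact ⟨by rw [h8']; norm_num, Submodule.subset_span ⟨hw, h8'⟩⟩
    obtain ⟨S, hS, hSc⟩ := exists_subset_card_eq (s := supp w) (n := 5) (by rw [card_supp]; omega)
    obtain ⟨o, ho, ho8, hSo⟩ := exists_octad C hdim hmin S hSc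
    have hint : 5 ≤ (supp w ∩ supp o).card := hSc ▸ card_le_card (subset_inter hS hSo)
    have heven : Even (supp w ∩ supp o).card := by
      rw [← ZMod.natCast_eq_zero_iff_even]
      have h0 := horth w hw o ho
      rw [← h0]
      have : ∀ j, w j * o j = if j ∈ supp w ∩ supp o then 1 else 0 := by
        intro j
        simp only [supp, mem_inter, mem_filter, mem_univ, true_and]
        generalize w j = a
        generalize o j = b
        revert a b
        decide
      rw [Finset.sum_congr rfl fun j _ => this j, Finset.sum_boole]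
      congr 2
      ext j; simp
    have hwo : hammingNorm (w + o) + 2 * (supp w ∩ supp o).card = hammingNorm w + 8 := by
      rw [← ho8, ← card_supp, ← card_supp, ← card_supp, supp_add, symmDiff_def, sup_eq_union,
        card_union_of_disjoint (disjoint_sdiff_sdiff)]
      have := card_sdiff_add_card_inter (supp w) (supp o)
      have h2 := card_sdiff_add_card_inter (supp o) (supp w)
      rw [inter_comm] at h2
      omega
    obtain ⟨r, hr⟩ := heven
    obtain ⟨hdiv, hmem⟩ := ih (hammingNorm (w + o)) (by omega) (w + o) (C.add_mem hw ho) rfl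
    refine ⟨by omega, ?_⟩
    have hsum : w = (w + o) + o := by
      funext j
      simp only [Pi.add_apply]
      rw [add_assoc, CharTwo.add_self_eq_zero, add_zero]
    rw [hsum]
    exact Submodule.add_mem _ hmem (Submodule.subset_span ⟨ho, ho8⟩)

omit hdim horth in
theorem eq_of_small {u v : Fin 24 → ZMod 2} (h : u + v ∈ C) (hc : (supp u).card + (supp v).card ≤ 7) :
    u = v := by
  by_contra hne
  have hne' : u + v ≠ 0 := fun h0 => hne (by
    funext j
    have := congrFun h0 j
    simp only [Pi.add_apply, Pi.zero_apply] at this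
    exact CharTwo.add_eq_zero.mp this)
  have h8 := hmin _ h hne'
  rw [← card_supp, supp_add] at h8
  have h9 : (supp u ∆ supp v).card ≤ (supp u).card + (supp v).card := by
    refine (card_le_card fun j hj => ?_).trans (card_union_le _ _)
    simp only [Finset.mem_symmDiff] at hj
    rw [mem_union]; tauto
  omega

omit horth in
theorem exists_leader (w : Fin 24 → ZMod 2) (i : Fin 24) :
    ∃ u, u + w ∈ C ∧ ((supp u).card ≤ 3 ∨ ((supp u).card = 4 ∧ i ∈ supp u)) := by
  obtain ⟨o, ho, e, hec, -, h1⟩ := exists_cover C hdim hmin i ((supp w).erase i)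
    (Finset.erase_subset_erase i (subset_univ _))
  refine ⟨w + o, ?_, ?_⟩
  · have : w + o + w = o := by
      funext j
      simp only [Pi.add_apply]
      rw [add_comm (w j) (o j), add_assoc, CharTwo.add_self_eq_zero, add_zero]
    rw [this]; exact ho
  have hsub : supp (w + o) ⊆ insert i e := by
    rw [supp_add]
    intro j hj
    rw [Finset.mem_symmDiff] at hj
    rw [mem_insert]
    by_contra hne
    push Not at hne
    have := Finset.ext_iff.mp h1 j
    simp only [Finset.mem_symmDiff, mem_erase, hne.1, hne.2, ne_eq, not_false_eq_true, true_and,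
      and_true, false_and, or_false] at this
    tauto
  have h4 := (card_le_card hsub).trans (card_insert_le i e)
  by_cases h3 : (supp (w + o)).card ≤ 3
  · exact Or.inl h3
  refine Or.inr ⟨by omega, ?_⟩
  by_contra hi
  have : supp (w + o) ⊆ e := fun j hj => by
    rcases mem_insert.mp (hsub hj) with rfl | h
    · exact absurd hj hi
    · exact h
  have := card_le_card this
  omega

end Cfsg.Agent.GolayAbstract
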