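import Mathlib

/-!
Data: the solutions of the frame equations for a code of length 24, each with a permutation to the
standard code and the coordinates of the standard basis.
-/

set_option autoImplicit false

namespace Cfsg.Lib.Concrete

/-- The six quads on the first eight positions. -/
def frameQuads : List ℕ := [15, 113, 135, 23, 39, 27]

/-- The five affine masks on the last sixteen positions. -/
def frameAffine : List ℕ := [16776960, 11184640, 13421568, 15790080, 16711680]

/-- Solutions: six planes, packed permutation, coordinates. -/
def frameSols : List (List ℕ × ℕ × List ℕ) := [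
  ([15, 4369, 33825, 8721, 16705, 5185], 928496294440470385381538654190667808,
    [1714, 3272, 3383, 1823, 1387, 18, 28, 855, 48, 52, 1647, 8]),
  ([15, 4369, 33825, 8721, 16705, 33153], 263902373493651081438506526802282528,
    [193, 2711, 2920, 348, 820, 34, 28, 1336, 48, 40, 1647, 36]),
  ([15, 4369, 33825, 8721, 6273, 5185], 634251674273873326027513779345000480,
    [193, 2751, 2920, 372, 796, 34, 52, 1304, 16, 40, 1639, 44]),
  ([15, 4369, 33825, 8721, 6273, 33153], 889936820127446629493896229106583584,
    [1682, 3272, 3359, 1847, 1387, 50, 52, 895, 16, 28, 1639, 8]),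
  ([15, 4369, 33825, 16705, 8721, 34833], 261387867250585781105378832744024096,
    [193, 2731, 2900, 364, 824, 18, 44, 1332, 48, 20, 1631, 24]),
  ([15, 4369, 33825, 16705, 8721, 4641], 925981338705906687606378820272228384,
    [1714, 3268, 3387, 1839, 1367, 34, 44, 875, 48, 56, 1631, 4]),
  ([15, 4369, 33825, 16705, 6273, 34833], 896224548091458699320382260189956128,
    [1698, 3268, 3375, 1851, 1367, 50, 56, 895, 32, 44, 1627, 4]),
  ([15, 4369, 33825, 16705, 6273, 4641], 648084643274912734774984042663217184,
    [193, 2751, 2900, 376, 812, 18, 56, 1316, 32, 20, 1627, 28]),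
  ([15, 4369, 33825, 6273, 8721, 17425], 568092910297117716936543028631406624,
    [193, 2731, 2940, 356, 792, 50, 36, 1308, 16, 60, 1655, 56]),
  ([15, 4369, 33825, 6273, 8721, 8481], 352451618829359550345700633695324192,
    [1682, 3276, 3355, 1831, 1407, 34, 36, 875, 16, 24, 1655, 12]),
  ([15, 4369, 33825, 6273, 16705, 17425], 353709483607531091935188661804566560,
    [1698, 3276, 3367, 1819, 1407, 18, 24, 855, 32, 36, 1659, 12]),
  ([15, 4369, 33825, 6273, 16705, 8481], 566835808060279231988772699925219360,
    [193, 2711, 2940, 344, 804, 50, 24, 1324, 32, 60, 1659, 52])]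

end Cfsg.Lib.Concrete
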