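import Cfsg.Agent.Lib.Concrete.GolayPerm
import Cfsg.Agent.Lib.Concrete.GolayFrameData

/-!
Codes of length 24 with a standard frame: they are equivalent to the standard code.
-/

set_option autoImplicit false

namespace Cfsg.Lib.Concrete

open Finset

/-- The word of a mask on numbered positions. -/
def fword (m : ℕ) : Fin 24 → ZMod 2 := fun i => if m.testBit i.val then 1 else 0

theorem fword_xor (a b : ℕ) : fword (a ^^^ b) = fword a + fword b := by
  funext i
  simp only [fword, Pi.add_apply, Nat.testBit_xor]
  cases a.testBit i.val <;> cases b.testBit i.val <;> decide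

theorem fword_zero : fword 0 = 0 := by funext i; simp [fword]

theorem fword_dot (a b : ℕ) : ∑ i, fword a i * fword b i = ((mcnt (a &&& b) : ℕ) : ZMod 2) := by
  have h : ∀ i, fword a i * fword b i = if (a &&& b).testBit i.val = true then (1 : ZMod 2) else 0 := fun i => by
    simp only [fword, Nat.testBit_and]
    cases a.testBit i.val <;> cases b.testBit i.val <;> decide
  simp only [h]
  rw [Finset.sum_boole, mcnt, List.countP_eq_length_filter,
    ← List.toFinset_card_of_nodup ((show bits24.Nodup by decide).filter _)]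
  congr 1
  refine Finset.card_bij (fun i _ => i.val) ?_ (fun _ _ _ _ h => Fin.ext h) ?_
  · intro i hi
    exact List.mem_toFinset.2 (List.mem_filter.2 ⟨mem_bits24.2 i.2, (Finset.mem_filter.1 hi).2⟩)
  · intro k hk
    obtain ⟨h1, h2⟩ := List.mem_filter.1 (List.mem_toFinset.1 hk)
    exact ⟨⟨k, mem_bits24.1 h1⟩, Finset.mem_filter.2 ⟨Finset.mem_univ _, h2⟩, rfl⟩

/-- The four-element subspaces of the sixteen binary quadruples, as masks. -/
def planeList : List ℕ :=
  (List.range 16).flatMap fun a => (List.range 16).filterMap fun b =>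
    bif Nat.blt 0 a && Nat.blt a b && Nat.blt b (Nat.xor a b) then
      some (Nat.lor 1 (Nat.lor (Nat.shiftLeft 1 a) (Nat.lor (Nat.shiftLeft 1 b) (Nat.shiftLeft 1 (Nat.xor a b)))))
    else none

/-- The mask of a quad and a plane. -/
def frameMask (t w : ℕ) : ℕ := Nat.lor t (Nat.shiftLeft w 8)

/-- The generators of a framed code. -/
def frameGens (ws : List ℕ) : List ℕ := 255 :: (frameAffine ++ List.zipWith frameMask frameQuads ws)

/-- Two masks meet evenly. -/
def evenMeet (a b : ℕ) : Bool := Nat.beq (Nat.mod (pcnt (Nat.land a b)) 2) 0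

/-- The fourth, fifth and sixth masks. -/
def frameM4 (a : ℕ) : ℕ := frameMask 23 a
/-- The fifth mask. -/
def frameM5 (b : ℕ) : ℕ := frameMask 39 b
/-- The sixth mask. -/
def frameM6 (c : ℕ) : ℕ := frameMask 27 c

/-- The frame equations have only the listed solutions. -/
def frameSearch : Bool :=
  planeList.all fun a =>
    !(evenMeet (frameMask 15 15) (frameM4 a) && evenMeet (frameMask 113 4369) (frameM4 a) &&
      evenMeet (frameMask 135 33825) (frameM4 a)) ||
    planeList.all fun b =>
      !(evenMeet (frameMask 15 15) (frameM5 b) && evenMeet (frameMask 113 4369) (frameM5 b) &&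
        evenMeet (frameMask 135 33825) (frameM5 b) && evenMeet (frameM4 a) (frameM5 b)) ||
      planeList.all fun c =>
        !(evenMeet (frameMask 15 15) (frameM6 c) && evenMeet (frameMask 113 4369) (frameM6 c) &&
          evenMeet (frameMask 135 33825) (frameM6 c) && evenMeet (frameM4 a) (frameM6 c) &&
          evenMeet (frameM5 b) (frameM6 c)) ||
        frameSols.any fun s => decide (s.1 = [15, 4369, 33825, a, b, c])

theorem frameSearch_eq : frameSearch = true := by decide +kernel

/-- A solution certificate. -/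
def solOk (s : List ℕ × ℕ × List ℕ) : Bool :=
  bits24.all (fun i => Nat.blt (pget s.2.1 i) 24) && decide (bits24.map (pget s.2.1)).Nodup &&
    (List.range 12).all fun k => Nat.beq (comboAux ((frameGens s.1).map (pimg s.2.1)) (s.2.2.getD k 0)) (basisMasks.getD k 0)

theorem frameSols_ok : frameSols.all solOk = true := by decide +kernel

theorem equiv_of_sol {C : Submodule (ZMod 2) (Fin 24 → ZMod 2)} (hcard : Nat.card C = 4096)
    {s : List ℕ × ℕ × List ℕ} (hs : s ∈ frameSols) (hg : ∀ g ∈ frameGens s.1, fword g ∈ C) :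
    ∃ e : Fin 24 ≃ GolayPt, ∀ w : GolayPt → ZMod 2, w ∈ golayCode ↔ (fun i => w (e i)) ∈ C := by
  classical
  have hok := List.all_eq_true.1 frameSols_ok s hs
  simp only [solOk, Bool.and_eq_true, List.all_eq_true, decide_eq_true_eq, Nat.blt_eq, Nat.beq_eq] at hok
  obtain ⟨⟨hlt, hnd⟩, hbas⟩ := hok
  set p := s.2.1 with hp
  set f : Fin 24 → GolayPt := fun i => gpt ⟨pget p i.val, hlt i.val (mem_bits24.2 i.2)⟩ with hf
  have hinj : Function.Injective f := fun i j h => by
    have h' : pget p i.val = pget p j.val := congrArg Fin.val (gpt_injective h)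
    exact Fin.ext (List.inj_on_of_nodup_map hnd (mem_bits24.2 i.2) (mem_bits24.2 j.2) h')
  let e : Fin 24 ≃ GolayPt := Equiv.ofBijective f
    ((Fintype.bijective_iff_injective_and_card f).2 ⟨hinj, by rw [Fintype.card_fin]; rfl⟩)
  have he : ∀ i, (gidx (e i)).val = pget p i.val := fun i => by
    show (gidx (f i)).val = _; rw [hf]; simp only [gidx_gpt]
  let φ : (GolayPt → ZMod 2) →ₗ[ZMod 2] (Fin 24 → ZMod 2) := LinearMap.funLeft (ZMod 2) (ZMod 2) e
  have hφinj : Function.Injective φ := LinearMap.funLeft_injective_of_surjective _ _ _ e.surjective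
  have himg : ∀ g, φ (word (pimg p g)) = fword g := fun g => by
    funext i
    show (if (pimg p g).testBit (gidx (e i)).val = true then (1 : ZMod 2) else 0) = if g.testBit i.val = true then 1 else 0
    refine if_congr ?_ rfl rfl
    rw [he, pimg, testBit_orMask]
    constructor
    · rintro ⟨j, hj, hjb, hje⟩
      have : j = i.val := List.inj_on_of_nodup_map hnd hj (mem_bits24.2 i.2) hje
      rwa [this] at hjb
    · exact fun h => ⟨i.val, mem_bits24.2 i.2, h, rfl⟩
  have hcomb : ∀ L : List ℕ, (∀ g ∈ L, fword g ∈ C) → ∀ c, φ (word (comboAux (L.map (pimg p)) c)) ∈ C := by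
    intro L
    induction L with
    | nil =>
      intro _ c
      have : word (comboAux ([] : List ℕ) c) = 0 := by funext q; simp [comboAux, word]
      rw [List.map_nil, this, map_zero]; exact zero_mem _
    | cons g L ih =>
      intro hL c
      rw [List.map_cons, comboAux, word_xor, map_add]
      refine add_mem ?_ (ih (fun x hx => hL x (List.mem_cons_of_mem _ hx)) _)
      cases (c % 2 == 1)
      · have : word 0 = 0 := by funext q; simp [word]
        rw [cond_false, this, map_zero]; exact zero_mem _
      · rw [cond_true, himg]; exact hL g (List.mem_cons_self ..)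
  have hle : golayCode.map φ ≤ C := by
    rintro _ ⟨w, hw, rfl⟩
    obtain ⟨c, hc, rfl⟩ := mem_golayCode_iff.1 hw
    have hb : ∀ L : List ℕ, (∀ b ∈ L, φ (word b) ∈ C) → ∀ c, φ (word (comboAux L c)) ∈ C := by
      intro L
      induction L with
      | nil =>
        intro _ c
        have : word (comboAux ([] : List ℕ) c) = 0 := by funext q; simp [comboAux, word]
        rw [this, map_zero]; exact zero_mem _
      | cons g L ih =>
        intro hL c
        rw [comboAux, word_xor, map_add]
        refine add_mem ?_ (ih (fun x hx => hL x (List.mem_cons_of_mem _ hx)) _)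
        cases (c % 2 == 1)
        · have : word 0 = 0 := by funext q; simp [word]
          rw [cond_false, this, map_zero]; exact zero_mem _
        · exact hL g (List.mem_cons_self ..)
    refine hb basisMasks (fun b hb' => ?_) c
    obtain ⟨k, hk, rfl⟩ := List.mem_iff_getElem.1 hb'
    have h := hbas k (List.mem_range.2 (by simpa [basisMasks] using hk))
    rw [List.getD_eq_getElem _ _ hk] at h
    rw [← h]
    exact hcomb _ hg _
  have hG : Nat.card (golayCode.map φ) = 4096 := by
    rw [← Nat.card_congr (Submodule.equivMapOfInjective φ hφinj golayCode).toEquiv]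
    have hinjw : Set.InjOn word ↑codeList.toFinset := fun a ha b hb h =>
      mset_inj (codeList_lt (by simpa using ha)) (codeList_lt (by simpa using hb))
        (by rw [← support₂_word, ← support₂_word, h])
    have he : (golayCode : Set (GolayPt → ZMod 2)) = ↑(codeList.toFinset.image word) := by
      ext w
      simp only [SetLike.mem_coe, Finset.coe_image, Set.mem_image, List.coe_toFinset, Set.mem_setOf_eq]
      rw [mem_golayCode_iff, codeList_eq]
      simp
    rw [← SetLike.coe_sort_coe, Nat.card_coe_set_eq, he, Set.ncard_coe_finset, Finset.card_image_of_injOn hinjw,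
      List.toFinset_card_of_nodup codeList_nodup, codeList_eq, List.length_map, List.length_range]
  have heq : golayCode.map φ = C := SetLike.coe_injective (Set.eq_of_subset_of_ncard_le hle (by
    rw [← Nat.card_coe_set_eq, ← Nat.card_coe_set_eq]
    exact (hcard.trans hG.symm).le) (Set.toFinite _))
  refine ⟨e, fun w => ⟨fun hw => ?_, fun hw => ?_⟩⟩
  · rw [← heq]; exact ⟨w, hw, rfl⟩
  · rw [← heq] at hw
    obtain ⟨v, hv, hvw⟩ := hw
    exact hφinj (show φ v = φ w from hvw) ▸ hv

theorem equiv_of_frame {C : Submodule (ZMod 2) (Fin 24 → ZMod 2)} (hcard : Nat.card C = 4096)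
    (horth : ∀ v ∈ C, ∀ w ∈ C, ∑ i, v i * w i = 0) (h255 : fword 255 ∈ C)
    (haff : ∀ a ∈ frameAffine, fword a ∈ C)
    (h1 : fword (frameMask 15 15) ∈ C) (h2 : fword (frameMask 113 4369) ∈ C) (h3 : fword (frameMask 135 33825) ∈ C)
    (h4 : ∃ a ∈ planeList, fword (frameM4 a) ∈ C) (h5 : ∃ b ∈ planeList, fword (frameM5 b) ∈ C)
    (h6 : ∃ c ∈ planeList, fword (frameM6 c) ∈ C) :
    ∃ e : Fin 24 ≃ GolayPt, ∀ w : GolayPt → ZMod 2, w ∈ golayCode ↔ (fun i => w (e i)) ∈ C := by
  obtain ⟨a, ha, h4⟩ := h4
  obtain ⟨b, hb, h5⟩ := h5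
  obtain ⟨c, hc, h6⟩ := h6
  have hev : ∀ {x y : ℕ}, fword x ∈ C → fword y ∈ C → evenMeet x y = true := fun {x y} hx hy => by
    have h := horth _ hx _ hy
    rw [fword_dot, ZMod.natCast_eq_zero_iff_even, Nat.even_iff, mcnt_eq_pcnt] at h
    rw [evenMeet, Nat.beq_eq]; exact h
  have h := List.all_eq_true.1 (show frameSearch = true from frameSearch_eq) a ha
  rw [hev h1 h4, hev h2 h4, hev h3 h4] at h
  simp only [Bool.and_self, Bool.not_true, Bool.false_or] at h
  have h := List.all_eq_true.1 h b hb
  rw [hev h1 h5, hev h2 h5, hev h3 h5, hev h4 h5] at h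
  simp only [Bool.and_self, Bool.not_true, Bool.false_or] at h
  have h := List.all_eq_true.1 h c hc
  rw [hev h1 h6, hev h2 h6, hev h3 h6, hev h4 h6, hev h5 h6] at h
  simp only [Bool.and_self, Bool.not_true, Bool.false_or, List.any_eq_true, decide_eq_true_eq] at h
  obtain ⟨s, hs, hse⟩ := h
  refine equiv_of_sol hcard hs fun g hg => ?_
  rw [hse, frameGens, List.mem_cons, List.mem_append] at hg
  rcases hg with rfl | hg | hg
  · exact h255
  · exact haff g hg
  · simp only [frameQuads, List.zipWith_cons_cons, List.zipWith_nil_left, List.mem_cons, List.not_mem_nil, or_false] at hg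
    rcases hg with rfl | rfl | rfl | rfl | rfl | rfl
    exacts [h1, h2, h3, h4, h5, h6]

end Cfsg.Lib.Concrete
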