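import Cfsg.Agent.Lib.Concrete.GolayFrame
import Cfsg.Agent.Lib.Concrete.GolayAbstract

/-!
Every self-orthogonal code of length 24, dimension 12 and minimum weight 8 is equivalent to the
standard code: choose an octad, the affine structure on its complement and three skew planes.
-/

set_option autoImplicit false

namespace Cfsg.Lib.Concrete.GolayUnique

open Finset
open scoped symmDiff
open Cfsg.Agent.GolayAbstract (supp)

/-- The hypotheses on the code. -/
structure IsCode (C : Submodule (ZMod 2) (Fin 24 → ZMod 2)) : Prop where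
  dim : Module.finrank (ZMod 2) C = 12
  orth : ∀ v ∈ C, ∀ w ∈ C, ∑ i, v i * w i = 0
  min : ∀ w ∈ C, w ≠ 0 → 8 ≤ hammingNorm w

variable {C : Submodule (ZMod 2) (Fin 24 → ZMod 2)}

theorem mem_supp {w : Fin 24 → ZMod 2} {i : Fin 24} : i ∈ supp w ↔ w i ≠ 0 := by simp [supp]

theorem eq_one_of_mem {w : Fin 24 → ZMod 2} {i : Fin 24} (h : i ∈ supp w) : w i = 1 :=
  (show ∀ a : ZMod 2, a ≠ 0 → a = 1 by decide) _ (mem_supp.1 h)

theorem supp_injective : Function.Injective (supp : (Fin 24 → ZMod 2) → Finset (Fin 24)) := fun v w h => by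
  funext i
  have := Finset.ext_iff.1 h i
  rw [mem_supp, mem_supp] at this
  generalize v i = a at this
  generalize w i = b at this
  revert this; revert a b; decide

theorem even_inter (hC : IsCode C) {v w : Fin 24 → ZMod 2} (hv : v ∈ C) (hw : w ∈ C) :
    Even (supp v ∩ supp w).card := by
  rw [← ZMod.natCast_eq_zero_iff_even, ← hC.orth v hv w hw]
  have h : ∀ j, v j * w j = if j ∈ supp v ∩ supp w then 1 else 0 := fun j => by
    simp only [mem_inter, mem_supp]
    generalize v j = a
    generalize w j = b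
    revert a b; decide
  rw [Finset.sum_congr rfl fun j _ => h j, Finset.sum_boole]
  congr 2; ext j; simp

theorem exists_octad (hC : IsCode C) {S : Finset (Fin 24)} (hS : S.card = 5) :
    ∃ o ∈ C, (supp o).card = 8 ∧ S ⊆ supp o := by
  obtain ⟨o, ho, h8, hs⟩ := Cfsg.Agent.GolayAbstract.exists_octad C hC.dim hC.min S hS
  exact ⟨o, ho, (Cfsg.Agent.GolayAbstract.card_supp o).trans h8, hs⟩

theorem octad_eq (hC : IsCode C) {v w : Fin 24 → ZMod 2} (hv : v ∈ C) (hw : w ∈ C) (hv8 : (supp v).card = 8)
    (hw8 : (supp w).card = 8) {S : Finset (Fin 24)} (hS : 5 ≤ S.card) (h1 : S ⊆ supp v) (h2 : S ⊆ supp w) : v = w := by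
  by_contra hne
  have hne' : v + w ≠ 0 := fun h => hne (by
    funext i
    have := congrFun h i
    simp only [Pi.add_apply, Pi.zero_apply] at this
    exact CharTwo.add_eq_zero.1 this)
  have h8 := hC.min _ (C.add_mem hv hw) hne'
  rw [← Cfsg.Agent.GolayAbstract.card_supp, Cfsg.Agent.GolayAbstract.supp_add, symmDiff_def, sup_eq_union,
    card_union_of_disjoint disjoint_sdiff_sdiff] at h8
  have := card_sdiff_add_card_inter (supp v) (supp w)
  have h' := card_sdiff_add_card_inter (supp w) (supp v)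
  rw [inter_comm] at h'
  have : 5 ≤ (supp v ∩ supp w).card := hS.trans (card_le_card (subset_inter h1 h2))
  omega

theorem weight_dvd (hC : IsCode C) {w : Fin 24 → ZMod 2} (hw : w ∈ C) : 4 ∣ (supp w).card := by
  rw [Cfsg.Agent.GolayAbstract.card_supp]
  exact (Cfsg.Agent.GolayAbstract.main C hC.dim hC.orth hC.min w hw).1

theorem one_mem (hC : IsCode C) : (1 : Fin 24 → ZMod 2) ∈ C := by
  obtain ⟨u, hu, hsmall⟩ := Cfsg.Agent.GolayAbstract.exists_leader C hC.dim hC.min 1 0
  have h4 : (supp u).card ≤ 4 := by rcases hsmall with h | h <;> omega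
  have hsupp : supp (u + 1) = (supp u)ᶜ := by
    ext i
    simp only [mem_supp, Pi.add_apply, Pi.one_apply, Finset.mem_compl]
    generalize u i = a
    revert a; decide
  have hdvd := weight_dvd hC hu
  rw [hsupp, card_compl, Fintype.card_fin] at hdvd
  obtain ⟨k, hk⟩ := hdvd
  rcases Nat.eq_zero_or_pos (supp u).card with h0 | h0
  · have : u = 0 := Cfsg.Agent.GolayAbstract.supp_eq_empty (Finset.card_eq_zero.1 h0)
    simpa [this] using hu
  exfalso
  have hc4 : (supp u).card = 4 := by omega
  obtain ⟨T, hTu, hT⟩ := Finset.exists_subset_card_eq (s := supp u) (n := 3) (by omega)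
  obtain ⟨z, hz⟩ := Finset.card_pos.1 (show 0 < (supp u)ᶜ.card by rw [card_compl, Fintype.card_fin]; omega)
  have hz' := Finset.mem_compl.1 hz
  obtain ⟨o1, ho1, h81, hs1⟩ := exists_octad hC (S := insert z (supp u)) (by rw [card_insert_of_notMem hz', hc4])
  obtain ⟨y, hy⟩ := Finset.card_pos.1 (show 0 < (supp o1)ᶜ.card by rw [card_compl, Fintype.card_fin, h81]; omega)
  have hy' := Finset.mem_compl.1 hy
  have hzT : z ∉ T := fun h => hz' (hTu h)
  have hyT : y ∉ insert z T := fun h => hy' (hs1 (Finset.insert_subset_insert z hTu h))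
  obtain ⟨o2, ho2, h82, hs2⟩ := exists_octad hC (S := insert y (insert z T))
    (by rw [card_insert_of_notMem hyT, card_insert_of_notMem hzT, hT])
  have hne : ¬ supp u ⊆ supp o2 := fun h => by
    have := octad_eq hC ho1 ho2 h81 h82 (S := insert z (supp u)) (by rw [card_insert_of_notMem hz', hc4]) hs1
      (Finset.insert_subset (hs2 (by simp)) h)
    exact hy' (this ▸ hs2 (by simp))
  have hsub : T ⊆ supp o2 ∩ supp u := fun t ht => mem_inter.2 ⟨hs2 (by simp [ht]), hTu ht⟩
  have h3 : (supp o2 ∩ supp u).card = 3 := by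
    have h1 := card_le_card hsub
    have h2 : (supp o2 ∩ supp u).card < 4 := by
      rw [← hc4]
      exact card_lt_card (Finset.ssubset_iff_subset_ne.2 ⟨inter_subset_right, fun h => hne (h ▸ inter_subset_left)⟩)
    omega
  have he := even_inter hC ho2 hu
  rw [hsupp, ← Finset.sdiff_eq_inter_compl] at he
  have := card_sdiff_add_card_inter (supp o2) (supp u)
  rw [Nat.even_iff] at he
  omega

theorem card_C (hC : IsCode C) : Nat.card C = 4096 := by
  rw [Module.natCard_eq_pow_finrank (K := ZMod 2), hC.dim, Nat.card_eq_fintype_card, ZMod.card]; rfl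

/-- The even subsets of the octad. -/
abbrev evens (S : Finset (Fin 24)) : Finset (Finset (Fin 24)) := S.powerset.filter fun A => A.card % 2 = 0

theorem card_evens {S : Finset (Fin 24)} (hS : S.card = 8) : (evens S).card = 128 := by
  rw [evens, Finset.card_filter, Finset.sum_powerset_apply_card (fun m => if m % 2 = 0 then 1 else 0), hS]
  decide

theorem inter_symmDiff_right (A B S : Finset (Fin 24)) : (A ∆ B) ∩ S = (A ∩ S) ∆ (B ∩ S) := by
  ext i; simp only [mem_inter, mem_symmDiff]; tauto

theorem exists_quad_octad (hC : IsCode C) {o0 : Fin 24 → ZMod 2} (ho0 : o0 ∈ C) (h80 : (supp o0).card = 8)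
    {T : Finset (Fin 24)} (hT : T.card = 4) (hTS : T ⊆ supp o0) {x : Fin 24} (hx : x ∉ supp o0) :
    ∃ o ∈ C, (supp o).card = 8 ∧ supp o ∩ supp o0 = T ∧ x ∈ supp o := by
  obtain ⟨o, ho, h8, hs⟩ := exists_octad hC (S := insert x T) (by rw [card_insert_of_notMem fun h => hx (hTS h), hT])
  refine ⟨o, ho, h8, ?_, hs (by simp)⟩
  have hsub : T ⊆ supp o ∩ supp o0 := fun t ht => mem_inter.2 ⟨hs (by simp [ht]), hTS ht⟩
  refine (eq_of_subset_of_card_le hsub ?_).symm
  by_contra h
  have h5 : 5 ≤ (supp o ∩ supp o0).card := by omega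
  exact hx (octad_eq hC ho ho0 h8 h80 h5 inter_subset_left inter_subset_right ▸ hs (by simp))

theorem exists_restrict (hC : IsCode C) {o0 : Fin 24 → ZMod 2} (ho0 : o0 ∈ C) (h80 : (supp o0).card = 8)
    {A : Finset (Fin 24)} (hA : A ∈ evens (supp o0)) : ∃ c ∈ C, supp c ∩ supp o0 = A := by
  obtain ⟨hAS, hev⟩ := Finset.mem_filter.1 hA
  rw [Finset.mem_powerset] at hAS
  obtain ⟨x, hx⟩ := Finset.card_pos.1 (show 0 < (supp o0)ᶜ.card by rw [card_compl, Fintype.card_fin, h80]; omega)
  have hx' := Finset.mem_compl.1 hx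
  clear hA
  induction hn : A.card using Nat.strong_induction_on generalizing A with
  | _ n ih =>
    rcases Nat.eq_zero_or_pos A.card with h0 | h0
    · exact ⟨0, C.zero_mem, by rw [Finset.card_eq_zero.1 h0]; simp [supp]⟩
    obtain ⟨a, b, ha, hb, hab⟩ := Finset.one_lt_card_iff.1 (show 1 < A.card by omega)
    obtain ⟨R, hR, hRc⟩ := Finset.exists_subset_card_eq (s := (supp o0 \ {a, b})) (n := 3) (by
      rw [card_sdiff_of_subset (by simp [insert_subset_iff, hAS ha, hAS hb]), card_pair hab, h80]; norm_num)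
    have hRa : a ∉ R := fun h => by have := hR h; simp at this
    have hRb : b ∉ R := fun h => by have := hR h; simp at this
    have hRS : R ⊆ supp o0 := hR.trans sdiff_subset
    obtain ⟨oa, hoa, -, hia, -⟩ := exists_quad_octad hC ho0 h80 (T := insert a R)
      (by rw [card_insert_of_notMem hRa, hRc]) (insert_subset (hAS ha) hRS) hx'
    obtain ⟨ob, hob, -, hib, -⟩ := exists_quad_octad hC ho0 h80 (T := insert b R)
      (by rw [card_insert_of_notMem hRb, hRc]) (insert_subset (hAS hb) hRS) hx'
    have hc' : ((A.erase a).erase b).card = A.card - 2 := by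
      rw [card_erase_of_mem (mem_erase.2 ⟨hab.symm, hb⟩), card_erase_of_mem ha]; omega
    obtain ⟨c, hc, hci⟩ := ih (A.card - 2) (by omega) ((erase_subset _ _).trans ((erase_subset _ _).trans hAS))
      (by omega) hc'
    refine ⟨c + (oa + ob), C.add_mem hc (C.add_mem hoa hob), ?_⟩
    rw [Cfsg.Agent.GolayAbstract.supp_add, Cfsg.Agent.GolayAbstract.supp_add, inter_symmDiff_right,
      inter_symmDiff_right, hci, hia, hib]
    ext i
    simp only [mem_symmDiff, mem_erase, mem_insert]
    by_cases h1 : i = a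
    · subst h1; simp [hab, ha, hRa]
    by_cases h2 : i = b
    · subst h2; simp [Ne.symm hab, hb, hRb]
    simp [h1, h2]

/-- The codewords vanishing on the octad. -/
def shortened (C : Submodule (ZMod 2) (Fin 24 → ZMod 2)) (o0 : Fin 24 → ZMod 2) : Submodule (ZMod 2) C where
  carrier := {c | ∀ i ∈ supp o0, (c : Fin 24 → ZMod 2) i = 0}
  zero_mem' := fun _ _ => rfl
  add_mem' := fun ha hb i hi => by simp [ha i hi, hb i hi]
  smul_mem' := fun r c hc i hi => by simp [hc i hi]

theorem card_shortened (hC : IsCode C) {o0 : Fin 24 → ZMod 2} (ho0 : o0 ∈ C) (h80 : (supp o0).card = 8) :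
    Nat.card (shortened C o0) = 32 := by
  let res : C →+ (supp o0 → ZMod 2) := AddMonoidHom.mk' (fun c i => (c : Fin 24 → ZMod 2) i.1) fun _ _ => rfl
  have hker : res.ker = (shortened C o0).toAddSubgroup := by
    ext c
    rw [AddMonoidHom.mem_ker]
    exact ⟨fun h i hi => congrFun h ⟨i, hi⟩, fun h => funext fun i => h i.1 i.2⟩
  have hrange : Nat.card res.range = 128 := by
    rw [← card_evens h80, ← Nat.card_eq_finsetCard]
    refine Nat.card_eq_of_bijective (fun r => ⟨(Finset.univ.filter fun i => r.1 i ≠ 0).map (Function.Embedding.subtype _), ?_⟩) ⟨?_, ?_⟩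
    · obtain ⟨_, c, rfl⟩ := r
      refine Finset.mem_filter.2 ⟨Finset.mem_powerset.2 fun i hi => ?_, ?_⟩
      · obtain ⟨j, -, rfl⟩ := Finset.mem_map.1 hi
        exact j.2
      · have he : (Finset.univ.filter fun i : supp o0 => res c i ≠ 0).map (Function.Embedding.subtype _) =
            supp (c : Fin 24 → ZMod 2) ∩ supp o0 := by
          ext i
          simp only [mem_map, mem_filter, mem_univ, true_and, mem_inter, mem_supp, Function.Embedding.coe_subtype]
          exact ⟨fun ⟨j, hj, e⟩ => e ▸ ⟨hj, mem_supp.1 j.2⟩, fun h => ⟨⟨i, mem_supp.2 h.2⟩, h.1, rfl⟩⟩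
        rw [he, ← Nat.even_iff]
        exact even_inter hC c.2 ho0
    · rintro ⟨r, hr⟩ ⟨s, hs⟩ h
      have h' := Finset.map_injective _ (congrArg Subtype.val h)
      refine Subtype.ext (funext fun i => ?_)
      have := Finset.ext_iff.1 h' i
      simp only [mem_filter, mem_univ, true_and] at this
      show r i = s i
      generalize r i = a at this ⊢
      generalize s i = b at this ⊢
      revert this; revert a b; decide
    · rintro ⟨A, hA⟩
      obtain ⟨c, hc, hcA⟩ := exists_restrict hC ho0 h80 hA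
      refine ⟨⟨res ⟨c, hc⟩, _, rfl⟩, Subtype.ext ?_⟩
      show Finset.map _ _ = A
      rw [← hcA]
      ext i
      simp only [mem_map, mem_filter, mem_univ, true_and, mem_inter, mem_supp, Function.Embedding.coe_subtype]
      exact ⟨fun ⟨j, hj, e⟩ => e ▸ ⟨hj, mem_supp.1 j.2⟩, fun h => ⟨⟨i, mem_supp.2 h.2⟩, h.1, rfl⟩⟩
  have h := AddSubgroup.card_eq_card_quotient_mul_card_addSubgroup res.ker
  rw [Nat.card_congr (QuotientAddGroup.quotientKerEquivRange res).toEquiv, hrange, card_C hC, hker] at h
  have : Nat.card (shortened C o0) = Nat.card (shortened C o0).toAddSubgroup := rfl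
  omega

/-- Evaluation at a point. -/
def evalAt (C : Submodule (ZMod 2) (Fin 24 → ZMod 2)) (o0 : Fin 24 → ZMod 2) (x : Fin 24) :
    Module.Dual (ZMod 2) (shortened C o0) where
  toFun d := ((d : C) : Fin 24 → ZMod 2) x
  map_add' _ _ := rfl
  map_smul' _ _ := rfl

theorem weight_shortened (hC : IsCode C) {o0 : Fin 24 → ZMod 2} (ho0 : o0 ∈ C) (h80 : (supp o0).card = 8)
    (d : shortened C o0) : (supp ((d : C) : Fin 24 → ZMod 2)).card = 8 ∨ d = 0 ∨
      supp ((d : C) : Fin 24 → ZMod 2) = (supp o0)ᶜ := by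
  set v := ((d : C) : Fin 24 → ZMod 2) with hv
  have hsub : supp v ⊆ (supp o0)ᶜ := fun i hi => mem_compl.2 fun h => mem_supp.1 hi (d.2 i h)
  have h16 : (supp v).card ≤ 16 := by
    have := card_le_card hsub
    rw [card_compl, Fintype.card_fin, h80] at this; exact this
  by_cases h0 : d = 0
  · exact Or.inr (Or.inl h0)
  have hv0 : v ≠ 0 := fun h => h0 (Subtype.ext (Subtype.ext h))
  have h8 := hC.min v (d : C).2 hv0
  rw [← Cfsg.Agent.GolayAbstract.card_supp] at h8
  obtain ⟨k, hk⟩ := weight_dvd hC (d : C).2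
  rw [← hv] at hk
  have hcases : (supp v).card = 8 ∨ (supp v).card = 12 ∨ (supp v).card = 16 := by omega
  rcases hcases with h | h | h
  · exact Or.inl h
  · exfalso
    have hu := C.add_mem (C.add_mem (d : C).2 ho0) (one_mem hC)
    have hs : supp (v + o0 + 1) = (supp o0)ᶜ \ supp v := by
      rw [Cfsg.Agent.GolayAbstract.supp_add, Cfsg.Agent.GolayAbstract.supp_add]
      ext i
      have := @hsub i
      simp only [mem_symmDiff, mem_sdiff, mem_compl, mem_supp, Pi.one_apply] at this ⊢
      have h1 : (1 : ZMod 2) ≠ 0 := by decide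
      tauto
    have hcard : (supp (v + o0 + 1)).card = 4 := by
      rw [hs, card_sdiff_of_subset hsub, card_compl, Fintype.card_fin, h80, h]
    have hne : v + o0 + 1 ≠ 0 := fun h' => by rw [h'] at hcard; simp [supp] at hcard
    have := hC.min _ hu hne
    rw [← Cfsg.Agent.GolayAbstract.card_supp, hcard] at this
    omega
  · refine Or.inr (Or.inr (eq_of_subset_of_card_le hsub ?_))
    rw [card_compl, Fintype.card_fin, h80]; omega

theorem one_shortened (hC : IsCode C) {o0 : Fin 24 → ZMod 2} (ho0 : o0 ∈ C) :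
    ∃ u : shortened C o0, ∀ x, ((u : C) : Fin 24 → ZMod 2) x = if x ∈ supp o0 then 0 else 1 := by
  refine ⟨⟨⟨o0 + 1, C.add_mem ho0 (one_mem hC)⟩, fun i hi => ?_⟩, fun x => ?_⟩
  · show o0 i + 1 = 0; rw [eq_one_of_mem hi]; rfl
  · show o0 x + 1 = _
    by_cases h : x ∈ supp o0
    · rw [eq_one_of_mem h, if_pos h]; rfl
    · rw [if_neg h, show o0 x = 0 from not_not.1 fun h' => h (mem_supp.2 h'), zero_add]

theorem evalAt_injOn (hC : IsCode C) {o0 : Fin 24 → ZMod 2} (ho0 : o0 ∈ C) (h80 : (supp o0).card = 8) :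
    Set.InjOn (evalAt C o0) ↑(supp o0)ᶜ := by
  classical
  set X := (supp o0)ᶜ with hX
  haveI : Fintype (shortened C o0) := Fintype.ofFinite _
  have hD : Fintype.card (shortened C o0) = 32 := by rw [← Nat.card_eq_fintype_card, card_shortened hC ho0 h80]
  let val : shortened C o0 → Fin 24 → ZMod 2 := fun d => ((d : C) : Fin 24 → ZMod 2)
  let N : Fin 24 × Fin 24 → ℕ := fun p => (Finset.univ.filter fun d => val d p.1 ≠ val d p.2).card
  have hN : ∀ p : Fin 24 × Fin 24, N p ≤ 16 := by
    intro p
    by_cases h : ∃ d0, val d0 p.1 ≠ val d0 p.2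
    · obtain ⟨d0, hd0⟩ := h
      have hle : (Finset.univ.filter fun d => val d p.1 ≠ val d p.2).card ≤
          (Finset.univ.filter fun d => ¬ val d p.1 ≠ val d p.2).card := by
        refine Finset.card_le_card_of_injOn (fun d => d + d0) (fun d hd => ?_) fun a _ b _ e => add_right_cancel e
        simp only [coe_filter, mem_univ, true_and, Set.mem_setOf_eq] at hd ⊢
        have hadd : ∀ i, val (d + d0) i = val d i + val d0 i := fun i => rfl
        rw [hadd, hadd]
        generalize val d p.1 = a at hd; generalize val d p.2 = b at hd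
        generalize val d0 p.1 = a' at hd0; generalize val d0 p.2 = b' at hd0
        revert hd hd0; revert a b a' b'; decide
      have := Finset.card_filter_add_card_filter_not (s := (Finset.univ : Finset (shortened C o0))) fun d => val d p.1 ≠ val d p.2
      rw [Finset.card_univ, hD] at this
      show (Finset.univ.filter fun d => val d p.1 ≠ val d p.2).card ≤ 16
      omega
    · push Not at h
      show (Finset.univ.filter fun d => val d p.1 ≠ val d p.2).card ≤ 16
      rw [Finset.filter_false_of_mem fun d _ => not_not.2 (h d), card_empty]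
      norm_num
  have hXc : X.card = 16 := by rw [hX, card_compl, Fintype.card_fin, h80]
  have hoff : X.offDiag.card = 240 := by rw [offDiag_card, hXc]
  obtain ⟨u, hu⟩ := one_shortened hC ho0
  have hsum : ∑ p ∈ X.offDiag, N p = 3840 := by
    simp only [N, Finset.card_filter]
    rw [Finset.sum_comm]
    have hd : ∀ d, (∑ p ∈ X.offDiag, if val d p.1 ≠ val d p.2 then 1 else 0) =
        if d = 0 ∨ d = u then 0 else 128 := by
      intro d
      rw [← Finset.card_filter]
      have he : X.offDiag.filter (fun p => val d p.1 ≠ val d p.2) =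
          ((X ∩ supp (val d)) ×ˢ (X \ supp (val d))) ∪ ((X \ supp (val d)) ×ˢ (X ∩ supp (val d))) := by
        ext ⟨i, j⟩
        simp only [mem_filter, mem_offDiag, mem_union, mem_product, mem_inter, mem_sdiff, mem_supp]
        have h01 : ∀ a b : ZMod 2, a ≠ b ↔ (a ≠ 0 ∧ ¬ b ≠ 0) ∨ (¬ a ≠ 0 ∧ b ≠ 0) := by decide
        rw [h01]
        refine ⟨by tauto, fun h => ⟨⟨by tauto, by tauto, fun e => ?_⟩, by tauto⟩⟩
        subst e; tauto
      rw [he, card_union_of_disjoint, card_product, card_product]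
      · have hsub : supp (val d) ⊆ X := fun i hi => mem_compl.2 fun h => mem_supp.1 hi (d.2 i h)
        rw [inter_eq_right.2 hsub, card_sdiff_of_subset hsub, hXc]
        by_cases h0 : d = 0
        · subst h0
          have : supp (val (0 : shortened C o0)) = ∅ := by ext i; simp [supp, val]
          simp [this]
        by_cases h1 : d = u
        · subst h1
          have : supp (val d) = X := by
            ext i
            rw [mem_supp, hX, mem_compl]
            show ((d : C) : Fin 24 → ZMod 2) i ≠ 0 ↔ _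
            rw [hu]; split <;> simp_all
          simp [this, hXc]
        rcases weight_shortened hC ho0 h80 d with h | h | h
        · rw [if_neg (by tauto), show (supp (val d)).card = 8 from h]
        · exact absurd h h0
        · exfalso; apply h1
          refine Subtype.ext (Subtype.ext (supp_injective (h.trans ?_)))
          ext i
          rw [mem_compl, mem_supp, mem_supp]
          show _ ↔ ((u : C) : Fin 24 → ZMod 2) i ≠ 0
          rw [hu]; simp only [mem_supp]; split <;> simp_all
      · rw [Finset.disjoint_left]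
        intro p h1 h2
        simp only [mem_product, mem_inter, mem_sdiff] at h1 h2
        tauto
    rw [Finset.sum_congr rfl fun d _ => hd d]
    have hu0 : u ≠ 0 := fun h => by
      obtain ⟨x, hx⟩ := Finset.card_pos.1 (show 0 < X.card by rw [hXc]; norm_num)
      have := hu x
      rw [if_neg (mem_compl.1 hx), h] at this
      exact zero_ne_one this
    have hset : Finset.univ.filter (fun d : shortened C o0 => d = 0 ∨ d = u) = {0, u} := by ext d; simp
    rw [Finset.sum_ite, Finset.sum_const_zero, zero_add, Finset.sum_const, smul_eq_mul, Finset.filter_not, hset,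
      card_sdiff_of_subset (subset_univ _), card_univ, hD, card_pair (Ne.symm hu0)]
  have heq := (Finset.sum_eq_sum_iff_of_le (s := X.offDiag) (f := N) (g := fun _ => 16) fun p _ => hN p).1
    (by rw [hsum, Finset.sum_const, hoff]; rfl)
  intro x hx y hy hxy
  by_contra hne
  have h := heq (x, y) (mem_offDiag.2 ⟨mem_coe.1 hx, mem_coe.1 hy, hne⟩)
  have h0 : N (x, y) = 0 := by
    show (Finset.univ.filter fun d => val d x ≠ val d y).card = 0
    rw [Finset.filter_false_of_mem fun d _ => not_not.2 ?_, card_empty]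
    exact LinearMap.congr_fun hxy d
  omega

/-- The functionals at a base point. -/
def rel (C : Submodule (ZMod 2) (Fin 24 → ZMod 2)) (o0 : Fin 24 → ZMod 2) (x0 x : Fin 24) :
    Module.Dual (ZMod 2) (shortened C o0) := evalAt C o0 x + evalAt C o0 x0

theorem dual_add_self {o0 : Fin 24 → ZMod 2} (v : Module.Dual (ZMod 2) (shortened C o0)) : v + v = 0 :=
  LinearMap.ext fun _ => CharTwo.add_self_eq_zero _

theorem exists_point (hC : IsCode C) {o0 : Fin 24 → ZMod 2} (ho0 : o0 ∈ C) (h80 : (supp o0).card = 8)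
    {u : shortened C o0} (hu : ∀ x, ((u : C) : Fin 24 → ZMod 2) x = if x ∈ supp o0 then 0 else 1)
    (φ : Module.Dual (ZMod 2) (shortened C o0)) (hφ : φ u = 1) : ∃ x ∉ supp o0, evalAt C o0 x = φ := by
  classical
  haveI : Finite (Module.Dual (ZMod 2) (shortened C o0)) := Module.finite_of_finite (ZMod 2)
  haveI : Fintype (Module.Dual (ZMod 2) (shortened C o0)) := Fintype.ofFinite _
  have hcard : Fintype.card (Module.Dual (ZMod 2) (shortened C o0)) = 32 := by
    rw [← Nat.card_eq_fintype_card, Module.natCard_eq_pow_finrank (K := ZMod 2), Subspace.dual_finrank_eq,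
      ← Module.natCard_eq_pow_finrank (K := ZMod 2), card_shortened hC ho0 h80]
  have hhalf : (Finset.univ.filter fun ψ : Module.Dual (ZMod 2) (shortened C o0) => ψ u = 1).card ≤ 16 := by
    have hle : (Finset.univ.filter fun ψ : Module.Dual (ZMod 2) (shortened C o0) => ψ u = 1).card ≤
        (Finset.univ.filter fun ψ : Module.Dual (ZMod 2) (shortened C o0) => ¬ ψ u = 1).card := by
      refine Finset.card_le_card_of_injOn (fun ψ => ψ + φ) (fun ψ hψ => ?_) fun a _ b _ e => add_right_cancel e
      simp only [coe_filter, mem_univ, true_and, Set.mem_setOf_eq] at hψ ⊢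
      rw [LinearMap.add_apply, hψ, hφ]; decide
    have := Finset.card_filter_add_card_filter_not (s := (Finset.univ : Finset (Module.Dual (ZMod 2) (shortened C o0))))
      fun ψ => ψ u = 1
    rw [Finset.card_univ, hcard] at this
    omega
  have hsub : (supp o0)ᶜ.image (evalAt C o0) ⊆ Finset.univ.filter fun ψ => ψ u = 1 := by
    intro ψ hψ
    obtain ⟨x, hx, rfl⟩ := mem_image.1 hψ
    refine mem_filter.2 ⟨mem_univ _, ?_⟩
    show ((u : C) : Fin 24 → ZMod 2) x = 1
    rw [hu, if_neg (mem_compl.1 hx)]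
  have heq := eq_of_subset_of_card_le hsub (by
    rw [Finset.card_image_of_injOn (evalAt_injOn hC ho0 h80), card_compl, Fintype.card_fin, h80]; exact hhalf)
  have hmem : φ ∈ (supp o0)ᶜ.image (evalAt C o0) := heq ▸ mem_filter.2 ⟨mem_univ _, hφ⟩
  obtain ⟨x, hx, e⟩ := mem_image.1 hmem
  exact ⟨x, mem_compl.1 hx, e⟩

/-- The octad of a quad through the base point, with the two functionals of its plane. -/
structure QuadPlane (C : Submodule (ZMod 2) (Fin 24 → ZMod 2)) (o0 : Fin 24 → ZMod 2) (x0 : Fin 24)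
    (T : Finset (Fin 24)) where
  o : Fin 24 → ZMod 2
  p : Fin 24
  q : Fin 24
  r : Fin 24
  mem : o ∈ C
  inter : supp o ∩ supp o0 = T
  out : supp o \ supp o0 = {x0, p, q, r}
  distinct : p ≠ q ∧ p ≠ r ∧ q ≠ r ∧ p ≠ x0 ∧ q ≠ x0 ∧ r ≠ x0
  sum : rel C o0 x0 r = rel C o0 x0 p + rel C o0 x0 q

theorem exists_quadPlane (hC : IsCode C) {o0 : Fin 24 → ZMod 2} (ho0 : o0 ∈ C) (h80 : (supp o0).card = 8)
    {x0 : Fin 24} (hx0 : x0 ∉ supp o0) {T : Finset (Fin 24)} (hT : T.card = 4) (hTS : T ⊆ supp o0) :
    Nonempty (QuadPlane C o0 x0 T) := by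
  classical
  obtain ⟨o, ho, h8, hi, hxo⟩ := exists_quad_octad hC ho0 h80 hT hTS hx0
  have hF : (supp o \ supp o0).card = 4 := by
    have := card_sdiff_add_card_inter (supp o) (supp o0)
    rw [hi, hT] at this; omega
  have hx : x0 ∈ supp o \ supp o0 := mem_sdiff.2 ⟨hxo, hx0⟩
  obtain ⟨p, q, r, hpq, hpr, hqr, he⟩ := card_eq_three.1 (show ((supp o \ supp o0).erase x0).card = 3 by
    rw [card_erase_of_mem hx, hF])
  have hne : ∀ {z}, z ∈ ({p, q, r} : Finset (Fin 24)) → z ≠ x0 := fun {z} hz => (mem_erase.1 (he ▸ hz)).1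
  have hpx := hne (z := p) (by simp)
  have hqx := hne (z := q) (by simp)
  have hrx := hne (z := r) (by simp)
  have hout : supp o \ supp o0 = {x0, p, q, r} := by rw [← insert_erase hx, he]
  refine ⟨⟨o, p, q, r, ho, hi, hout, ⟨hpq, hpr, hqr, hpx, hqx, hrx⟩, LinearMap.ext fun d => ?_⟩⟩
  have h := hC.orth o ho _ (d : C).2
  have hsum : ∑ i, o i * ((d : C) : Fin 24 → ZMod 2) i = ∑ i ∈ supp o \ supp o0, ((d : C) : Fin 24 → ZMod 2) i := by
    rw [← Finset.sum_subset (s₁ := supp o \ supp o0) (subset_univ _) (fun i _ hi => ?_)]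
    · refine Finset.sum_congr rfl fun i hi => ?_
      rw [eq_one_of_mem (mem_sdiff.1 hi).1, one_mul]
    · by_cases hio : i ∈ supp o
      · rw [show ((d : C) : Fin 24 → ZMod 2) i = 0 from d.2 i (by by_contra h; exact hi (mem_sdiff.2 ⟨hio, h⟩)), mul_zero]
      · rw [show o i = 0 from not_not.1 fun h' => hio (mem_supp.2 h'), zero_mul]
  rw [hsum, hout, sum_insert (by simp [Ne.symm hpx, Ne.symm hqx, Ne.symm hrx]), sum_insert (by simp [hpq, hpr]),
    sum_pair hqr] at h
  show ((d : C) : Fin 24 → ZMod 2) r + _ = (_ + _) + (_ + _)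
  show ((d : C) : Fin 24 → ZMod 2) r + ((d : C) : Fin 24 → ZMod 2) x0 =
    (((d : C) : Fin 24 → ZMod 2) p + ((d : C) : Fin 24 → ZMod 2) x0) + (((d : C) : Fin 24 → ZMod 2) q + ((d : C) : Fin 24 → ZMod 2) x0)
  generalize ((d : C) : Fin 24 → ZMod 2) p = a, ((d : C) : Fin 24 → ZMod 2) q = b,
    ((d : C) : Fin 24 → ZMod 2) r = c, ((d : C) : Fin 24 → ZMod 2) x0 = e at h ⊢
  revert h; revert a b c e; decide

end Cfsg.Lib.Concrete.GolayUnique
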