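import Cfsg.Agent.Lib.Concrete.GolayFrameExists

/-!
Coordinates for a frame, and uniqueness of the code of length 24.
-/

set_option autoImplicit false

namespace Cfsg.Lib.Concrete.GolayUnique

open Finset
open Cfsg.Agent.GolayAbstract (supp)

variable {C : Submodule (ZMod 2) (Fin 24 → ZMod 2)} {o0 : Fin 24 → ZMod 2} {x0 : Fin 24}

/-- The plane of functionals of a quad. -/
noncomputable def gset {T : Finset (Fin 24)} (P : QuadPlane C o0 x0 T) :
    Finset (Module.Dual (ZMod 2) (shortened C o0)) := by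
  classical exact (supp P.o \ supp o0).image (rel C o0 x0)

variable (hC : IsCode C) (ho0 : o0 ∈ C) (h80 : (supp o0).card = 8) (hx0 : x0 ∉ supp o0)

include hC ho0 h80 in
theorem rel_injOn (x0 : Fin 24) : Set.InjOn (rel C o0 x0) ↑(supp o0)ᶜ := fun x hx y hy h =>
  evalAt_injOn hC ho0 h80 hx hy (add_right_cancel h)

theorem rel_self : rel C o0 x0 x0 = 0 := dual_add_self _

variable {T T' : Finset (Fin 24)}

theorem zero_mem_gset (P : QuadPlane C o0 x0 T) : 0 ∈ gset P := by
  classical
  rw [gset, mem_image]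
  exact ⟨x0, by rw [P.out]; simp, rel_self⟩

theorem mem_gset (P : QuadPlane C o0 x0 T) {a : Module.Dual (ZMod 2) (shortened C o0)} :
    a ∈ gset P ↔ a = 0 ∨ a = rel C o0 x0 P.p ∨ a = rel C o0 x0 P.q ∨ a = rel C o0 x0 P.p + rel C o0 x0 P.q := by
  classical
  rw [gset, P.out]
  simp only [image_insert, image_singleton, mem_insert, mem_singleton, rel_self, P.sum]

theorem add_mem_gset (P : QuadPlane C o0 x0 T) {a b : Module.Dual (ZMod 2) (shortened C o0)}
    (ha : a ∈ gset P) (hb : b ∈ gset P) : a + b ∈ gset P := by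
  rw [mem_gset] at ha hb ⊢
  set u := rel C o0 x0 P.p
  set v := rel C o0 x0 P.q
  have h1 : ∀ x y : Module.Dual (ZMod 2) (shortened C o0), x + (x + y) = y := fun x y => by
    rw [← add_assoc, dual_add_self, zero_add]
  rcases ha with rfl | rfl | rfl | rfl <;> rcases hb with rfl | rfl | rfl | rfl <;>
    simp [dual_add_self, h1, add_comm, add_left_comm]

include hC ho0 h80 in
theorem card_gset (P : QuadPlane C o0 x0 T) (hT : (supp P.o \ supp o0).card = 4) : (gset P).card = 4 := by
  classical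
  rw [gset, card_image_of_injOn, hT]
  exact (rel_injOn hC ho0 h80 x0).mono fun x hx => mem_compl.2 (mem_sdiff.1 hx).2

theorem out_card (P : QuadPlane C o0 x0 T) : (supp P.o \ supp o0).card = 4 := by
  obtain ⟨h1, h2, h3, h4, h5, h6⟩ := P.distinct
  rw [P.out, card_insert_of_notMem (by simp [h4.symm, h5.symm, h6.symm]), card_insert_of_notMem (by simp [h1, h2]),
    card_pair h3]

include hC ho0 h80 in
theorem gset_trivial (P : QuadPlane C o0 x0 T) (Q : QuadPlane C o0 x0 T') (hodd : (T ∩ T').card % 2 = 1)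
    {a : Module.Dual (ZMod 2) (shortened C o0)} (ha : a ∈ gset P) (hb : a ∈ gset Q) : a = 0 := by
  classical
  set F := supp P.o \ supp o0
  set F' := supp Q.o \ supp o0
  have hev := even_inter hC P.mem Q.mem
  have hsplit : (supp P.o ∩ supp Q.o).card = (F ∩ F').card + (T ∩ T').card := by
    rw [← card_sdiff_add_card_inter (supp P.o ∩ supp Q.o) (supp o0)]
    congr 1
    · congr 1; ext i; simp only [F, F', mem_sdiff, mem_inter]; tauto
    · congr 1; ext i
      have h1 := Finset.ext_iff.1 P.inter i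
      have h2 := Finset.ext_iff.1 Q.inter i
      simp only [mem_inter] at h1 h2 ⊢
      tauto
  rw [hsplit, Nat.even_iff] at hev
  have hinj := rel_injOn hC ho0 h80 x0
  have hG : (gset P ∩ gset Q).card = (F ∩ F').card := by
    have hu : ↑F ∪ ↑F' ⊆ (↑(supp o0)ᶜ : Set (Fin 24)) := fun x hx =>
      mem_coe.2 (mem_compl.2 (hx.elim (fun h => (mem_sdiff.1 h).2) fun h => (mem_sdiff.1 h).2))
    rw [gset, gset, ← image_inter_of_injOn _ _ (hinj.mono hu), card_image_of_injOn]
    exact hinj.mono fun x hx => mem_compl.2 (mem_sdiff.1 (mem_inter.1 hx).1).2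
  by_contra hne
  set K := gset P ∩ gset Q with hK
  have h0K : (0 : Module.Dual (ZMod 2) (shortened C o0)) ∈ K := mem_inter.2 ⟨zero_mem_gset P, zero_mem_gset Q⟩
  have haK : a ∈ K := mem_inter.2 ⟨ha, hb⟩
  have h2 : 1 < K.card := one_lt_card.2 ⟨a, haK, 0, h0K, hne⟩
  have h4 : K.card ≤ 4 := (card_le_card inter_subset_left).trans (card_gset hC ho0 h80 P (out_card P)).le
  have h3 : K.card = 3 := by omega
  obtain ⟨b, hbK, hb0, hba⟩ : ∃ b ∈ K, b ≠ 0 ∧ b ≠ a := by
    have : ((K.erase 0).erase a).card = 1 := by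
      rw [card_erase_of_mem (mem_erase.2 ⟨hne, haK⟩), card_erase_of_mem h0K, h3]
    obtain ⟨b, hb⟩ := card_eq_one.1 this
    have hbm : b ∈ (K.erase 0).erase a := by rw [hb]; exact mem_singleton_self b
    simp only [mem_erase] at hbm
    exact ⟨b, hbm.2.2, hbm.2.1, hbm.1⟩
  have hab : a + b ∈ K := mem_inter.2 ⟨add_mem_gset P ha (mem_inter.1 hbK).1, add_mem_gset Q hb (mem_inter.1 hbK).2⟩
  have hsub : ({0, a, b, a + b} : Finset _) ⊆ K := by
    simp only [insert_subset_iff, singleton_subset_iff]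
    exact ⟨h0K, haK, hbK, hab⟩
  have e1 : a + b ≠ 0 := fun h => hba (by
    have : a + (a + b) = a + 0 := by rw [h]
    rwa [← add_assoc, dual_add_self, zero_add, add_zero] at this)
  have e2 : a ≠ a + b := fun h => hb0 (add_left_cancel (a := a) (by rw [add_zero, ← h]))
  have e3 : b ≠ a + b := fun h => hne (add_right_cancel (b := b) (by rw [zero_add, ← h]))
  have hc4 : ({0, a, b, a + b} : Finset (Module.Dual (ZMod 2) (shortened C o0))).card = 4 := by
    rw [card_insert_of_notMem (by simp [Ne.symm hne, Ne.symm hb0, e1.symm]),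
      card_insert_of_notMem (by simp [Ne.symm hba, e2]), card_pair e3]
  have := card_le_card hsub
  omega

/-- The combination of four functionals by the bits of an index. -/
def comb (a1 b1 a2 b2 : Module.Dual (ZMod 2) (shortened C o0)) (y : ℕ) : Module.Dual (ZMod 2) (shortened C o0) :=
  ((if y.testBit 0 then a1 else 0) + (if y.testBit 1 then b1 else 0)) +
    ((if y.testBit 2 then a2 else 0) + (if y.testBit 3 then b2 else 0))

theorem comb_xor (a1 b1 a2 b2 : Module.Dual (ZMod 2) (shortened C o0)) (y z : ℕ) :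
    comb a1 b1 a2 b2 (y ^^^ z) = comb a1 b1 a2 b2 y + comb a1 b1 a2 b2 z := by
  have h : ∀ (k : ℕ) (v : Module.Dual (ZMod 2) (shortened C o0)),
      (if (y ^^^ z).testBit k then v else 0) = (if y.testBit k then v else 0) + (if z.testBit k then v else 0) := fun k v => by
    rw [Nat.testBit_xor]
    cases y.testBit k <;> cases z.testBit k <;> simp [dual_add_self]
  simp only [comb, h]
  abel

/-- The affine value. -/
def affVal (c0 c1 c2 c3 c4 : ZMod 2) (y : ℕ) : ZMod 2 :=
  c0 + ((if y.testBit 0 then c1 else 0) + (if y.testBit 1 then c2 else 0) +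
    ((if y.testBit 2 then c3 else 0) + (if y.testBit 3 then c4 else 0)))

theorem affine_table : ∀ g ∈ frameAffine, ∃ c0 c1 c2 c3 c4 : ZMod 2,
    (∀ i < 8, g.testBit i = false) ∧ ∀ y < 16, (if g.testBit (8 + y) then (1 : ZMod 2) else 0) = affVal c0 c1 c2 c3 c4 y := by
  decide +kernel

/-- The mask of the plane on two indices. -/
def planeMask (a b : ℕ) : ℕ :=
  Nat.lor 1 (Nat.lor (Nat.shiftLeft 1 a) (Nat.lor (Nat.shiftLeft 1 b) (Nat.shiftLeft 1 (Nat.xor a b))))

theorem planeMask_mem : ∀ a b : Fin 16, a.val ≠ 0 → b.val ≠ 0 → a ≠ b → planeMask a.val b.val ∈ planeList := by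
  decide +kernel

theorem planeMask_bits : ∀ a b y : Fin 16, (planeMask a.val b.val).testBit y.val = true ↔
    y.val = 0 ∨ y = a ∨ y = b ∨ y.val = Nat.xor a.val b.val := by
  decide +kernel

theorem testBit_four : ∀ y : Fin 16,
    (y.val.testBit 0 = false ∧ y.val.testBit 1 = false ∧ y.val.testBit 2 = false ∧ y.val.testBit 3 = false) → y.val = 0 := by
  decide +kernel

set_option maxHeartbeats 1000000 in
include hC in
/-- Uniqueness of the code. -/
theorem exists_equiv :
    ∃ e : Fin 24 ≃ GolayPt, ∀ w : GolayPt → ZMod 2, w ∈ golayCode ↔ (fun i => w (e i)) ∈ C := by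
  classical
  obtain ⟨S0, -, hS0⟩ := Finset.exists_subset_card_eq (s := (Finset.univ : Finset (Fin 24))) (n := 5) (by simp)
  obtain ⟨o0, ho0, h80, -⟩ := exists_octad hC hS0
  obtain ⟨x0, hx0'⟩ := Finset.card_pos.1 (show 0 < (supp o0)ᶜ.card by rw [card_compl, Fintype.card_fin, h80]; omega)
  have hx0 := mem_compl.1 hx0'
  obtain ⟨u, hu⟩ := one_shortened hC ho0
  let en : Fin 8 → Fin 24 := fun i => ((supp o0).equivFinOfCardEq h80).symm i
  have hen : ∀ i, en i ∈ supp o0 := fun i => (((supp o0).equivFinOfCardEq h80).symm i).2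
  have henI : Function.Injective en := fun i j h => ((supp o0).equivFinOfCardEq h80).symm.injective (Subtype.ext h)
  let Q : ℕ → Finset (Fin 24) := fun t => (univ.filter fun i : Fin 8 => t.testBit i.val).image en
  have hQsub : ∀ t, Q t ⊆ supp o0 := fun t i hi => by
    obtain ⟨j, -, rfl⟩ := mem_image.1 hi; exact hen j
  have hQcard : ∀ t, (Q t).card = (univ.filter fun i : Fin 8 => t.testBit i.val).card := fun t => card_image_of_injective _ henI
  have hQinter : ∀ s t, (Q s ∩ Q t).card = (univ.filter fun i : Fin 8 => s.testBit i.val ∧ t.testBit i.val).card := fun s t => by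
    rw [← image_inter _ _ henI, card_image_of_injective _ henI]
    congr 1; ext i; simp
  have mkP : ∀ t, (univ.filter fun i : Fin 8 => t.testBit i.val).card = 4 → Nonempty (QuadPlane C o0 x0 (Q t)) :=
    fun t h => exists_quadPlane hC ho0 h80 hx0 ((hQcard t).trans h) (hQsub t)
  obtain ⟨P1⟩ := mkP 15 (by decide)
  obtain ⟨P2⟩ := mkP 113 (by decide)
  obtain ⟨P3⟩ := mkP 135 (by decide)
  have t12 : ∀ a, a ∈ gset P1 → a ∈ gset P2 → a = 0 := fun a => gset_trivial hC ho0 h80 P1 P2 (by rw [hQinter]; decide)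
  have t13 : ∀ a, a ∈ gset P1 → a ∈ gset P3 → a = 0 := fun a => gset_trivial hC ho0 h80 P1 P3 (by rw [hQinter]; decide)
  have t23 : ∀ a, a ∈ gset P2 → a ∈ gset P3 → a = 0 := fun a => gset_trivial hC ho0 h80 P2 P3 (by rw [hQinter]; decide)
  have hval0 : ∀ {t} (P : QuadPlane C o0 x0 t) a, a ∈ gset P → a u = 0 := by
    intro t P a ha
    rw [gset, mem_image] at ha
    obtain ⟨x, hx, rfl⟩ := ha
    show ((u : C) : Fin 24 → ZMod 2) x + ((u : C) : Fin 24 → ZMod 2) x0 = 0
    rw [hu, hu, if_neg (mem_sdiff.1 hx).2, if_neg hx0]; rfl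
  haveI : Finite (Module.Dual (ZMod 2) (shortened C o0)) := Module.finite_of_finite (ZMod 2)
  haveI : Fintype (Module.Dual (ZMod 2) (shortened C o0)) := Fintype.ofFinite _
  set V := univ.filter fun φ : Module.Dual (ZMod 2) (shortened C o0) => φ u = 0 with hV
  have hV16 : V.card ≤ 16 := by
    have hsub : V ⊆ (supp o0)ᶜ.image (rel C o0 x0) := by
      intro φ hφ
      have h0 : φ u = 0 := (mem_filter.1 hφ).2
      obtain ⟨x, hx, e⟩ := exists_point hC ho0 h80 hu (φ + evalAt C o0 x0) (by
        show φ u + ((u : C) : Fin 24 → ZMod 2) x0 = 1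
        rw [h0, hu, if_neg hx0, zero_add])
      exact mem_image.2 ⟨x, mem_compl.2 hx, by rw [rel, e, add_assoc, dual_add_self, add_zero]⟩
    refine (card_le_card hsub).trans (card_image_le.trans ?_)
    rw [card_compl, Fintype.card_fin, h80]
  have hdecomp : ∀ φ : Module.Dual (ZMod 2) (shortened C o0), φ u = 0 → ∃ a ∈ gset P1, ∃ b ∈ gset P2, φ = a + b := by
    have hsub : (gset P1 ×ˢ gset P2).image (fun p => p.1 + p.2) ⊆ V := by
      intro φ hφ
      obtain ⟨p, hp, rfl⟩ := mem_image.1 hφ
      obtain ⟨h1, h2⟩ := mem_product.1 hp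
      exact mem_filter.2 ⟨mem_univ _, by rw [LinearMap.add_apply, hval0 P1 _ h1, hval0 P2 _ h2, add_zero]⟩
    have hinj : Set.InjOn (fun p : Module.Dual (ZMod 2) (shortened C o0) × Module.Dual (ZMod 2) (shortened C o0) => p.1 + p.2)
        ((gset P1 ×ˢ gset P2 : Finset (Module.Dual (ZMod 2) (shortened C o0) × Module.Dual (ZMod 2) (shortened C o0))) : Set _) := by
      rintro ⟨a, b⟩ hp ⟨a', b'⟩ hp' h
      obtain ⟨ha, hb⟩ := mem_product.1 (mem_coe.1 hp)
      obtain ⟨ha', hb'⟩ := mem_product.1 (mem_coe.1 hp')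
      have he : a + a' = b + b' := by
        calc a + a' = (a + b) + (b + a') := by rw [add_assoc, ← add_assoc b b, dual_add_self, zero_add]
          _ = (a' + b') + (b + a') := by rw [show a + b = a' + b' from h]
          _ = (a' + a') + (b + b') := by abel
          _ = b + b' := by rw [dual_add_self, zero_add]
      have hz := t12 _ (add_mem_gset P1 ha ha') (he ▸ add_mem_gset P2 hb hb')
      have h1 : a = a' := by
        have := congrArg (· + a') hz
        simpa [add_assoc, dual_add_self] using this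
      have h2 : b = b' := add_left_cancel (a := a) ((show a + b = a' + b' from h).trans (by rw [h1]))
      rw [h1, h2]
    have heq := eq_of_subset_of_card_le hsub (by
      rw [card_image_of_injOn hinj, card_product, card_gset hC ho0 h80 P1 (out_card P1),
        card_gset hC ho0 h80 P2 (out_card P2)]
      exact hV16)
    intro φ hφ
    have hm : φ ∈ (gset P1 ×ˢ gset P2).image (fun p => p.1 + p.2) := heq ▸ mem_filter.2 ⟨mem_univ _, hφ⟩
    obtain ⟨p, hp, e⟩ := mem_image.1 hm
    exact ⟨p.1, (mem_product.1 hp).1, p.2, (mem_product.1 hp).2, e.symm⟩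
  set gp := rel C o0 x0 P3.p with hgp
  set gq := rel C o0 x0 P3.q with hgq
  have hpG : gp ∈ gset P3 := (mem_gset P3).2 (Or.inr (Or.inl rfl))
  have hqG : gq ∈ gset P3 := (mem_gset P3).2 (Or.inr (Or.inr (Or.inl rfl)))
  have hout : ∀ {t} (P : QuadPlane C o0 x0 t) x, x ∈ supp P.o \ supp o0 → x ∈ (↑(supp o0)ᶜ : Set (Fin 24)) :=
    fun {t} P x hx => mem_coe.2 (mem_compl.2 (mem_sdiff.1 hx).2)
  have hpm : P3.p ∈ supp P3.o \ supp o0 := by rw [P3.out]; simp
  have hqm : P3.q ∈ supp P3.o \ supp o0 := by rw [P3.out]; simp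
  have hp0 : gp ≠ 0 := fun h => P3.distinct.2.2.2.1 (rel_injOn hC ho0 h80 x0 (hout P3 _ hpm) (mem_coe.2 hx0') (h.trans rel_self.symm))
  have hq0 : gq ≠ 0 := fun h => P3.distinct.2.2.2.2.1 (rel_injOn hC ho0 h80 x0 (hout P3 _ hqm) (mem_coe.2 hx0') (h.trans rel_self.symm))
  have hpq : gp ≠ gq := fun h => P3.distinct.1 (rel_injOn hC ho0 h80 x0 (hout P3 _ hpm) (hout P3 _ hqm) h)
  obtain ⟨a1, ha1, a2, ha2, hpa⟩ := hdecomp gp (hval0 P3 _ hpG)
  obtain ⟨b1, hb1, b2, hb2, hqb⟩ := hdecomp gq (hval0 P3 _ hqG)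
  have hpq0 : gp + gq ≠ 0 := fun h => hpq (by
    have := congrArg (· + gq) h
    simpa [add_assoc, dual_add_self] using this)
  have hsum : gp + gq = (a1 + b1) + (a2 + b2) := by rw [hpa, hqb]; abel
  have ha10 : a1 ≠ 0 := fun h => hp0 (t23 _ (by rw [hpa, h, zero_add]; exact ha2) hpG)
  have ha20 : a2 ≠ 0 := fun h => hp0 (t13 _ (by rw [hpa, h, add_zero]; exact ha1) hpG)
  have hb10 : b1 ≠ 0 := fun h => hq0 (t23 _ (by rw [hqb, h, zero_add]; exact hb2) hqG)
  have hb20 : b2 ≠ 0 := fun h => hq0 (t13 _ (by rw [hqb, h, add_zero]; exact hb1) hqG)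
  have hab1 : a1 + b1 ≠ 0 := fun h => hpq0 (t23 _ (by rw [hsum, h, zero_add]; exact add_mem_gset P2 ha2 hb2)
    (add_mem_gset P3 hpG hqG))
  have hab2 : a2 + b2 ≠ 0 := fun h => hpq0 (t13 _ (by rw [hsum, h, add_zero]; exact add_mem_gset P1 ha1 hb1)
    (add_mem_gset P3 hpG hqG))
  set cb : ℕ → Module.Dual (ZMod 2) (shortened C o0) := comb a1 b1 a2 b2 with hcb
  have hinj16 : ∀ y < 16, cb y = 0 → y = 0 := by
    intro y hy h0
    have hneg : ∀ {a b : Module.Dual (ZMod 2) (shortened C o0)}, a + b = 0 → a = b := fun {a b} h => by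
      have := congrArg (· + b) h
      simpa [add_assoc, dual_add_self] using this
    have hm1 : ((if y.testBit 0 then a1 else 0) + (if y.testBit 1 then b1 else 0)) ∈ gset P1 := by
      apply add_mem_gset <;> split <;> first | assumption | exact zero_mem_gset P1
    have hm2 : ((if y.testBit 2 then a2 else 0) + (if y.testBit 3 then b2 else 0)) ∈ gset P2 := by
      apply add_mem_gset <;> split <;> first | assumption | exact zero_mem_gset P2
    have e := hneg (show _ + _ = (0 : Module.Dual (ZMod 2) (shortened C o0)) from h0)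
    have z1 := t12 _ hm1 (e ▸ hm2)
    have z2 : (if y.testBit 2 then a2 else 0) + (if y.testBit 3 then b2 else 0) = 0 := e ▸ z1
    have hbits : y.testBit 0 = false ∧ y.testBit 1 = false ∧ y.testBit 2 = false ∧ y.testBit 3 = false := by
      revert z1 z2
      cases y.testBit 0 <;> cases y.testBit 1 <;> cases y.testBit 2 <;> cases y.testBit 3 <;>
        simp [ha10, ha20, hb10, hb20, hab1, hab2]
    exact testBit_four ⟨y, hy⟩ hbits
  have hcinj : ∀ y < 16, ∀ z < 16, cb y = cb z → y = z := by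
    intro y hy z hz h
    have h0 : cb (y ^^^ z) = 0 := by rw [hcb, comb_xor, ← hcb, h, dual_add_self]
    exact Nat.xor_eq_zero_iff.1 (hinj16 _ (Nat.xor_lt_two_pow (n := 4) hy hz) h0)
  have hcbu : ∀ y, cb y u = 0 := fun y => by
    simp only [hcb, comb, LinearMap.add_apply]
    repeat' split
    all_goals simp [hval0 P1 _ ha1, hval0 P1 _ hb1, hval0 P2 _ ha2, hval0 P2 _ hb2]
  choose M hMout hMval using fun y : Fin 16 => exists_point hC ho0 h80 hu (cb y.val + evalAt C o0 x0) (by
    show cb y.val u + ((u : C) : Fin 24 → ZMod 2) x0 = 1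
    rw [hcbu, hu, if_neg hx0, zero_add])
  have hrelM : ∀ y, rel C o0 x0 (M y) = cb y.val := fun y => by
    rw [rel, hMval, add_assoc, dual_add_self, add_zero]
  have hMinj : Function.Injective M := fun y z h => Fin.ext (hcinj _ y.2 _ z.2 (by rw [← hrelM, ← hrelM, h]))
  let f : Fin 24 → Fin 24 := fun i => if h : i.val < 8 then en ⟨i.val, h⟩ else M ⟨i.val - 8, by omega⟩
  have hfinj : Function.Injective f := by
    intro i j h
    by_cases hi : i.val < 8 <;> by_cases hj : j.val < 8 <;> simp only [f, hi, hj, dif_pos, dif_neg, not_false_iff] at h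
    · exact Fin.ext (congrArg (fun k : Fin 8 => k.val) (henI h))
    · exact absurd (h ▸ hen _) (hMout _)
    · exact absurd (h.symm ▸ hen _) (hMout _)
    · have := congrArg Fin.val (hMinj h)
      exact Fin.ext (by simp only at this; omega)
  let e : Fin 24 ≃ Fin 24 := Equiv.ofBijective f (Finite.injective_iff_bijective.1 hfinj)
  set C' := C.map (LinearMap.funLeft (ZMod 2) (ZMod 2) e) with hC'
  have hpush : ∀ {v : Fin 24 → ZMod 2} {m : ℕ}, v ∈ C → (∀ i : Fin 8, v (en i) = if m.testBit i.val then 1 else 0) →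
      (∀ y : Fin 16, v (M y) = if m.testBit (8 + y.val) then 1 else 0) → fword m ∈ C' := by
    intro v m hv h1 h2
    refine ⟨v, hv, funext fun i => ?_⟩
    show v (f i) = _
    by_cases hi : i.val < 8
    · simp only [f, dif_pos hi, h1]; rfl
    · simp only [f, dif_neg hi, h2, fword]
      rw [show 8 + (i.val - 8) = i.val by omega]
  have hsurj : ∀ x, x ∉ supp o0 → ∃ y, M y = x := by
    intro x hx
    obtain ⟨i, hi⟩ := (Finite.injective_iff_bijective.1 hfinj).2 x
    by_cases h : i.val < 8
    · simp only [f, dif_pos h] at hi; exact absurd (hi ▸ hen _) hx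
    · simp only [f, dif_neg h] at hi; exact ⟨_, hi⟩
  have h255 : fword 255 ∈ C' := hpush ho0
    (fun i => by rw [eq_one_of_mem (hen i), if_pos ((show ∀ i : Fin 8, (255 : ℕ).testBit i.val = true by decide) i)])
    (fun y => by
      rw [show o0 (M y) = 0 from not_not.1 fun h => hMout y (mem_supp.2 h),
        if_neg (by rw [(show ∀ y : Fin 16, (255 : ℕ).testBit (8 + y.val) = false by decide) y]; exact Bool.false_ne_true)])
  have haff : ∀ g ∈ frameAffine, fword g ∈ C' := by
    intro g hg
    obtain ⟨c0, c1, c2, c3, c4, hlow, hhigh⟩ := affine_table g hg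
    let Φ : shortened C o0 → ZMod 2 × ZMod 2 × ZMod 2 × ZMod 2 × ZMod 2 :=
      fun d => (evalAt C o0 x0 d, a1 d, b1 d, a2 d, b2 d)
    have hMd : ∀ (d : shortened C o0) y, ((d : C) : Fin 24 → ZMod 2) (M y) =
        affVal (Φ d).1 (Φ d).2.1 (Φ d).2.2.1 (Φ d).2.2.2.1 (Φ d).2.2.2.2 y.val := fun d y => by
      show evalAt C o0 (M y) d = _
      rw [hMval, LinearMap.add_apply, affVal, hcb, comb]
      simp only [LinearMap.add_apply, apply_ite (fun φ : Module.Dual (ZMod 2) (shortened C o0) => φ d), LinearMap.zero_apply, Φ]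
      ring
    have hΦ : Function.Injective Φ := by
      intro d d' h
      refine Subtype.ext (Subtype.ext (funext fun i => ?_))
      by_cases hi : i ∈ supp o0
      · rw [d.2 i hi, d'.2 i hi]
      · obtain ⟨y, rfl⟩ := hsurj i hi
        rw [hMd, hMd, h]
    haveI : Fintype (shortened C o0) := Fintype.ofFinite _
    obtain ⟨d, hd⟩ := ((Fintype.bijective_iff_injective_and_card Φ).2 ⟨hΦ, by
      rw [← Nat.card_eq_fintype_card, card_shortened hC ho0 h80]; rfl⟩).2 (c0, c1, c2, c3, c4)
    refine hpush (d : C).2 (fun i => ?_) fun y => ?_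
    · rw [hlow i.val i.2, d.2 _ (hen i)]; rfl
    · rw [hMd, hd, hhigh y.val y.2]
  have hplane : ∀ {t w : ℕ} (P : QuadPlane C o0 x0 (Q t)) (a b : Fin 16),
      (∀ i : Fin 8, (frameMask t w).testBit i.val = t.testBit i.val) →
      (∀ y : Fin 16, (frameMask t w).testBit (8 + y.val) = true ↔ (planeMask a.val b.val).testBit y.val = true) →
      a.val ≠ 0 → b.val ≠ 0 → a ≠ b → cb a.val ∈ gset P → cb b.val ∈ gset P → fword (frameMask t w) ∈ C' := by
    intro t w P a b hlow hhigh ha hb hab hga hgb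
    refine hpush P.mem (fun i => ?_) fun y => ?_
    · rw [hlow]
      have hiff : en i ∈ supp P.o ↔ t.testBit i.val = true := by
        constructor
        · intro h
          have : en i ∈ Q t := P.inter ▸ mem_inter.2 ⟨h, hen i⟩
          obtain ⟨j, hj, e⟩ := mem_image.1 this
          rw [← henI e]; exact (mem_filter.1 hj).2
        · intro h
          have : en i ∈ supp P.o ∩ supp o0 := P.inter.symm ▸ mem_image.2 ⟨i, mem_filter.2 ⟨mem_univ _, h⟩, rfl⟩
          exact (mem_inter.1 this).1
      by_cases h : t.testBit i.val = true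
      · rw [eq_one_of_mem (hiff.2 h), if_pos h]
      · rw [if_neg h, show P.o (en i) = 0 from not_not.1 fun h' => h (hiff.1 (mem_supp.2 h'))]
    · have hx : a.val ^^^ b.val < 16 := Nat.xor_lt_two_pow (n := 4) a.2 b.2
      have hgi : gset P = ({0, a, b, ⟨a.val ^^^ b.val, hx⟩} : Finset (Fin 16)).image fun z => cb z.val := by
        refine (eq_of_subset_of_card_le ?_ ?_).symm
        · intro g hg
          simp only [image_insert, image_singleton, mem_insert, mem_singleton] at hg
          have h0 : cb ((0 : Fin 16).val) = 0 := by simp [hcb, comb]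
          rcases hg with rfl | rfl | rfl | rfl
          · rw [h0]; exact zero_mem_gset P
          · exact hga
          · exact hgb
          · rw [hcb, comb_xor]; exact add_mem_gset P hga hgb
        · rw [card_gset hC ho0 h80 P (out_card P), card_image_of_injective _ fun z z' h => Fin.ext (hcinj _ z.2 _ z'.2 h)]
          have e1 : (⟨a.val ^^^ b.val, hx⟩ : Fin 16) ≠ 0 := fun h => hab (Fin.ext (Nat.xor_eq_zero_iff.1 (congrArg Fin.val h)))
          have e2 : a ≠ ⟨a.val ^^^ b.val, hx⟩ := fun h => hb (by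
            have := congrArg (a.val ^^^ ·) (congrArg Fin.val h)
            simpa [← Nat.xor_assoc] using this.symm)
          have e3 : b ≠ ⟨a.val ^^^ b.val, hx⟩ := fun h => ha (by
            have := congrArg (· ^^^ b.val) (congrArg Fin.val h)
            simpa [Nat.xor_assoc] using this.symm)
          rw [card_insert_of_notMem (by simp [e1.symm, (show (0 : Fin 16) ≠ a from fun h => ha (by rw [← h]; rfl)),
              (show (0 : Fin 16) ≠ b from fun h => hb (by rw [← h]; rfl))]),
            card_insert_of_notMem (by simp [hab, e2]), card_pair e3]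
      have hiff : M y ∈ supp P.o ↔ (planeMask a.val b.val).testBit y.val = true := by
        rw [planeMask_bits]
        constructor
        · intro h
          have hm : cb y.val ∈ gset P := by
            rw [← hrelM, gset]; exact mem_image.2 ⟨M y, mem_sdiff.2 ⟨h, hMout y⟩, rfl⟩
          rw [hgi] at hm
          obtain ⟨z, hz, e⟩ := mem_image.1 hm
          obtain rfl : z = y := Fin.ext (hcinj _ z.2 _ y.2 e)
          simp only [mem_insert, mem_singleton] at hz
          rcases hz with h | h | h | h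
          · exact Or.inl (by rw [h]; rfl)
          · exact Or.inr (Or.inl h)
          · exact Or.inr (Or.inr (Or.inl h))
          · exact Or.inr (Or.inr (Or.inr (congrArg Fin.val h)))
        · intro h
          have hm : cb y.val ∈ gset P := by
            rw [hgi]
            refine mem_image.2 ⟨y, ?_, rfl⟩
            simp only [mem_insert, mem_singleton, Fin.ext_iff] at h ⊢
            exact h
          rw [← hrelM, gset] at hm
          obtain ⟨z, hz, e⟩ := mem_image.1 hm
          rw [← rel_injOn hC ho0 h80 x0 (hout P _ hz) (mem_coe.2 (mem_compl.2 (hMout y))) e]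
          exact (mem_sdiff.1 hz).1
      by_cases h : (planeMask a.val b.val).testBit y.val = true
      · rw [eq_one_of_mem (hiff.2 h), if_pos ((hhigh y).2 h)]
      · rw [show P.o (M y) = 0 from not_not.1 fun h' => h (hiff.1 (mem_supp.2 h')), if_neg fun h' => h ((hhigh y).1 h')]
  have hcb1 : cb 1 = a1 ∧ cb 2 = b1 ∧ cb 4 = a2 ∧ cb 8 = b2 ∧ cb 5 = a1 + a2 ∧ cb 10 = b1 + b2 := by
    refine ⟨?_, ?_, ?_, ?_, ?_, ?_⟩ <;> simp [hcb, comb, Nat.testBit, Nat.shiftRight_eq_div_pow]
  have h1 : fword (frameMask 15 15) ∈ C' := hplane P1 1 2 (by decide) (by decide) (by decide) (by decide) (by decide)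
    (hcb1.1 ▸ ha1) (hcb1.2.1 ▸ hb1)
  have h2 : fword (frameMask 113 4369) ∈ C' := hplane P2 4 8 (by decide) (by decide) (by decide) (by decide) (by decide)
    (hcb1.2.2.1 ▸ ha2) (hcb1.2.2.2.1 ▸ hb2)
  have h3 : fword (frameMask 135 33825) ∈ C' := hplane P3 5 10 (by decide) (by decide) (by decide) (by decide) (by decide)
    (hcb1.2.2.2.2.1 ▸ hpa ▸ hpG) (hcb1.2.2.2.2.2 ▸ hqb ▸ hqG)
  have hfree : ∀ t, (univ.filter fun i : Fin 8 => t.testBit i.val).card = 4 → t < 256 →
      ∃ w ∈ planeList, fword (frameMask t w) ∈ C' := by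
    intro t ht ht256
    obtain ⟨P⟩ := mkP t ht
    have hP : P.p ∈ supp P.o \ supp o0 := by rw [P.out]; simp
    have hQ' : P.q ∈ supp P.o \ supp o0 := by rw [P.out]; simp
    obtain ⟨a, ha⟩ := hsurj P.p (mem_sdiff.1 hP).2
    obtain ⟨b, hb⟩ := hsurj P.q (mem_sdiff.1 hQ').2
    have hga : cb a.val = rel C o0 x0 P.p := by rw [← hrelM, ha]
    have hgb : cb b.val = rel C o0 x0 P.q := by rw [← hrelM, hb]
    have hM0 : ∀ z : Fin 16, z.val = 0 → M z = x0 := fun z hz =>
      rel_injOn hC ho0 h80 x0 (mem_coe.2 (mem_compl.2 (hMout z))) (mem_coe.2 hx0') (by rw [hrelM, rel_self, hz]; simp [hcb, comb])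
    have hab : a ≠ b := fun h => P.distinct.1 (by rw [← ha, ← hb, h])
    have ha0 : a.val ≠ 0 := fun h => P.distinct.2.2.2.1 (by rw [← ha, hM0 a h])
    have hb0 : b.val ≠ 0 := fun h => P.distinct.2.2.2.2.1 (by rw [← hb, hM0 b h])
    refine ⟨planeMask a.val b.val, planeMask_mem a b ha0 hb0 hab, hplane P a b (fun i => ?_) (fun y => ?_) ha0 hb0 hab
      ((mem_gset P).2 (Or.inr (Or.inl hga))) ((mem_gset P).2 (Or.inr (Or.inr (Or.inl hgb))))⟩
    · show (t ||| (planeMask a.val b.val) <<< 8).testBit i.val = _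
      simp [Nat.testBit_shiftLeft, show ¬ 8 ≤ i.val by omega]
    · show (t ||| (planeMask a.val b.val) <<< 8).testBit (8 + y.val) = true ↔ _
      rw [Nat.testBit_or, Nat.testBit_lt_two_pow (lt_of_lt_of_le ht256 (Nat.pow_le_pow_right (show 0 < 2 by norm_num) (by omega : 8 ≤ 8 + y.val))),
        Bool.false_or, Nat.testBit_shiftLeft]
      simp
  have hinj : Function.Injective (LinearMap.funLeft (ZMod 2) (ZMod 2) e) := LinearMap.funLeft_injective_of_surjective _ _ _ e.surjective
  have hcard : Nat.card C' = 4096 := by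
    rw [← Nat.card_congr (Submodule.equivMapOfInjective _ hinj C).toEquiv, card_C hC]
  have horth : ∀ v ∈ C', ∀ w ∈ C', ∑ i, v i * w i = 0 := by
    rintro _ ⟨v, hv, rfl⟩ _ ⟨w, hw, rfl⟩
    show ∑ i, v (e i) * w (e i) = 0
    rw [Equiv.sum_comp e (fun i => v i * w i)]
    exact hC.orth v hv w hw
  obtain ⟨g, hg⟩ := equiv_of_frame hcard horth h255 haff h1 h2 h3 (hfree 23 (by decide) (by norm_num))
    (hfree 39 (by decide) (by norm_num)) (hfree 27 (by decide) (by norm_num))
  refine ⟨e.symm.trans g, fun w => (hg w).trans ⟨?_, fun h => ⟨_, h, ?_⟩⟩⟩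
  · rintro ⟨v, hv, hve⟩
    have : v = fun i => w ((e.symm.trans g) i) := funext fun i => by
      have := congrFun hve (e.symm i)
      simpa using this
    rw [← this]; exact hv
  · funext i; simp [LinearMap.funLeft]

end Cfsg.Lib.Concrete.GolayUnique
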