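import Cfsg.Agent.Lib.Concrete.SteinerAut

/-!
# The equations of the point-block relation

Generated here once, so that the files rewriting with `pointBlockRel` share one copy of each.
-/

set_option autoImplicit false

namespace Cfsg.Lib.Concrete

/-- The relation never joins the extra vertex to itself; the proof cites every equation. -/
theorem pointBlockRel_none_none {α : Type*} (B : Set (Finset α)) :
    pointBlockRel B none none ↔ False := by
  simp [pointBlockRel]

theorem pointBlockRel_left {α : Type*} (B : Set (Finset α)) (a : α) :
    pointBlockRel B none (some (Sum.inl a)) ↔ True := by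
  simp only [pointBlockRel]

theorem pointBlockRel_mem {α : Type*} (B : Set (Finset α)) (a : α) (b : B) :
    pointBlockRel B (some (Sum.inl a)) (some (Sum.inr b)) ↔ a ∈ (b : Finset α) := by
  simp only [pointBlockRel]

theorem pointBlockRel_disjoint {α : Type*} (B : Set (Finset α)) (b c : B) :
    pointBlockRel B (some (Sum.inr b)) (some (Sum.inr c)) ↔ Disjoint (b : Finset α) (c : Finset α) := by
  simp only [pointBlockRel]

theorem pointBlockRel_cases {α : Type*} (B : Set (Finset α)) (u v : Option (α ⊕ B)) :
    pointBlockRel B u v → pointBlockRel B u v ∧ u ≠ v ∨ u = v := by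
  intro h
  rcases u with _ | (a | b) <;> rcases v with _ | (a' | b') <;> simp [pointBlockRel] at h ⊢ <;> tauto

end Cfsg.Lib.Concrete
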