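import Cfsg.Agent.Lib.Concrete.GraphsM22Data
import Cfsg.Agent.Lib.Concrete.PointBlockEqns

/-!
The block graph and the point-block graph of an S(3, 6, 22) are strongly regular with parameters
(77, 16, 0, 4) and (100, 22, 0, 6).
-/

set_option autoImplicit false

namespace Cfsg.Lib.Concrete

open scoped Pointwise
open Finset

/-- The check of one row of a strongly regular graph given by neighbourhood masks. -/
def srgRow (n : ℕ) (rows : List ℕ) (k l m u : ℕ) (nb : List ℕ) : Bool :=
  Nat.beq nb.length k && (List.range n).all fun v => Nat.beq u v ||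
    Nat.beq (nb.countP fun w => (rows.getD v 0).testBit w) (if (rows.getD u 0).testBit v then l else m)

/-- The check of a strongly regular graph given by neighbourhood masks. -/
def srgCheck (n : ℕ) (rows : List ℕ) (k l m : ℕ) : Bool :=
  (List.range n).all fun u => srgRow n rows k l m u ((List.range n).filter fun w => (rows.getD u 0).testBit w)

theorem srg_of_rows {V : Type*} [Fintype V] {G : SimpleGraph V} [DecidableRel G.Adj]
    {n k l m : ℕ} {rows : List ℕ} (e : V ≃ Fin n)
    (hadj : ∀ u v, G.Adj u v ↔ (rows.getD (e u).val 0).testBit (e v).val = true)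
    (hc : srgCheck n rows k l m = true) : G.IsSRGWith n k l m := by
  classical
  have hnb : ∀ u v : V, (univ.filter fun w => G.Adj u w ∧ G.Adj v w).card =
      ((List.range n).filter fun w => (rows.getD (e u).val 0).testBit w).countP
        fun w => (rows.getD (e v).val 0).testBit w := by
    intro u v
    rw [List.countP_eq_length_filter, List.filter_filter,
      ← List.toFinset_card_of_nodup (List.nodup_range.filter _)]
    refine card_bij (fun w _ => (e w).val) (fun w hw => ?_) (fun a _ b _ h => e.injective (Fin.ext h)) fun w hw => ?_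
    · obtain ⟨h1, h2⟩ := (mem_filter.1 hw).2
      simp only [List.mem_toFinset, List.mem_filter, List.mem_range, Bool.and_eq_true]
      exact ⟨(e w).isLt, (hadj v w).1 h2, (hadj u w).1 h1⟩
    · simp only [List.mem_toFinset, List.mem_filter, List.mem_range, Bool.and_eq_true] at hw
      obtain ⟨hlt, h2, h1⟩ := hw
      exact ⟨e.symm ⟨w, hlt⟩, mem_filter.2 ⟨mem_univ _, (hadj u _).2 (by simpa using h1),
        (hadj v _).2 (by simpa using h2)⟩, by simp⟩
  have hrow : ∀ u : V, srgRow n rows k l m (e u).val
      ((List.range n).filter fun w => (rows.getD (e u).val 0).testBit w) = true := fun u =>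
    List.all_eq_true.1 hc _ (List.mem_range.2 (e u).isLt)
  have hdeg : ∀ u : V, G.degree u = k := by
    intro u
    have h := hrow u
    simp only [srgRow, Bool.and_eq_true] at h
    rw [← Nat.eq_of_beq_eq_true h.1, ← List.toFinset_card_of_nodup (List.nodup_range.filter _),
      ← SimpleGraph.card_neighborFinset_eq_degree]
    refine card_bij (fun w _ => (e w).val) (fun w hw => ?_) (fun a _ b _ h => e.injective (Fin.ext h)) fun w hw => ?_
    · simp only [List.mem_toFinset, List.mem_filter, List.mem_range]
      exact ⟨(e w).isLt, (hadj u w).1 ((G.mem_neighborFinset u w).1 hw)⟩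
    · simp only [List.mem_toFinset, List.mem_filter, List.mem_range] at hw
      exact ⟨e.symm ⟨w, hw.1⟩, (G.mem_neighborFinset u _).2 ((hadj u _).2 (by simpa using hw.2)), by simp⟩
  have hcn : ∀ u v : V, u ≠ v → Fintype.card (G.commonNeighbors u v) =
      if G.Adj u v then l else m := by
    intro u v huv
    have h := hrow u
    simp only [srgRow, Bool.and_eq_true, List.all_eq_true, List.mem_range, Bool.or_eq_true] at h
    rcases h.2 (e v).val (e v).isLt with h1 | h1
    · exact absurd (e.injective (Fin.ext (Nat.eq_of_beq_eq_true h1))) huv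
    rw [← Set.toFinset_card, show (G.commonNeighbors u v).toFinset = univ.filter fun w => G.Adj u w ∧ G.Adj v w by
      ext w; simp [SimpleGraph.mem_commonNeighbors], hnb, Nat.eq_of_beq_eq_true h1]
    by_cases hA : G.Adj u v
    · rw [if_pos ((hadj u v).1 hA), if_pos hA]
    · rw [if_neg fun h' => hA ((hadj u v).2 h'), if_neg hA]
  refine ⟨by rw [Fintype.card_congr e, Fintype.card_fin], hdeg, fun u v h => ?_, fun u v hne h => ?_⟩
  · rw [hcn u v h.ne, if_pos h]
  · rw [hcn u v hne, if_neg h]

theorem srgCheck77 : srgCheck 77 rows77 16 0 4 = true := by decide +kernel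

theorem srgCheck100 : srgCheck 100 rows100 22 0 6 = true := by decide +kernel

/-- The relation of the point-block graph on the indices: 0, the 22 points, the 77 blocks. -/
def relN (u v : ℕ) : Bool :=
  if u = 0 then Nat.ble 1 v && Nat.ble v 22
  else if u ≤ 22 then Nat.ble 23 v && (blk22.getD (v - 23) 0).testBit (u - 1)
  else Nat.ble 23 v && (!Nat.beq u v) && Nat.beq (Nat.land (blk22.getD (u - 23) 0) (blk22.getD (v - 23) 0)) 0

theorem rows100_spec : ((List.range 100).all fun u => (List.range 100).all fun v =>
    (rows100.getD u 0).testBit v == (relN u v || relN v u)) = true := by decide +kernel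

theorem rows77_spec : ((List.range 77).all fun u => (List.range 77).all fun v =>
    (rows77.getD u 0).testBit v == ((!Nat.beq u v) &&
      Nat.beq (Nat.land (blk22.getD u 0) (blk22.getD v 0)) 0)) = true := by decide +kernel

theorem blk22_eq : blk22 = (octList.filter fun m => m.testBit 0 && m.testBit 1).map (· >>> 2) := by
  decide +kernel

theorem blk22_nodup : blk22.Nodup ∧ blk22.length = 77 ∧ ∀ b ∈ blk22, b < 2 ^ 22 := by
  refine ⟨by decide +kernel, rfl, by decide +kernel⟩

variable {α : Type*} [Fintype α] [DecidableEq α]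

/-- Every S(3, 6, 22) is the system of the 77 tabulated blocks. -/
theorem steiner_622_model (hα : Fintype.card α = 22) {B : Set (Finset α)} (hB : IsSteinerSystem 3 6 B) :
    ∃ (ψ : α ≃ Fin 22) (φ : ↥B ≃ Fin 77), ∀ (a : α) (b : ↥B),
      a ∈ (b : Finset α) ↔ (blk22.getD (φ b).val 0).testBit (ψ a).val = true := by
  obtain ⟨e, X, he, -⟩ := steiner_622_octads hα hB
  have := M24_pretransitive_le 2 (by norm_num)
  have hne : e none ≠ e (some none) := fun h => Option.some_ne_none _ (e.injective h).symm
  obtain ⟨⟨g, hg⟩, hg1, hg2⟩ := MulAction.is_two_pretransitive_iff.1 this hne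
    (show gpt 0 ≠ gpt 1 by decide)
  have hg1' : g (e none) = gpt 0 := hg1
  have hg2' : g (e (some none)) = gpt 1 := hg2
  set f : Option (Option α) ≃ GolayPt := e.trans g
  have hpos : ∀ a : α, 2 ≤ (gidx (f (some (some a)))).val := by
    intro a
    by_contra h
    have h' : gidx (f (some (some a))) = 0 ∨ gidx (f (some (some a))) = 1 := by
      rcases Nat.lt_succ_iff_lt_or_eq.1 (not_le.1 h) with h | h
      · left; exact Fin.ext (Nat.lt_one_iff.1 h)
      · right; exact Fin.ext h
    rcases h' with h' | h'
    · have := congrArg gpt h'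
      rw [gpt_gidx, ← hg1'] at this
      exact Option.some_ne_none _ (f.injective (show f (some (some a)) = f none from this))
    · have := congrArg gpt h'
      rw [gpt_gidx, ← hg2'] at this
      exact Option.some_ne_none _ (Option.some_injective _
        (f.injective (show f (some (some a)) = f (some none) from this)))
  let ψ₀ : α → Fin 22 := fun a => ⟨(gidx (f (some (some a)))).val - 2, by omega⟩
  have hψi : Function.Injective ψ₀ := fun a b h => by
    have h' : (gidx (f (some (some a)))).val = (gidx (f (some (some b)))).val := by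
      have := congrArg Fin.val h
      simp only [ψ₀] at this
      have := hpos a; have := hpos b
      omega
    have := f.injective (Function.LeftInverse.injective gpt_gidx (Fin.ext h'))
    simpa using this
  have hblk : ∀ b ∈ B, ∃ i : Fin 77, ∀ a, a ∈ b ↔ (blk22.getD i.val 0).testBit (ψ₀ a).val = true := by
    intro b hb
    obtain ⟨ho, hp, hq⟩ := he.subset ⟨b, hb, rfl⟩
    set o := g • (ins2 b).image e
    have hmo : fmask o ∈ octList := (mset_mem_octads_iff (fmask_lt o)).1 (by
      rw [mset_fmask]; exact smul_octad_mem hg ho)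
    have hbit : ∀ x : Option (Option α), (fmask o).testBit (gidx (f x)).val = true ↔ x ∈ ins2 b := by
      intro x
      rw [← mem_mset, mset_fmask]
      exact (Finset.smul_mem_smul_finset_iff g).trans e.injective.mem_finset_image
    have h0 : (fmask o).testBit 0 = true := by
      have h := (hbit none).2 (by simp [ins2])
      rwa [show f none = gpt 0 from hg1', gidx_gpt] at h
    have h1 : (fmask o).testBit 1 = true := by
      have h := (hbit (some none)).2 (by simp [ins2])
      rwa [show f (some none) = gpt 1 from hg2', gidx_gpt] at h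
    have hmem : fmask o >>> 2 ∈ blk22 := blk22_eq.symm ▸ List.mem_map.2
      ⟨fmask o, List.mem_filter.2 ⟨hmo, by simp [h0, h1]⟩, rfl⟩
    obtain ⟨i, hi, hio⟩ := List.getElem_of_mem hmem
    refine ⟨⟨i, blk22_nodup.2.1 ▸ hi⟩, fun a => ?_⟩
    rw [List.getD_eq_getElem _ _ hi, hio, Nat.testBit_shiftRight]
    have h2 := hpos a
    rw [show 2 + (ψ₀ a).val = (gidx (f (some (some a)))).val by simp only [ψ₀]; omega, hbit]
    simp [ins2]
  choose i hi using hblk
  have hcard : Nat.card ↥B = 77 := by
    rw [Nat.card_coe_set_eq]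
    simpa [l622] using blocks_ncard hB l622 (by rw [hα]; exact l622_spec) (s := ∅) (by simp)
  have := B.toFinite.fintype
  refine ⟨Equiv.ofBijective ψ₀ ((Fintype.bijective_iff_injective_and_card ψ₀).2 ⟨hψi, by simp [hα]⟩),
    Equiv.ofBijective (fun b : ↥B => i b b.2) ((Fintype.bijective_iff_injective_and_card _).2
      ⟨fun b c h => Subtype.ext (Finset.ext fun a => ?_), by rw [← Nat.card_eq_fintype_card, hcard]; simp⟩),
    fun a b => hi b b.2 a⟩
  rw [hi b b.2 a, hi c c.2 a]
  simp only at h
  rw [h]

/-- Disjoint blocks are disjoint masks. -/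
theorem disjoint_iff_land {B : Set (Finset α)} {ψ : α ≃ Fin 22} {φ : ↥B ≃ Fin 77}
    (h : ∀ (a : α) (b : ↥B), a ∈ (b : Finset α) ↔ (blk22.getD (φ b).val 0).testBit (ψ a).val = true)
    (b c : ↥B) : Disjoint (b : Finset α) (c : Finset α) ↔
      Nat.land (blk22.getD (φ b).val 0) (blk22.getD (φ c).val 0) = 0 := by
  constructor
  · intro hd
    refine Nat.eq_of_testBit_eq fun j => ?_
    rw [Nat.zero_testBit]
    by_contra hj
    rw [Bool.not_eq_false, show Nat.land (blk22.getD (φ b).val 0) (blk22.getD (φ c).val 0) =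
      blk22.getD (φ b).val 0 &&& blk22.getD (φ c).val 0 from rfl, Nat.testBit_and, Bool.and_eq_true] at hj
    have hlt : j < 22 := by
      by_contra hj'
      have hb := blk22_nodup.2.2 (blk22.getD (φ b).val 0) (by
        rw [List.getD_eq_getElem _ _ (by rw [blk22_nodup.2.1]; exact (φ b).isLt)]; exact List.getElem_mem _)
      rw [Nat.testBit_lt_two_pow (hb.trans_le (Nat.pow_le_pow_right (by norm_num) (not_lt.1 hj')))] at hj
      exact Bool.false_ne_true hj.1
    obtain ⟨a, ha⟩ := ψ.surjective ⟨j, hlt⟩
    have hja : (ψ a).val = j := by rw [ha]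
    exact disjoint_left.1 hd ((h a b).2 (hja.symm ▸ hj.1)) ((h a c).2 (hja.symm ▸ hj.2))
  · intro hz
    refine disjoint_left.2 fun a hab hac => ?_
    have := congrArg (fun n => n.testBit (ψ a).val) hz
    simp only [show Nat.land (blk22.getD (φ b).val 0) (blk22.getD (φ c).val 0) =
      blk22.getD (φ b).val 0 &&& blk22.getD (φ c).val 0 from rfl, Nat.testBit_and, Nat.zero_testBit,
      (h a b).1 hab, (h a c).1 hac, Bool.and_self] at this
    exact Bool.noConfusion this

/-- The block graph of an S(3, 6, 22). -/
theorem blockGraph_srg (hα : Fintype.card α = 22) {B : Set (Finset α)} (hB : IsSteinerSystem 3 6 B)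
    [Fintype B] [DecidableRel (blockGraph B).Adj] : (blockGraph B).IsSRGWith 77 16 0 4 := by
  obtain ⟨ψ, φ, h⟩ := steiner_622_model hα hB
  refine srg_of_rows φ (fun b c => ?_) srgCheck77
  have hs := List.all_eq_true.1 (List.all_eq_true.1 rows77_spec _ (List.mem_range.2 (φ b).isLt)) _
    (List.mem_range.2 (φ c).isLt)
  rw [eq_of_beq hs, blockGraph, SimpleGraph.fromRel_adj, Bool.and_eq_true, Bool.not_eq_true', Nat.beq_eq,
    ← disjoint_iff_land h]
  simp only [ne_eq, disjoint_comm, or_self, and_congr_left_iff]
  intro _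
  rw [← Bool.not_eq_true, Nat.beq_eq, Fin.val_inj, φ.apply_eq_iff_eq]

/-- The indices of the vertices of the point-block graph. -/
def vtxIdx {B : Set (Finset α)} (ψ : α ≃ Fin 22) (φ : ↥B ≃ Fin 77) : Option (α ⊕ ↥B) → ℕ
  | none => 0
  | some (Sum.inl a) => 1 + (ψ a).val
  | some (Sum.inr b) => 23 + (φ b).val

/-- The point-block graph of an S(3, 6, 22) is the tabulated graph, the extra vertex being the first. -/
theorem pointBlockGraph_model (hα : Fintype.card α = 22) {B : Set (Finset α)} (hB : IsSteinerSystem 3 6 B) :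
    ∃ e : Option (α ⊕ ↥B) ≃ Fin 100, (e none).val = 0 ∧ (∀ a, (e (some (Sum.inl a))).val ∈ Set.Icc 1 22) ∧
      ∀ u v, (pointBlockGraph B).Adj u v ↔ (rows100.getD (e u).val 0).testBit (e v).val = true := by
  have := B.toFinite.fintype
  obtain ⟨ψ, φ, h⟩ := steiner_622_model hα hB
  have hlt : ∀ x, vtxIdx ψ φ x < 100 := by
    rintro (_ | a | b) <;> simp only [vtxIdx] <;> omega
  have hinj : Function.Injective fun x => (⟨vtxIdx ψ φ x, hlt x⟩ : Fin 100) := by
    rintro (_ | a | b) (_ | a' | b') hx <;> simp only [vtxIdx, Fin.mk.injEq] at hx <;>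
      first
        | rfl
        | omega
        | (rw [ψ.injective (Fin.ext (by omega : (ψ a).val = (ψ a').val))])
        | (rw [φ.injective (Fin.ext (by omega : (φ b).val = (φ b').val))])
  let e := Equiv.ofBijective _ ((Fintype.bijective_iff_injective_and_card _).2 ⟨hinj, by
    simp [Fintype.card_option, hα, Fintype.card_congr φ]⟩)
  refine ⟨e, rfl, fun a => ⟨by show 1 ≤ 1 + _; omega, by show 1 + _ ≤ 22; omega⟩, fun u v => ?_⟩
  have hs := List.all_eq_true.1 (List.all_eq_true.1 rows100_spec _ (List.mem_range.2 (hlt u))) _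
    (List.mem_range.2 (hlt v))
  show _ ↔ (rows100.getD (vtxIdx ψ φ u) 0).testBit (vtxIdx ψ φ v) = true
  rw [eq_of_beq hs, Bool.or_eq_true, pointBlockGraph, SimpleGraph.fromRel_adj]
  have key : ∀ x y, relN (vtxIdx ψ φ x) (vtxIdx ψ φ y) = true ↔ x ≠ y ∧ pointBlockRel B x y := by
    rintro (_ | a | b) (_ | a' | b') <;> simp only [vtxIdx, relN, pointBlockRel]
    · simp
    · simp; omega
    · simp; omega
    · simp
    · simp [show ¬ (23 ≤ 1 + (ψ a').val) by omega, show 1 + (ψ a).val ≤ 22 by omega, ← Bool.not_eq_true]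
    · simp [show 1 + (ψ a).val ≤ 22 by omega, h]
    · simp
    · simp [show ¬ (23 ≤ 1 + (ψ a').val) by omega, show ¬ (23 + (φ b).val ≤ 22) by omega, ← Bool.not_eq_true]
    · simp [show ¬ (23 + (φ b).val ≤ 22) by omega, disjoint_iff_land h, ← Bool.not_eq_true,
        φ.apply_eq_iff_eq, Fin.val_inj]
  rw [key, key]
  tauto

/-- The point-block graph of an S(3, 6, 22). -/
theorem pointBlockGraph_srg (hα : Fintype.card α = 22) {B : Set (Finset α)} (hB : IsSteinerSystem 3 6 B)
    [Fintype B] [DecidableRel (pointBlockGraph B).Adj] : (pointBlockGraph B).IsSRGWith 100 22 0 6 := by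
  obtain ⟨e, -, -, he⟩ := pointBlockGraph_model hα hB
  exact srg_of_rows e he srgCheck100

end Cfsg.Lib.Concrete
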