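import Mathlib

/-!
Two automorphisms of the tabulated 100-vertex graph, with their inverses: one moves the first vertex,
the other fixes it and is an odd permutation.
-/

set_option autoImplicit false

namespace Cfsg.Lib.Concrete

/-- An automorphism moving the first vertex. -/
def hsMove : List ℕ := [
  1, 0, 24, 28, 44, 81, 93, 48, 67, 72, 30, 37, 34, 54, 76, 26, 41, 51, 85, 70, 88, 62, 95, 46,
  6, 35, 11, 89, 12, 31, 18, 63, 73, 33, 14, 78, 43, 8, 71, 66, 64, 10, 47, 53, 19, 77, 96, 98,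
  3, 39, 65, 17, 90, 83, 15, 59, 60, 49, 29, 25, 92, 40, 5, 84, 42, 56, 91, 20, 32, 38, 21, 80,
  7, 57, 23, 82, 9, 52, 36, 68, 99, 22, 61, 97, 50, 2, 74, 79, 13, 75, 69, 87, 58, 16, 45, 4,
  86, 55, 27, 94]

/-- Its inverse. -/
def hsMoveInv : List ℕ := [
  1, 0, 85, 48, 95, 62, 24, 72, 37, 76, 41, 26, 28, 88, 34, 54, 93, 51, 30, 44, 67, 70, 81, 74,
  2, 59, 15, 98, 3, 58, 10, 29, 68, 33, 12, 25, 78, 11, 69, 49, 61, 16, 64, 36, 4, 94, 23, 42,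
  7, 57, 84, 17, 77, 43, 13, 97, 65, 73, 92, 55, 56, 82, 21, 31, 40, 50, 39, 8, 79, 90, 19, 38,
  9, 32, 86, 89, 14, 45, 35, 87, 71, 5, 75, 53, 63, 18, 96, 91, 20, 27, 52, 66, 60, 6, 99, 22,
  46, 83, 47, 80]

/-- An odd automorphism fixing the first vertex. -/
def hsOdd : List ℕ := [
  0, 1, 2, 8, 4, 11, 21, 15, 3, 10, 9, 5, 12, 13, 14, 7, 22, 17, 18, 20, 19, 6, 16, 23, 41, 42,
  26, 61, 62, 29, 30, 36, 32, 39, 34, 60, 31, 37, 59, 33, 40, 24, 25, 43, 44, 55, 57, 47, 51,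
  53, 50, 48, 52, 49, 54, 45, 56, 46, 58, 38, 35, 27, 28, 90, 91, 89, 92, 88, 94, 87, 93, 84,
  85, 80, 79, 86, 81, 82, 83, 74, 73, 76, 77, 78, 71, 72, 75, 69, 67, 65, 63, 64, 66, 70, 68,
  95, 96, 97, 98, 99]

/-- Its inverse. -/
def hsOddInv : List ℕ := [
  0, 1, 2, 8, 4, 11, 21, 15, 3, 10, 9, 5, 12, 13, 14, 7, 22, 17, 18, 20, 19, 6, 16, 23, 41, 42,
  26, 61, 62, 29, 30, 36, 32, 39, 34, 60, 31, 37, 59, 33, 40, 24, 25, 43, 44, 55, 57, 47, 51,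
  53, 50, 48, 52, 49, 54, 45, 56, 46, 58, 38, 35, 27, 28, 90, 91, 89, 92, 88, 94, 87, 93, 84,
  85, 80, 79, 86, 81, 82, 83, 74, 73, 76, 77, 78, 71, 72, 75, 69, 67, 65, 63, 64, 66, 70, 68,
  95, 96, 97, 98, 99]

end Cfsg.Lib.Concrete
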