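import Mathlib

/-!
A simplicity criterion for a rank three group of degree 100 with orbits 1, 22, 77 and simple point stabiliser.
-/

set_option autoImplicit false

namespace Cfsg.Lib.Concrete

open MulAction

variable {G : Type*} [Group G] [Finite G] {V : Type*} [MulAction G V]

theorem card_elements_of_order_five {N : Subgroup G} (hN : Nat.card N = 100) :
    {n : N | n ^ 25 = 1}.ncard = 25 := by
  have := Fact.mk Nat.prime_five
  have h1 : Nat.card (Sylow 5 N) % 5 = 1 := card_sylow_modEq_one 5 N
  obtain ⟨P⟩ : Nonempty (Sylow 5 N) := inferInstance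
  have hP : Nat.card P = 25 := by
    rw [P.card_eq_multiplicity, hN]
    have : Nat.factorization 100 5 = 2 := by
      rw [show 100 = 5 ^ 2 * 4 from rfl, Nat.factorization_mul (by norm_num) (by norm_num)]
      rw [Finsupp.add_apply, Nat.Prime.factorization_pow Nat.prime_five, Finsupp.single_eq_same,
        Nat.factorization_eq_zero_of_not_dvd (by norm_num)]
    rw [this]; norm_num
  have hn : Nat.card (Sylow 5 N) ∣ 4 := by
    have h := P.card_dvd_index
    have hi := (P : Subgroup N).card_mul_index
    rw [hN] at hi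
    rw [show Nat.card P = Nat.card (P : Subgroup N) from rfl] at hP
    rw [hP] at hi
    rwa [show (P : Subgroup N).index = 4 by omega] at h
  have hone : Nat.card (Sylow 5 N) = 1 := by
    have := Nat.le_of_dvd (by norm_num) hn
    interval_cases h : Nat.card (Sylow 5 N) <;> simp_all
  have hset : {n : N | n ^ 25 = 1} = ((P : Subgroup N) : Set N) := by
    ext n
    constructor
    · intro hn'
      have hp : IsPGroup 5 (Subgroup.zpowers n) := by
        rw [IsPGroup.iff_card, Nat.card_zpowers]
        have : orderOf n ∣ 5 ^ 2 := orderOf_dvd_of_pow_eq_one hn'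
        obtain ⟨k, -, hk⟩ := (Nat.dvd_prime_pow Nat.prime_five).1 this
        exact ⟨k, hk⟩
      obtain ⟨Q, hQ⟩ := hp.exists_le_sylow
      obtain rfl : Q = P := ((Nat.card_eq_one_iff_unique.1 hone).1).elim Q P
      exact hQ (Subgroup.mem_zpowers n)
    · intro hn'
      have : (⟨n, hn'⟩ : (P : Subgroup N)) ^ 25 = 1 := by
        rw [← hP]; exact pow_card_eq_one'
      exact congrArg Subtype.val this
  rw [hset, ← Nat.card_coe_set_eq]
  exact hP

/-- A faithful group of degree 100 whose stabiliser of a point is simple and transitive on each of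
two sets of sizes 22 and 77 making up the other points is simple. -/
theorem isSimple_of_rank_three_100 [FaithfulSMul G V] [IsPretransitive G V] (hV : Nat.card V = 100) (v : V)
    [IsSimpleGroup (stabilizer G v)] (P Q : Set V) (hP : P.ncard = 22) (hQ : Q.ncard = 77)
    (hcov : ∀ u : V, u = v ∨ u ∈ P ∨ u ∈ Q) (hvP : v ∉ P) (hvQ : v ∉ Q) (hPQ : Disjoint P Q)
    (hPt : ∀ a ∈ P, ∀ b ∈ P, ∃ g ∈ stabilizer G v, g • a = b)
    (hQt : ∀ a ∈ Q, ∀ b ∈ Q, ∃ g ∈ stabilizer G v, g • a = b) : IsSimpleGroup G := by
  classical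
  have : Finite V := Nat.finite_of_card_ne_zero (by omega)
  have hsizes : ∀ T : Set V, v ∉ T → (∀ g ∈ stabilizer G v, ∀ u ∈ T, g • u ∈ T) →
      T.ncard = 0 ∨ T.ncard = 22 ∨ T.ncard = 77 ∨ T.ncard = 99 := by
    intro T hvT hinv
    have hfull : ∀ S : Set V, (∀ a ∈ S, ∀ b ∈ S, ∃ g ∈ stabilizer G v, g • a = b) → Disjoint S T ∨ S ⊆ T := by
      intro S hS
      by_cases hd : Disjoint S T
      · exact Or.inl hd
      · obtain ⟨a, haS, haT⟩ := Set.not_disjoint_iff.1 hd
        exact Or.inr fun b hb => by obtain ⟨g, hg, rfl⟩ := hS a haS b hb; exact hinv g hg a haT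
    have hsub : T ⊆ P ∪ Q := fun u hu => (hcov u).resolve_left (fun e => hvT (e ▸ hu))
    rcases hfull P hPt with h1 | h1 <;> rcases hfull Q hQt with h2 | h2
    · left
      rw [Set.eq_empty_of_forall_notMem fun u hu => (hsub hu).elim (fun h => Set.disjoint_left.1 h1 h hu)
        (fun h => Set.disjoint_left.1 h2 h hu), Set.ncard_empty]
    · right; right; left
      rw [show T = Q from Set.Subset.antisymm (fun u hu => (hsub hu).resolve_left
        (fun h => Set.disjoint_left.1 h1 h hu)) h2, hQ]
    · right; left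
      rw [show T = P from Set.Subset.antisymm (fun u hu => (hsub hu).resolve_right
        (fun h => Set.disjoint_left.1 h2 h hu)) h1, hP]
    · right; right; right
      rw [show T = P ∪ Q from Set.Subset.antisymm hsub (Set.union_subset h1 h2),
        Set.ncard_union_eq hPQ (Set.toFinite _) (Set.toFinite _), hP, hQ]
  have hidx : (stabilizer G v).index = 100 := (index_stabilizer_of_transitive G v).trans hV
  refine { toNontrivial := ?_, eq_bot_or_eq_top_of_normal := fun N hN => ?_ }
  · by_contra h
    rw [not_nontrivial_iff_subsingleton] at h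
    have := Nat.le_of_dvd Nat.card_pos (stabilizer G v).index_dvd_card
    rw [Nat.card_of_subsingleton 1] at this
    omega
  rcases (inferInstance : (N.subgroupOf (stabilizer G v)).Normal).eq_bot_or_eq_top with hd | hd
  · -- regular case
    by_cases hNb : N = ⊥
    · exact Or.inl hNb
    exfalso
    have hfree : ∀ n ∈ N, n • v = v → n = 1 := by
      intro n hn hv
      have : (⟨n, hv⟩ : stabilizer G v) ∈ N.subgroupOf (stabilizer G v) := Subgroup.mem_subgroupOf.2 hn
      rw [hd, Subgroup.mem_bot] at this
      exact congrArg Subtype.val this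
    have hf : Function.Injective fun n : N => (n : G) • v := by
      intro n m h
      have : ((m : G)⁻¹ * n) • v = v := by
        simp only at h
        rw [mul_smul, h, inv_smul_smul]
      exact Subtype.ext (inv_mul_eq_one.1 (hfree _ (mul_mem (inv_mem m.2) n.2) this)).symm
    have hNne : Nat.card N ≠ 1 := fun h => hNb (Subgroup.card_eq_one.1 h)
    have himg : ∀ S : Set N, (∀ g ∈ stabilizer G v, ∀ n ∈ S, ∀ m : N, (m : G) = g * n * g⁻¹ → m ∈ S) →
        (1 : N) ∉ S → S.ncard = 0 ∨ S.ncard = 22 ∨ S.ncard = 77 ∨ S.ncard = 99 := by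
      intro S hS h1
      rw [← Set.ncard_image_of_injective S hf]
      refine hsizes _ ?_ ?_
      · rintro ⟨n, hn, he⟩
        exact h1 (by rwa [show n = 1 from Subtype.ext (hfree _ n.2 he)] at hn)
      · rintro g hg _ ⟨n, hn, rfl⟩
        refine ⟨⟨g * n * g⁻¹, hN.conj_mem _ n.2 g⟩, hS g hg n hn _ rfl, ?_⟩
        have hgi : g⁻¹ • v = v := by rw [inv_smul_eq_iff]; exact (mem_stabilizer_iff.1 hg).symm
        show (g * n * g⁻¹) • v = g • (n : G) • v
        rw [mul_smul, mul_smul, hgi]
    have hnon : {n : N | n ≠ 1}.ncard + 1 = Nat.card N := by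
      rw [show {n : N | n ≠ 1} = Set.univ \ {1} by ext; simp, Set.ncard_sdiff_singleton_of_mem (Set.mem_univ _),
        Set.ncard_univ]
      have := Nat.card_pos (α := N)
      omega
    have hdvd : Nat.card N ∣ 100 := by
      rw [← hidx]
      have h : (N.subgroupOf (stabilizer G v)).index = Nat.card (stabilizer G v) := by rw [hd, Subgroup.index_bot]
      have h2 : N.relIndex (stabilizer G v) ∣ N.index := Subgroup.relIndex_dvd_index_of_normal N _
      obtain ⟨k, hk⟩ := h2
      have h3 := N.card_mul_index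
      have h4 := (stabilizer G v).card_mul_index
      rw [hk, show N.relIndex (stabilizer G v) = Nat.card (stabilizer G v) from h] at h3
      refine ⟨k, Nat.eq_of_mul_eq_mul_left (Nat.card_pos (α := stabilizer G v)) ?_⟩
      rw [h4, ← h3]; ring
    have hconj : ∀ {g : G} {n m : N}, (m : G) = g * n * g⁻¹ → m = 1 → (n : G) = ((1 : N) : G) := by
      intro g n m hm e
      rw [e, OneMemClass.coe_one, eq_comm, conj_eq_one_iff] at hm
      exact hm
    have hN100 : Nat.card N = 100 := by
      rcases himg {n : N | n ≠ 1} (fun g _ n hn m hm e => hn (Subtype.ext (hconj hm e))) (by simp) with h | h | h | h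
      · omega
      · rw [h] at hnon; rw [← hnon] at hdvd; norm_num at hdvd
      · rw [h] at hnon; rw [← hnon] at hdvd; norm_num at hdvd
      · omega
    have h25 := card_elements_of_order_five hN100
    have h24 : {n : N | n ^ 25 = 1 ∧ n ≠ 1}.ncard = 24 := by
      rw [show {n : N | n ^ 25 = 1 ∧ n ≠ 1} = {n : N | n ^ 25 = 1} \ {1} by ext; simp,
        Set.ncard_sdiff_singleton_of_mem (by simp), h25]
    have hinv : ∀ g ∈ stabilizer G v, ∀ n ∈ {n : N | n ^ 25 = 1 ∧ n ≠ 1}, ∀ m : N, (m : G) = g * n * g⁻¹ →
        m ∈ {n : N | n ^ 25 = 1 ∧ n ≠ 1} := by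
      intro g _ n hn m hm
      refine ⟨Subtype.ext ?_, fun e => hn.2 (Subtype.ext (hconj hm e))⟩
      rw [SubmonoidClass.coe_pow, hm, conj_pow, ← SubmonoidClass.coe_pow, hn.1]; simp
    rcases himg _ hinv (fun h : (1 : N) ^ 25 = 1 ∧ (1 : N) ≠ 1 => h.2 rfl) with h | h | h | h <;> omega
  · -- the stabiliser is contained
    have hle : stabilizer G v ≤ N := Subgroup.subgroupOf_eq_top.1 hd
    set T : Set V := {u | u ≠ v ∧ u ∈ orbit N v} with hT
    have hcard : (orbit N v).ncard ∣ 100 := by
      rw [← hidx, ← MulAction.index_stabilizer, show stabilizer N v = (stabilizer G v).subgroupOf N by ext; rfl,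
        ← Subgroup.relIndex_mul_index hle]
      exact Dvd.intro _ rfl
    have hTc : T.ncard + 1 = (orbit N v).ncard := by
      rw [show T = orbit N v \ {v} by ext; simp [hT, and_comm], Set.ncard_sdiff_singleton_of_mem (mem_orbit_self v)]
      have := (Set.ncard_pos (Set.toFinite (orbit N v))).2 ⟨v, mem_orbit_self v⟩
      omega
    have hTinv : ∀ g ∈ stabilizer G v, ∀ u ∈ T, g • u ∈ T := by
      intro g hg u hu
      refine ⟨fun e => hu.1 (MulAction.injective g (e.trans (mem_stabilizer_iff.1 hg).symm)), ?_⟩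
      obtain ⟨n, rfl⟩ := hu.2
      exact ⟨⟨g * n, mul_mem (hle hg) n.2⟩, mul_smul g (n : G) v⟩
    rcases hsizes T (by simp [hT]) hTinv with h | h | h | h
    · left
      have hsing : ∀ n ∈ N, n • v = v := by
        intro n hn
        have hsub : (orbit N v).ncard = 1 := by omega
        obtain ⟨w, hw⟩ := Set.ncard_eq_one.1 hsub
        have h1 : v ∈ ({w} : Set V) := hw ▸ mem_orbit_self v
        have h2 : n • v ∈ ({w} : Set V) := hw ▸ mem_orbit v (⟨n, hn⟩ : N)
        rw [Set.mem_singleton_iff] at h1 h2
        rw [h2, ← h1]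
      refine (Subgroup.eq_bot_iff_forall N).2 fun n hn => eq_of_smul_eq_smul (α := V) fun u => ?_
      obtain ⟨g, rfl⟩ := exists_smul_eq G v u
      have := hsing _ (hN.conj_mem n hn g⁻¹)
      rw [inv_inv, mul_smul, mul_smul, inv_smul_eq_iff] at this
      rw [one_smul, this]
    · rw [← hTc, h] at hcard; norm_num at hcard
    · rw [← hTc, h] at hcard; norm_num at hcard
    · right
      have huniv : orbit N v = Set.univ := Set.eq_of_subset_of_ncard_le (Set.subset_univ _)
        (by rw [Set.ncard_univ, hV]; omega)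
      refine (Subgroup.eq_top_iff' N).2 fun g => ?_
      obtain ⟨n, hn⟩ := huniv.ge (Set.mem_univ (g • v))
      have hs : (n : G)⁻¹ * g ∈ stabilizer G v := by
        rw [mem_stabilizer_iff, mul_smul, inv_smul_eq_iff]; exact hn.symm
      have := mul_mem n.2 (hle hs)
      rwa [mul_inv_cancel_left] at this

end Cfsg.Lib.Concrete
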