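import Cfsg.Agent.Lib.Concrete.GraphsM22
import Cfsg.Agent.Lib.Concrete.HSGraphSimple
import Cfsg.Agent.Lib.Concrete.HSGraphData

/-!
The automorphism group of the point-block graph of an S(3, 6, 22): it has order 88704000 and its
even part is simple of order 44352000.
-/

set_option autoImplicit false

namespace Cfsg.Lib.Concrete.HSGraph

open MulAction
open scoped Pointwise

/-- The permutations preserving adjacency. -/
def autPerm {V : Type*} (Γ : SimpleGraph V) : Subgroup (Equiv.Perm V) where
  carrier := {σ | ∀ u v, Γ.Adj (σ u) (σ v) ↔ Γ.Adj u v}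
  mul_mem' := fun {σ τ} hσ hτ u v => (hσ _ _).trans (hτ u v)
  one_mem' := fun _ _ => Iff.rfl
  inv_mem' := fun {σ} hσ u v => by
    have := hσ (σ⁻¹ u) (σ⁻¹ v)
    simpa using this.symm

/-- Graph automorphisms are the permutations preserving adjacency. -/
def isoEquiv {V : Type*} (Γ : SimpleGraph V) : (Γ ≃g Γ) ≃* autPerm Γ where
  toFun φ := ⟨φ.toEquiv, fun _ _ => φ.map_rel_iff'⟩
  invFun σ := ⟨σ.1, σ.2 _ _⟩
  left_inv _ := rfl
  right_inv _ := rfl
  map_mul' _ _ := rfl

/-- The permutation of a table with its inverse. -/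
def tabPerm (g h : List ℕ) (h1 : ∀ i : Fin 100, Fin.ofNat 100 (h.getD (Fin.ofNat 100 (g.getD i.val 0)).val 0) = i)
    (h2 : ∀ i : Fin 100, Fin.ofNat 100 (g.getD (Fin.ofNat 100 (h.getD i.val 0)).val 0) = i) : Equiv.Perm (Fin 100) :=
  ⟨fun i => Fin.ofNat 100 (g.getD i.val 0), fun i => Fin.ofNat 100 (h.getD i.val 0), h1, h2⟩

/-- The moving automorphism of the table. -/
def movePerm : Equiv.Perm (Fin 100) := tabPerm hsMove hsMoveInv (by decide +kernel) (by decide +kernel)

/-- The odd automorphism of the table. -/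
def oddPerm : Equiv.Perm (Fin 100) := tabPerm hsOdd hsOddInv (by decide +kernel) (by decide +kernel)

/-- The test for automorphisms of the table. -/
def presB (g : List ℕ) : Bool :=
  (List.range 100).all fun u => (List.range 100).all fun v =>
    (rows100.getD (g.getD u 0) 0).testBit (g.getD v 0) == (rows100.getD u 0).testBit v

theorem tables_check : presB hsMove = true ∧ presB hsOdd = true ∧
    (∀ i : Fin 100, hsMove.getD i.val 0 < 100 ∧ hsOdd.getD i.val 0 < 100) ∧
    movePerm 0 = 1 ∧ 23 ≤ (movePerm 2).val ∧ oddPerm 0 = 0 := by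
  refine ⟨by decide +kernel, by decide +kernel, by decide +kernel, by decide +kernel, by decide +kernel, by decide +kernel⟩

theorem oddPerm_sign : Equiv.Perm.sign oddPerm = -1 := by decide +kernel

theorem pres_of_presB {g : List ℕ} (hg : presB g = true) (hlt : ∀ i : Fin 100, g.getD i.val 0 < 100)
    {π : Equiv.Perm (Fin 100)} (hπ : ∀ i, π i = Fin.ofNat 100 (g.getD i.val 0)) (u v : Fin 100) :
    (rows100.getD (π u).val 0).testBit (π v).val = true ↔ (rows100.getD u.val 0).testBit v.val = true := by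
  have h := List.all_eq_true.1 (List.all_eq_true.1 hg u.val (List.mem_range.2 u.isLt)) v.val (List.mem_range.2 v.isLt)
  rw [hπ, hπ, Fin.val_ofNat, Fin.val_ofNat, Nat.mod_eq_of_lt (hlt u), Nat.mod_eq_of_lt (hlt v), eq_of_beq h]

variable {α : Type*} [Fintype α] [DecidableEq α] {B : Set (Finset α)}

/-- The automorphisms of the graph. -/
abbrev Aut (B : Set (Finset α)) : Subgroup (Equiv.Perm (Option (α ⊕ ↥B))) := autPerm (pointBlockGraph B)

theorem adj_none (u : Option (α ⊕ ↥B)) : (pointBlockGraph B).Adj none u ↔ ∃ a, u = some (Sum.inl a) := by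
  rcases u with _ | a | b <;> simp [pointBlockGraph, pointBlockRel]

theorem adj_point_block (a : α) (b : ↥B) :
    (pointBlockGraph B).Adj (some (Sum.inl a)) (some (Sum.inr b)) ↔ a ∈ (b : Finset α) := by
  simp [pointBlockGraph, pointBlockRel]

/-- The action of an automorphism of the system on its blocks. -/
def blockPerm (σ : setSystemAut B) : Equiv.Perm ↥B where
  toFun b := ⟨σ.1 • b.1, smul_mem_of_setSystemAut σ.2 b.2⟩
  invFun b := ⟨σ.1⁻¹ • b.1, smul_mem_of_setSystemAut (inv_mem σ.2) b.2⟩
  left_inv b := Subtype.ext (inv_smul_smul σ.1 b.1)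
  right_inv b := Subtype.ext (smul_inv_smul σ.1 b.1)

/-- An automorphism of the system on the vertices. -/
def embed : setSystemAut B →* Equiv.Perm (Option (α ⊕ ↥B)) where
  toFun σ := Equiv.optionCongr (Equiv.sumCongr σ.1 (blockPerm σ))
  map_one' := Equiv.ext fun u => by
    rcases u with _ | a | b
    · rfl
    · rfl
    · exact congrArg (fun c => some (Sum.inr c)) (Subtype.ext (one_smul (Equiv.Perm α) b.1))
  map_mul' σ τ := Equiv.ext fun u => by
    rcases u with _ | a | b
    · rfl
    · rfl
    · exact congrArg (fun c => some (Sum.inr c)) (Subtype.ext (mul_smul σ.1 τ.1 b.1))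

theorem embed_point (σ : setSystemAut B) (a : α) : embed σ (some (Sum.inl a)) = some (Sum.inl (σ.1 a)) := rfl

theorem embed_block (σ : setSystemAut B) (b : ↥B) : embed σ (some (Sum.inr b)) = some (Sum.inr (blockPerm σ b)) := rfl

theorem embed_none (σ : setSystemAut B) : embed σ none = none := rfl

theorem embed_mem (σ : setSystemAut B) : embed σ ∈ Aut B := by
  have key : ∀ b c : ↥B, Disjoint ((blockPerm σ b) : Finset α) (blockPerm σ c) ↔ Disjoint (b : Finset α) c := by
    intro b c
    show Disjoint (σ.1 • b.1) (σ.1 • c.1) ↔ _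
    simp only [Finset.disjoint_iff_inter_eq_empty, ← Finset.smul_finset_inter, Finset.smul_finset_eq_empty]
  have hmem : ∀ (a : α) (b : ↥B), σ.1 a ∈ ((blockPerm σ b) : Finset α) ↔ a ∈ (b : Finset α) :=
    fun a b => Finset.smul_mem_smul_finset_iff σ.1
  intro u v
  rcases u with _ | a | b <;> rcases v with _ | a' | b' <;>
    simp [pointBlockGraph, pointBlockRel, embed_point, embed_block, embed_none, hmem, key]

/-- The comparison map into the stabiliser of the extra vertex. -/
def toStab : setSystemAut B →* stabilizer (Aut B) (none : Option (α ⊕ ↥B)) where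
  toFun σ := ⟨⟨embed σ, embed_mem σ⟩, embed_none σ⟩
  map_one' := Subtype.ext (Subtype.ext (map_one embed))
  map_mul' σ τ := Subtype.ext (Subtype.ext (map_mul embed σ τ))

theorem toStab_bijective : Function.Bijective (toStab (B := B)) := by
  classical
  refine ⟨fun σ τ h => Subtype.ext (Equiv.ext fun a => ?_), fun g => ?_⟩
  · have := congrArg (fun x : stabilizer (Aut B) (none : Option (α ⊕ ↥B)) => x.1.1 (some (Sum.inl a))) h
    simpa [toStab, embed_point] using this
  · have hfix : g.1.1 none = none := g.2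
    have hpt : ∀ a, ∃ a', g.1.1 (some (Sum.inl a)) = some (Sum.inl a') := fun a =>
      (adj_none _).1 (by have := (g.1.2 none (some (Sum.inl a))).2 ((adj_none _).2 ⟨a, rfl⟩); rwa [hfix] at this)
    choose f hf using hpt
    have hfi : Function.Injective f := fun a a' h => by
      have := g.1.1.injective ((hf a).trans (by rw [h, ← hf a']))
      simpa using this
    let s : Equiv.Perm α := Equiv.ofBijective f hfi.bijective_of_finite
    have hblk : ∀ b : ↥B, ∃ b' : ↥B, g.1.1 (some (Sum.inr b)) = some (Sum.inr b') ∧ s • b.1 = b'.1 := by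
      intro b
      obtain ⟨b', hb'⟩ : ∃ b' : ↥B, g.1.1 (some (Sum.inr b)) = some (Sum.inr b') := by
        rcases h : g.1.1 (some (Sum.inr b)) with _ | a | b'
        · exact absurd (g.1.1.injective (h.trans hfix.symm)) (by simp)
        · have h2 := (g.1.2 none (some (Sum.inr b))).1 (by rw [hfix, h]; exact (adj_none _).2 ⟨a, rfl⟩)
          obtain ⟨x, hx⟩ := (adj_none _).1 h2
          simp at hx
        · exact ⟨b', rfl⟩
      refine ⟨b', hb', Finset.ext fun y => ?_⟩
      obtain ⟨x, rfl⟩ := s.surjective y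
      have h2 := g.1.2 (some (Sum.inl x)) (some (Sum.inr b))
      rw [hb', hf, adj_point_block, adj_point_block] at h2
      exact (Finset.smul_mem_smul_finset_iff s).trans h2.symm
    have hs : s ∈ setSystemAut B := mem_setSystemAut_of_subset fun b hb => by
      obtain ⟨b', -, e⟩ := hblk ⟨b, hb⟩
      exact e ▸ b'.2
    refine ⟨⟨s, hs⟩, Subtype.ext (Subtype.ext (Equiv.ext fun u => ?_))⟩
    rcases u with _ | a | b
    · exact hfix.symm
    · exact (hf a).symm
    · obtain ⟨b', hb', e⟩ := hblk b
      exact (congrArg (fun c => some (Sum.inr c)) (Subtype.ext e)).trans hb'.symm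

theorem block_transitive (hα : Fintype.card α = 22) (hB : IsSteinerSystem 3 6 B) (b c : ↥B) :
    ∃ σ : setSystemAut B, blockPerm σ b = c := by
  obtain ⟨-, h3, -⟩ := steiner_622_aut hα hB
  obtain ⟨s, hs, hs3⟩ := Finset.exists_subset_card_eq (s := b.1) (n := 3) (by rw [hB.1 _ b.2]; norm_num)
  obtain ⟨t, ht, ht3⟩ := Finset.exists_subset_card_eq (s := c.1) (n := 3) (by rw [hB.1 _ c.2]; norm_num)
  let x : Fin 3 ↪ α := (s.equivFinOfCardEq hs3).symm.toEmbedding.trans (Function.Embedding.subtype _)
  let y : Fin 3 ↪ α := (t.equivFinOfCardEq ht3).symm.toEmbedding.trans (Function.Embedding.subtype _)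
  obtain ⟨σ, hσ⟩ := MulAction.isMultiplyPretransitive_iff.1 h3 (x := x) (y := y)
  refine ⟨σ, Subtype.ext ?_⟩
  have hst : t ⊆ σ.1 • b.1 := by
    intro z hz
    have h := congrArg (fun k : Fin 3 ↪ α => k (t.equivFinOfCardEq ht3 ⟨z, hz⟩)) hσ
    simp only [y, Function.Embedding.smul_apply, Function.Embedding.trans_apply, Equiv.coe_toEmbedding,
      Equiv.symm_apply_apply, Function.Embedding.coe_subtype] at h
    rw [← h]
    exact Finset.smul_mem_smul_finset (hs (Subtype.coe_prop _))
  exact (hB.2 t ht3).unique ⟨(blockPerm σ b).2, hst⟩ ⟨c.2, ht⟩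

theorem aut_transitive (hα : Fintype.card α = 22) (hB : IsSteinerSystem 3 6 B) :
    IsPretransitive (Aut B) (Option (α ⊕ ↥B)) := by
  classical
  obtain ⟨e, he0, hep, he⟩ := pointBlockGraph_model hα hB
  obtain ⟨-, h3, -⟩ := steiner_622_aut hα hB
  let π : Equiv.Perm (Option (α ⊕ ↥B)) := e.symm.permCongr movePerm
  have hπ : π ∈ Aut B := fun u v => by
    rw [he, he]
    simp only [π, Equiv.permCongr_apply, Equiv.symm_symm, Equiv.apply_symm_apply]
    exact pres_of_presB tables_check.1 (fun i => (tables_check.2.2.1 i).1) (fun i => rfl) _ _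
  have hpts : IsPretransitive (setSystemAut B) α := by
    refine ⟨fun a a' => ?_⟩
    obtain ⟨x⟩ : Nonempty (Fin 3 ↪ α) := Function.Embedding.nonempty_of_card_le (by simp [hα])
    let y : α → (Fin 3 ↪ α) := fun a => x.trans (Equiv.swap (x 0) a).toEmbedding
    obtain ⟨σ, hσ⟩ := MulAction.isMultiplyPretransitive_iff.1 h3 (x := y a) (y := y a')
    have := congrArg (fun k : Fin 3 ↪ α => k 0) hσ
    simp only [y, Function.Embedding.smul_apply, Function.Embedding.trans_apply, Equiv.coe_toEmbedding,
      Equiv.swap_apply_left] at this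
    exact ⟨σ, this⟩
  -- the extra vertex reaches a point and a block
  have hp : ∃ a : α, π none = some (Sum.inl a) := by
    have h1 : (e (π none)).val = 1 := by
      simp only [π, Equiv.permCongr_apply, Equiv.symm_symm, Equiv.apply_symm_apply]
      rw [show e none = 0 from Fin.ext he0, tables_check.2.2.2.1]
      rfl
    refine (adj_none _).1 ((he _ _).2 ?_)
    rw [he0, h1]
    decide +kernel
  obtain ⟨a₁, ha₁⟩ := hp
  have horb : ∀ u, u ∈ orbit (Aut B) (none : Option (α ⊕ ↥B)) := by
    have hpoint : ∀ a : α, some (Sum.inl a) ∈ orbit (Aut B) (none : Option (α ⊕ ↥B)) := by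
      intro a
      obtain ⟨σ, hσ⟩ := hpts.exists_smul_eq a₁ a
      refine ⟨⟨embed σ, embed_mem σ⟩ * ⟨π, hπ⟩, ?_⟩
      show embed σ (π none) = _
      rw [ha₁, embed_point]
      exact congrArg (fun z => some (Sum.inl z)) hσ
    -- a block is reached
    obtain ⟨a₂, ha₂⟩ : ∃ a : α, some (Sum.inl a) = e.symm 2 := by
      obtain ⟨a, ha⟩ := (adj_none (e.symm 2)).1 ((he _ _).2 (by rw [he0, Equiv.apply_symm_apply]; decide +kernel))
      exact ⟨a, ha.symm⟩
    obtain ⟨b₁, hb₁⟩ : ∃ b : ↥B, π (some (Sum.inl a₂)) = some (Sum.inr b) := by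
      have h2 : 23 ≤ (e (π (some (Sum.inl a₂)))).val := by
        simp only [π, Equiv.permCongr_apply, Equiv.symm_symm, Equiv.apply_symm_apply, ha₂]
        exact tables_check.2.2.2.2.1
      rcases h : π (some (Sum.inl a₂)) with _ | a | b
      · rw [h, he0] at h2; omega
      · rw [h] at h2; have := (hep a).2; omega
      · exact ⟨b, rfl⟩
    intro u
    rcases u with _ | a | b
    · exact mem_orbit_self _
    · exact hpoint a
    · obtain ⟨g, hg⟩ := hpoint a₂
      obtain ⟨σ, hσ⟩ := block_transitive hα hB b₁ b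
      refine ⟨⟨embed σ, embed_mem σ⟩ * ⟨π, hπ⟩ * g, ?_⟩
      show embed σ (π (g.1 none)) = _
      rw [show g.1 none = some (Sum.inl a₂) from hg, hb₁, embed_block, hσ]
  refine ⟨fun u v => ?_⟩
  obtain ⟨g, rfl⟩ := horb u
  obtain ⟨h, rfl⟩ := horb v
  exact ⟨h * g⁻¹, by rw [mul_smul, inv_smul_smul]⟩

theorem card_vertices (hα : Fintype.card α = 22) (hB : IsSteinerSystem 3 6 B) :
    Nat.card (Option (α ⊕ ↥B)) = 100 := by
  obtain ⟨e, -⟩ := pointBlockGraph_model hα hB
  rw [Nat.card_congr e, Nat.card_fin]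

theorem card_aut (hα : Fintype.card α = 22) (hB : IsSteinerSystem 3 6 B) : Nat.card (Aut B) = 88704000 := by
  have := aut_transitive hα hB
  rw [← Subgroup.card_mul_index (stabilizer (Aut B) (none : Option (α ⊕ ↥B))),
    index_stabilizer_of_transitive, ← Nat.card_congr (MulEquiv.ofBijective toStab toStab_bijective).toEquiv,
    (steiner_622_aut hα hB).1, card_vertices hα hB]

theorem card_graph_aut (hα : Fintype.card α = 22) (hB : IsSteinerSystem 3 6 B) :
    Nat.card (pointBlockGraph B ≃g pointBlockGraph B) = 88704000 := by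
  rw [Nat.card_congr (isoEquiv (pointBlockGraph B)).toEquiv]
  exact card_aut hα hB

theorem exists_hs (hα : Fintype.card α = 22) (hB : IsSteinerSystem 3 6 B) :
    ∃ H : Subgroup (pointBlockGraph B ≃g pointBlockGraph B), IsHS H := by
  classical
  have := B.toFinite.fintype
  have htr := aut_transitive hα hB
  obtain ⟨e, he0, hep, he⟩ := pointBlockGraph_model hα hB
  obtain ⟨hcA, h3, H₀, hH₀, hM22⟩ := steiner_622_aut hα hB
  obtain ⟨hsimp, hcard₀⟩ := hM22
  let sgn : Aut B →* ℤˣ := (Equiv.Perm.sign (α := Option (α ⊕ ↥B))).comp (Aut B).subtype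
  let K : Subgroup (Aut B) := sgn.ker
  let π : Equiv.Perm (Option (α ⊕ ↥B)) := e.symm.permCongr oddPerm
  have hπ : π ∈ Aut B := fun u v => by
    rw [he, he]
    simp only [π, Equiv.permCongr_apply, Equiv.symm_symm, Equiv.apply_symm_apply]
    exact pres_of_presB tables_check.2.1 (fun i => (tables_check.2.2.1 i).2) (fun i => rfl) _ _
  have hπ0 : π none = none := by
    refine e.injective ?_
    simp only [π, Equiv.permCongr_apply, Equiv.symm_symm, Equiv.apply_symm_apply]
    rw [show e none = 0 from Fin.ext he0, tables_check.2.2.2.2.2]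
  have hπs : sgn ⟨π, hπ⟩ = -1 := (Equiv.Perm.sign_permCongr e.symm oddPerm).trans oddPerm_sign
  obtain ⟨σ₀, hσ₀⟩ := toStab_bijective.2 ⟨⟨π, hπ⟩, hπ0⟩
  let θ : setSystemAut B →* ℤˣ := sgn.comp ((stabilizer (Aut B) (none : Option (α ⊕ ↥B))).subtype.comp toStab)
  have hθ : θ σ₀ = -1 := by
    show sgn (toStab σ₀).1 = -1
    rw [hσ₀]; exact hπs
  have hrange : ∀ {G : Type _} [Group G] (f : G →* ℤˣ) (g : G), f g = -1 → f.ker.index = 2 := by
    intro G _ f g hg
    rw [Subgroup.index_ker, MonoidHom.range_eq_top.2 (fun z => by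
      rcases Int.units_eq_one_or z with rfl | rfl
      · exact ⟨1, map_one f⟩
      · exact ⟨g, hg⟩), Subgroup.card_top]
    simp
  have hKidx : K.index = 2 := hrange sgn _ hπs
  have hKcard : Nat.card K = 44352000 := by
    have := K.card_mul_index
    rw [hKidx, card_aut hα hB] at this
    omega
  set S := θ.ker with hS
  have hSidx : S.index = 2 := hrange θ _ hθ
  have hSeq : S = H₀ := by
    rcases (inferInstance : (S.subgroupOf H₀).Normal).eq_bot_or_eq_top with h | h
    · exfalso
      have h1 := Subgroup.relIndex_dvd_index_of_normal S H₀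
      rw [show S.relIndex H₀ = Nat.card H₀ by rw [Subgroup.relIndex, h, Subgroup.index_bot], hSidx, hcard₀] at h1
      norm_num at h1
    · refine (Subgroup.eq_of_le_of_card_ge (Subgroup.subgroupOf_eq_top.1 h) ?_).symm
      have h1 := S.card_mul_index
      rw [hSidx, hcA] at h1
      omega
  have hScard : Nat.card S = 443520 := hSeq ▸ hcard₀
  have hSsimp : IsSimpleGroup S := hSeq ▸ hsimp
  have hmemK : ∀ σ : S, (toStab σ.1).1 ∈ K := fun σ => MonoidHom.mem_ker.1 σ.2
  let φ : S →* stabilizer K (none : Option (α ⊕ ↥B)) :=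
    { toFun := fun σ => ⟨⟨(toStab σ.1).1, hmemK σ⟩, (toStab σ.1).2⟩
      map_one' := Subtype.ext (Subtype.ext (congrArg (fun x : stabilizer (Aut B) (none : Option (α ⊕ ↥B)) => x.1) (map_one toStab)))
      map_mul' := fun a b => Subtype.ext (Subtype.ext (congrArg (fun x : stabilizer (Aut B) (none : Option (α ⊕ ↥B)) => x.1) (map_mul toStab a.1 b.1))) }
  have hφ : Function.Bijective φ := by
    refine ⟨fun a b h => Subtype.ext (toStab_bijective.1 (Subtype.ext (congrArg
      (fun x : stabilizer K (none : Option (α ⊕ ↥B)) => x.1.1) h))), fun k => ?_⟩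
    obtain ⟨σ, hσ⟩ := toStab_bijective.2 ⟨k.1.1, k.2⟩
    have hmem : σ ∈ S := by
      show sgn (toStab σ).1 = 1
      rw [hσ]
      exact k.1.2
    exact ⟨⟨σ, hmem⟩, Subtype.ext (Subtype.ext (congrArg (fun x : stabilizer (Aut B) (none : Option (α ⊕ ↥B)) => x.1) hσ))⟩
  have := hSsimp
  have hstabsimp : IsSimpleGroup (stabilizer K (none : Option (α ⊕ ↥B))) :=
    (MulEquiv.ofBijective φ hφ).symm.isSimpleGroup
  have hKtr : IsPretransitive K (Option (α ⊕ ↥B)) := by
    refine ⟨fun u v => ?_⟩
    have huniv : orbit K (none : Option (α ⊕ ↥B)) = Set.univ := by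
      refine Set.eq_of_subset_of_ncard_le (Set.subset_univ _) (le_of_eq ?_)
      rw [Set.ncard_univ, card_vertices hα hB, ← MulAction.index_stabilizer]
      have h := (stabilizer K (none : Option (α ⊕ ↥B))).card_mul_index
      rw [← Nat.card_congr (MulEquiv.ofBijective φ hφ).toEquiv, hScard, hKcard] at h
      omega
    obtain ⟨g, rfl⟩ := huniv.ge (Set.mem_univ u)
    obtain ⟨h, rfl⟩ := huniv.ge (Set.mem_univ v)
    exact ⟨h * g⁻¹, by rw [mul_smul, inv_smul_smul]⟩
  -- suborbits
  have hSpts : ∀ a a' : α, ∃ σ : S, σ.1.1 a = a' := by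
    have : FaithfulSMul (setSystemAut B) α :=
      ⟨fun {g h} hgh => Subtype.ext (Equiv.ext hgh)⟩
    have h2 : IsMultiplyPretransitive (setSystemAut B) α 2 :=
      have := h3; isMultiplyPretransitive_of_le (n := 3) (by norm_num) (by rw [Nat.card_eq_fintype_card, hα]; norm_num)
    have := isPreprimitive_of_is_two_pretransitive h2
    have hne : fixedPoints S α ≠ .univ := by
      intro h
      have hb : S = ⊥ := (Subgroup.eq_bot_iff_forall _).2 fun g hg =>
        eq_of_smul_eq_smul (α := α) fun a => (Set.eq_univ_iff_forall.1 h a ⟨g, hg⟩).trans (one_smul _ a).symm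
      rw [hb, Subgroup.card_bot] at hScard
      norm_num at hScard
    have := IsQuasiPreprimitive.isPretransitive_of_normal hne
    exact fun a a' => exists_smul_eq S a a'
  have hB77 : Nat.card ↥B = 77 := by
    rw [Nat.card_coe_set_eq]
    simpa [l622] using blocks_ncard hB l622 (by rw [hα]; exact l622_spec) (s := ∅) (by simp)
  have hSblk : ∀ b b' : ↥B, ∃ σ : S, blockPerm σ.1 b = b' := by
    intro b b'
    let act : MulAction (setSystemAut B) ↥B :=
      { smul := fun σ c => blockPerm σ c
        one_smul := fun c => Subtype.ext (one_smul (Equiv.Perm α) c.1)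
        mul_smul := fun σ τ c => Subtype.ext (mul_smul σ.1 τ.1 c.1) }
    have hAb : (stabilizer (setSystemAut B) b).index = 77 := by
      rw [MulAction.index_stabilizer, ← hB77, ← Set.ncard_univ]
      exact congrArg Set.ncard (Set.eq_univ_of_forall fun c => block_transitive hα hB b c)
    have hdiv : 2 * 77 ∣ (S ⊓ stabilizer (setSystemAut B) b).index :=
      (by norm_num : Nat.Coprime 2 77).mul_dvd_of_dvd_of_dvd
        (hSidx ▸ Subgroup.index_dvd_of_le inf_le_left) (hAb ▸ Subgroup.index_dvd_of_le inf_le_right)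
    have hrel : (stabilizer (setSystemAut B) b).relIndex S * 2 = (S ⊓ stabilizer (setSystemAut B) b).index := by
      rw [← hSidx, ← Subgroup.relIndex_mul_index (inf_le_left : S ⊓ stabilizer (setSystemAut B) b ≤ S),
        Subgroup.inf_relIndex_left]
    have horb : (orbit S b).ncard = (stabilizer (setSystemAut B) b).relIndex S := by
      rw [← MulAction.index_stabilizer]
      rfl
    have huniv : orbit S b = Set.univ := by
      refine Set.eq_of_subset_of_ncard_le (Set.subset_univ _) ?_
      rw [Set.ncard_univ, hB77, horb]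
      have : (S ⊓ stabilizer (setSystemAut B) b).index ≠ 0 := Subgroup.index_ne_zero_of_finite
      have := Nat.le_of_dvd (Nat.pos_of_ne_zero this) hdiv
      omega
    obtain ⟨σ, hσ⟩ := huniv.ge (Set.mem_univ b')
    exact ⟨σ, hσ⟩
  have hfaith : FaithfulSMul K (Option (α ⊕ ↥B)) := ⟨fun {g h} hgh => Subtype.ext (Subtype.ext (Equiv.ext hgh))⟩
  have hKsimp : IsSimpleGroup K := by
    refine isSimple_of_rank_three_100 (card_vertices hα hB) (none : Option (α ⊕ ↥B))
      (Set.range fun a => some (Sum.inl a)) (Set.range fun b => some (Sum.inr b)) ?_ ?_ ?_ (by simp) (by simp) ?_ ?_ ?_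
    · rw [Set.ncard_range_of_injective (fun a b h => by simpa using h), Nat.card_eq_fintype_card, hα]
    · rw [Set.ncard_range_of_injective (fun a b h => by simpa using h), hB77]
    · rintro (_ | a | b) <;> simp
    · rw [Set.disjoint_left]; rintro _ ⟨a, rfl⟩ ⟨b, hb⟩; simp at hb
    · rintro _ ⟨a, rfl⟩ _ ⟨a', rfl⟩
      obtain ⟨σ, hσ⟩ := hSpts a a'
      exact ⟨(φ σ).1, (φ σ).2, congrArg (fun z => some (Sum.inl z)) hσ⟩
    · rintro _ ⟨b, rfl⟩ _ ⟨b', rfl⟩
      obtain ⟨σ, hσ⟩ := hSblk b b'
      exact ⟨(φ σ).1, (φ σ).2, congrArg (fun z => some (Sum.inr z)) hσ⟩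
  let ε := (isoEquiv (pointBlockGraph B)).symm
  refine ⟨K.map ε.toMonoidHom, ?_, ?_⟩
  · exact (K.equivMapOfInjective ε.toMonoidHom ε.injective).symm.isSimpleGroup
  · rw [Subgroup.card_map_of_injective ε.injective, hKcard]

end Cfsg.Lib.Concrete.HSGraph
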