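import Cfsg.Agent.Lib.Concrete.SrgHundred
import Cfsg.Agent.Lib.Concrete.HSGraph
import Cfsg.Agent.S0410

/-!
Rank three groups of order 44352000 on a hundred points with suborbits 1, 22, 77 are isomorphic: each is the simple
subgroup of index two in the automorphism group of the graph on the suborbit of length 22.
-/

set_option autoImplicit false
set_option linter.unusedSectionVars false

namespace Cfsg.Lib.Concrete.HSRankThree

open MulAction Finset

variable {Ω : Type*} [Fintype Ω] [DecidableEq Ω]

/-- The orbital of a pair. -/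
def Rel (G : Subgroup (Equiv.Perm Ω)) (a b x y : Ω) : Prop := ∃ g ∈ G, g a = x ∧ g b = y

/-- The hypotheses on a rank three group. -/
structure Data (G : Subgroup (Equiv.Perm Ω)) (a b c : Ω) : Prop where
  hcard : Fintype.card Ω = 100
  trans : ∀ x : Ω, ∃ g ∈ G, g a = x
  orbB : (orbit (stabilizer G a) b).ncard = 22
  orbC : (orbit (stabilizer G a) c).ncard = 77
  order : Nat.card G = 44352000

namespace Data

variable {G : Subgroup (Equiv.Perm Ω)} {a b c : Ω} (h : Data G a b c)
include h

theorem orbit_iff (d y : Ω) : y ∈ orbit (stabilizer G a) d ↔ Rel G a d a y := by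
  constructor
  · rintro ⟨g, rfl⟩
    exact ⟨g.1.1, g.1.2, g.2, rfl⟩
  · rintro ⟨g, hg, h1, rfl⟩
    exact ⟨⟨⟨g, hg⟩, h1⟩, rfl⟩

theorem rel_smul (d : Ω) {g : Equiv.Perm Ω} (hg : g ∈ G) (x y : Ω) : Rel G a d (g x) (g y) ↔ Rel G a d x y := by
  constructor
  · rintro ⟨k, hk, h1, h2⟩
    exact ⟨g⁻¹ * k, mul_mem (inv_mem hg) hk, by simp [h1], by simp [h2]⟩
  · rintro ⟨k, hk, rfl, rfl⟩
    exact ⟨g * k, mul_mem hg hk, rfl, rfl⟩

theorem cases (y : Ω) : y = a ∨ Rel G a b a y ∨ Rel G a c a y := by
  by_contra hy
  push_neg at hy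
  obtain ⟨h0, h1, h2⟩ := hy
  have hdis : Disjoint (orbit (stabilizer G a) b) (orbit (stabilizer G a) c) := by
    refine Set.disjoint_left.2 fun z hz hz' => ?_
    have e := (orbit_eq_iff.2 hz).symm.trans (orbit_eq_iff.2 hz')
    have := congrArg Set.ncard e
    rw [h.orbB, h.orbC] at this
    omega
  have hsing : ∀ d, a ∈ orbit (stabilizer G a) d → (orbit (stabilizer G a) d).ncard = 1 := fun d hd => by
    rw [← orbit_eq_iff.2 hd, Set.ncard_eq_one]
    refine ⟨a, Set.eq_singleton_iff_unique_mem.2 ⟨mem_orbit_self a, ?_⟩⟩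
    rintro _ ⟨g, rfl⟩
    exact g.2
  have hsub : orbit (stabilizer G a) b ∪ orbit (stabilizer G a) c ⊆ (Set.univ : Set Ω) \ {a, y} := by
    intro z hz
    refine ⟨Set.mem_univ z, ?_⟩
    rintro (rfl | rfl) <;> rcases hz with hz | hz
    · have := hsing b hz; rw [h.orbB] at this; omega
    · have := hsing c hz; rw [h.orbC] at this; omega
    · exact h1 ((h.orbit_iff b _).1 hz)
    · exact h2 ((h.orbit_iff c _).1 hz)
  have hle := Set.ncard_le_ncard hsub
  rw [Set.ncard_union_eq hdis, h.orbB, h.orbC, Set.ncard_sdiff (Set.subset_univ _), Set.ncard_univ,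
    Nat.card_eq_fintype_card, h.hcard, Set.ncard_pair (Ne.symm h0)] at hle
  omega

theorem ne_of_rel {x y : Ω} (hr : Rel G a b x y) : x ≠ y := by
  obtain ⟨g, -, rfl, rfl⟩ := hr
  intro e
  have hb : (orbit (stabilizer G a) b).ncard = 1 := by
    rw [← g.injective e, Set.ncard_eq_one]
    refine ⟨a, Set.eq_singleton_iff_unique_mem.2 ⟨mem_orbit_self a, ?_⟩⟩
    rintro _ ⟨k, rfl⟩
    exact k.2
  rw [h.orbB] at hb
  omega

open Classical in
theorem card_out (x : Ω) : (univ.filter fun y => Rel G a b x y).card = 22 := by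
  obtain ⟨g, hg, rfl⟩ := h.trans x
  rw [← h.orbB, ← Set.ncard_coe_finset, ← Set.ncard_image_of_injective (orbit (stabilizer G a) b) g.injective]
  congr 1
  ext y
  simp only [coe_filter, mem_univ, true_and, Set.mem_setOf_eq, Set.mem_image, h.orbit_iff]
  constructor
  · intro hr
    exact ⟨g⁻¹ y, (h.rel_smul b hg a (g⁻¹ y)).1 (by simpa using hr), by simp⟩
  · rintro ⟨z, hz, rfl⟩
    exact (h.rel_smul b hg a z).2 hz

open Classical in
theorem card_in : (univ.filter fun y => Rel G a b y a).card = 22 := by
  have hconst : ∀ x, (univ.filter fun y => Rel G a b y x).card = (univ.filter fun y => Rel G a b y a).card := by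
    intro x
    obtain ⟨g, hg, rfl⟩ := h.trans x
    refine (Finset.card_bij (fun y _ => g y) ?_ ?_ ?_).symm
    · intro y hy
      simp only [mem_filter, mem_univ, true_and] at hy ⊢
      exact (h.rel_smul b hg y a).2 hy
    · intro y _ z _ e; exact g.injective e
    · intro y hy
      simp only [mem_filter, mem_univ, true_and] at hy ⊢
      exact ⟨g⁻¹ y, (h.rel_smul b hg (g⁻¹ y) a).1 (by simpa using hy), by simp⟩
  have hsum : ∑ x, (univ.filter fun y => Rel G a b y x).card = ∑ y, (univ.filter fun x => Rel G a b y x).card := by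
    simp only [card_filter]
    exact Finset.sum_comm
  simp only [hconst, h.card_out, sum_const, card_univ, h.hcard, smul_eq_mul] at hsum
  omega

open Classical in
theorem symm {x y : Ω} (hr : Rel G a b x y) : Rel G a b y x := by
  set S : Set Ω := {y | Rel G a b y a} with hS
  have hScard : S.ncard = 22 := by
    rw [← h.card_in, ← Set.ncard_coe_finset]
    simp [hS]
  have hinv : ∀ z ∈ S, orbit (stabilizer G a) z ⊆ S := by
    rintro z hz _ ⟨k, rfl⟩
    have := (h.rel_smul b k.1.2 z a).2 hz
    rwa [show (k.1 : Equiv.Perm Ω) a = a from k.2] at this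
  have hbS : b ∈ S := by
    obtain ⟨z, hz⟩ := Set.nonempty_of_ncard_ne_zero (show S.ncard ≠ 0 by omega)
    rcases h.cases z with rfl | h1 | h1
    · exact absurd rfl (h.ne_of_rel hz)
    · have e := orbit_eq_iff.2 ((h.orbit_iff b z).2 h1)
      exact hinv z hz (by rw [e]; exact mem_orbit_self b)
    · have hle := Set.ncard_le_ncard (hinv z hz)
      rw [orbit_eq_iff.2 ((h.orbit_iff c z).2 h1), h.orbC, hScard] at hle
      omega
  have heq : orbit (stabilizer G a) b = S :=
    Set.eq_of_subset_of_ncard_le (hinv b hbS) (by rw [h.orbB, hScard])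
  obtain ⟨g, hg, rfl, rfl⟩ := hr
  have hab : Rel G a b b a := show b ∈ S by rw [← heq]; exact mem_orbit_self b
  exact (h.rel_smul b hg b a).2 hab

/-- The graph of the suborbit of length twenty-two. -/
def graph : SimpleGraph Ω where
  Adj x y := Rel G a b x y
  symm := ⟨fun _ _ e => h.symm e⟩
  loopless := ⟨fun _ e => h.ne_of_rel e rfl⟩

theorem graph_adj (x y : Ω) : h.graph.Adj x y ↔ Rel G a b x y := Iff.rfl

theorem le_aut : G ≤ HSGraph.autPerm h.graph := fun _ hg u v => h.rel_smul b hg u v

open Classical in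
theorem card_common {d x y : Ω} (hr : Rel G a d x y) :
    (univ.filter fun z => Rel G a b x z ∧ Rel G a b y z).card =
      (univ.filter fun z => Rel G a b a z ∧ Rel G a b d z).card := by
  obtain ⟨g, hg, rfl, rfl⟩ := hr
  refine (Finset.card_bij (fun z _ => g z) ?_ ?_ ?_).symm
  · intro z hz
    simp only [mem_filter, mem_univ, true_and] at hz ⊢
    exact ⟨(h.rel_smul b hg a z).2 hz.1, (h.rel_smul b hg d z).2 hz.2⟩
  · intro z _ w _ e; exact g.injective e
  · intro z hz
    simp only [mem_filter, mem_univ, true_and] at hz ⊢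
    exact ⟨g⁻¹ z, ⟨(h.rel_smul b hg a _).1 (by simpa using hz.1), (h.rel_smul b hg d _).1 (by simpa using hz.2)⟩,
      by simp⟩

open Classical in
theorem count_paths : 22 * (21 - (univ.filter fun z => Rel G a b a z ∧ Rel G a b b z).card) =
    77 * (univ.filter fun z => Rel G a b a z ∧ Rel G a b c z).card := by
  set lam := (univ.filter fun z => Rel G a b a z ∧ Rel G a b b z).card
  set N := univ.filter fun y => Rel G a b a y
  set C := univ.filter fun y => Rel G a c a y
  have hC : C.card = 77 := by
    rw [← h.orbC, ← Set.ncard_coe_finset]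
    congr 1
    ext z
    simp [C, h.orbit_iff]
  have hN : N.card = 22 := h.card_out a
  have h1 : ∀ y ∈ N, (C.filter fun z => Rel G a b y z).card = 21 - lam := by
    intro y hy
    simp only [N, mem_filter, mem_univ, true_and] at hy
    have hsplit : (univ.filter fun z => Rel G a b y z) =
        insert a ((univ.filter fun z => Rel G a b a z ∧ Rel G a b y z) ∪ C.filter fun z => Rel G a b y z) := by
      ext z
      simp only [C, mem_filter, mem_univ, true_and, mem_insert, mem_union]
      constructor
      · intro hz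
        rcases h.cases z with e | e | e
        · exact Or.inl e
        · exact Or.inr (Or.inl ⟨e, hz⟩)
        · exact Or.inr (Or.inr ⟨e, hz⟩)
      · rintro (rfl | ⟨-, hz⟩ | ⟨-, hz⟩)
        · exact h.symm hy
        · exact hz
        · exact hz
    have hdis : Disjoint (univ.filter fun z => Rel G a b a z ∧ Rel G a b y z) (C.filter fun z => Rel G a b y z) := by
      rw [Finset.disjoint_left]
      intro z hz hz'
      simp only [C, mem_filter, mem_univ, true_and] at hz hz'
      have e := (orbit_eq_iff.2 ((h.orbit_iff b z).2 hz.1)).symm.trans (orbit_eq_iff.2 ((h.orbit_iff c z).2 hz'.1))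
      have := congrArg Set.ncard e
      rw [h.orbB, h.orbC] at this
      omega
    have hna : a ∉ (univ.filter fun z => Rel G a b a z ∧ Rel G a b y z) ∪ C.filter fun z => Rel G a b y z := by
      simp only [C, mem_filter, mem_univ, true_and, mem_union]
      rintro (⟨e, -⟩ | ⟨e, -⟩)
      · exact h.ne_of_rel e rfl
      · have hsing : orbit (stabilizer G a) a = {a} := by
          refine Set.eq_singleton_iff_unique_mem.2 ⟨mem_orbit_self a, ?_⟩
          rintro _ ⟨k, rfl⟩
          exact k.2
        have e' := (h.orbit_iff c a).2 e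
        have := congrArg Set.ncard (orbit_eq_iff.2 e')
        rw [hsing, Set.ncard_singleton, h.orbC] at this
        omega
    have hcard := congrArg Finset.card hsplit
    rw [h.card_out, card_insert_of_notMem hna, card_union_of_disjoint hdis, h.card_common hy] at hcard
    omega
  have h2 : ∀ z ∈ C, (N.filter fun y => Rel G a b y z).card =
      (univ.filter fun z => Rel G a b a z ∧ Rel G a b c z).card := by
    intro z hz
    simp only [C, mem_filter, mem_univ, true_and] at hz
    rw [← h.card_common hz]
    congr 1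
    ext y
    simp only [N, mem_filter, mem_univ, true_and]
    exact and_congr_right fun _ => ⟨h.symm, h.symm⟩
  have hsum : ∑ y ∈ N, (C.filter fun z => Rel G a b y z).card = ∑ z ∈ C, (N.filter fun y => Rel G a b y z).card := by
    simp only [card_filter]
    exact Finset.sum_comm
  rw [sum_congr rfl h1, sum_congr rfl h2, sum_const, sum_const, hN, hC, smul_eq_mul, smul_eq_mul] at hsum
  exact hsum

open Classical in
theorem common_le : (univ.filter fun z => Rel G a b a z ∧ Rel G a b b z).card ≤ 21 := by
  have hab : Rel G a b a b := ⟨1, one_mem _, rfl, rfl⟩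
  have hb : b ∈ univ.filter fun z => Rel G a b a z := by simp [hab]
  have hle : (univ.filter fun z => Rel G a b a z ∧ Rel G a b b z).card ≤
      ((univ.filter fun z => Rel G a b a z).erase b).card := by
    refine card_le_card fun z hz => ?_
    simp only [mem_filter, mem_univ, true_and] at hz
    simp only [mem_erase, mem_filter, mem_univ, true_and]
    exact ⟨(h.ne_of_rel hz.2).symm, hz.1⟩
  rw [card_erase_of_mem hb, h.card_out] at hle
  exact hle

open Classical in
theorem three_dvd : 3 ∣ 2200 * (univ.filter fun z => Rel G a b a z ∧ Rel G a b b z).card := by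
  set lam := (univ.filter fun z => Rel G a b a z ∧ Rel G a b b z).card
  let T := {t : Ω × Ω × Ω // Rel G a b t.1 t.2.1 ∧ Rel G a b t.2.1 t.2.2 ∧ Rel G a b t.2.2 t.1}
  have hT : Fintype.card T = 2200 * lam := by
    let e : T ≃ Σ p : {p : Ω × Ω // Rel G a b p.1 p.2}, {z : Ω // Rel G a b p.1.1 z ∧ Rel G a b p.1.2 z} :=
      { toFun := fun t => ⟨⟨(t.1.1, t.1.2.1), t.2.1⟩, ⟨t.1.2.2, h.symm t.2.2.2, t.2.2.1⟩⟩
        invFun := fun q => ⟨(q.1.1.1, q.1.1.2, q.2.1), q.1.2, q.2.2.2, h.symm q.2.2.1⟩
        left_inv := fun t => rfl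
        right_inv := fun q => rfl }
    rw [Fintype.card_congr e, Fintype.card_sigma]
    have hz : ∀ p : {p : Ω × Ω // Rel G a b p.1 p.2},
        Fintype.card {z : Ω // Rel G a b p.1.1 z ∧ Rel G a b p.1.2 z} = lam := fun p => by
      rw [Fintype.card_subtype]; exact h.card_common p.2
    rw [sum_congr rfl fun p _ => hz p, sum_const, card_univ, smul_eq_mul]
    congr 1
    let e2 : {p : Ω × Ω // Rel G a b p.1 p.2} ≃ Σ x : Ω, {y : Ω // Rel G a b x y} :=
      { toFun := fun p => ⟨p.1.1, p.1.2, p.2⟩
        invFun := fun q => ⟨(q.1, q.2.1), q.2.2⟩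
        left_inv := fun p => rfl
        right_inv := fun q => rfl }
    rw [Fintype.card_congr e2, Fintype.card_sigma]
    have hy : ∀ x : Ω, Fintype.card {y : Ω // Rel G a b x y} = 22 := fun x => by
      rw [Fintype.card_subtype]; exact h.card_out x
    rw [sum_congr rfl fun x _ => hy x, sum_const, card_univ, h.hcard, smul_eq_mul]
  let σ : Equiv.Perm T :=
    { toFun := fun t => ⟨(t.1.2.1, t.1.2.2, t.1.1), t.2.2.1, t.2.2.2, t.2.1⟩
      invFun := fun t => ⟨(t.1.2.2, t.1.1, t.1.2.1), t.2.2.2, t.2.1, t.2.2.1⟩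
      left_inv := fun t => rfl
      right_inv := fun t => rfl }
  by_contra hno
  haveI : Fact (Nat.Prime 3) := ⟨Nat.prime_three⟩
  obtain ⟨t, ht⟩ := Equiv.Perm.exists_fixed_point_of_prime (p := 3) (n := 1) (by rw [hT]; exact hno)
    (σ := σ) (Equiv.ext fun t => rfl)
  exact h.ne_of_rel t.2.1 (congrArg (fun s : T => s.1.1) ht).symm

open Classical in
theorem common_ne : (univ.filter fun z => Rel G a b a z ∧ Rel G a b b z).card ≠ 21 := by
  intro hl
  set f : Ω → Finset Ω := fun x => insert x (univ.filter fun y => Rel G a b x y) with hf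
  have hfc : ∀ x, (f x).card = 23 := fun x => by
    rw [hf, card_insert_of_notMem (by simpa using fun e => h.ne_of_rel e rfl), h.card_out]
  have hsub : ∀ {x y}, Rel G a b x y → f x ⊆ f y := fun {x y} hxy z hz => by
    simp only [hf, mem_insert, mem_filter, mem_univ, true_and] at hz ⊢
    rcases hz with rfl | hz
    · exact Or.inr (h.symm hxy)
    by_cases hzy : z = y
    · exact Or.inl hzy
    right
    have hsub2 : (univ.filter fun w => Rel G a b x w ∧ Rel G a b y w) ⊆ (univ.filter fun w => Rel G a b x w).erase y := by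
      intro w hw
      simp only [mem_filter, mem_univ, true_and] at hw
      simp only [mem_erase, mem_filter, mem_univ, true_and]
      exact ⟨(h.ne_of_rel hw.2).symm, hw.1⟩
    have heq := Finset.eq_of_subset_of_card_le hsub2 (by
      rw [card_erase_of_mem (by simp [hxy]), h.card_out, h.card_common hxy, hl])
    have hzmem : z ∈ (univ.filter fun w => Rel G a b x w).erase y := by simp [hzy, hz]
    rw [← heq] at hzmem
    simp only [mem_filter, mem_univ, true_and] at hzmem
    exact hzmem.2
  have hfeq : ∀ {x y}, y ∈ f x → f y = f x := fun {x y} hy => by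
    simp only [hf, mem_insert, mem_filter, mem_univ, true_and] at hy
    rcases hy with rfl | hy
    · rfl
    · exact le_antisymm (hsub (h.symm hy)) (hsub hy)
  have hcount := Finset.card_eq_sum_card_image f (univ : Finset Ω)
  have h23 : ∀ B ∈ univ.image f, (univ.filter fun y => f y = B).card = 23 := by
    intro B hB
    obtain ⟨x, -, rfl⟩ := mem_image.1 hB
    rw [← hfc x]
    congr 1
    ext y
    simp only [mem_filter, mem_univ, true_and]
    exact ⟨fun e => e ▸ mem_insert_self _ _, hfeq⟩
  rw [sum_congr rfl h23, sum_const, card_univ, h.hcard, smul_eq_mul] at hcount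
  omega

open Classical in
theorem lam_zero : (univ.filter fun z => Rel G a b a z ∧ Rel G a b b z).card = 0 := by
  have h1 := h.common_le
  have h2 := h.three_dvd
  have h3 := h.common_ne
  have h4 := h.count_paths
  omega

open Classical in
theorem srg : h.graph.IsSRGWith 100 22 0 6 where
  card := h.hcard
  regular x := by
    rw [← SimpleGraph.card_neighborFinset_eq_degree, ← h.card_out x]
    congr 1
    ext y
    simp [SimpleGraph.mem_neighborFinset, h.graph_adj]
  of_adj x y hxy := by
    rw [← Set.toFinset_card, ← h.lam_zero, ← h.card_common hxy]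
    congr 1
    ext z
    simp [SimpleGraph.mem_commonNeighbors, h.graph_adj]
  of_not_adj x y hne hxy := by
    obtain ⟨g, hg, rfl⟩ := h.trans x
    have hc : Rel G a c (g a) y := by
      rcases h.cases (g⁻¹ y) with e | e | e
      · exact absurd (by rw [← e]; simp) hne
      · exact absurd (show Rel G a b (g a) y by simpa using (h.rel_smul b hg a _).2 e) hxy
      · simpa using (h.rel_smul c hg a _).2 e
    have h4 := h.count_paths
    rw [h.lam_zero] at h4
    have h6 : (univ.filter fun z => Rel G a b a z ∧ Rel G a b c z).card = 6 := by omega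
    rw [← Set.toFinset_card, ← h6, ← h.card_common hc]
    congr 1
    ext z
    simp [SimpleGraph.mem_commonNeighbors, h.graph_adj]

end Data

theorem exists_core {α : Type*} [Fintype α] (hα : Fintype.card α = 22) {B : Set (Finset α)}
    (hB : IsSteinerSystem 3 6 B) :
    ∃ K : Subgroup ↥(HSGraph.autPerm (pointBlockGraph B)), IsSimpleGroup K ∧ Nat.card K = 44352000 := by
  classical
  obtain ⟨H, hs, hc⟩ := HSGraph.exists_hs hα hB
  refine ⟨H.map (HSGraph.isoEquiv _).toMonoidHom, ?_, ?_⟩
  · haveI := hs
    exact ((HSGraph.isoEquiv (pointBlockGraph B)).subgroupMap H).symm.isSimpleGroup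
  · exact (Nat.card_congr ((HSGraph.isoEquiv (pointBlockGraph B)).subgroupMap H).toEquiv).symm.trans hc

/-- A group of automorphisms of order 44352000 is the simple subgroup of index two. -/
theorem equiv_core {α : Type*} [Fintype α] [DecidableEq α] (hα : Fintype.card α = 22) {B : Set (Finset α)}
    (hB : IsSteinerSystem 3 6 B) {K : Subgroup ↥(HSGraph.autPerm (pointBlockGraph B))} (hKs : IsSimpleGroup K)
    (hKc : Nat.card K = 44352000) {V : Type*} (Γ : SimpleGraph V) (f : pointBlockGraph B ≃g Γ)
    (H : Subgroup (Equiv.Perm V)) (hH : H ≤ HSGraph.autPerm Γ) (hHc : Nat.card H = 44352000) :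
    Nonempty (H ≃* K) := by
  classical
  let A := HSGraph.autPerm (pointBlockGraph B)
  let η : Equiv.Perm V ≃* Equiv.Perm (Option (α ⊕ ↥B)) := f.toEquiv.symm.permCongrHom
  have hle : H.map η.toMonoidHom ≤ A := by
    rintro _ ⟨g, hg, rfl⟩ u v
    simp only [η, MulEquiv.coe_toMonoidHom, Equiv.permCongrHom, MulEquiv.coe_mk, Equiv.permCongr_apply,
      Equiv.symm_symm]
    rw [← f.map_rel_iff', ← f.map_rel_iff' (a := u)]
    simp only [Equiv.apply_symm_apply]
    exact hH hg _ _
  set L : Subgroup A := (H.map η.toMonoidHom).subgroupOf A with hL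
  have eL : H ≃* L := (η.subgroupMap H).trans (Subgroup.subgroupOfEquivOfLe hle).symm
  have hLc : Nat.card L = 44352000 := by rw [← Nat.card_congr eL.toEquiv, hHc]
  have hA : Nat.card A = 88704000 := HSGraph.card_aut hα hB
  have hidx : L.index = 2 := by
    have := L.card_mul_index
    rw [hLc, hA] at this
    omega
  haveI : L.Normal := Subgroup.normal_of_index_eq_two hidx
  haveI := hKs
  have hKL : K ≤ L := by
    rcases (inferInstance : (L.subgroupOf K).Normal).eq_bot_or_eq_top with e | e
    · exfalso
      have h1 := Subgroup.relIndex_dvd_index_of_normal L K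
      rw [show L.relIndex K = Nat.card K by rw [Subgroup.relIndex, e, Subgroup.index_bot], hidx, hKc] at h1
      norm_num at h1
    · exact Subgroup.subgroupOf_eq_top.1 e
  haveI : Finite A := Nat.finite_of_card_ne_zero (by rw [hA]; norm_num)
  have hKe : K = L := Subgroup.eq_of_le_of_card_ge hKL (by rw [hLc, hKc])
  exact ⟨eL.trans (MulEquiv.subgroupCongr hKe.symm)⟩

variable {Ω' : Type*} [Fintype Ω'] [DecidableEq Ω']

/-- Two such groups are isomorphic. -/
theorem nonempty_equiv {G : Subgroup (Equiv.Perm Ω)} {a b c : Ω} (h : Data G a b c)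
    {G' : Subgroup (Equiv.Perm Ω')} {a' b' c' : Ω'} (h' : Data G' a' b' c') : Nonempty (G ≃* G') := by
  classical
  obtain ⟨φ⟩ := SrgHundred.exists_iso h.srg a
  obtain ⟨φ'⟩ := SrgHundred.exists_iso h'.srg a'
  have hα : Fintype.card (SrgHundred.Pt h.graph a) = 22 := SrgHundred.card_pt h.srg a
  have hB := SrgHundred.steiner h.srg a
  obtain ⟨ψ⟩ := SrgHundred.iso_of_setSystemIso
    (Cfsg.Agent.S0410.result hα (SrgHundred.card_pt h'.srg a') hB (SrgHundred.steiner h'.srg a'))
  obtain ⟨K, hKs, hKc⟩ := exists_core hα hB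
  obtain ⟨e1⟩ := equiv_core hα hB hKs hKc h.graph φ G h.le_aut h.order
  obtain ⟨e2⟩ := equiv_core hα hB hKs hKc h'.graph (φ'.comp ψ) G' h'.le_aut h'.order
  exact ⟨e1.trans e2.symm⟩

end Cfsg.Lib.Concrete.HSRankThree
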