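import Cfsg.Prelude.Def_SporadicCombinatorics

/-!
The hexacode: words as six digits in base 4, weights, and monomial automorphisms.
-/

set_option autoImplicit false

namespace Cfsg.Lib.Concrete.Hexa

open Finset

/-- Multiplication of the four elements 0, 1, ω, ω² (numbered 0, 1, 2, 3). -/
def fmul (a b : ℕ) : ℕ := if a = 0 ∨ b = 0 then 0 else (a + b - 2) % 3 + 1

/-- The digit at a position. -/
def hget (n k : ℕ) : ℕ := Nat.land (Nat.shiftRight n (Nat.mul 2 k)) 3

/-- The number with the given six digits. -/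
def hnum (f : ℕ → ℕ) : ℕ := f 0 + 4 * (f 1 + 4 * (f 2 + 4 * (f 3 + 4 * (f 4 + 4 * f 5))))

theorem hget_hnum (f : ℕ → ℕ) (hf : ∀ k < 6, f k < 4) : ∀ k < 6, hget (hnum f) k = f k := by
  intro k hk
  have h0 := hf 0 (by norm_num)
  have h1 := hf 1 (by norm_num)
  have h2 := hf 2 (by norm_num)
  have h3 := hf 3 (by norm_num)
  have h4 := hf 4 (by norm_num)
  have h5 := hf 5 (by norm_num)
  show (hnum f >>> (2 * k)) &&& 3 = f k
  rw [show (3 : ℕ) = 2 ^ 2 - 1 from rfl, Nat.and_two_pow_sub_one_eq_mod, Nat.shiftRight_eq_div_pow, hnum]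
  interval_cases k <;> norm_num <;> omega

theorem hnum_lt (f : ℕ → ℕ) (hf : ∀ k < 6, f k < 4) : hnum f < 4096 := by
  have h0 := hf 0 (by norm_num)
  have h1 := hf 1 (by norm_num)
  have h2 := hf 2 (by norm_num)
  have h3 := hf 3 (by norm_num)
  have h4 := hf 4 (by norm_num)
  have h5 := hf 5 (by norm_num)
  rw [hnum]; omega

theorem num_ext : ((List.range 4096).all fun n => Nat.beq (hnum (hget n)) n) = true := by decide +kernel

/-- The three generators. -/
def gen1 : ℕ := hnum fun k => [2, 3, 3, 2, 3, 2].getD k 0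
/-- The second generator. -/
def gen2 : ℕ := hnum fun k => [3, 2, 2, 3, 3, 2].getD k 0
/-- The third generator. -/
def gen3 : ℕ := hnum fun k => [3, 2, 3, 2, 2, 3].getD k 0

/-- Scalar multiple. -/
def smulN (a n : ℕ) : ℕ := hnum fun k => fmul a (hget n k)

/-- The combination with three coefficients. -/
def combN (a b c : ℕ) : ℕ := smulN a gen1 ^^^ smulN b gen2 ^^^ smulN c gen3

/-- The code. -/
def hlist : List ℕ :=
  [0, 1, 2, 3].flatMap fun a => [0, 1, 2, 3].flatMap fun b => [0, 1, 2, 3].map fun c => combN a b c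

/-- The image of a word under a monomial map given by the inverse permutation and the multipliers. -/
def monoN (inv : List ℕ) (c n : ℕ) : ℕ := hnum fun k => fmul (hget c k) (hget n (inv.getD k 0))

/-- The multiplier lists with six nonzero digits. -/
def units6 : List ℕ := (List.range 4096).filter fun c => [0, 1, 2, 3, 4, 5].all fun k => !(Nat.beq (hget c k) 0)

/-- Whether the monomial map preserves the code. -/
def okMono (inv : List ℕ) (c : ℕ) : Bool := [gen1, gen2, gen3].all fun g => hlist.any (Nat.beq (monoN inv c g))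

variable {F : Type*} [Field F]

/-- The field element of a digit. -/
def el (ω : F) : ℕ → F
  | 0 => 0
  | 1 => 1
  | 2 => ω
  | _ => ω ^ 2

theorem omega_facts [Fintype F] (hF : Fintype.card F = 4) {ω : F} (hω : ω ^ 2 + ω + 1 = 0) :
    (2 : F) = 0 ∧ ω ≠ 0 ∧ ω ≠ 1 ∧ ω ^ 3 = 1 := by
  have h4 : ((4 : ℕ) : F) = 0 := by rw [← hF]; exact FiniteField.cast_card_eq_zero F
  have h2 : (2 : F) = 0 := by
    have : (2 : F) * 2 = 0 := by rw [← h4]; norm_num
    simpa using this
  refine ⟨h2, ?_, ?_, by linear_combination (ω - 1) * hω⟩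
  · rintro rfl; simp at hω
  · rintro rfl
    apply one_ne_zero (α := F)
    linear_combination hω - h2

theorem el_injOn [Fintype F] (hF : Fintype.card F = 4) {ω : F} (hω : ω ^ 2 + ω + 1 = 0) {a b : ℕ} (ha : a < 4) (hb : b < 4)
    (h : el ω a = el ω b) : a = b := by
  obtain ⟨h2, h0, h1, h3⟩ := omega_facts hF hω
  have hsq1 : ω ^ 2 ≠ 1 := fun e => h1 (by linear_combination h3 - ω * e)
  have hsqw : ω ^ 2 ≠ ω := fun e => h1 (mul_left_cancel₀ h0 (by linear_combination e))
  have n01 : (0 : F) ≠ 1 := zero_ne_one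
  have n0w : (0 : F) ≠ ω := Ne.symm h0
  have n0q : (0 : F) ≠ ω ^ 2 := (pow_ne_zero 2 h0).symm
  have n1w : (1 : F) ≠ ω := Ne.symm h1
  have n1q : (1 : F) ≠ ω ^ 2 := hsq1.symm
  have nwq : ω ≠ ω ^ 2 := hsqw.symm
  interval_cases a <;> interval_cases b <;> simp only [el] at h <;>
    first
    | rfl
    | exact absurd h n01 | exact absurd h.symm n01 | exact absurd h n0w | exact absurd h.symm n0w
    | exact absurd h n0q | exact absurd h.symm n0q | exact absurd h n1w | exact absurd h.symm n1w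
    | exact absurd h n1q | exact absurd h.symm n1q | exact absurd h nwq | exact absurd h.symm nwq

theorem el_mul {ω : F} (h3 : ω ^ 3 = 1) {a b : ℕ} (ha : a < 4) (hb : b < 4) : el ω (fmul a b) = el ω a * el ω b := by
  interval_cases a <;> interval_cases b <;> simp [el, fmul] <;>
    first | ring1 | linear_combination h3 | linear_combination -h3 | linear_combination ω * h3 | linear_combination -ω * h3

theorem el_add {ω : F} (h2 : (2 : F) = 0) (hω : ω ^ 2 + ω + 1 = 0) {a b : ℕ} (ha : a < 4) (hb : b < 4) :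
    el ω (a ^^^ b) = el ω a + el ω b := by
  interval_cases a <;> interval_cases b <;> simp [el] <;>
    first
    | ring1
    | linear_combination h2 - hω
    | linear_combination hω - h2
    | linear_combination -hω + (ω + 1) * h2
    | linear_combination -hω + (ω ^ 2 + ω) * h2
    | linear_combination -hω + (ω ^ 2 + 1) * h2
    | linear_combination hω - (ω + 1) * h2
    | linear_combination hω - (ω ^ 2 + ω) * h2
    | linear_combination hω - (ω ^ 2 + 1) * h2
    | linear_combination -h2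
    | linear_combination -ω * h2
    | linear_combination -ω ^ 2 * h2

/-- The word of a number. -/
def hword (ω : F) (n : ℕ) : Fin 6 → F := fun i => el ω (hget n i.val)

theorem hget_lt (n k : ℕ) : hget n k < 4 := Nat.lt_succ_of_le Nat.and_le_right

theorem hget_xor (a b k : ℕ) : hget (a ^^^ b) k = hget a k ^^^ hget b k := by
  show ((a ^^^ b) >>> (2 * k)) &&& 3 = ((a >>> (2 * k)) &&& 3) ^^^ ((b >>> (2 * k)) &&& 3)
  rw [Nat.shiftRight_xor_distrib, Nat.and_xor_distrib_right]

theorem fmul_lt (a b : ℕ) : fmul a b < 4 := by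
  unfold fmul; split <;> omega

variable [Fintype F] (hF : Fintype.card F = 4) {ω : F} (hω : ω ^ 2 + ω + 1 = 0)
include hF hω

theorem el_surjective (x : F) : ∃ a < 4, el ω a = x := by
  classical
  have hinj : Function.Injective fun a : Fin 4 => el ω a.val := fun a b h => Fin.ext (el_injOn hF hω a.2 b.2 h)
  obtain ⟨a, ha⟩ := ((Fintype.bijective_iff_injective_and_card _).2 ⟨hinj, by simp [hF]⟩).2 x
  exact ⟨a.val, a.2, ha⟩

theorem hword_injOn {a b : ℕ} (ha : a < 4096) (hb : b < 4096) (h : hword ω a = hword ω b) : a = b := by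
  have hn := List.all_eq_true.1 num_ext a (List.mem_range.2 ha)
  have hm := List.all_eq_true.1 num_ext b (List.mem_range.2 hb)
  rw [Nat.beq_eq] at hn hm
  rw [← hn, ← hm]
  have key : ∀ k < 6, hget a k = hget b k := fun k hk =>
    el_injOn hF hω (hget_lt a k) (hget_lt b k) (congrFun h ⟨k, hk⟩)
  simp only [hnum, key 0 (by norm_num), key 1 (by norm_num), key 2 (by norm_num), key 3 (by norm_num),
    key 4 (by norm_num), key 5 (by norm_num)]

theorem hword_smul {a : ℕ} (ha : a < 4) (n : ℕ) : hword ω (smulN a n) = el ω a • hword ω n := by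
  funext i
  show el ω _ = el ω a * el ω _
  rw [smulN, hget_hnum _ (fun k _ => fmul_lt _ _) _ i.2, el_mul (omega_facts hF hω).2.2.2 ha (hget_lt n i.val)]

theorem hword_comb {a b c : ℕ} (ha : a < 4) (hb : b < 4) (hc : c < 4) :
    hword ω (combN a b c) = el ω a • hword ω gen1 + el ω b • hword ω gen2 + el ω c • hword ω gen3 := by
  rw [← hword_smul hF hω ha, ← hword_smul hF hω hb, ← hword_smul hF hω hc]
  funext i
  show el ω _ = el ω _ + el ω _ + el ω _
  rw [combN, hget_xor, hget_xor, el_add (omega_facts hF hω).1 hω ?_ (hget_lt _ _),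
    el_add (omega_facts hF hω).1 hω (hget_lt _ _) (hget_lt _ _)]
  rw [← hget_xor]; exact hget_lt _ _

theorem mem_iff {x : Fin 6 → F} : x ∈ hexacode F ω ↔ ∃ n ∈ hlist, hword ω n = x := by
  have hgen : hexacode F ω = Submodule.span F {hword ω gen1, hword ω gen2, hword ω gen3} := by
    rw [hexacode]
    congr 1
    congr 1
    · funext i; fin_cases i <;> rfl
    congr 1
    · funext i; fin_cases i <;> rfl
    · congr 1; funext i; fin_cases i <;> rfl
  have hlm : ∀ a < 4, a ∈ [0, 1, 2, 3] := by decide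
  have hl4 : ∀ a ∈ [0, 1, 2, 3], a < 4 := by decide
  rw [hgen, Submodule.mem_span_triple]
  constructor
  · rintro ⟨a, b, c, rfl⟩
    obtain ⟨a, ha, rfl⟩ := el_surjective hF hω a
    obtain ⟨b, hb, rfl⟩ := el_surjective hF hω b
    obtain ⟨c, hc, rfl⟩ := el_surjective hF hω c
    refine ⟨combN a b c, ?_, hword_comb hF hω ha hb hc⟩
    simp only [hlist, List.mem_flatMap, List.mem_map]
    exact ⟨a, hlm a ha, b, hlm b hb, c, hlm c hc, rfl⟩
  · rintro ⟨n, hn, rfl⟩
    simp only [hlist, List.mem_flatMap, List.mem_map] at hn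
    obtain ⟨a, ha, b, hb, c, hc, rfl⟩ := hn
    exact ⟨el ω a, el ω b, el ω c, (hword_comb hF hω (hl4 a ha) (hl4 b hb) (hl4 c hc)).symm⟩

omit hF hω in
/-- The number of nonzero digits. -/
def hwt (n : ℕ) : ℕ := [0, 1, 2, 3, 4, 5].countP fun k => !(Nat.beq (hget n k) 0)

theorem card_support [DecidableEq F] (n : ℕ) :
    (Finset.univ.filter fun i => hword ω n i ≠ 0).card = hwt n := by
  have hiff : ∀ i : Fin 6, hword ω n i ≠ 0 ↔ hget n i.val ≠ 0 := fun i =>
    not_congr ⟨fun h => el_injOn hF hω (hget_lt n i.val) (by norm_num : 0 < 4) h, fun h => by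
      show el ω _ = 0; rw [h]; rfl⟩
  simp only [hiff]
  rw [hwt, List.countP_eq_length_filter, ← List.toFinset_card_of_nodup ((show [0, 1, 2, 3, 4, 5].Nodup by decide).filter _)]
  refine Finset.card_bij (fun i _ => i.val) ?_ (fun a _ b _ h => Fin.ext h) ?_
  · intro i hi
    have h := (Finset.mem_filter.1 hi).2
    refine List.mem_toFinset.2 (List.mem_filter.2 ⟨(show ∀ k < 6, k ∈ [0, 1, 2, 3, 4, 5] by decide) _ i.2, ?_⟩)
    rw [Bool.not_eq_true', ← Bool.not_eq_true, Nat.beq_eq]; exact h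
  · intro k hk
    obtain ⟨h1, h2⟩ := List.mem_filter.1 (List.mem_toFinset.1 hk)
    rw [Bool.not_eq_true', ← Bool.not_eq_true, Nat.beq_eq] at h2
    exact ⟨⟨k, (show ∀ k ∈ [0, 1, 2, 3, 4, 5], k < 6 by decide) k h1⟩, Finset.mem_filter.2 ⟨Finset.mem_univ _, h2⟩, rfl⟩

omit hF hω in
theorem hlist_check : hlist.Nodup ∧ hlist.length = 64 ∧ hlist.all (fun n => Nat.blt n 4096) = true ∧
    hlist.all (fun n => Nat.beq n 0 || Nat.beq (hwt n) 4 || Nat.beq (hwt n) 6) = true ∧
    (hlist.filter fun n => Nat.beq (hwt n) 4).length = 45 ∧ (hlist.filter fun n => Nat.beq (hwt n) 6).length = 18 := by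
  decide +kernel

omit hF hω in
theorem hlist_lt {n : ℕ} (h : n ∈ hlist) : n < 4096 := by
  simpa [Nat.blt_eq] using List.all_eq_true.1 hlist_check.2.2.1 n h

theorem ncard_filter (P : (Fin 6 → F) → Prop) (p : ℕ → Bool) (h : ∀ n ∈ hlist, P (hword ω n) ↔ p n = true) :
    {x : Fin 6 → F | x ∈ hexacode F ω ∧ P x}.ncard = (hlist.filter p).length := by
  classical
  have hinj : Set.InjOn (hword ω) ↑(hlist.filter p).toFinset := fun a ha b hb e =>
    hword_injOn hF hω (hlist_lt (List.mem_filter.1 (List.mem_toFinset.1 ha)).1)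
      (hlist_lt (List.mem_filter.1 (List.mem_toFinset.1 hb)).1) e
  rw [← List.toFinset_card_of_nodup (hlist_check.1.filter p), ← Finset.card_image_of_injOn hinj, ← Set.ncard_coe_finset]
  congr 1
  ext x
  simp only [Set.mem_setOf_eq, Finset.coe_image, Set.mem_image, List.coe_toFinset, List.mem_filter, mem_iff hF hω]
  constructor
  · rintro ⟨⟨n, hn, rfl⟩, hP⟩; exact ⟨n, ⟨hn, (h n hn).1 hP⟩, rfl⟩
  · rintro ⟨n, ⟨hn, hp⟩, rfl⟩; exact ⟨⟨n, hn, rfl⟩, (h n hn).2 hp⟩

theorem card_weights [DecidableEq F] :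
    Nat.card ↥(hexacode F ω) = 64 ∧
    (∀ x ∈ hexacode F ω, x ≠ 0 → (univ.filter fun i => x i ≠ 0).card = 4 ∨ (univ.filter fun i => x i ≠ 0).card = 6) ∧
    {x : Fin 6 → F | x ∈ hexacode F ω ∧ (univ.filter fun i => x i ≠ 0).card = 4}.ncard = 45 ∧
    {x : Fin 6 → F | x ∈ hexacode F ω ∧ (univ.filter fun i => x i ≠ 0).card = 6}.ncard = 18 := by
  refine ⟨?_, fun x hx h0 => ?_, ?_, ?_⟩
  · rw [← SetLike.coe_sort_coe, Nat.card_coe_set_eq]
    have h := ncard_filter hF hω (fun _ => True) (fun _ => true) fun _ _ => by simp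
    simp only [and_true, List.filter_true] at h
    rw [← hlist_check.2.1, ← h]
    rfl
  · obtain ⟨n, hn, rfl⟩ := (mem_iff hF hω).1 hx
    have h := List.all_eq_true.1 hlist_check.2.2.2.1 n hn
    simp only [Bool.or_eq_true, Nat.beq_eq] at h
    rw [card_support hF hω]
    rcases h with (h | h) | h
    · subst h
      exact absurd (funext fun i => by show el ω (hget 0 i.val) = 0; simp [hget, el]) h0
    · exact Or.inl h
    · exact Or.inr h
  · rw [ncard_filter hF hω _ (fun n => Nat.beq (hwt n) 4) fun n _ => by rw [card_support hF hω, Nat.beq_eq]]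
    exact hlist_check.2.2.2.2.1
  · rw [ncard_filter hF hω _ (fun n => Nat.beq (hwt n) 6) fun n _ => by rw [card_support hF hω, Nat.beq_eq]]
    exact hlist_check.2.2.2.2.2

omit [Fintype F] hF hω in
theorem mono_comp (σ τ : Equiv.Perm (Fin 6)) (c d : Fin 6 → Fˣ) (x : Fin 6 → F) :
    monomialMap σ c (monomialMap τ d x) = monomialMap (σ * τ) (fun i => c i * d (σ.symm i)) x := by
  funext i
  simp only [monomialMap, Units.val_mul, mul_assoc]
  rfl

omit hF hω in
/-- Monomial maps preserving the code. -/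
def Good (ω : F) (σ : Equiv.Perm (Fin 6)) (c : Fin 6 → Fˣ) : Prop :=
  ∀ x ∈ hexacode F ω, monomialMap σ c x ∈ hexacode F ω

theorem good_iff (σ : Equiv.Perm (Fin 6)) (c : Fin 6 → Fˣ) (inv : List ℕ) (m : ℕ)
    (hinv : ∀ i : Fin 6, inv.getD i.val 0 = (σ.symm i).val) (hm : ∀ i : Fin 6, el ω (hget m i.val) = (c i : F)) :
    Good ω σ c ↔ okMono inv m = true := by
  have himg : ∀ n, monomialMap σ c (hword ω n) = hword ω (monoN inv m n) := fun n => by
    funext i
    show (c i : F) * el ω _ = el ω _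
    rw [monoN, hget_hnum _ (fun k _ => fmul_lt _ _) _ i.2, el_mul (omega_facts hF hω).2.2.2 (hget_lt _ _) (hget_lt _ _),
      hm, hinv]
  have hlt : ∀ n, monoN inv m n < 4096 := fun n => hnum_lt _ fun k _ => fmul_lt _ _
  have hmem : ∀ g ∈ [gen1, gen2, gen3], hword ω g ∈ hexacode F ω ∧
      (monomialMap σ c (hword ω g) ∈ hexacode F ω ↔ hlist.any (Nat.beq (monoN inv m g)) = true) := by
    intro g hg
    refine ⟨(mem_iff hF hω).2 ⟨g, ?_, rfl⟩, ?_⟩
    · exact (show ∀ g ∈ [gen1, gen2, gen3], g ∈ hlist by decide +kernel) g hg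
    rw [himg, mem_iff hF hω, List.any_eq_true]
    constructor
    · rintro ⟨n, hn, e⟩
      exact ⟨n, hn, by rw [Nat.beq_eq]; exact (hword_injOn hF hω (hlist_lt hn) (hlt g) e).symm⟩
    · rintro ⟨n, hn, e⟩
      exact ⟨n, hn, by rw [Nat.eq_of_beq_eq_true e]⟩
  unfold okMono
  rw [List.all_eq_true]
  constructor
  · exact fun h g hg => (hmem g hg).2.1 (h _ (hmem g hg).1)
  · intro h x hx
    have hlin : ∀ (a : F) (u v : Fin 6 → F), monomialMap σ c (a • u + v) = a • monomialMap σ c u + monomialMap σ c v := fun a u v => by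
      funext i; simp [monomialMap]; ring
    obtain ⟨n, hn, rfl⟩ := (mem_iff hF hω).1 hx
    simp only [hlist, List.mem_flatMap, List.mem_map] at hn
    obtain ⟨a, ha, b, hb, d, hd, rfl⟩ := hn
    have hl4 : ∀ a ∈ [0, 1, 2, 3], a < 4 := by decide
    have hzero : monomialMap σ c (0 : Fin 6 → F) = 0 := by funext i; simp [monomialMap]
    rw [hword_comb hF hω (hl4 a ha) (hl4 b hb) (hl4 d hd), add_assoc, hlin, hlin,
      show el ω d • hword ω gen3 = el ω d • hword ω gen3 + 0 from (add_zero _).symm, hlin, hzero, add_zero]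
    exact add_mem (Submodule.smul_mem _ _ ((hmem _ (by simp)).2.2 (h _ (by simp))))
      (add_mem (Submodule.smul_mem _ _ ((hmem _ (by simp)).2.2 (h _ (by simp))))
        (Submodule.smul_mem _ _ ((hmem _ (by simp)).2.2 (h _ (by simp)))))

omit hF hω in
/-- The multiplier word with six nonzero digits and its units. -/
theorem units6_iff {m : ℕ} : m ∈ units6 ↔ m < 4096 ∧ ∀ k < 6, hget m k ≠ 0 := by
  have h : ∀ k, k ∈ [0, 1, 2, 3, 4, 5] ↔ k < 6 := fun k => by simp; omega
  simp only [units6, List.mem_filter, List.mem_range, List.all_eq_true, h, Bool.not_eq_true']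
  refine and_congr_right fun _ => forall₂_congr fun k _ => ?_
  rw [← Bool.not_eq_true, Nat.beq_eq]

theorem exists_code (c : Fin 6 → Fˣ) : ∃ m ∈ units6, ∀ i : Fin 6, el ω (hget m i.val) = (c i : F) := by
  choose f hf hfe using fun i : Fin 6 => el_surjective hF hω (c i : F)
  set g : ℕ → ℕ := fun k => if h : k < 6 then f ⟨k, h⟩ else 0 with hg
  have hg4 : ∀ k < 6, g k < 4 := fun k hk => by simp only [hg, dif_pos hk]; exact hf _
  refine ⟨hnum g, units6_iff.2 ⟨hnum_lt g hg4, fun k hk h => ?_⟩, fun i => ?_⟩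
  · rw [hget_hnum g hg4 k hk] at h
    simp only [hg, dif_pos hk] at h
    have := hfe ⟨k, hk⟩
    rw [h] at this
    exact (c ⟨k, hk⟩).ne_zero this.symm
  · rw [hget_hnum g hg4 i.val i.2]
    simp only [hg, dif_pos i.2]
    exact hfe i

theorem exists_units {m : ℕ} (hm : m ∈ units6) : ∃ c : Fin 6 → Fˣ, ∀ i : Fin 6, el ω (hget m i.val) = (c i : F) := by
  refine ⟨fun i => Units.mk0 (el ω (hget m i.val)) fun h => (units6_iff.1 hm).2 i.val i.2
    (el_injOn hF hω (hget_lt _ _) (by norm_num : 0 < 4) h), fun i => rfl⟩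

omit hF hω in
/-- The transposition of two positions, as a table. -/
def swapTab (a b k : ℕ) : ℕ := if k = a then b else if k = b then a else k

omit hF hω in
theorem mono_check :
    (([0, 1, 2, 3, 4, 5].all fun a => [0, 1, 2, 3, 4, 5].all fun b => Nat.beq a b ||
      (units6.any (okMono ([0, 1, 2, 3, 4, 5].map fun k => swapTab 0 1 (swapTab a b k))) &&
        units6.any (okMono ([0, 1, 2, 3, 4, 5].map fun k => swapTab a b (swapTab 0 1 k))))) = true) ∧
    units6.all (fun c => !(okMono ([0, 1, 2, 3, 4, 5].map (swapTab 0 1)) c)) = true ∧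
    units6.all (fun c => !(okMono [0, 1, 2, 3, 4, 5] c) || [0, 1, 2, 3, 4, 5].all fun k => Nat.beq (hget c k) (hget c 0)) = true := by
  decide +kernel

theorem kernel_scalar (c : Fin 6 → Fˣ) (h : Good ω 1 c) : ∀ i j, c i = c j := by
  obtain ⟨m, hm, hc⟩ := exists_code hF hω c
  have hok := (good_iff hF hω 1 c [0, 1, 2, 3, 4, 5] m (by decide) hc).1 h
  have h1 := List.all_eq_true.1 mono_check.2.2 m hm
  rw [hok, Bool.not_true, Bool.false_or, List.all_eq_true] at h1
  have h0 : ∀ i, c i = c 0 := fun i => Units.ext (by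
    rw [← hc, ← hc, Nat.eq_of_beq_eq_true (h1 i.val ((show ∀ k < 6, k ∈ [0, 1, 2, 3, 4, 5] by decide) _ i.2))]; rfl)
  exact fun i j => (h0 i).trans (h0 j).symm

omit hF hω in
theorem good_mul {σ τ : Equiv.Perm (Fin 6)} {c d : Fin 6 → Fˣ} (h1 : Good ω σ c) (h2 : Good ω τ d) :
    Good ω (σ * τ) fun i => c i * d (σ.symm i) := fun x hx => by
  rw [← mono_comp]; exact h1 _ (h2 x hx)

omit hF hω in
theorem swapTab_eq (a b k : Fin 6) : swapTab a.val b.val k.val = (Equiv.swap a b k).val := by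
  rw [Equiv.swap_apply_def, swapTab]
  simp only [← Fin.val_inj]
  split <;> [rfl; split <;> rfl]

theorem perm_set_eq :
    {σ : Equiv.Perm (Fin 6) | ∃ c : Fin 6 → Fˣ, Good ω σ c} = (alternatingGroup (Fin 6) : Set (Equiv.Perm (Fin 6))) := by
  set t : Equiv.Perm (Fin 6) := Equiv.swap 0 1 with ht
  have hS : ∀ a b : Fin 6, a ≠ b → (∃ c, Good ω (Equiv.swap a b * t) c) ∧ ∃ c, Good ω (t * Equiv.swap a b) c := by
    intro a b hab
    have hmem : ∀ k : Fin 6, k.val ∈ [0, 1, 2, 3, 4, 5] := fun k => (show ∀ k < 6, k ∈ [0, 1, 2, 3, 4, 5] by decide) _ k.2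
    have h := List.all_eq_true.1 (List.all_eq_true.1 mono_check.1 a.val (hmem a)) b.val (hmem b)
    have hne : Nat.beq a.val b.val = false := by
      rw [Bool.eq_false_iff]; exact fun e => hab (Fin.ext (Nat.eq_of_beq_eq_true e))
    rw [hne, Bool.false_or, Bool.and_eq_true, List.any_eq_true, List.any_eq_true] at h
    have hget : ∀ (f : ℕ → ℕ) (i : Fin 6), ([0, 1, 2, 3, 4, 5].map f).getD i.val 0 = f i.val := fun f i => by
      fin_cases i <;> rfl
    obtain ⟨⟨m, hm, hok⟩, m', hm', hok'⟩ := h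
    obtain ⟨c, hc⟩ := exists_units hF hω hm
    obtain ⟨c', hc'⟩ := exists_units hF hω hm'
    refine ⟨⟨c, (good_iff hF hω _ c _ m (fun i => ?_) hc).2 hok⟩, ⟨c', (good_iff hF hω _ c' _ m' (fun i => ?_) hc').2 hok'⟩⟩
    · rw [hget, swapTab_eq a b i, show (0 : ℕ) = ((0 : Fin 6)).val from rfl, show (1 : ℕ) = ((1 : Fin 6)).val from rfl,
        swapTab_eq, ← Equiv.Perm.inv_def, mul_inv_rev, ht, Equiv.swap_inv, Equiv.swap_inv]
      rfl
    · rw [hget, show swapTab 0 1 i.val = (t i).val from swapTab_eq 0 1 i, swapTab_eq a b, ← Equiv.Perm.inv_def,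
        mul_inv_rev, ht, Equiv.swap_inv, Equiv.swap_inv]
      rfl
  have h1 : ∃ c, Good ω 1 c := ⟨fun _ => 1, fun x hx => by
    convert hx using 1; funext i; simp [monomialMap, Equiv.Perm.one_def]⟩
  have hnt : ¬ ∃ c, Good ω t c := by
    rintro ⟨c, hc⟩
    obtain ⟨m, hm, hme⟩ := exists_code hF hω c
    have hok := (good_iff hF hω t c ([0, 1, 2, 3, 4, 5].map (swapTab 0 1)) m (by rw [ht]; decide) hme).1 hc
    have := List.all_eq_true.1 mono_check.2.1 m hm
    rw [hok] at this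
    exact Bool.false_ne_true this
  have key : ∀ σ : Equiv.Perm (Fin 6),
      (Equiv.Perm.sign σ = 1 ∧ ∃ c, Good ω σ c) ∨ (Equiv.Perm.sign σ = -1 ∧ ∃ c, Good ω (σ * t) c) := by
    intro σ
    induction σ using Equiv.Perm.swap_induction_on' with
    | one => exact Or.inl ⟨map_one _, h1⟩
    | mul_swap f a b hab ih =>
      rcases ih with ⟨hs, c, hc⟩ | ⟨hs, c, hc⟩
      · obtain ⟨⟨d, hd⟩, -⟩ := hS a b hab
        exact Or.inr ⟨by rw [map_mul, hs, Equiv.Perm.sign_swap hab, one_mul], _, by rw [mul_assoc]; exact good_mul hc hd⟩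
      · obtain ⟨-, d, hd⟩ := hS a b hab
        refine Or.inl ⟨by rw [map_mul, hs, Equiv.Perm.sign_swap hab]; rfl, fun i => c i * d ((f * t).symm i), ?_⟩
        have h := good_mul hc hd
        rwa [ht, mul_assoc f, ← mul_assoc (Equiv.swap (0 : Fin 6) 1), Equiv.swap_mul_self, one_mul] at h
  ext σ
  rw [Set.mem_setOf_eq, SetLike.mem_coe, Equiv.Perm.mem_alternatingGroup]
  constructor
  · rintro ⟨c, hc⟩
    rcases key σ with ⟨hs, -⟩ | ⟨-, d, hd⟩
    · exact hs
    exfalso
    obtain ⟨d', hd'⟩ : ∃ d', Good ω σ⁻¹ d' := by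
      have hpow : ∀ n : ℕ, ∃ e, Good ω (σ ^ n) e := by
        intro n
        induction n with
        | zero => simpa using h1
        | succ n ih => obtain ⟨e, he⟩ := ih; exact ⟨_, pow_succ σ n ▸ good_mul he hc⟩
      have : σ⁻¹ = σ ^ (orderOf σ - 1) := by
        rw [inv_eq_iff_mul_eq_one, ← pow_succ', Nat.sub_add_cancel (orderOf_pos σ), pow_orderOf_eq_one]
      rw [this]; exact hpow _
    exact hnt ⟨_, by simpa using good_mul hd' hd⟩
  · intro hs
    rcases key σ with ⟨-, h⟩ | ⟨hs', -⟩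
    · exact h
    · rw [hs] at hs'; exact absurd hs' (by decide)

theorem monomial_facts :
    Nat.card {f : Equiv.Perm (Fin 6) × (Fin 6 → Fˣ) // Good ω f.1 f.2} = 1080 ∧
    (∀ c : Fin 6 → Fˣ, Good ω 1 c → ∀ i j, c i = c j) ∧
    {σ : Equiv.Perm (Fin 6) | ∃ c : Fin 6 → Fˣ, Good ω σ c} = (alternatingGroup (Fin 6) : Set (Equiv.Perm (Fin 6))) := by
  classical
  refine ⟨?_, kernel_scalar hF hω, perm_set_eq hF hω⟩
  have hA : ∀ σ : Equiv.Perm (Fin 6), σ ∈ alternatingGroup (Fin 6) ↔ ∃ c, Good ω σ c := fun σ => by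
    rw [← SetLike.mem_coe, ← perm_set_eq hF hω]; rfl
  choose C hC using fun σ : alternatingGroup (Fin 6) => (hA σ.1).1 σ.2
  have hsm : ∀ (σ : Equiv.Perm (Fin 6)) c (a : Fˣ), Good ω σ c → Good ω σ fun i => a * c i := fun σ c a h x hx => by
    have : monomialMap σ (fun i => a * c i) x = (a : F) • monomialMap σ c x := by
      funext i; simp [monomialMap, mul_assoc]
    rw [this]; exact Submodule.smul_mem _ _ (h x hx)
  have hcard : Nat.card Fˣ = 3 := by rw [Nat.card_eq_fintype_card, Fintype.card_units, hF]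
  have hA6 : Nat.card (alternatingGroup (Fin 6)) = 360 := by
    rw [nat_card_alternatingGroup, Nat.card_eq_fintype_card, Fintype.card_fin]; rfl
  rw [show (1080 : ℕ) = 360 * 3 from rfl, ← hA6, ← hcard, ← Nat.card_prod]
  refine (Nat.card_eq_of_bijective (fun p : alternatingGroup (Fin 6) × Fˣ =>
    (⟨(p.1.1, fun i => p.2 * C p.1 i), hsm _ _ _ (hC p.1)⟩ : {f : Equiv.Perm (Fin 6) × (Fin 6 → Fˣ) // Good ω f.1 f.2})) ⟨?_, ?_⟩).symm
  · rintro ⟨σ, a⟩ ⟨τ, b⟩ h
    have h' := Prod.mk.inj (Subtype.mk.inj h)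
    obtain rfl : σ = τ := Subtype.ext h'.1
    exact Prod.ext rfl (mul_right_cancel (congrFun h'.2 0))
  · rintro ⟨⟨σ, c⟩, hc⟩
    have hσ := (hA σ).2 ⟨c, hc⟩
    refine ⟨(⟨σ, hσ⟩, c 0 / C ⟨σ, hσ⟩ 0), Subtype.ext (Prod.ext rfl (funext fun i => ?_))⟩
    obtain ⟨d, hd⟩ := (hA σ⁻¹).1 (inv_mem hσ)
    have h1 := good_mul hc hd
    have h2 := good_mul (hC ⟨σ, hσ⟩) hd
    rw [mul_inv_cancel] at h1
    simp only [mul_inv_cancel] at h2
    have e1 := kernel_scalar hF hω _ h1 0 i
    have e2 := kernel_scalar hF hω _ h2 0 i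
    have e3 : c 0 / C ⟨σ, hσ⟩ 0 = c i / C ⟨σ, hσ⟩ i := by
      calc c 0 / C ⟨σ, hσ⟩ 0 = (c 0 * d (σ.symm 0)) / (C ⟨σ, hσ⟩ 0 * d (σ.symm 0)) := (mul_div_mul_right_eq_div _ _ _).symm
        _ = (c i * d (σ.symm i)) / (C ⟨σ, hσ⟩ i * d (σ.symm i)) := by rw [e1, e2]
        _ = c i / C ⟨σ, hσ⟩ i := mul_div_mul_right_eq_div _ _ _
    show c 0 / C ⟨σ, hσ⟩ 0 * C ⟨σ, hσ⟩ i = c i
    rw [e3, div_mul_cancel]

end Cfsg.Lib.Concrete.Hexa
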