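import Cfsg.Prelude.Def_Classical

/-!
Discriminants of the standard hyperbolic and elliptic forms.
-/

set_option autoImplicit false

namespace Cfsg.Lib.Concrete

open Matrix

variable {F : Type*} [Field F]

theorem isSquare_gram_iff {κ ι : Type*} [Fintype κ] [DecidableEq κ] [Fintype ι] [DecidableEq ι]
    (Bl : LinearMap.BilinForm F (κ → F)) (b : Module.Basis ι F (κ → F)) :
    IsSquare (Matrix.of fun i j : ι => Bl (b i) (b j)).det ↔
      IsSquare (LinearMap.toMatrix₂' F Bl).det := by
  let e : ι ≃ κ := b.indexEquiv (Pi.basisFun F κ)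
  let P : Matrix κ κ F := Matrix.of fun x k => b (e.symm k) x
  have hG : Matrix.of (fun i j : ι => Bl (b i) (b j)) = (Pᵀ * LinearMap.toMatrix₂' F Bl * P).submatrix e e := by
    ext i j
    simp only [Matrix.submatrix_apply, Matrix.of_apply]
    have h1 : (Pᵀ * LinearMap.toMatrix₂' F Bl * P) (e i) (e j) = b i ⬝ᵥ (LinearMap.toMatrix₂' F Bl *ᵥ b j) := by
      simp [P, Matrix.mul_apply, dotProduct, Matrix.mulVec, Finset.sum_mul, Finset.mul_sum]
      rw [Finset.sum_comm]
      exact Finset.sum_congr rfl fun x _ => Finset.sum_congr rfl fun y _ => by ring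
    rw [h1]
    conv_lhs => rw [← Matrix.toLinearMap₂'_toMatrix' (R := F) Bl]
    rw [Matrix.toLinearMap₂'_apply']
  have hP : P.det ≠ 0 := by
    intro h
    obtain ⟨v, hv, hv0⟩ := Matrix.exists_mulVec_eq_zero_iff.2 h
    apply hv
    have h2 : ∑ i : ι, v (e i) • b i = 0 := by
      funext x
      rw [Finset.sum_apply, Pi.zero_apply]
      refine Eq.trans ?_ (congrFun hv0 x)
      exact Fintype.sum_equiv e _ _ fun i => by simp [P, mul_comm]
    funext k
    simpa using Fintype.linearIndependent_iff.1 b.linearIndependent _ h2 (e.symm k)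
  rw [hG, Matrix.det_submatrix_equiv_self, Matrix.det_mul, Matrix.det_mul, Matrix.det_transpose]
  constructor
  · rintro ⟨r, hr⟩
    exact ⟨r / P.det, by field_simp; linear_combination hr⟩
  · rintro ⟨r, hr⟩
    exact ⟨r * P.det, by rw [hr]; ring⟩

/-- The symmetric matrix of the hyperbolic form. -/
def hypMat (m : ℕ) (F : Type*) [Field F] : Matrix (Fin m ⊕ Fin m) (Fin m ⊕ Fin m) F :=
  Matrix.fromBlocks 0 1 1 0

theorem det_hypMat (m : ℕ) : (hypMat m F).det = (-1) ^ m := by
  have h : hypMat m F * Matrix.fromBlocks 1 0 1 1 = Matrix.fromBlocks 1 1 1 0 := by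
    simp [hypMat, Matrix.fromBlocks_multiply]
  have h1 := congrArg Matrix.det h
  rw [Matrix.det_mul, Matrix.det_fromBlocks_zero₁₂, Matrix.det_one, mul_one, mul_one,
    Matrix.det_fromBlocks_one₁₁, mul_one, zero_sub, Matrix.det_neg, Matrix.det_one, mul_one,
    Fintype.card_fin] at h1
  exact h1

theorem hypMat_bilin (m : ℕ) (u v : Fin m ⊕ Fin m → F) :
    Matrix.toBilin' (hypMat m F) u v = QuadraticMap.polar (Cfsg.quadFormPlus m F) u v := by
  simp only [Matrix.toBilin'_apply', hypMat, Matrix.fromBlocks_mulVec, QuadraticMap.polar,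
    Cfsg.quadFormPlus, Pi.add_apply]
  simp only [dotProduct, Fintype.sum_sum_type, Sum.elim_inl, Sum.elim_inr, Matrix.zero_mulVec,
    Matrix.one_mulVec, zero_add, add_zero, Function.comp_apply]
  rw [← Finset.sum_sub_distrib, ← Finset.sum_sub_distrib, ← Finset.sum_add_distrib]
  exact Finset.sum_congr rfl fun i _ => by ring

theorem isSquare_neg_one_pow_iff [Fintype F] {q : ℕ} (hF : Fintype.card F = q) (hq : Odd q) (m : ℕ) :
    IsSquare ((-1 : F) ^ m) ↔ Even (m * (q - 1) / 2) := by
  rw [Nat.odd_iff] at hq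
  obtain ⟨k, hk⟩ : 2 ∣ q - 1 := by omega
  have e : m * (q - 1) / 2 = m * k := by rw [hk, ← mul_assoc, mul_comm m 2, mul_assoc, Nat.mul_div_cancel_left _ (by norm_num)]
  rw [e, Nat.even_mul]
  rcases Nat.even_or_odd m with hm | hm
  · exact iff_of_true (by rw [hm.neg_one_pow]; exact ⟨1, (mul_one 1).symm⟩) (Or.inl hm)
  · rw [hm.neg_one_pow, FiniteField.isSquare_neg_one_iff, hF]
    simp only [Nat.not_even_iff_odd.2 hm, false_or, Nat.even_iff]
    omega

end Cfsg.Lib.Concrete
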