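import Cfsg.Agent.Lib.Concrete.M24

/-!
The rank-24 lattice: it is `leechSet` itself, is even and has no short vectors.
-/

set_option autoImplicit false

namespace Cfsg.Lib.Concrete

open scoped Pointwise symmDiff

/-- `x` has shape `m + 2 w` modulo 4 with the sum condition. -/
def LeechForm (x : GolayPt → ℤ) (m : ℤ) (w : GolayPt → ZMod 2) : Prop :=
  w ∈ golayCode ∧ (∀ i, x i ≡ m + 2 * ((w i).val : ℤ) [ZMOD 4]) ∧ ∑ i, x i ≡ 4 * m [ZMOD 8]

theorem support₂_mem_supports_iff {w : GolayPt → ZMod 2} :
    support₂ w ∈ supports (golayCode : Set (GolayPt → ZMod 2)) ↔ w ∈ golayCode :=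
  ⟨fun ⟨v, hv, h⟩ => support₂_injective h ▸ hv, fun h => ⟨w, h, rfl⟩⟩

theorem one_mem_golayCode : (1 : GolayPt → ZMod 2) ∈ golayCode :=
  Submodule.subset_span (Set.mem_union_right _ rfl)

theorem zmod_two_val (a : ZMod 2) : a.val = if a = 0 then 0 else 1 := by revert a; decide

theorem mem_leechSet_iff {x : GolayPt → ℤ} : x ∈ leechSet ↔ ∃ m w, LeechForm x m w := by
  classical
  constructor
  · rintro ⟨m, hpar, hsum, hk⟩
    obtain ⟨w, hw, hs⟩ := hk (m + 2)
    refine ⟨m, w, hw, fun i => ?_, hsum⟩
    have hi := Finset.ext_iff.1 hs i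
    simp only [support₂, Finset.mem_filter, Finset.mem_univ, true_and] at hi
    have hp := hpar i
    rw [zmod_two_val]
    unfold Int.ModEq at hi hp ⊢
    by_cases h : w i = 0
    · rw [if_pos h]
      have := mt hi.2 (not_not.2 h)
      push_cast
      omega
    · rw [if_neg h]
      have := hi.1 h
      push_cast
      omega
  · rintro ⟨m, w, hw, hx, hsum⟩
    refine ⟨m, fun i => ?_, hsum, fun k => ?_⟩
    · have := hx i
      unfold Int.ModEq at this ⊢
      omega
    · by_cases h0 : k ≡ m [ZMOD 4]
      · refine ⟨w + 1, add_mem hw one_mem_golayCode, ?_⟩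
        ext i
        simp only [support₂, Finset.mem_filter, Finset.mem_univ, true_and, Pi.add_apply,
          Pi.one_apply]
        have := hx i
        rw [zmod_two_val] at this
        unfold Int.ModEq at this h0 ⊢
        have h2 : w i + 1 ≠ 0 ↔ w i = 0 := by generalize w i = a; revert a; decide
        rw [h2]
        split at this <;> simp_all <;> omega
      · by_cases h2 : k ≡ m + 2 [ZMOD 4]
        · refine ⟨w, hw, ?_⟩
          ext i
          simp only [support₂, Finset.mem_filter, Finset.mem_univ, true_and]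
          have := hx i
          rw [zmod_two_val] at this
          unfold Int.ModEq at this h0 h2 ⊢
          split at this <;> simp_all <;> omega
        · refine ⟨0, zero_mem _, ?_⟩
          ext i
          simp only [support₂, Finset.mem_filter, Finset.mem_univ, true_and, Pi.zero_apply]
          have := hx i
          rw [zmod_two_val] at this
          unfold Int.ModEq at this h0 h2 ⊢
          split at this <;> simp_all <;> omega

theorem two_mul_val_add (a b : ZMod 2) :
    (2 * ((a + b).val : ℤ)) % 4 = (2 * (a.val : ℤ) + 2 * (b.val : ℤ)) % 4 := by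
  revert a b; decide

/-- `leechSet` as a subgroup. -/
def leechGroup : AddSubgroup (GolayPt → ℤ) where
  carrier := leechSet
  zero_mem' := mem_leechSet_iff.2 ⟨0, 0, zero_mem _, fun _ => by simp, by simp⟩
  add_mem' := by
    intro x y hx hy
    obtain ⟨m, v, hv, hx1, hx2⟩ := mem_leechSet_iff.1 hx
    obtain ⟨n, w, hw, hy1, hy2⟩ := mem_leechSet_iff.1 hy
    refine mem_leechSet_iff.2 ⟨m + n, v + w, add_mem hv hw, fun i => ?_, ?_⟩
    · have := two_mul_val_add (v i) (w i)
      have h1 := hx1 i
      have h2 := hy1 i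
      simp only [Pi.add_apply]
      unfold Int.ModEq at h1 h2 ⊢
      omega
    · simp only [Pi.add_apply, Finset.sum_add_distrib, mul_add]
      exact hx2.add hy2
  neg_mem' := by
    intro x hx
    obtain ⟨m, v, hv, hx1, hx2⟩ := mem_leechSet_iff.1 hx
    refine mem_leechSet_iff.2 ⟨-m, v, hv, fun i => ?_, ?_⟩
    · have h1 := hx1 i
      simp only [Pi.neg_apply]
      unfold Int.ModEq at h1 ⊢
      omega
    · simp only [Pi.neg_apply, Finset.sum_neg_distrib, mul_neg]
      exact hx2.neg

theorem leechLattice_eq_leechGroup : leechLattice = leechGroup :=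
  le_antisymm (AddSubgroup.closure_le _ |>.2 fun _ h => h) AddSubgroup.subset_closure

theorem mem_leechLattice_iff {x : GolayPt → ℤ} : x ∈ leechLattice ↔ x ∈ leechSet := by
  rw [leechLattice_eq_leechGroup]; rfl

theorem support₂_card_dvd {w : GolayPt → ZMod 2} (hw : w ∈ golayCode) :
    4 ∣ (support₂ w).card := by
  obtain ⟨m, hm, h⟩ := mem_supports_iff.1 (support₂_mem_supports_iff.2 hw)
  have := List.all_eq_true.1 code_weights m hm
  simp only [Bool.or_eq_true, beq_iff_eq] at this
  rw [← h, mset_card, mcnt_eq_pcnt]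
  omega

theorem sum_val_eq_card (w : GolayPt → ZMod 2) :
    ∑ i, ((w i).val : ℤ) = ((support₂ w).card : ℤ) := by
  simp only [support₂, Finset.card_filter, Nat.cast_sum, zmod_two_val]
  refine Finset.sum_congr rfl fun i _ => ?_
  split <;> simp_all

theorem LeechForm.exists_quot {x : GolayPt → ℤ} {m : ℤ} {w : GolayPt → ZMod 2}
    (h : LeechForm x m w) :
    ∃ t : GolayPt → ℤ, (∀ i, x i = m + 2 * ((w i).val : ℤ) + 4 * t i) ∧
      (2 : ℤ) ∣ ((∑ i, t i) - m) := by
  refine ⟨fun i => (x i - m - 2 * ((w i).val : ℤ)) / 4, fun i => ?_, ?_⟩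
  · have := h.2.1 i
    unfold Int.ModEq at this
    simp only
    omega
  · have hx : ∀ i, x i = m + 2 * ((w i).val : ℤ) +
        4 * ((x i - m - 2 * ((w i).val : ℤ)) / 4) := fun i => by
      have := h.2.1 i
      unfold Int.ModEq at this
      omega
    have hs := h.2.2
    rw [Finset.sum_congr rfl fun i _ => hx i] at hs
    simp only [Finset.sum_add_distrib, ← Finset.mul_sum, sum_val_eq_card, Finset.sum_const,
      Finset.card_univ, nsmul_eq_mul] at hs
    rw [show Fintype.card GolayPt = 24 from rfl] at hs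
    obtain ⟨c, hc⟩ := support₂_card_dvd h.1
    rw [hc] at hs
    unfold Int.ModEq at hs
    push_cast at hs
    beta_reduce
    omega

theorem sixteen_dvd_sqNorm {x : GolayPt → ℤ} (hx : x ∈ leechSet) : (16 : ℤ) ∣ sqNorm x := by
  obtain ⟨m, w, h⟩ := mem_leechSet_iff.1 hx
  obtain ⟨t, ht, hpar⟩ := h.exists_quot
  obtain ⟨c, hc⟩ := support₂_card_dvd h.1
  have hsq : ∀ i, x i ^ 2 = m ^ 2 + (4 * m + 4) * ((w i).val : ℤ) + 8 * m * t i +
      16 * (t i ^ 2 + ((w i).val : ℤ) * t i) := fun i => by
    have h01 : ((w i).val : ℤ) * (w i).val = (w i).val := by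
      rw [zmod_two_val]; split <;> simp
    rw [ht i]
    linear_combination (4 : ℤ) * h01
  simp only [sqNorm, hsq, Finset.sum_add_distrib, ← Finset.mul_sum, sum_val_eq_card,
    Finset.sum_const, Finset.card_univ, nsmul_eq_mul, hc]
  rw [show Fintype.card GolayPt = 24 from rfl]
  obtain ⟨d, hd⟩ := hpar
  rw [show ∑ i, t i = m + 2 * d by linarith]
  obtain ⟨e, he⟩ : (2 : ℤ) ∣ m * (m + 1) := (Int.even_mul_succ_self m).two_dvd
  refine ⟨2 * m ^ 2 + (m + 1) * c + m * d + ∑ x, (t x ^ 2) + ∑ x, ((w x).val : ℤ) * t x, ?_⟩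
  push_cast
  linear_combination (0 : ℤ) * he

theorem sqNorm_ge {x : GolayPt → ℤ} (hx : x ∈ leechSet) (h0 : x ≠ 0) : 32 ≤ sqNorm x := by
  classical
  obtain ⟨e, he⟩ := sixteen_dvd_sqNorm hx
  obtain ⟨m, w, hw, hx1, hx2⟩ := mem_leechSet_iff.1 hx
  by_cases hodd : m % 2 = 1
  · have : ∀ i, 1 ≤ x i ^ 2 := fun i => by
      have := hx1 i
      unfold Int.ModEq at this
      have hne : x i ≠ 0 := by omega
      exact (sq_pos_iff.2 hne)
    have h24 : (24 : ℤ) ≤ sqNorm x := by
      have := Finset.sum_le_sum (s := Finset.univ) fun i _ => this i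
      simpa [sqNorm, Finset.card_univ, show Fintype.card GolayPt = 24 from rfl] using this
    omega
  · set w' : GolayPt → ZMod 2 := if m % 4 = 0 then w else w + 1 with hw'
    have hw'mem : w' ∈ golayCode := by
      rw [hw']; split
      · exact hw
      · exact add_mem hw one_mem_golayCode
    have hmod : ∀ i, x i % 4 = if w' i = 0 then 0 else 2 := fun i => by
      have := hx1 i
      rw [zmod_two_val] at this
      unfold Int.ModEq at this
      rw [hw']
      have h2 : ∀ a : ZMod 2, a + 1 = 0 ↔ a ≠ 0 := by decide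
      by_cases hm : m % 4 = 0 <;> by_cases hwi : w i = 0 <;>
        simp [hm, hwi, h2] at this ⊢ <;> omega
    by_cases hz : (support₂ w').Nonempty
    · have h8 := supports_card_ge (support₂_mem_supports_iff.2 hw'mem) hz
      have hle : ∑ i ∈ support₂ w', (4 : ℤ) ≤ sqNorm x := by
        refine (Finset.sum_le_sum fun i hi => ?_).trans
          (Finset.sum_le_sum_of_subset_of_nonneg (Finset.subset_univ _) fun i _ _ => sq_nonneg _)
        have hh := hmod i
        rw [if_neg (by simpa [support₂] using hi)] at hh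
        rcases le_or_gt 0 (x i) with h | h
        · nlinarith [show 2 ≤ x i by omega]
        · nlinarith [show x i ≤ -2 by omega]
      rw [Finset.sum_const, nsmul_eq_mul] at hle
      have : ((8 : ℕ) : ℤ) ≤ ((support₂ w').card : ℤ) := by exact_mod_cast h8
      push_cast at this
      linarith
    · have h4 : ∀ i, x i % 4 = 0 := fun i => by
        rw [hmod i, if_pos]
        by_contra hne
        exact hz ⟨i, by simpa [support₂] using hne⟩
      obtain ⟨i, hi⟩ := Function.ne_iff.1 h0
      simp only [Pi.zero_apply] at hi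
      have hsq : ∀ j, x j ≠ 0 → 16 ≤ x j ^ 2 := fun j hj => by
        rcases le_or_gt 0 (x j) with h | h
        · have := h4 j; nlinarith [show 4 ≤ x j by omega]
        · have := h4 j; nlinarith [show x j ≤ -4 by omega]
      have hone : sqNorm x = x i ^ 2 + ∑ j ∈ Finset.univ.erase i, x j ^ 2 :=
        (Finset.add_sum_erase _ _ (Finset.mem_univ i)).symm
      by_cases hj : ∃ j, j ≠ i ∧ x j ≠ 0
      · obtain ⟨j, hji, hj⟩ := hj
        have := Finset.single_le_sum (f := fun j => x j ^ 2) (fun k _ => sq_nonneg (x k))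
          (Finset.mem_erase.2 ⟨hji, Finset.mem_univ j⟩)
        have := hsq i hi
        have := hsq j hj
        linarith
      · push Not at hj
        have hs : ∑ j, x j = x i := Fintype.sum_eq_single i hj
        rw [hs] at hx2
        unfold Int.ModEq at hx2
        have : 0 ≤ ∑ j ∈ Finset.univ.erase i, x j ^ 2 :=
          Finset.sum_nonneg fun j _ => sq_nonneg _
        have := h4 i
        rcases le_or_gt 0 (x i) with h | h
        · nlinarith [show 8 ≤ x i by omega]
        · nlinarith [show x i ≤ -8 by omega]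

theorem perm_mem_leechSet {σ : Equiv.Perm GolayPt} (hσ : σ ∈ M24) {x : GolayPt → ℤ}
    (hx : x ∈ leechSet) : (fun i => x (σ i)) ∈ leechSet := by
  obtain ⟨m, w, hw, hx1, hx2⟩ := mem_leechSet_iff.1 hx
  refine mem_leechSet_iff.2 ⟨m, fun i => w (σ i), ?_, fun i => hx1 (σ i), ?_⟩
  · rw [← support₂_mem_supports_iff]
    have := mem_M24_iff.1 (inv_mem hσ) _ (support₂_mem_supports_iff.2 hw)
    convert! this using 1
    ext i
    rw [Finset.mem_inv_smul_finset_iff]
    simp [support₂]
  · rwa [Equiv.sum_comp σ x]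

theorem signChange_mem_leechSet {c : Finset GolayPt}
    (hc : c ∈ supports (golayCode : Set (GolayPt → ZMod 2))) {x : GolayPt → ℤ}
    (hx : x ∈ leechSet) : (fun i => if i ∈ c then -x i else x i) ∈ leechSet := by
  classical
  obtain ⟨m, w, hw, hx1, hx2⟩ := mem_leechSet_iff.1 hx
  obtain ⟨v, hv, rfl⟩ := hc
  refine mem_leechSet_iff.2 ⟨m, w + (m : ZMod 2) • v, add_mem hw (Submodule.smul_mem _ _ hv),
    fun i => ?_, ?_⟩
  · have := hx1 i
    simp only [support₂, Finset.mem_filter, Finset.mem_univ, true_and, Pi.add_apply,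
      Pi.smul_apply, smul_eq_mul, zmod_two_val] at this ⊢
    have hm : (m : ZMod 2) = if m % 2 = 0 then 0 else 1 := by
      rw [← ZMod.intCast_mod]
      rcases Int.emod_two_eq_zero_or_one m with h | h <;> simp [h]
    unfold Int.ModEq at this ⊢
    have h01 : ∀ a : ZMod 2, a = 0 ∨ a = 1 := by decide
    have h11 : (1 : ZMod 2) + 1 = 0 := by decide
    rcases h01 (v i) with h | h <;> rcases h01 (w i) with h' | h' <;>
      rcases Int.emod_two_eq_zero_or_one m with h'' | h'' <;>
      simp [hm, h, h', h'', h11] at this ⊢ <;> omega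
  · have hsplit : ∑ i, (if i ∈ support₂ v then -x i else x i) =
        ∑ i, x i - 2 * ∑ i ∈ support₂ v, x i := by
      rw [← Finset.sum_ite_mem_eq (support₂ v) x, Finset.mul_sum, ← Finset.sum_sub_distrib]
      exact Finset.sum_congr rfl fun i _ => by split <;> ring
    rw [hsplit]
    have h4 : (4 : ℤ) ∣ ∑ i ∈ support₂ v, x i := by
      have h1 : ∑ i ∈ support₂ v, x i ≡ ∑ i ∈ support₂ v, (m + 2 * ((w i).val : ℤ)) [ZMOD 4] :=
        Int.ModEq.sum fun i _ => hx1 i
      have h2 : ∑ i ∈ support₂ v, ((w i).val : ℤ) =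
          ((support₂ v ∩ support₂ w).card : ℤ) := by
        rw [← Finset.filter_mem_eq_inter, Finset.card_filter, Nat.cast_sum]
        refine Finset.sum_congr rfl fun i _ => ?_
        rw [zmod_two_val]
        simp [support₂]
      rw [Finset.sum_add_distrib, ← Finset.mul_sum, h2, Finset.sum_const, nsmul_eq_mul] at h1
      have hd := symmDiff_mem_supports (support₂_mem_supports_iff.2 hv)
        (support₂_mem_supports_iff.2 hw)
      obtain ⟨u, hu, hus⟩ := hd
      obtain ⟨a, ha⟩ := support₂_card_dvd hv
      obtain ⟨b, hb⟩ := support₂_card_dvd hw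
      obtain ⟨d, hd⟩ := support₂_card_dvd hu
      rw [hus] at hd
      have hcard : (support₂ v ∆ support₂ w).card + 2 * (support₂ v ∩ support₂ w).card =
          (support₂ v).card + (support₂ w).card := by
        rw [symmDiff_eq_sup_sdiff_inf]
        have := Finset.card_union_add_card_inter (support₂ v) (support₂ w)
        have := Finset.card_sdiff_of_subset
          (Finset.inter_subset_union (s := support₂ v) (t := support₂ w))
        have := Finset.card_le_card (Finset.inter_subset_union (s := support₂ v) (t := support₂ w))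
        simp only [Finset.sup_eq_union, Finset.inf_eq_inter]
        omega
      obtain ⟨k, hk⟩ : 2 ∣ (support₂ v ∩ support₂ w).card := by omega
      rw [ha, hk] at h1
      unfold Int.ModEq at h1
      push_cast at h1
      rw [show (4 * (a : ℤ)) * m = 4 * (a * m) by ring] at h1
      omega
    unfold Int.ModEq at hx2 ⊢
    omega

end Cfsg.Lib.Concrete
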