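import Cfsg.Agent.Lib.Concrete.LeechPairOrbits

/-!
More orbits of the stabiliser of a norm-32 vector of the rank-24 lattice: orthogonal pairs up to sign, and
norm-48 vectors with inner product -16.
-/

set_option autoImplicit false

namespace Cfsg.Lib.Concrete

open Finset
open scoped Pointwise symmDiff

local notation "pA" => gpt 0
local notation "pB" => gpt 1
local notation "pC" => gpt 2
local notation "pD" => gpt 23

theorem flip_sep_check : isCode 5210132 = true ∧ (5210132 : ℕ) < 16777216 ∧ pC ∈ mset 5210132 ∧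
    pA ∉ mset 5210132 ∧ pB ∉ mset 5210132 ∧ pD ∉ mset 5210132 := by decide +kernel

/-- A sign change fixing `pairBase` that separates two further points. -/
theorem pairFix_separate {x : GolayPt → ℤ} (hx : x ∈ leechLattice) {u v : GolayPt} (hn : [pA, pB, u, v].Nodup) :
    ∃ y, PairFix x y ∧ y pA = x pA ∧ y pB = x pB ∧ y u = -x u ∧ y v = x v := by
  obtain ⟨h1, h2, h3, h4, h5, h6⟩ := flip_sep_check
  obtain ⟨σ, hσ, sA, sB, sC, sD⟩ := exists_map_four nodup_base.1 hn
  have hc : σ • mset 5210132 ∈ codeSets := mem_M24_iff.1 hσ _ ((mset_mem_supports_iff h2).2 h1)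
  have mem : ∀ p q : GolayPt, σ p = q → (q ∈ σ • mset 5210132 ↔ p ∈ mset 5210132) := fun p q h => by
    rw [← h, show σ p = σ • p from rfl, Finset.smul_mem_smul_finset_iff]
  refine ⟨_, pairFix_flip hx hc (mt (mem _ _ sA).1 h4) (mt (mem _ _ sB).1 h5), ?_, ?_, ?_, ?_⟩
  · rw [if_neg (mt (mem _ _ sA).1 h4)]
  · rw [if_neg (mt (mem _ _ sB).1 h5)]
  · rw [if_pos ((mem _ _ sC).2 h3)]
  · rw [if_neg (mt (mem _ _ sD).1 h6)]

/-- A value can be turned into the opposite sign of another one. -/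
theorem pairFix_opposite {x : GolayPt → ℤ} (hx : x ∈ leechLattice) {u v : GolayPt} (hn : [pA, pB, u, v].Nodup) :
    ∃ y, PairFix x y ∧ y pA = x pA ∧ y pB = x pB ∧ |y u| = |x u| ∧ |y v| = |x v| ∧ y u * y v ≤ 0 := by
  by_cases h : x u * x v ≤ 0
  · exact ⟨x, PairFix.refl hx, rfl, rfl, rfl, rfl, h⟩
  obtain ⟨y, hy, e1, e2, e3, e4⟩ := pairFix_separate hx hn
  exact ⟨y, hy, e1, e2, by rw [e3, abs_neg], by rw [e4], by rw [e3, e4, neg_mul]; omega⟩

theorem nodup_of_ne {u v : GolayPt} (h1 : u ≠ pA) (h2 : u ≠ pB) (h3 : v ≠ pA) (h4 : v ≠ pB) (h5 : u ≠ v) :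
    [pA, pB, u, v].Nodup := by
  simp [h1.symm, h2.symm, h3.symm, h4.symm, h5]; decide

theorem exists_card_two {s : Finset GolayPt} (h : 4 ≤ s.card) :
    ∃ u v, u ∈ s ∧ v ∈ s ∧ [pA, pB, u, v].Nodup := by
  have hc : 2 ≤ (s \ {pA, pB}).card := by
    have h1 := Finset.card_le_card_sdiff_add_card (s := s) (t := ({pA, pB} : Finset GolayPt))
    have h2 : ({pA, pB} : Finset GolayPt).card ≤ 2 := Finset.card_le_two
    omega
  obtain ⟨u, hu, v, hv, hne⟩ := Finset.one_lt_card.1 hc
  simp only [Finset.mem_sdiff, Finset.mem_insert, Finset.mem_singleton, not_or] at hu hv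
  exact ⟨u, v, hu.1, hv.1, nodup_of_ne hu.2.1 hu.2.2 hv.2.1 hv.2.2 hne⟩

/-! ### Orthogonal pairs -/

/-- The two vectors `(4, -4)` and `(-4, 4)`. -/
def ReachPerp (x : GolayPt → ℤ) : Prop :=
  ∃ y, PairFix x y ∧ (y pA = 4 ∧ y pB = -4 ∨ y pA = -4 ∧ y pB = 4)

theorem ReachPerp.of_fix {x y : GolayPt → ℤ} (h : PairFix x y) (hy : ReachPerp y) : ReachPerp x := by
  obtain ⟨z, hz, e⟩ := hy; exact ⟨z, h.trans hz, e⟩

theorem perp_fours {x : GolayPt → ℤ} (hx : x ∈ shell 32) (hA : x pA = 0) (hB : x pB = 0) {j : GolayPt}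
    (hj : x j = 4 ∨ x j = -4) : ReachPerp x := by
  have hje : x j % 2 = 0 := by omega
  obtain ⟨hall, hc⟩ := (even_shape32 hx hje).resolve_right fun h => by
    rcases h.1 j with e | e | e <;> omega
  have hj4 : j ∈ absSet x 4 := mem_absSet.2 (by rcases hj with e | e <;> rw [e] <;> norm_num)
  obtain ⟨k, hk⟩ := Finset.card_pos.1 (show 0 < ((absSet x 4).erase j).card by
    rw [Finset.card_erase_of_mem hj4, hc]; norm_num)
  rw [Finset.mem_erase, mem_absSet] at hk
  rw [mem_absSet] at hj4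
  have hn : [pA, pB, j, k].Nodup := nodup_of_ne (fun h => by rw [h, hA] at hj4; norm_num at hj4)
    (fun h => by rw [h, hB] at hj4; norm_num at hj4) (fun h => by rw [h, hA] at hk; norm_num at hk)
    (fun h => by rw [h, hB] at hk; norm_num at hk) hk.1.symm
  obtain ⟨y, hy, eA, eB, ej, ek, hle⟩ := pairFix_opposite (mem_shell.1 hx).1 hn
  obtain ⟨z, hz, z1, z2⟩ := pairFix_step hy.symm.1 hn
  rw [eA, eB, hA, hB] at z1 z2
  refine ⟨z, hy.trans hz, ?_⟩
  rw [hj4] at ej
  rw [hk.2] at ek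
  rcases (abs_eq (by norm_num)).1 ej with a | a <;> rcases (abs_eq (by norm_num)).1 ek with b | b <;>
    rw [a, b] at hle z1 z2 <;> omega

theorem perp_two {x : GolayPt → ℤ} (hx : x ∈ shell 32) (hab : x pA = 2 ∧ x pB = -2 ∨ x pA = -2 ∧ x pB = 2) :
    ReachPerp x := by
  obtain ⟨hL, -⟩ := mem_shell.1 hx
  obtain ⟨hall, ho⟩ := (even_shape32 hx (a := pA) (by omega)).resolve_left fun h => by
    rcases h.1 pA with e | e | e <;> omega
  obtain ⟨u, v, hu, hv, hn⟩ := exists_card_two (s := absSet x 2) (by rw [ho.2]; norm_num)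
  rw [mem_absSet] at hu hv
  obtain ⟨y, hy, eA, eB, ej, ek⟩ : ∃ y, PairFix x y ∧ y pA = x pA ∧ y pB = x pB ∧ |y u| = 2 ∧ y u = y v := by
    by_cases h : x u = x v
    · exact ⟨x, PairFix.refl hL, rfl, rfl, hu, h⟩
    obtain ⟨y, hy, e1, e2, e3, e4⟩ := pairFix_separate hL hn
    refine ⟨y, hy, e1, e2, by rw [e3, abs_neg, hu], ?_⟩
    rw [e3, e4]
    rcases (abs_eq (by norm_num)).1 hu with a | a <;> rcases (abs_eq (by norm_num)).1 hv with b | b <;> omega
  have hyS := hy.mem_shell_right hx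
  obtain ⟨z, hz, z1, z2, ⟨a, za⟩, b, zb⟩ := pairFix_step_full hy.symm.1 hn
  rw [← ek, eA, eB] at z1 z2 za zb
  refine ReachPerp.of_fix (hy.trans hz) ?_
  have hu4 : y u = 2 ∨ y u = -2 := (abs_eq (by norm_num)).1 ej
  have hzS := hz.mem_shell_right hyS
  rcases (show (z a = 4 ∨ z a = -4) ∨ (z b = 4 ∨ z b = -4) by omega) with h | h
  · exact perp_fours hzS (by omega) (by omega) h
  · exact perp_fours hzS (by omega) (by omega) h

theorem perp_odd {x : GolayPt → ℤ} (hx : x ∈ shell 32) (hab : x pA = 1 ∧ x pB = -1 ∨ x pA = -1 ∧ x pB = 1) :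
    ReachPerp x := by
  obtain ⟨hL, -⟩ := mem_shell.1 hx
  obtain ⟨-, e, he, hone⟩ := odd_shape32 hx (a := pA) (by omega)
  have eA : e ≠ pA := fun h => by rw [h] at he; rcases hab with ⟨a, -⟩ | ⟨a, -⟩ <;> rw [a] at he <;> norm_num at he
  have eB : e ≠ pB := fun h => by rw [h] at he; rcases hab with ⟨-, a⟩ | ⟨-, a⟩ <;> rw [a] at he <;> norm_num at he
  obtain ⟨r, hr⟩ : ∃ r, r ∉ ({pA, pB, e} : Finset GolayPt) := by
    by_contra h
    push Not at h
    have := (Finset.card_le_card (show Finset.univ ⊆ ({pA, pB, e} : Finset GolayPt) from fun p _ => h p)).trans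
      Finset.card_le_three
    rw [Finset.card_univ, show Fintype.card GolayPt = 24 from rfl] at this
    omega
  simp only [Finset.mem_insert, Finset.mem_singleton, not_or] at hr
  have hn := nodup_of_ne eA eB hr.1 hr.2.1 (Ne.symm hr.2.2)
  obtain ⟨y, hy, yA, yB, ye, yr, hle⟩ := pairFix_opposite hL hn
  rw [he] at ye
  rw [hone r hr.2.2] at yr
  obtain ⟨z, hz, z1, z2⟩ := pairFix_step hy.symm.1 hn
  rw [yA, yB] at z1 z2
  refine ReachPerp.of_fix (hy.trans hz) (perp_two (hz.mem_shell_right (hy.mem_shell_right hx)) ?_)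
  rcases (abs_eq (by norm_num)).1 ye with a | a <;> rcases (abs_eq (by norm_num)).1 yr with b | b <;>
    rw [a, b] at hle z1 z2 <;> omega

theorem perp_zero {x : GolayPt → ℤ} (hx : x ∈ shell 32) (hA : x pA = 0) (hB : x pB = 0) : ReachPerp x := by
  obtain ⟨hL, -⟩ := mem_shell.1 hx
  rcases even_shape32 hx (a := pA) (by omega) with ⟨hall, hc⟩ | ⟨hall, ho⟩
  · obtain ⟨j, hj⟩ := Finset.card_pos.1 (show 0 < (absSet x 4).card by omega)
    exact perp_fours hx hA hB ((abs_eq (by norm_num)).1 (mem_absSet.1 hj))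
  obtain ⟨q, r, hne, q1, q2, r1, r2, eq, er⟩ := exists_two_zeros ho hall
  obtain ⟨u, hu⟩ := Finset.card_pos.1 (show 0 < (absSet x 2).card by rw [ho.2]; norm_num)
  rw [mem_absSet] at hu
  have u1 : u ≠ pA := fun h => by rw [h, hA] at hu; norm_num at hu
  have u2 : u ≠ pB := fun h => by rw [h, hB] at hu; norm_num at hu
  have uq : u ≠ q := fun h => by rw [h, eq] at hu; norm_num at hu
  obtain ⟨z, hz, z1, z2⟩ := pairFix_step hL (nodup_of_ne u1 u2 q1 q2 uq)
  rw [hA, hB, eq] at z1 z2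
  refine ReachPerp.of_fix hz (perp_odd (hz.mem_shell_right hx) ?_)
  rcases (abs_eq (by norm_num)).1 hu with a | a <;> rw [a] at z1 z2 <;> omega

/-- Every orthogonal vector reaches `±(4, -4)`. -/
theorem reachPerp {x : GolayPt → ℤ} (hx : x ∈ shell 32) (hs : x pA + x pB = 0) : ReachPerp x := by
  obtain ⟨hL, -⟩ := mem_shell.1 hx
  rcases Int.emod_two_eq_zero_or_one (x pA) with he | ho
  · rcases even_shape32 hx he with ⟨hall, -⟩ | ⟨hall, -⟩
    · rcases hall pA with a | a | a
      · exact perp_zero hx a (by omega)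
      · exact ⟨x, PairFix.refl hL, Or.inl ⟨a, by omega⟩⟩
      · exact ⟨x, PairFix.refl hL, Or.inr ⟨a, by omega⟩⟩
    · rcases hall pA with a | a | a
      · exact perp_zero hx a (by omega)
      all_goals exact perp_two hx (by omega)
  · obtain ⟨hall, e, he, hone⟩ := odd_shape32 hx ho
    have : x pA = 1 ∨ x pA = -1 := by
      by_contra h
      have h3 : x pA = 3 ∨ x pA = -3 := by rcases hall pA with a | a | a | a <;> omega
      have hA : pA = e := by
        by_contra hne
        have := (abs_eq (by norm_num)).1 (hone pA hne)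
        omega
      have := (abs_eq (by norm_num)).1 (hone pB (hA ▸ (by decide)))
      omega
    exact perp_odd hx (by omega)

theorem perp_target {x : GolayPt → ℤ} (hx : x ∈ shell 32) (hA : x pA = 4) (hB : x pB = -4) :
    x = fun p => if p = pA then 4 else if p = pB then -4 else 0 := by
  obtain ⟨hall, hc⟩ := (even_shape32 hx (a := pA) (by omega)).resolve_right fun h => by
    rcases h.1 pA with e | e | e <;> omega
  have heq : absSet x 4 = {pA, pB} := (Finset.eq_of_subset_of_card_le (by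
    intro p hp
    simp only [Finset.mem_insert, Finset.mem_singleton] at hp
    rcases hp with rfl | rfl <;> rw [mem_absSet] <;> simp [hA, hB]) (by rw [hc, Finset.card_pair (by decide)])).symm
  funext p
  by_cases h1 : p = pA
  · rw [if_pos h1, h1, hA]
  by_cases h2 : p = pB
  · rw [if_neg h1, if_pos h2, h2, hB]
  rw [if_neg h1, if_neg h2]
  rcases hall p with e | e | e
  · exact e
  all_goals
    have : p ∈ absSet x 4 := mem_absSet.2 (by rw [e]; norm_num)
    rw [heq] at this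
    simp [h1, h2] at this

theorem pairFix_neg {x y : GolayPt → ℤ} (h : PairFix x y) : PairFix (-x) (-y) := by
  obtain ⟨hx, g, hg, rfl⟩ := h
  exact ⟨neg_mem hx, g, hg, congrArg Subtype.val (map_neg (co0Hom g) ⟨x, hx⟩)⟩

/-- Orthogonal vectors are equivalent up to sign. -/
theorem pairFix_perp {x : GolayPt → ℤ} (hx : x ∈ shell 32) (hs : x pA + x pB = 0) :
    PairFix x (fun p => if p = pA then 4 else if p = pB then -4 else 0) ∨
      PairFix (-x) (fun p => if p = pA then 4 else if p = pB then -4 else 0) := by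
  obtain ⟨y, hy, ⟨a, b⟩ | ⟨a, b⟩⟩ := reachPerp hx hs
  · exact Or.inl (perp_target (hy.mem_shell_right hx) a b ▸ hy)
  · have hn := pairFix_neg hy
    exact Or.inr (perp_target (hn.mem_shell_right (neg_mem_shell hx)) (by simp [a]) (by simp [b]) ▸ hn)

/-! ### Norm 48, inner product -16 -/

/-- An equivalent vector with `-5` and `1` at the two points. -/
def ReachFive (x : GolayPt → ℤ) : Prop := ∃ y, PairFix x y ∧ y pA = -5 ∧ y pB = 1

theorem ReachFive.of_fix {x y : GolayPt → ℤ} (h : PairFix x y) (hy : ReachFive y) : ReachFive x := by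
  obtain ⟨z, hz, e⟩ := hy; exact ⟨z, h.trans hz, e⟩

theorem PairFix.sqNorm_eq {x y : GolayPt → ℤ} (h : PairFix x y) : sqNorm y = sqNorm x := by
  obtain ⟨hx, g, -, rfl⟩ := h; exact co0_sqNorm g _

theorem PairFix.mem_shell_right' {N : ℤ} {x y : GolayPt → ℤ} (h : PairFix x y) (hx : x ∈ shell N) : y ∈ shell N :=
  mem_shell.2 ⟨h.symm.1, h.sqNorm_eq.trans (mem_shell.1 hx).2⟩

theorem odd_shape48 {x : GolayPt → ℤ} (hx : x ∈ shell 48) {a : GolayPt} (ha : x a % 2 = 1) :
    (∀ p, |x p| = 1 ∨ |x p| = 3 ∨ |x p| = 5) ∧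
      (((absSet x 5).card = 1 ∧ (absSet x 3).card = 0) ∨ ((absSet x 5).card = 0 ∧ (absSet x 3).card = 3)) := by
  obtain ⟨hL, hn⟩ := mem_shell.1 hx
  obtain ⟨y, hy, habs⟩ := exists_odd_normal hL ((parity_coord hL none a).trans ha)
  obtain ⟨c1, c2, hall⟩ := odd_counts (N := 48) (hy.sqNorm_eq.trans hn) (by norm_num) fun p => (habs p).2
  have h7 : (Finset.univ.filter fun p => y p = -7).card = 0 := by omega
  have hv : ∀ p, y p = 1 ∨ y p = -3 ∨ y p = 5 := fun p => by
    rcases hall p with h | h | h | h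
    · exact Or.inl h
    · exact Or.inr (Or.inl h)
    · exact Or.inr (Or.inr h)
    · exact absurd (Finset.mem_filter.2 ⟨Finset.mem_univ p, h⟩) (by rw [Finset.card_eq_zero.1 h7]; simp)
  have e3 : absSet x 3 = Finset.univ.filter fun p => y p = -3 := by
    ext p
    rw [mem_absSet, Finset.mem_filter, ← (habs p).1]
    rcases hv p with e | e | e <;> simp [e]
  have e5 : absSet x 5 = Finset.univ.filter fun p => y p = 5 := by
    ext p
    rw [mem_absSet, Finset.mem_filter, ← (habs p).1]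
    rcases hv p with e | e | e <;> simp [e]
  refine ⟨fun p => ?_, by rw [e3, e5]; omega⟩
  rw [← (habs p).1]
  rcases hv p with e | e | e <;> simp [e]

theorem even_shape48 {x : GolayPt → ℤ} (hx : x ∈ shell 48) {a : GolayPt} (ha : x a % 2 = 0) :
    (∀ p, x p = 0 ∨ |x p| = 2 ∨ |x p| = 4) ∧
      (((absSet x 2).card = 8 ∧ (absSet x 4).card = 1) ∨ ((absSet x 2).card = 12 ∧ (absSet x 4).card = 0)) := by
  obtain ⟨hL, hn⟩ := mem_shell.1 hx
  have he := (parity_coord hL none a).trans ha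
  obtain ⟨k, hk, hk', hsum, hnorm, hall, hS⟩ := even_shapes hL he (N := 48) hn (by norm_num)
  have hk0 : k ≠ 0 := fun h0 => by
    have hsum8 := even_sum hL he
    have h4 : ∀ p, x p % 8 = if p ∈ absSet x 4 then 4 else 0 := fun p => by
      rcases hall p with e | e | e | e | e
      · rw [if_neg (by rw [mem_absSet, e]; norm_num), abs_eq_zero.1 e]; rfl
      · exact absurd (mem_absSet.2 e) (by rw [absSet_eq_empty (x := x) (v := 2) (by omega)]; simp)
      · rw [if_pos (mem_absSet.2 e)]; rcases (abs_eq (by norm_num)).1 e with e' | e' <;> rw [e'] <;> rfl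
      · exact absurd (mem_absSet.2 e) (by rw [absSet_eq_empty (x := x) (v := 6) (by omega)]; simp)
      · exact absurd (mem_absSet.2 e) (by rw [absSet_eq_empty (x := x) (v := 8) (by omega)]; simp)
    have hd : (8 : ℤ) ∣ ∑ p, (x p - if p ∈ absSet x 4 then 4 else 0) := Finset.dvd_sum fun p _ => by
      have := h4 p
      by_cases hh : p ∈ absSet x 4
      · rw [if_pos hh] at this ⊢; omega
      · rw [if_neg hh] at this ⊢; omega
    rw [Finset.sum_sub_distrib, Finset.sum_ite_mem, Finset.univ_inter, Finset.sum_const, nsmul_eq_mul] at hd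
    omega
  refine ⟨fun p => ?_, ?_⟩
  · rcases no_eight hall (by omega) p with e | e | e | e
    · exact Or.inl (abs_eq_zero.1 e)
    · exact Or.inr (Or.inl e)
    · exact Or.inr (Or.inr e)
    · exact absurd (mem_absSet.2 e) (by rw [absSet_eq_empty (x := x) (v := 6) (by omega)]; simp)
  · omega

theorem reachFive_swap {x : GolayPt → ℤ} (hx : x ∈ leechLattice) (h : x pA = 1 ∧ x pB = -5) : ReachFive x := by
  obtain ⟨σ, hσ, s1, s2⟩ := exists_swap_pair
  exact ⟨_, pairFix_perm hx hσ (Or.inr ⟨s1, s2⟩), by simp only [(Equiv.symm_apply_eq σ).2 s2.symm, h.2],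
    by simp only [(Equiv.symm_apply_eq σ).2 s1.symm, h.1]⟩

theorem reachFive_of_six {x : GolayPt → ℤ} (hx : x ∈ leechLattice) (hs : x pA + x pB = -4) {u v : GolayPt}
    (hn : [pA, pB, u, v].Nodup) (h : x v - x u = 6 ∨ x v - x u = -6) : ReachFive x := by
  obtain ⟨z, hz, z1, z2⟩ := pairFix_step hx hn
  refine ReachFive.of_fix hz ?_
  rcases h with h | h
  · exact reachFive_swap hz.symm.1 ⟨by omega, by omega⟩
  · exact ⟨z, PairFix.refl hz.symm.1, by omega, by omega⟩

theorem five_two_four {x : GolayPt → ℤ} (hx : x ∈ shell 48) (hA : x pA = -2) (hB : x pB = -2) {j : GolayPt}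
    (hj : |x j| = 4) : ReachFive x := by
  obtain ⟨hL, -⟩ := mem_shell.1 hx
  obtain ⟨hall, hc⟩ := even_shape48 hx (a := pA) (by omega)
  have hjc : 0 < (absSet x 4).card := Finset.card_pos.2 ⟨j, mem_absSet.2 hj⟩
  obtain ⟨u, v, hu, hv, hn⟩ := exists_card_two (s := absSet x 2) (by omega)
  rw [mem_absSet] at hu
  have j1 : j ≠ pA := fun h => by rw [h, hA] at hj; norm_num at hj
  have j2 : j ≠ pB := fun h => by rw [h, hB] at hj; norm_num at hj
  have uj : u ≠ j := fun h => by rw [h] at hu; omega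
  simp only [List.nodup_cons, List.mem_cons, List.not_mem_nil, or_false, not_or] at hn
  have hn' := nodup_of_ne (Ne.symm hn.1.2.1) (Ne.symm hn.2.1.1) j1 j2 uj
  obtain ⟨y, hy, yA, yB, yu, yj, hle⟩ := pairFix_opposite hL hn'
  refine ReachFive.of_fix hy (reachFive_of_six hy.symm.1 (by omega) hn' ?_)
  rw [hu] at yu
  rw [hj] at yj
  rcases (abs_eq (by norm_num)).1 yu with a | a <;> rcases (abs_eq (by norm_num)).1 yj with b | b <;>
    rw [a, b] at hle ⊢ <;> omega

theorem five_zero_four {x : GolayPt → ℤ} (hx : x ∈ shell 48)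
    (hab : x pA = -4 ∧ x pB = 0 ∨ x pA = 0 ∧ x pB = -4) : ReachFive x := by
  obtain ⟨hL, -⟩ := mem_shell.1 hx
  obtain ⟨hall, hc⟩ := even_shape48 hx (a := pA) (by omega)
  obtain ⟨u, v, hu, hv, hn⟩ := exists_card_two (s := absSet x 2) (by omega)
  rw [mem_absSet] at hu hv
  obtain ⟨y, hy, eA, eB, ej, ek⟩ : ∃ y, PairFix x y ∧ y pA = x pA ∧ y pB = x pB ∧ |y u| = 2 ∧ y u = y v := by
    by_cases h : x u = x v
    · exact ⟨x, PairFix.refl hL, rfl, rfl, hu, h⟩
    obtain ⟨y, hy, e1, e2, e3, e4⟩ := pairFix_separate hL hn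
    refine ⟨y, hy, e1, e2, by rw [e3, abs_neg, hu], ?_⟩
    rw [e3, e4]
    rcases (abs_eq (by norm_num)).1 hu with a | a <;> rcases (abs_eq (by norm_num)).1 hv with b | b <;> omega
  obtain ⟨z, hz, z1, z2, ⟨a, za⟩, b, zb⟩ := pairFix_step_full hy.symm.1 hn
  rw [← ek, eA, eB] at z1 z2 za zb
  have hu4 : y u = 2 ∨ y u = -2 := (abs_eq (by norm_num)).1 ej
  have hzS := hz.mem_shell_right' (hy.mem_shell_right' hx)
  refine ReachFive.of_fix (hy.trans hz) ?_
  rcases (show (z a = 4 ∨ z a = -4) ∨ (z b = 4 ∨ z b = -4) by omega) with h | h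
  · exact five_two_four hzS (by omega) (by omega) ((abs_eq (by norm_num)).2 h)
  · exact five_two_four hzS (by omega) (by omega) ((abs_eq (by norm_num)).2 h)

theorem five_two {x : GolayPt → ℤ} (hx : x ∈ shell 48) (hA : x pA = -2) (hB : x pB = -2) : ReachFive x := by
  obtain ⟨hL, -⟩ := mem_shell.1 hx
  obtain ⟨hall, hc⟩ := even_shape48 hx (a := pA) (by omega)
  by_cases h4 : 0 < (absSet x 4).card
  · obtain ⟨j, hj⟩ := Finset.card_pos.1 h4
    exact five_two_four hx hA hB (mem_absSet.1 hj)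
  obtain ⟨u, v, hu, hv, hn⟩ := exists_card_two (s := absSet x 2) (by omega)
  obtain ⟨y, hy, yA, yB, yu, yv, hle⟩ := pairFix_opposite hL hn
  rw [mem_absSet.1 hu] at yu
  rw [mem_absSet.1 hv] at yv
  obtain ⟨z, hz, z1, z2⟩ := pairFix_step hy.symm.1 hn
  rw [yA, yB, hA, hB] at z1 z2
  refine ReachFive.of_fix (hy.trans hz) (five_zero_four (hz.mem_shell_right' (hy.mem_shell_right' hx)) ?_)
  rcases (abs_eq (by norm_num)).1 yu with a | a <;> rcases (abs_eq (by norm_num)).1 yv with b | b <;>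
    rw [a, b] at hle z1 z2 <;> omega

theorem five_odd {x : GolayPt → ℤ} (hx : x ∈ shell 48)
    (hab : x pA = -3 ∧ x pB = -1 ∨ x pA = -1 ∧ x pB = -3) : ReachFive x := by
  obtain ⟨hL, -⟩ := mem_shell.1 hx
  obtain ⟨hall, hc⟩ := odd_shape48 hx (a := pA) (by omega)
  have hne : 0 < (absSet x 3).card := Finset.card_pos.2 (by
    rcases hab with ⟨a, -⟩ | ⟨-, a⟩
    · exact ⟨pA, mem_absSet.2 (by rw [a]; norm_num)⟩
    · exact ⟨pB, mem_absSet.2 (by rw [a]; norm_num)⟩)
  have hrest : 2 ≤ ((absSet x 3) \ {pA, pB}).card := by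
    have h1 : absSet x 3 ∩ {pA, pB} ⊆ if x pA = -3 then {pA} else {pB} := by
      intro p hp
      simp only [Finset.mem_inter, Finset.mem_insert, Finset.mem_singleton, mem_absSet] at hp
      rcases hab with ⟨a, b⟩ | ⟨a, b⟩ <;> rcases hp.2 with rfl | rfl <;> simp_all
    have h2 := Finset.card_le_card h1
    have h3 := Finset.card_sdiff_add_card_inter (absSet x 3) {pA, pB}
    split at h2 <;> rw [Finset.card_singleton] at h2 <;> omega
  obtain ⟨u, hu, v, hv, huv⟩ := Finset.one_lt_card.1 hrest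
  simp only [Finset.mem_sdiff, Finset.mem_insert, Finset.mem_singleton, not_or, mem_absSet] at hu hv
  have hn := nodup_of_ne hu.2.1 hu.2.2 hv.2.1 hv.2.2 huv
  obtain ⟨y, hy, yA, yB, yu, yv, hle⟩ := pairFix_opposite hL hn
  refine ReachFive.of_fix hy (reachFive_of_six hy.symm.1 (by omega) hn ?_)
  rw [hu.1] at yu
  rw [hv.1] at yv
  rcases (abs_eq (by norm_num)).1 yu with a | a <;> rcases (abs_eq (by norm_num)).1 yv with b | b <;>
    rw [a, b] at hle ⊢ <;> omega

/-- Every norm-48 vector with inner product -16 reaches `(-5, 1)`. -/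
theorem reachFive {x : GolayPt → ℤ} (hx : x ∈ shell 48) (hs : x pA + x pB = -4) : ReachFive x := by
  obtain ⟨hL, -⟩ := mem_shell.1 hx
  rcases Int.emod_two_eq_zero_or_one (x pA) with he | ho
  · obtain ⟨hall, -⟩ := even_shape48 hx he
    have hb : ∀ p, x p = 0 ∨ x p = 2 ∨ x p = -2 ∨ x p = 4 ∨ x p = -4 := fun p => by
      rcases hall p with e | e | e
      · exact Or.inl e
      all_goals rcases (abs_eq (by norm_num)).1 e with e' | e' <;> omega
    have hnot : ¬ (x pA = -4 ∧ x pB = -4) := by omega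
    rcases hb pA with a | a | a | a | a <;> rcases hb pB with b | b | b | b | b <;> try omega
    · exact five_zero_four hx (Or.inr ⟨a, b⟩)
    · exact five_two hx a b
    · exact five_zero_four hx (Or.inl ⟨a, b⟩)
  · obtain ⟨hall, hc⟩ := odd_shape48 hx ho
    have hb : ∀ p, x p = 1 ∨ x p = -1 ∨ x p = 3 ∨ x p = -3 ∨ x p = 5 ∨ x p = -5 := fun p => by
      rcases hall p with e | e | e <;> rcases (abs_eq (by norm_num)).1 e with e' | e' <;> omega
    rcases hb pA with a | a | a | a | a | a <;> rcases hb pB with b | b | b | b | b | b <;> try omega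
    · exact reachFive_swap hL ⟨a, b⟩
    · exact five_odd hx (Or.inr ⟨a, b⟩)
    · exact five_odd hx (Or.inl ⟨a, b⟩)
    · exact ⟨x, PairFix.refl hL, a, b⟩

/-- Any two vectors of the shape `(-5, 1)` are equivalent. -/
theorem pairFix_five {x y : GolayPt → ℤ} (hx : x ∈ shell 48) (hy : y ∈ shell 48) (xA : x pA = -5) (xB : x pB = 1)
    (yA : y pA = -5) (yB : y pB = 1) : PairFix x y := by
  have hone : ∀ z : GolayPt → ℤ, z ∈ shell 48 → z pA = -5 → ∀ p, p ≠ pA → z p = 1 ∨ z p = -1 := by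
    intro z hz zA p hp
    obtain ⟨hall, hc⟩ := odd_shape48 hz (a := pA) (by omega)
    have h5 : pA ∈ absSet z 5 := mem_absSet.2 (by rw [zA]; norm_num)
    obtain ⟨⟨c5, c3⟩⟩ | ⟨c5, -⟩ := hc
    · rcases hall p with e | e | e
      · exact (abs_eq (by norm_num)).1 e
      · exact absurd (mem_absSet.2 e) (by rw [absSet_eq_empty c3]; simp)
      · exact absurd (Finset.card_le_one.1 c5.le p (mem_absSet.2 e) pA h5) hp
    · rw [absSet_eq_empty c5] at h5; simp at h5
  obtain ⟨-, -, -, h3⟩ := mem_leechLattice_iff.1 (mem_shell.1 hx).1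
  obtain ⟨-, -, -, h3'⟩ := mem_leechLattice_iff.1 (mem_shell.1 hy).1
  have hD := symmDiff_mem_supports (h3 1) (h3' 1)
  have hmem : ∀ (z : GolayPt → ℤ) (p : GolayPt), p ∈ (Finset.univ.filter fun i => z i ≡ 1 [ZMOD 4]) ↔ z p % 4 = 1 :=
    fun z p => by rw [Finset.mem_filter]; exact and_iff_right (Finset.mem_univ p)
  have hf := pairFix_flip (mem_shell.1 hx).1 hD (by simp only [Finset.mem_symmDiff, hmem, xA, yA]; decide)
    (by simp only [Finset.mem_symmDiff, hmem, xB, yB]; decide)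
  convert hf using 1
  funext p
  simp only [Finset.mem_symmDiff, hmem]
  by_cases hp : p = pA
  · subst hp; simp [xA, yA]
  rcases hone x hx xA p hp with a | a <;> rcases hone y hy yA p hp with b | b <;> simp [a, b]

/-- All norm-48 vectors with inner product -16 are equivalent. -/
theorem pairFix_fortyEight {x y : GolayPt → ℤ} (hx : x ∈ shell 48) (hy : y ∈ shell 48) (xs : x pA + x pB = -4)
    (ys : y pA + y pB = -4) : PairFix x y := by
  obtain ⟨a, ha, aA, aB⟩ := reachFive hx xs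
  obtain ⟨b, hb, bA, bB⟩ := reachFive hy ys
  exact ha.trans ((pairFix_five (ha.mem_shell_right' hx) (hb.mem_shell_right' hy) aA aB bA bB).trans hb.symm)

/-- Moving a norm-32 vector to `pairBase`. -/
theorem exists_to_pairBase (v : leechLattice) (hv : sqNorm (v : GolayPt → ℤ) = 32) :
    ∃ h : Co0, h • v = pairL ∧ ∀ (u : leechLattice) (k : ℤ), dotInt (v : GolayPt → ℤ) (u : GolayPt → ℤ) = 4 * k →
      ((h • u : leechLattice) : GolayPt → ℤ) pA + ((h • u : leechLattice) : GolayPt → ℤ) pB = k := by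
  obtain ⟨h, hh⟩ := exists_smul_eq_of_moves (moves32 v.2 hv) (moves32 pairL.2 pairBase_check.2.1)
  refine ⟨h, hh, fun u k hk => ?_⟩
  have h1 := co0_dot h v u
  rw [hh, show ((pairL : leechLattice) : GolayPt → ℤ) = pairBase from rfl, dot_pairBase, hk] at h1
  omega

/-- The stabiliser of a norm-32 vector relates vectors equivalent over `pairBase`. -/
theorem exists_fix_of_rel {v w w' : leechLattice} {h : Co0} (hh : h • v = pairL)
    (hf : PairFix ((h • w : leechLattice) : GolayPt → ℤ) ((h • w' : leechLattice) : GolayPt → ℤ)) :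
    ∃ g : Co0, g • v = v ∧ g • w = w' := by
  obtain ⟨hx, g, hg, e⟩ := hf
  have e' : g • (h • w) = h • w' := Subtype.ext e
  refine ⟨h⁻¹ * g * h, ?_, ?_⟩
  · rw [mul_smul, mul_smul, hh, hg, ← hh, inv_smul_smul]
  · rw [mul_smul, mul_smul, e', inv_smul_smul]

/-- The stabiliser of a norm-32 vector is transitive on norm-48 vectors with inner product -16. -/
theorem exists_fix_fortyEight {v w w' : leechLattice} (hv : sqNorm (v : GolayPt → ℤ) = 32)
    (hw : sqNorm (w : GolayPt → ℤ) = 48) (hw' : sqNorm (w' : GolayPt → ℤ) = 48)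
    (hd : dotInt (v : GolayPt → ℤ) (w : GolayPt → ℤ) = -16) (hd' : dotInt (v : GolayPt → ℤ) (w' : GolayPt → ℤ) = -16) :
    ∃ g : Co0, g • v = v ∧ g • w = w' := by
  obtain ⟨h, hh, hk⟩ := exists_to_pairBase v hv
  exact exists_fix_of_rel hh (pairFix_fortyEight (mem_shell.2 ⟨(h • w).2, (co0_sqNorm h w).trans hw⟩)
    (mem_shell.2 ⟨(h • w').2, (co0_sqNorm h w').trans hw'⟩) (hk w (-4) (hd.trans (by norm_num)))
    (hk w' (-4) (hd'.trans (by norm_num))))

end Cfsg.Lib.Concrete
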