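import Cfsg.Agent.Lib.Concrete.LeechCo3OrbitA
import Cfsg.Agent.Lib.Concrete.LeechCo3OrbitB
import Cfsg.Agent.Lib.Concrete.LeechCo3OrbitC
import Cfsg.Agent.Lib.Concrete.LeechCo3OrbitD
import Cfsg.Agent.Lib.Concrete.LeechSimpleGroups
import Cfsg.Agent.S1640

/-!
The five orbits of a point stabiliser on the 11178 vectors with product -16 with a norm-48 vector.
-/

set_option autoImplicit false
set_option maxRecDepth 10000

namespace Cfsg.Lib.Concrete

open Cfsg

/-- The base point of the 11178. -/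
def coFiveBase : GolayPt → ℤ := fun p => if p ∈ mset 5279 then -2 else 0

/-- The vectors with product -16 with `u`. -/
def coSixteenSet (u : leechLattice) : Set leechLattice :=
  {x | sqNorm (x : GolayPt → ℤ) = 32 ∧ dotInt (u : GolayPt → ℤ) (x : GolayPt → ℤ) = -16}

theorem coFive_gens : certGensOk coThreeFiveGens coThreeFiveCols = true := by decide +kernel

theorem coFive_fix : gensOk coThreeFiveGens [coordList fiveVec, coordList coFiveBase] = true := by decide +kernel

theorem coFive_base : inLeech coFiveBase = true ∧ sqNorm coFiveBase = 32 ∧ dotInt fiveVec coFiveBase = -16 := by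
  decide +kernel

/-- The roots of the four classes. -/
def coFiveRoot : Fin 4 → ℕ := ![36973142506657256026500864405, 37011837580076888280738002805,
  32351348540704229690272417894, 37630949268399181314263578485]

theorem coFiveRoot_check : ∀ i : Fin 4,
    inLeech (codeVec (coFiveRoot i)) = true ∧ sqNorm (codeVec (coFiveRoot i)) = 32 ∧
    dotInt fiveVec (codeVec (coFiveRoot i)) = -16 ∧
    dotInt coFiveBase (codeVec (coFiveRoot i)) = ![-8, 16, 0, 8] i := by decide +kernel

/-- The base point as a lattice vector. -/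
def coFiveX : leechLattice := ⟨coFiveBase, mem_leech_of_inLeech coFive_base.1⟩

theorem coFiveX_mem : coFiveX ∈ coSixteenSet fiveL := coFive_base.2

theorem sixteen_rank_five : ∃ a ∈ coSixteenSet fiveL, ∃ b ∈ coSixteenSet fiveL, ∃ c ∈ coSixteenSet fiveL,
    ∃ d ∈ coSixteenSet fiveL,
    (MulAction.orbit ↥(MulAction.stabilizer Co0 fiveL ⊓ MulAction.stabilizer Co0 coFiveX) a).ncard = 352 ∧
    (MulAction.orbit ↥(MulAction.stabilizer Co0 fiveL ⊓ MulAction.stabilizer Co0 coFiveX) b).ncard = 1100 ∧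
    (MulAction.orbit ↥(MulAction.stabilizer Co0 fiveL ⊓ MulAction.stabilizer Co0 coFiveX) c).ncard = 4125 ∧
    (MulAction.orbit ↥(MulAction.stabilizer Co0 fiveL ⊓ MulAction.stabilizer Co0 coFiveX) d).ncard = 5600 ∧
    coSixteenSet fiveL = {coFiveX} ∪
      MulAction.orbit ↥(MulAction.stabilizer Co0 fiveL ⊓ MulAction.stabilizer Co0 coFiveX) a ∪
      MulAction.orbit ↥(MulAction.stabilizer Co0 fiveL ⊓ MulAction.stabilizer Co0 coFiveX) b ∪
      MulAction.orbit ↥(MulAction.stabilizer Co0 fiveL ⊓ MulAction.stabilizer Co0 coFiveX) c ∪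
      MulAction.orbit ↥(MulAction.stabilizer Co0 fiveL ⊓ MulAction.stabilizer Co0 coFiveX) d := by
  classical
  set H := MulAction.stabilizer Co0 fiveL ⊓ MulAction.stabilizer Co0 coFiveX with hH
  have hfix : ∀ h ∈ H, h • fiveL = fiveL ∧ h • coFiveX = coFiveX := fun h hh => hh
  have hgens : ∀ M (hM : matOk M = true), M ∈ coThreeFiveGens → matCo0 M hM ∈ H := by
    intro M hM hmem
    have hg := List.all_eq_true.1 coFive_fix M hmem
    simp only [Bool.and_eq_true, List.all_eq_true] at hg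
    exact ⟨smul_of_mapsTo hM (hg.2 (coordList fiveVec) (by simp)) (keyVec_coordList _).symm (keyVec_coordList _).symm,
      smul_of_mapsTo hM (hg.2 (coordList coFiveBase) (by simp)) (keyVec_coordList _).symm (keyVec_coordList _).symm⟩
  have hT : (coSixteenSet fiveL).ncard = 11178 := (Cfsg.Agent.S1640.result fiveL fiveL_norm).1
  have hTfin : (coSixteenSet fiveL).Finite := Set.finite_of_ncard_ne_zero (by rw [hT]; norm_num)
  let Y : Fin 5 → leechLattice := ![⟨_, mem_leech_of_inLeech (coFiveRoot_check 0).1⟩,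
    ⟨_, mem_leech_of_inLeech (coFiveRoot_check 1).1⟩, ⟨_, mem_leech_of_inLeech (coFiveRoot_check 2).1⟩,
    ⟨_, mem_leech_of_inLeech (coFiveRoot_check 3).1⟩, coFiveX]
  have hY : ∀ i, Y i ∈ coSixteenSet fiveL := by
    intro i
    fin_cases i
    · exact ⟨(coFiveRoot_check 0).2.1, (coFiveRoot_check 0).2.2.1⟩
    · exact ⟨(coFiveRoot_check 1).2.1, (coFiveRoot_check 1).2.2.1⟩
    · exact ⟨(coFiveRoot_check 2).2.1, (coFiveRoot_check 2).2.2.1⟩
    · exact ⟨(coFiveRoot_check 3).2.1, (coFiveRoot_check 3).2.2.1⟩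
    · exact coFiveX_mem
  have hTH : ∀ h ∈ H, ∀ z ∈ coSixteenSet fiveL, h • z ∈ coSixteenSet fiveL := fun h hh z hz =>
    ⟨(co0_sqNorm h z).trans hz.1, by
      have := co0_dot h fiveL z
      rw [(hfix h hh).1] at this
      exact this.trans hz.2⟩
  have hfin : ∀ i, (MulAction.orbit H (Y i)).Finite := fun i => hTfin.subset (by
    rintro _ ⟨h, rfl⟩
    exact hTH _ h.2 _ (hY i))
  have hd : ∀ i, dotInt (coFiveX : GolayPt → ℤ) (Y i : GolayPt → ℤ) = ![-8, 16, 0, 8, 32] i := by
    intro i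
    fin_cases i
    · exact (coFiveRoot_check 0).2.2.2
    · exact (coFiveRoot_check 1).2.2.2
    · exact (coFiveRoot_check 2).2.2.2
    · exact (coFiveRoot_check 3).2.2.2
    · exact (dotInt_self _).trans coFive_base.2.1
  obtain ⟨h, hU⟩ := orbit_ncard_of_classes H coFiveX (fun h hh => (hfix h hh).2) _ hTfin hTH Y hY
    (fun i j e => by simp only [hd] at e; revert e; fin_cases i <;> fin_cases j <;> simp)
    ![352, 1100, 4125, 5600, 1] (fun i => by
      fin_cases i
      · exact le_orbit_of_cert _ _ _ _ _ _ coFive_gens coFiveA_ok H hgens (Y 0) rfl (hfin 0)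
      · exact le_orbit_of_cert _ _ _ _ _ _ coFive_gens coFiveB_ok H hgens (Y 1) rfl (hfin 1)
      · exact le_orbit_of_cert _ _ _ _ _ _ coFive_gens coFiveC_ok H hgens (Y 2) rfl (hfin 2)
      · exact le_orbit_of_cert _ _ _ _ _ _ coFive_gens coFiveD_ok H hgens (Y 3) rfl (hfin 3)
      · exact (Set.ncard_pos (hfin 4)).2 (MulAction.nonempty_orbit _))
    (by rw [hT, Fin.sum_univ_five]; exact le_refl _)
  have hsingle : MulAction.orbit H (Y 4) = {coFiveX} := Set.eq_singleton_iff_unique_mem.2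
    ⟨MulAction.mem_orbit_self _, by rintro _ ⟨k, rfl⟩; exact (hfix _ k.2).2⟩
  refine ⟨_, hY 0, _, hY 1, _, hY 2, _, hY 3, h 0, h 1, h 2, h 3, hU.trans ?_⟩
  rw [← hsingle]
  ext z
  simp only [Set.mem_iUnion, Fin.exists_fin_succ, Set.mem_union]
  simp only [IsEmpty.exists_iff, or_false]
  constructor
  · rintro (h | h | h | h | h)
    exacts [Or.inl (Or.inl (Or.inl (Or.inr h))), Or.inl (Or.inl (Or.inr h)), Or.inl (Or.inr h), Or.inr h,
      Or.inl (Or.inl (Or.inl (Or.inl h)))]
  · rintro ((((h | h) | h) | h) | h)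
    exacts [Or.inr (Or.inr (Or.inr (Or.inr h))), Or.inl h, Or.inr (Or.inl h), Or.inr (Or.inr (Or.inl h)),
      Or.inr (Or.inr (Or.inr (Or.inl h)))]

theorem orbit_stab_two_smul (k : Co0) (u x y : leechLattice) :
    MulAction.orbit ↥(MulAction.stabilizer Co0 (k • u) ⊓ MulAction.stabilizer Co0 (k • x)) (k • y) =
      (k • ·) '' MulAction.orbit ↥(MulAction.stabilizer Co0 u ⊓ MulAction.stabilizer Co0 x) y := by
  ext z
  simp only [Set.mem_image, MulAction.mem_orbit_iff]
  constructor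
  · rintro ⟨⟨g, h1, h2⟩, rfl⟩
    refine ⟨(k⁻¹ * g * k) • y, ⟨⟨k⁻¹ * g * k, ?_, ?_⟩, rfl⟩, ?_⟩
    · show (k⁻¹ * g * k) • u = u
      rw [mul_smul, mul_smul, show g • k • u = k • u from h1, inv_smul_smul]
    · show (k⁻¹ * g * k) • x = x
      rw [mul_smul, mul_smul, show g • k • x = k • x from h2, inv_smul_smul]
    · rw [mul_smul, mul_smul, smul_inv_smul]; rfl
  · rintro ⟨w, ⟨⟨g, h1, h2⟩, rfl⟩, rfl⟩
    refine ⟨⟨k * g * k⁻¹, ?_, ?_⟩, ?_⟩
    · show (k * g * k⁻¹) • (k • u) = k • u
      rw [mul_smul, mul_smul, inv_smul_smul, show g • u = u from h1]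
    · show (k * g * k⁻¹) • (k • x) = k • x
      rw [mul_smul, mul_smul, inv_smul_smul, show g • x = x from h2]
    · show (k * g * k⁻¹) • (k • y) = k • g • y
      rw [mul_smul, mul_smul, inv_smul_smul]

end Cfsg.Lib.Concrete
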