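import Cfsg.Agent.Lib.Concrete.Leech

/-!
Counting vectors of the rank-24 lattice with given norm and given set of coordinate values, by
generating functions packed into natural numbers.
-/

set_option autoImplicit false

namespace Cfsg.Lib.Concrete

open Finset

/-! ### Generating functions for coordinate vectors -/

/-- One more coordinate with values in `V`; entry `s` collects the vectors of sum `s` modulo 8. -/
def tstep (B : ℕ) (V : List ℤ) (T : List ℕ) : List ℕ :=
  (List.range 8).map fun s =>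
    (V.map fun v => B ^ (v.natAbs ^ 2) * T.getD ((((s : ℕ) : ℤ) - v) % 8).toNat 0).sum

/-- The generating functions for coordinates with the values `Vs`. -/
def tdp (B : ℕ) (Vs : List (List ℤ)) : List ℕ := Vs.foldr (tstep B) [1, 0, 0, 0, 0, 0, 0, 0]

theorem tdp_spec (B : ℕ) : ∀ (n : ℕ) (L : Fin n → List ℤ), (∀ i, (L i).Nodup) → ∀ s < 8,
    (tdp B (List.ofFn L)).getD s 0 =
      ∑ x ∈ (Fintype.piFinset fun i => (L i).toFinset).filter (fun x => (∑ i, x i) % 8 = ((s : ℕ) : ℤ)),
        B ^ (∑ i, (x i).natAbs ^ 2) := by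
  intro n
  induction n with
  | zero =>
    intro L _ s hs
    interval_cases s <;> simp [tdp, Fintype.piFinset]
  | succ n ih =>
    intro L hL s hs
    have ih' := ih (fun i => L i.succ) fun i => hL _
    rw [List.ofFn_succ, tdp, List.foldr_cons, ← tdp, tstep, List.getD_eq_getElem?_getD, List.getElem?_map,
      List.getElem?_range hs, Option.map_some, Option.getD_some, ← List.sum_toFinset _ (hL 0)]
    rw [Finset.sum_filter, Finset.sum_congr rfl fun v _ => by
      rw [ih' _ (by omega), Finset.mul_sum, Finset.sum_filter]]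
    rw [← Finset.sum_product']
    refine Finset.sum_nbij' (fun p => Fin.cons p.1 p.2) (fun x => (x 0, Fin.tail x)) ?_ ?_ ?_ ?_ ?_
    · intro p hp
      obtain ⟨h1, h2⟩ := Finset.mem_product.1 hp
      refine Fintype.mem_piFinset.2 fun i => ?_
      refine Fin.cases ?_ (fun j => ?_) i
      · simpa using h1
      · simpa using Fintype.mem_piFinset.1 h2 j
    · intro x hx
      exact Finset.mem_product.2 ⟨Fintype.mem_piFinset.1 hx 0,
        Fintype.mem_piFinset.2 fun i => Fintype.mem_piFinset.1 hx i.succ⟩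
    · intro p _; simp
    · intro x _; simp
    · intro p _
      simp only [Fin.sum_univ_succ, Fin.cons_zero, Fin.cons_succ, pow_add]
      refine if_congr ?_ rfl rfl
      constructor <;> intro h <;> omega

theorem coeff_sum_pow {ι : Type*} (S : Finset ι) (f : ι → ℕ) {B : ℕ} (hB : S.card < B) (k : ℕ) :
    (∑ x ∈ S, B ^ f x) / B ^ k % B = (S.filter fun x => f x = k).card := by
  classical
  have hpos : 0 < B := by omega
  set c := (S.filter fun x => f x = k).card with hc
  have hcB : c < B := lt_of_le_of_lt (Finset.card_filter_le _ _) hB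
  set a := ∑ x ∈ S.filter (fun x => f x < k), B ^ f x with ha
  obtain ⟨d, hd⟩ : B ^ (k + 1) ∣ ∑ x ∈ S.filter (fun x => k < f x), B ^ f x :=
    Finset.dvd_sum fun x hx => pow_dvd_pow B (Finset.mem_filter.1 hx).2
  have hmid : ∑ x ∈ S.filter (fun x => f x = k), B ^ f x = c * B ^ k := by
    rw [Finset.sum_congr rfl fun x hx => by rw [(Finset.mem_filter.1 hx).2], Finset.sum_const,
      smul_eq_mul]
  have htot : ∑ x ∈ S, B ^ f x = a + B ^ k * (c + B * d) := by
    rw [mul_add, ← mul_assoc, ← pow_succ, ← hd, mul_comm (B ^ k) c, ← hmid, ha,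
      Finset.sum_filter, Finset.sum_filter, Finset.sum_filter, ← Finset.sum_add_distrib,
      ← Finset.sum_add_distrib]
    refine Finset.sum_congr rfl fun x _ => ?_
    rcases lt_trichotomy (f x) k with h | h | h
    · simp [h, h.ne, not_lt.2 h.le]
    · simp [h]
    · simp [h, h.ne', not_lt.2 h.le]
  have hlt : a < B ^ k := by
    rcases Nat.eq_zero_or_pos k with rfl | hk
    · simp [ha]
    · obtain ⟨j, rfl⟩ : ∃ j, k = j + 1 := ⟨k - 1, by omega⟩
      calc a ≤ ∑ x ∈ S.filter (fun x => f x < j + 1), B ^ j :=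
            Finset.sum_le_sum fun x hx => Nat.pow_le_pow_right hpos
              (Nat.lt_succ_iff.1 (Finset.mem_filter.1 hx).2)
        _ = (S.filter fun x => f x < j + 1).card * B ^ j := by rw [Finset.sum_const, smul_eq_mul]
        _ < B * B ^ j := Nat.mul_lt_mul_of_pos_right
            (lt_of_le_of_lt (Finset.card_filter_le _ _) hB) (pow_pos hpos j)
        _ = B ^ (j + 1) := (pow_succ' B j).symm
  rw [htot, Nat.add_mul_div_left _ _ (pow_pos hpos k), Nat.div_eq_of_lt hlt, Nat.zero_add,
    Nat.add_mul_mod_self_left, Nat.mod_eq_of_lt hcB]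

/-! ### Vectors with prescribed residues -/

/-- The members of `V` congruent to `r` modulo 4. -/
def allow (V : List ℤ) (r : ℤ) : List ℤ := V.filter fun v => decide (v % 4 = r % 4)

theorem mem_allow {V : List ℤ} {r v : ℤ} : v ∈ allow V r ↔ v ∈ V ∧ v ≡ r [ZMOD 4] := by
  simp [allow, Int.ModEq]

/-- The value lists of the coordinates: the first `k` have residue `m + 2`, the others `m`. -/
def fibLists (V : List ℤ) (m : ℤ) (k : ℕ) : List (List ℤ) :=
  List.ofFn fun i : Fin 24 => allow V (m + if i.val < k then 2 else 0)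

/-- The number of vectors of norm `N` over one code word of weight `k`. -/
def fibCount (V : List ℤ) (m : ℤ) (N k : ℕ) : ℕ :=
  (tdp (2 ^ 128) (fibLists V m k)).getD ((4 * m) % 8).toNat 0 / (2 ^ 128) ^ N % 2 ^ 128

/-- The vectors over `(m, w)` with values in `V` and norm `N`. -/
def fibSet (V : List ℤ) (N : ℕ) (m : ℤ) (w : GolayPt → ZMod 2) : Finset (GolayPt → ℤ) :=
  (Fintype.piFinset fun p => (allow V (m + 2 * ((w p).val : ℤ))).toFinset).filter fun x =>
    (∑ p, x p) % 8 = (4 * m) % 8 ∧ ∑ p, (x p).natAbs ^ 2 = N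

theorem card_fibSet (V : List ℤ) (hV : V.Nodup) (hlen : V.length ≤ 24) (N : ℕ) (m : ℤ)
    (w : GolayPt → ZMod 2) : (fibSet V N m w).card = fibCount V m N (support₂ w).card := by
  classical
  set k := (support₂ w).card with hk
  obtain ⟨e, he⟩ : ∃ e : GolayPt ≃ Fin 24, ∀ p, (e p).val < k ↔ w p ≠ 0 := by
    let e0 : GolayPt ≃ Fin 24 := ⟨gidx, gpt, gpt_gidx, gidx_gpt⟩
    have hk24 : k ≤ 24 := by
      rw [hk]; exact le_trans (Finset.card_le_univ _) le_rfl
    have hcard : Fintype.card {i : Fin 24 // w (e0.symm i) ≠ 0} = Fintype.card {i : Fin 24 // i.val < k} := by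
      rw [Fintype.card_congr (e0.symm.subtypeEquiv (q := fun p => w p ≠ 0) fun _ => Iff.rfl),
        Fintype.card_subtype, Fintype.card_fin_lt_of_le hk24]
      rfl
    let f := Fintype.equivOfCardEq hcard
    refine ⟨e0.trans f.extendSubtype, fun p => ?_⟩
    constructor
    · intro h hp
      exact f.extendSubtype_not_mem (e0 p) (by simpa using hp) h
    · intro h
      exact f.extendSubtype_mem (e0 p) (by simpa using h)
  have hres : ∀ p, m + 2 * ((w p).val : ℤ) = m + if (e p).val < k then 2 else 0 := fun p => by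
    rw [zmod_two_val]
    by_cases h : w p = 0
    · rw [if_pos h, if_neg (fun h' => (he p).1 h' h)]; simp
    · rw [if_neg h, if_pos ((he p).2 h)]; simp
  set L : Fin 24 → List ℤ := fun i => allow V (m + if i.val < k then 2 else 0) with hL
  set S := Fintype.piFinset fun i => (L i).toFinset with hS
  have hb : S.card < 2 ^ 128 := by
    rw [hS, Fintype.card_piFinset]
    calc ∏ i, ((L i).toFinset).card ≤ ∏ _i : Fin 24, 24 :=
          Finset.prod_le_prod' fun i _ =>
            (List.toFinset_card_le _).trans ((List.length_filter_le _ _).trans hlen)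
      _ < 2 ^ 128 := by simp
  have hs8 : ((4 * m) % 8).toNat < 8 := by omega
  have h := tdp_spec (2 ^ 128) 24 L (fun i => hV.filter _) _ hs8
  rw [fibCount, fibLists, h, coeff_sum_pow _ _ (lt_of_le_of_lt (Finset.card_filter_le _ _) hb),
    Finset.filter_filter]
  refine Finset.card_nbij' (fun x i => x (e.symm i)) (fun y p => y (e p)) ?_ ?_ ?_ ?_
  · intro x hx
    simp only [fibSet, Finset.coe_filter, Set.mem_setOf_eq, Fintype.mem_piFinset, List.mem_toFinset,
      hS, hL] at hx ⊢
    refine ⟨fun i => ?_, ?_, ?_⟩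
    · have := hx.1 (e.symm i)
      rwa [hres, Equiv.apply_symm_apply] at this
    · rw [Equiv.sum_comp e.symm, hx.2.1]; omega
    · rw [Equiv.sum_comp e.symm (fun p => (x p).natAbs ^ 2), hx.2.2]
  · intro y hy
    simp only [fibSet, Finset.coe_filter, Set.mem_setOf_eq, Fintype.mem_piFinset, List.mem_toFinset,
      hS, hL] at hy ⊢
    refine ⟨fun p => ?_, ?_, ?_⟩
    · rw [hres]; exact hy.1 (e p)
    · rw [Equiv.sum_comp e, hy.2.1]; omega
    · rw [Equiv.sum_comp e (fun i => (y i).natAbs ^ 2), hy.2.2]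
  · intro x _; funext p; simp
  · intro y _; funext i; simp

/-! ### The lattice count -/

/-- The code words, as a finset. -/
def codeWords : Finset (GolayPt → ZMod 2) := codeList.toFinset.image word

theorem mem_codeWords {w : GolayPt → ZMod 2} : w ∈ codeWords ↔ w ∈ golayCode := by
  simp only [codeWords, Finset.mem_image, List.mem_toFinset]
  rw [mem_golayCode_iff, codeList_eq]
  simp

theorem word_injOn : Set.InjOn word {m : ℕ | m < 2 ^ 24} := fun a ha b hb h =>
  mset_inj ha hb (by rw [← support₂_word, ← support₂_word, h])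

theorem weight_census :
    [0, 8, 12, 16, 24].map (fun k => (codeList.filter fun m => Nat.beq (pcnt m) k).length) =
      [1, 759, 2576, 759, 1] := by decide +kernel

theorem sum_codeWords (g : ℕ → ℕ) :
    ∑ w ∈ codeWords, g (support₂ w).card = g 0 + 759 * g 8 + 2576 * g 12 + 759 * g 16 + g 24 := by
  classical
  rw [codeWords, Finset.sum_image fun a ha b hb => word_injOn (codeList_lt (List.mem_toFinset.1 ha))
    (codeList_lt (List.mem_toFinset.1 hb))]
  rw [Finset.sum_congr rfl fun m _ => show g (support₂ (word m)).card = g (pcnt m) by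
    rw [support₂_word, mset_card, mcnt_eq_pcnt]]
  have hmap : ∀ m ∈ codeList.toFinset, pcnt m ∈ ({0, 8, 12, 16, 24} : Finset ℕ) := fun m hm => by
    have := List.all_eq_true.1 code_weights m (List.mem_toFinset.1 hm)
    simp only [Bool.or_eq_true, beq_iff_eq] at this
    simp only [Finset.mem_insert, Finset.mem_singleton]
    omega
  rw [← Finset.sum_fiberwise_of_maps_to hmap]
  have hf : ∀ k, ∑ m ∈ codeList.toFinset.filter (fun m => pcnt m = k), g (pcnt m) =
      (codeList.filter fun m => Nat.beq (pcnt m) k).length * g k := fun k => by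
    rw [Finset.sum_congr rfl fun m hm => by rw [(Finset.mem_filter.1 hm).2], Finset.sum_const,
      smul_eq_mul, ← List.toFinset_card_of_nodup (codeList_nodup.filter _)]
    refine congrArg (fun c => c * g k) (congrArg Finset.card (Finset.ext fun m => ?_))
    simp only [List.mem_toFinset, List.mem_filter, Finset.mem_filter, Nat.beq_eq]
  simp only [hf]
  have hc := weight_census
  simp only [List.map_cons, List.map_nil, List.cons.injEq, and_true] at hc
  obtain ⟨h0, h8, h12, h16, h24⟩ := hc
  simp [h0, h8, h12, h16, h24, add_assoc]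

/-- The count, over all code words and both parities. -/
def leechCount (V : List ℤ) (N : ℕ) : ℕ :=
  let f := fun m : ℤ => fibCount V m N 0 + 759 * fibCount V m N 8 + 2576 * fibCount V m N 12 +
    759 * fibCount V m N 16 + fibCount V m N 24
  f 0 + f 1

theorem leechForm_normal {x : GolayPt → ℤ} (hx : x ∈ leechSet) :
    ∃ m ∈ ({0, 1} : Finset ℤ), ∃ w, LeechForm x m w := by
  obtain ⟨m, w, hw, h1, h2⟩ := mem_leechSet_iff.1 hx
  refine ⟨m % 2, ?_, w + ((m / 2 : ℤ) : ZMod 2) • (1 : GolayPt → ZMod 2),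
    add_mem hw (Submodule.smul_mem _ _ one_mem_golayCode), fun i => ?_, ?_⟩
  · rcases Int.emod_two_eq_zero_or_one m with h | h <;> simp [h]
  · have hc : ((m / 2 : ℤ) : ZMod 2) = if (m / 2) % 2 = 0 then 0 else 1 := by
      rw [← ZMod.intCast_mod]
      rcases Int.emod_two_eq_zero_or_one (m / 2) with h | h <;> simp [h]
    have := h1 i
    have h01 : ∀ a : ZMod 2, a = 0 ∨ a = 1 := by decide
    have h11 : (1 : ZMod 2) + 1 = 0 := by decide
    simp only [Pi.add_apply, Pi.smul_apply, Pi.one_apply, smul_eq_mul, mul_one, zmod_two_val] at this ⊢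
    rw [hc]
    unfold Int.ModEq at this ⊢
    rcases h01 (w i) with h | h <;> rcases Int.emod_two_eq_zero_or_one (m / 2) with h' | h' <;>
      simp [h, h', h11] at this ⊢ <;> omega
  · unfold Int.ModEq at h2 ⊢
    omega

theorem leechForm_unique {x : GolayPt → ℤ} {m n : ℤ} {v w : GolayPt → ZMod 2}
    (hm : m ∈ ({0, 1} : Finset ℤ)) (hn : n ∈ ({0, 1} : Finset ℤ)) (hv : LeechForm x m v)
    (hw : LeechForm x n w) : m = n ∧ v = w := by
  simp only [Finset.mem_insert, Finset.mem_singleton] at hm hn
  have hmn : m = n := by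
    have h1 := hv.2.1 none
    have h2 := hw.2.1 none
    unfold Int.ModEq at h1 h2
    omega
  refine ⟨hmn, funext fun p => ?_⟩
  have h1 := hv.2.1 p
  have h2 := hw.2.1 p
  rw [zmod_two_val] at h1 h2
  unfold Int.ModEq at h1 h2
  have h01 : ∀ a : ZMod 2, a = 0 ∨ a = 1 := by decide
  rcases h01 (v p) with h | h <;> rcases h01 (w p) with h' | h' <;>
    simp [h, h'] at h1 h2 ⊢ <;> omega

theorem natAbs_sum_sq (x : GolayPt → ℤ) : ((∑ p, (x p).natAbs ^ 2 : ℕ) : ℤ) = sqNorm x := by
  simp only [sqNorm, Nat.cast_sum, Nat.cast_pow, Int.natCast_natAbs, sq_abs]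

/-- Vectors of norm `N` with all coordinates in `V`. -/
theorem ncard_leech_values (V : List ℤ) (hV : V.Nodup) (hlen : V.length ≤ 24) (N : ℕ) :
    {x : GolayPt → ℤ | x ∈ leechLattice ∧ sqNorm x = (N : ℤ) ∧ ∀ i, x i ∈ V}.ncard = leechCount V N := by
  classical
  set P := ({0, 1} : Finset ℤ) ×ˢ codeWords with hP
  have hset : {x : GolayPt → ℤ | x ∈ leechLattice ∧ sqNorm x = (N : ℤ) ∧ ∀ i, x i ∈ V} =
      ↑(P.biUnion fun q => fibSet V N q.1 q.2) := by
    ext x
    simp only [Set.mem_setOf_eq, Finset.mem_coe, Finset.mem_biUnion, hP, Finset.mem_product, fibSet,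
      Finset.mem_filter, Fintype.mem_piFinset, List.mem_toFinset, mem_allow, Prod.exists, mem_codeWords]
    constructor
    · rintro ⟨hx, hn, hval⟩
      obtain ⟨m, hm, w, hw, h1, h2⟩ := leechForm_normal (mem_leechLattice_iff.1 hx)
      refine ⟨m, w, ⟨hm, hw⟩, fun i => ⟨hval i, h1 i⟩, h2, ?_⟩
      have := natAbs_sum_sq x
      omega
    · rintro ⟨m, w, ⟨hm, hw⟩, h1, h2, h3⟩
      refine ⟨mem_leechLattice_iff.2 (mem_leechSet_iff.2 ⟨m, w, hw, fun i => (h1 i).2, h2⟩), ?_,
        fun i => (h1 i).1⟩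
      rw [← natAbs_sum_sq x, h3]
  rw [hset, Set.ncard_coe_finset, Finset.card_biUnion]
  · rw [hP, Finset.sum_product]
    simp only [card_fibSet V hV hlen]
    rw [Finset.sum_pair (by norm_num), sum_codeWords (fibCount V 0 N), sum_codeWords (fibCount V 1 N)]
    simp only [leechCount]
  · rintro ⟨m, v⟩ h1 ⟨n, w⟩ h2 hne
    simp only [hP, Finset.coe_product, Set.mem_prod, Finset.mem_coe, mem_codeWords] at h1 h2
    refine Finset.disjoint_left.2 fun x hx hx' => hne ?_
    simp only [fibSet, Finset.mem_filter, Fintype.mem_piFinset, List.mem_toFinset, mem_allow] at hx hx'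
    obtain ⟨e1, e2⟩ := leechForm_unique h1.1 h2.1 ⟨h1.2, fun i => (hx.1 i).2, hx.2.1⟩
      ⟨h2.2, fun i => (hx'.1 i).2, hx'.2.1⟩
    rw [e1, e2]

/-- The integers of absolute value at most `b`. -/
def symVals (b : ℕ) : List ℤ := (List.range (2 * b + 1)).map fun i => ((i : ℕ) : ℤ) - (b : ℤ)

theorem mem_symVals {b : ℕ} {v : ℤ} (h : |v| ≤ (b : ℤ)) : v ∈ symVals b := by
  obtain ⟨h1, h2⟩ := abs_le.1 h
  exact List.mem_map.2 ⟨(v + b).toNat, List.mem_range.2 (by omega), by omega⟩

theorem abs_le_of_sqNorm {x : GolayPt → ℤ} {N : ℤ} (hN : sqNorm x = N) {b : ℕ}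
    (hb : N < ((b : ℤ) + 1) ^ 2) (i : GolayPt) : |x i| ≤ (b : ℤ) := by
  have h : x i ^ 2 ≤ N := hN ▸ Finset.single_le_sum (f := fun i => x i ^ 2) (fun j _ => sq_nonneg _)
    (Finset.mem_univ i)
  rw [← sq_abs] at h
  have : |x i| ^ 2 < ((b : ℤ) + 1) ^ 2 := lt_of_le_of_lt h hb
  have := lt_of_pow_lt_pow_left₀ 2 (by positivity) this
  omega

/-- All vectors of norm `N`. -/
theorem ncard_leech_norm (N b : ℕ) (hb : N < (b + 1) ^ 2) (hlen : b ≤ 11) :
    {x : GolayPt → ℤ | x ∈ leechLattice ∧ sqNorm x = (N : ℤ)}.ncard = leechCount (symVals b) N := by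
  rw [← ncard_leech_values (symVals b) ?_ (by simp [symVals]; omega) N]
  · congr 1
    ext x
    refine ⟨fun h => ⟨h.1, h.2, fun i => mem_symVals (abs_le_of_sqNorm h.2 ?_ i)⟩,
      fun h => ⟨h.1, h.2.1⟩⟩
    exact_mod_cast hb
  · exact List.nodup_range.map fun a c h => by simpa using h

theorem leech_count32 : leechCount (symVals 5) 32 = 196560 := by decide +kernel

theorem leech_count48 : leechCount (symVals 6) 48 = 16773120 := by decide +kernel

theorem leech_count64 : leechCount (symVals 8) 64 = 398034000 := by decide +kernel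

end Cfsg.Lib.Concrete
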