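import Cfsg.Agent.Lib.Concrete.LeechCrossCore
import Cfsg.Agent.Lib.Concrete.LeechPairOrbits

/-!
The three orbits of the monomial group on the minimal vectors of the rank-24 lattice.
-/

set_option autoImplicit false

namespace Cfsg.Lib.Concrete

open Cfsg
open scoped Pointwise symmDiff

/-- The type of a minimal vector under the monomial group. -/
def shapeKind (x : GolayPt → ℤ) : Fin 3 :=
  if x none % 2 = 1 then 2 else if ∀ p, x p % 4 = 0 then 0 else 1

/-- The representatives. -/
def kindPat : Fin 3 → GolayPt → ℤ := ![vec 0 3 0 0, vec m24BaseOctad 0 0 0, fun p => if p = none then -3 else 1]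

theorem kindPat_check : ∀ i, inLeech (kindPat i) = true ∧ sqNorm (kindPat i) = 32 ∧ shapeKind (kindPat i) = i := by
  decide +kernel

/-- The representatives as lattice vectors. -/
def kindRep (i : Fin 3) : leechLattice := ⟨kindPat i, mem_leech_of_inLeech (kindPat_check i).1⟩

theorem kindRep_zero : kindRep 0 = pairL := Subtype.ext rfl

theorem shapeKind_signedPerm {σ : Equiv.Perm GolayPt} {c : Finset GolayPt} {x : GolayPt → ℤ}
    (hx : x ∈ leechLattice) : shapeKind (signedPerm σ c x) = shapeKind x := by
  have key : ∀ p, signedPerm σ c x p = x (σ.symm p) ∨ signedPerm σ c x p = -x (σ.symm p) := fun p => by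
    simp only [signedPerm]; split <;> simp
  have hodd : signedPerm σ c x none % 2 = 1 ↔ x none % 2 = 1 := by
    have := parity_coord hx (σ.symm none) none
    rcases key none with e | e <;> rw [e] <;> omega
  have h4 : (∀ p, signedPerm σ c x p % 4 = 0) ↔ ∀ p, x p % 4 = 0 := by
    constructor <;> intro h p
    · have h1 := h (σ p)
      rcases key (σ p) with e | e <;> rw [e, Equiv.symm_apply_apply] at h1 <;> omega
    · have h1 := h (σ.symm p)
      rcases key p with e | e <;> rw [e] <;> omega
  simp only [shapeKind, hodd, h4]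

theorem shapeKind_smul {g : Co0} (hg : g ∈ crossStab) (v : leechLattice) :
    shapeKind ((g • v : leechLattice) : GolayPt → ℤ) = shapeKind (v : GolayPt → ℤ) := by
  obtain ⟨σ, c, -, h⟩ := crossStab_monomial ⟨g, hg⟩
  rw [show ((g • v : leechLattice) : GolayPt → ℤ) = signedPerm σ.1 c v from h v]
  exact shapeKind_signedPerm v.2

/-- A monomial element carries `x` to `y`. -/
def MonoRel (x y : GolayPt → ℤ) : Prop :=
  ∃ (hx : x ∈ leechLattice) (g : Co0), g ∈ crossStab ∧
    ((g • (⟨x, hx⟩ : leechLattice) : leechLattice) : GolayPt → ℤ) = y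

theorem monoRel_mono {x : GolayPt → ℤ} (hx : x ∈ leechLattice) {σ : Equiv.Perm GolayPt} (hσ : σ ∈ M24)
    {c : Finset GolayPt} (hc : c ∈ codeSets) : MonoRel x (signedPerm σ c x) :=
  ⟨hx, monoCo0 σ hσ c hc, mono_mem_crossStab σ hσ c hc, monoCo0_smul σ hσ c hc _⟩

theorem MonoRel.trans {x y z : GolayPt → ℤ} (h : MonoRel x y) (h' : MonoRel y z) : MonoRel x z := by
  obtain ⟨hx, g, hg, rfl⟩ := h
  obtain ⟨hy, g', hg', rfl⟩ := h'
  exact ⟨hx, g' * g, mul_mem hg' hg, by rw [mul_smul, Subtype.coe_eta]⟩

theorem MonoRel.mem_right {x y : GolayPt → ℤ} (h : MonoRel x y) : y ∈ leechLattice := by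
  obtain ⟨hx, g, -, rfl⟩ := h
  exact (g • (⟨x, hx⟩ : leechLattice)).2

theorem signedPerm_perm (σ : Equiv.Perm GolayPt) (x : GolayPt → ℤ) :
    signedPerm σ ∅ x = fun p => x (σ.symm p) := funext fun p => by simp [signedPerm]

/-- Code words realising the sign changes on the base octad. -/
def octSignWords : List ℕ := [0, 5279, 10558, 15777, 18147, 21116, 28637, 31554, 36294, 39257, 42232, 45159, 52005, 57274, 57883, 63108, 69395, 72588, 75309, 78514, 84464, 89455, 90318, 95313, 99029, 104010, 109547, 114548, 115766, 118953, 126216, 129431, 133817, 138790, 140167, 145176, 150618, 153797, 157028, 160251, 165759, 168928, 175681, 178910, 180636, 185603, 190626, 195645, 198058, 201013, 208020, 210955, 213833, 219094, 223863, 229096, 231532, 236787, 237906, 243149, 249487, 252432, 255921, 258862, 8391797, 8394986, 8398155, 8401364, 8407702, 8412681, 8414120, 8419127, 8421811, 8426796, 8431757, 8436754, 8439632, 8442831, 8449646, 8452849, 8455014, 8460281, 8464984, 8470215, 8471941, 8474906, 8481979, 8484900, 8490656,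 8493631, 8497054, 8499969, 8505411, 8510684, 8511869, 8517090, 8521420, 8524371, 8531954, 8534893, 8536111, 8541360, 8546577, 8551822, 8555274, 8560533, 8561204, 8566443, 8572393, 8575350, 8578263, 8581192, 8587743, 8592704, 8593633, 8598654, 8605500, 8608675, 8611330, 8614557, 8619033, 8622214, 8629543, 8632760, 8635130, 8640101, 8645572, 8650587]

/-- The places of the base octad. -/
def baseIdx : List ℕ := bits24.filter fun i => m24BaseOctad.testBit i

theorem octSign_code : octSignWords.all (fun m => isCode m && decide (m < 16777216)) = true := by decide +kernel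

theorem octSign_cover : baseIdx.sublists.all (fun s =>
    !((bits24.map fun i => vec m24BaseOctad 0 0 (s.foldr (fun i a => (1 <<< i) ||| a) 0) (gpt (Fin.ofNat 24 i))).sum % 8 == 0) ||
      octSignWords.any fun w => (w &&& m24BaseOctad) == s.foldr (fun i a => (1 <<< i) ||| a) 0) = true := by
  decide +kernel

theorem fours_flips : (isCode 15777 = true ∧ (15777 : ℕ).testBit 0 = true ∧ (15777 : ℕ).testBit 1 = false) ∧
    (isCode 10558 = true ∧ (10558 : ℕ).testBit 0 = false ∧ (10558 : ℕ).testBit 1 = true) := by decide +kernel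

theorem testBit_foldr_or (s : List ℕ) (j : ℕ) :
    (s.foldr (fun i a => (1 <<< i) ||| a) 0).testBit j = decide (j ∈ s) := by
  induction s with
  | nil => simp
  | cons i s ih =>
    rw [List.foldr_cons, Nat.testBit_or, ih, Nat.one_shiftLeft, Nat.testBit_two_pow]
    by_cases h : i = j <;> simp [h, Ne.symm, eq_comm]

theorem monoRel_pair {x : GolayPt → ℤ} (hx : x ∈ shell 32) (hall : ∀ p, x p = 0 ∨ x p = 4 ∨ x p = -4)
    (hc : (absSet x 4).card = 2) : MonoRel x (kindPat 0) := by
  obtain ⟨hL, -⟩ := mem_shell.1 hx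
  obtain ⟨σ, hσ, hs, -⟩ := exists_map_small (x := absSet x 4) (y := ∅) 3 0
    (hc.trans (by decide +kernel)) (by simp [mset_zero]) (by simp) (by simp [mset_zero]) (by simp [hc])
  have h := monoRel_mono hL hσ empty_mem_codeSets
  rw [signedPerm_perm] at h
  set y := fun p => x (σ.symm p) with hy
  have hy4 : ∀ p, (y p = 4 ∨ y p = -4) ↔ (3 : ℕ).testBit (gidx p).val = true := fun p => by
    rw [← mem_mset, ← hs, ← Finset.inv_smul_mem_iff, mem_absSet]
    show _ ↔ |x (σ.symm p)| = 4
    rw [abs_eq (by norm_num : (0 : ℤ) ≤ 4)]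
  have hy0 : ∀ p, (3 : ℕ).testBit (gidx p).val = false → y p = 0 := fun p hp => by
    rcases hall (σ.symm p) with e | e | e
    · exact e
    · simp [(hy4 p).1 (Or.inl e)] at hp
    · simp [(hy4 p).1 (Or.inr e)] at hp
  obtain ⟨⟨ha, a0, a1⟩, hb, b0, b1⟩ := fours_flips
  have key : ∀ c : Finset GolayPt, c ∈ codeSets → (gpt 0 ∈ c ↔ y (gpt 0) = -4) → (gpt 1 ∈ c ↔ y (gpt 1) = -4) →
      MonoRel x (kindPat 0) := by
    intro c hc h0 h1
    have h' := h.trans (monoRel_mono h.mem_right (one_mem M24) hc)
    rwa [show signedPerm 1 c y = kindPat 0 from funext fun p => ?_] at h'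
    rw [signedPerm_one]
    show _ = vec 0 3 0 0 p
    by_cases hb3 : (3 : ℕ).testBit (gidx p).val = true
    · have hp : p = gpt 0 ∨ p = gpt 1 := by revert hb3; revert p; decide +kernel
      have hv : vec 0 3 0 0 p = 4 := by simp [vec, hb3]
      rw [hv]
      rcases hp with rfl | rfl
      · rcases (hy4 _).2 hb3 with e | e
        · rw [if_neg (fun hm => by rw [h0.1 hm] at e; norm_num at e), e]
        · rw [if_pos (h0.2 e), e]; norm_num
      · rcases (hy4 _).2 hb3 with e | e
        · rw [if_neg (fun hm => by rw [h1.1 hm] at e; norm_num at e), e]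
        · rw [if_pos (h1.2 e), e]; norm_num
    · rw [Bool.not_eq_true] at hb3
      rw [hy0 p hb3]
      simp [vec, hb3]
  rcases em (y (gpt 0) = -4) with e0 | e0 <;> rcases em (y (gpt 1) = -4) with e1 | e1
  · exact key Finset.univ mem_codeSets_univ (by simp [e0]) (by simp [e1])
  · exact key (mset 15777) ((mset_mem_supports_iff (by norm_num)).2 ha) (by simp [mem_mset, gidx_gpt, a0, e0]) (by simp [mem_mset, gidx_gpt, a1, e1])
  · exact key (mset 10558) ((mset_mem_supports_iff (by norm_num)).2 hb) (by simp [mem_mset, gidx_gpt, b0, e0]) (by simp [mem_mset, gidx_gpt, b1, e1])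
  · exact key ∅ empty_mem_codeSets (by simp [e0]) (by simp [e1])

theorem monoRel_octad {x : GolayPt → ℤ} (hx : x ∈ shell 32) (hall : ∀ p, x p = 0 ∨ x p = 2 ∨ x p = -2)
    (hO : absSet x 2 ∈ octads) : MonoRel x (kindPat 1) := by
  classical
  obtain ⟨hL, -⟩ := mem_shell.1 hx
  obtain ⟨S, hS, hSc⟩ := Finset.exists_subset_card_eq (s := absSet x 2) (show 5 ≤ (absSet x 2).card by rw [hO.2]; norm_num)
  obtain ⟨T, hT, hTc⟩ := Finset.exists_subset_card_eq (s := baseOctad) (show 5 ≤ baseOctad.card by rw [baseOctad_mem.2]; norm_num)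
  obtain ⟨σ, hσ, hs, -⟩ := exists_map_pair (x := S) (y := ∅) (x' := T) (y' := ∅) (hSc.trans hTc.symm) rfl
    (by simp) (by simp [hSc]) fun h => absurd h (by simp [hSc])
  have hbase : σ • absSet x 2 = baseOctad := perm_smul_eq_baseOctad hσ hO hSc.ge hS (hs ▸ hT)
  have h := monoRel_mono hL hσ empty_mem_codeSets
  rw [signedPerm_perm] at h
  set y := fun p => x (σ.symm p) with hy
  have hy2 : ∀ p, (y p = 2 ∨ y p = -2) ↔ m24BaseOctad.testBit (gidx p).val = true := fun p => by
    rw [← mem_mset, show mset m24BaseOctad = baseOctad from rfl, ← hbase, ← Finset.inv_smul_mem_iff, mem_absSet]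
    show _ ↔ |x (σ.symm p)| = 2
    rw [abs_eq (by norm_num : (0 : ℤ) ≤ 2)]
  set s := baseIdx.filter fun i => decide (y (gpt (Fin.ofNat 24 i)) < 0) with hsdef
  have hsmem : ∀ p, (gidx p).val ∈ s ↔ y p = -2 := fun p => by
    rw [hsdef, List.mem_filter, baseIdx, List.mem_filter, gpt_ofNat_gidx, decide_eq_true_eq, ← hy2]
    constructor
    · rintro ⟨⟨-, e | e⟩, hlt⟩
      · omega
      · exact e
    · intro e
      exact ⟨⟨mem_bits24.2 (gidx p).isLt, Or.inr e⟩, by omega⟩
  have hye : y = vec m24BaseOctad 0 0 (s.foldr (fun i a => (1 <<< i) ||| a) 0) := funext fun p => by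
    have hn : (0 : ℕ).testBit (gidx p).val = false := Nat.zero_testBit _
    simp only [vec, testBit_foldr_or, hn, decide_eq_true_eq, hsmem]
    by_cases hb : m24BaseOctad.testBit (gidx p).val = true
    · rcases (hy2 p).2 hb with e | e <;> simp [hb, e]
    · have h2 : ¬(y p = 2 ∨ y p = -2) := fun h => hb ((hy2 p).1 h)
      have h0 : y p = 0 := (hall (σ.symm p)).resolve_right h2
      simp [hb, h0]
  have hc := List.all_eq_true.1 octSign_cover s (List.mem_sublists.2 List.filter_sublist)
  have h8 : (∑ p, y p) % 8 = 0 := Int.emod_eq_zero_of_dvd (even_sum h.mem_right (by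
    rcases hall (σ.symm none) with e | e | e <;> simp [hy, e]))
  rw [← hye, sum_bits24, h8] at hc
  simp only [beq_self_eq_true, Bool.not_true, Bool.false_or, List.any_eq_true, beq_iff_eq] at hc
  obtain ⟨w, hw, hwe⟩ := hc
  have hw' := List.all_eq_true.1 octSign_code w hw
  simp only [Bool.and_eq_true, decide_eq_true_eq] at hw'
  have h' := h.trans (monoRel_mono h.mem_right (one_mem M24) ((mset_mem_supports_iff hw'.2).2 hw'.1))
  rwa [show signedPerm 1 (mset w) y = kindPat 1 from funext fun p => ?_] at h'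
  rw [signedPerm_one]
  show _ = vec m24BaseOctad 0 0 0 p
  have hbit := congrArg (fun n => n.testBit (gidx p).val) hwe
  simp only [Nat.testBit_and, testBit_foldr_or] at hbit
  by_cases hb : m24BaseOctad.testBit (gidx p).val = true
  · rw [hb, Bool.and_true] at hbit
    rcases (hy2 p).2 hb with e | e
    · rw [if_neg (by rw [mem_mset, hbit]; simp [hsmem, e]), e]; simp [vec, hb]
    · rw [if_pos (by rw [mem_mset, hbit]; simp [hsmem, e]), e]; simp [vec, hb]
  · have h2 : ¬(y p = 2 ∨ y p = -2) := fun h => hb ((hy2 p).1 h)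
    have h0 : y p = 0 := (hall (σ.symm p)).resolve_right h2
    simp [h0, vec, hb]

theorem monoRel_odd {x : GolayPt → ℤ} (hx : x ∈ shell 32) (ho : x none % 2 = 1) : MonoRel x (kindPat 2) := by
  haveI := M24_isPretransitive
  obtain ⟨hL, -⟩ := mem_shell.1 hx
  obtain ⟨hall, e, he, hone⟩ := odd_shape32 hx ho
  obtain ⟨m, -, -, h3⟩ := mem_leechLattice_iff.1 hL
  have h := monoRel_mono hL (one_mem M24) (h3 3)
  obtain ⟨σ, hσ⟩ := MulAction.exists_smul_eq M24 e (none : GolayPt)
  have h' := h.trans (monoRel_mono h.mem_right σ.2 empty_mem_codeSets)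
  rwa [signedPerm_perm, show (fun p => signedPerm 1 _ x (σ.1.symm p)) = kindPat 2 from funext fun p => ?_] at h'
  rw [signedPerm_one]
  show _ = if p = none then (-3 : ℤ) else 1
  have hmem : σ.1.symm p ∈ (Finset.univ.filter fun i => x i ≡ 3 [ZMOD 4]) ↔ x (σ.1.symm p) % 4 = 3 := by
    rw [Finset.mem_filter]; exact and_iff_right (Finset.mem_univ _)
  by_cases hp : p = none
  · rw [if_pos hp, hp, show σ.1.symm none = e from (Equiv.symm_apply_eq _).2 hσ.symm] at *
    rcases (abs_eq (by norm_num : (0 : ℤ) ≤ 3)).1 he with a | a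
    · rw [if_pos, a]
      rw [Finset.mem_filter]; exact ⟨Finset.mem_univ _, by rw [a]⟩
    · rw [if_neg, a]
      intro h
      have h' := (Finset.mem_filter.1 h).2
      rw [a] at h'; exact absurd h' (by decide)
  · have hne : σ.1.symm p ≠ e := fun h => hp (by
      rw [← σ.1.apply_symm_apply p, h]; exact hσ)
    rw [if_neg hp]
    rcases (abs_eq (by norm_num : (0 : ℤ) ≤ 1)).1 (hone _ hne) with a | a <;> simp only [hmem, a] <;> norm_num

/-- Classification of the minimal vectors under the monomial group. -/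
theorem monoRel_kind {x : GolayPt → ℤ} (hx : x ∈ shell 32) : MonoRel x (kindPat (shapeKind x)) := by
  obtain ⟨hL, -⟩ := mem_shell.1 hx
  by_cases ho : x none % 2 = 1
  · rw [shapeKind, if_pos ho]; exact monoRel_odd hx ho
  · rcases even_shape32 hx (a := none) (by omega) with ⟨hall, hc⟩ | ⟨hall, hO⟩
    · rw [shapeKind, if_neg ho, if_pos fun p => by rcases hall p with e | e | e <;> omega]
      exact monoRel_pair hx hall hc
    · rw [shapeKind, if_neg ho, if_neg]
      · exact monoRel_octad hx hall hO
      · intro h4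
        obtain ⟨p, hp⟩ := Finset.card_pos.1 (show 0 < (absSet x 2).card by rw [hO.2]; norm_num)
        rw [mem_absSet] at hp
        have := h4 p
        rcases abs_cases (x p) with ⟨e, -⟩ | ⟨e, -⟩ <;> omega

/-- Minimal vectors of the same type are in one orbit of the monomial group. -/
theorem exists_mono_smul {v w : leechLattice} (hv : sqNorm (v : GolayPt → ℤ) = 32) (hw : sqNorm (w : GolayPt → ℤ) = 32)
    (h : shapeKind (v : GolayPt → ℤ) = shapeKind (w : GolayPt → ℤ)) : ∃ g ∈ crossStab, g • v = w := by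
  obtain ⟨hx, g, hg, e⟩ := monoRel_kind (mem_shell.2 ⟨v.2, hv⟩)
  obtain ⟨hy, k, hk, e'⟩ := monoRel_kind (mem_shell.2 ⟨w.2, hw⟩)
  rw [h, ← e'] at e
  refine ⟨k⁻¹ * g, mul_mem (inv_mem hk) hg, ?_⟩
  rw [mul_smul, inv_smul_eq_iff]
  exact Subtype.ext e

/-- The sizes of the three types. -/
def kindSize : Fin 3 → ℕ := ![1104, 97152, 98304]

theorem card_kind (i : Fin 3) : ((shell 32).filter fun x => shapeKind x = i).card = kindSize i := by
  classical
  have h0 : ((shell 32).filter fun x => shapeKind x = 0).card = 1104 := by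
    rw [← leech_count_pairs.1, ← card_values_shell [-4, 0, 4] (by decide) (by decide)]
    refine congrArg Finset.card (Finset.filter_congr fun x hx => ?_)
    constructor
    · intro hk
      by_cases ho : x none % 2 = 1
      · simp [shapeKind, ho] at hk
      · rcases even_shape32 hx (a := none) (by omega) with ⟨hall, -⟩ | ⟨-, hO⟩
        · intro p; rcases hall p with e | e | e <;> simp [e]
        · obtain ⟨p, hp⟩ := Finset.card_pos.1 (show 0 < (absSet x 2).card by rw [hO.2]; norm_num)
          rw [mem_absSet] at hp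
          have hn : ¬∀ p, x p % 4 = 0 := fun h4 => by
            have := h4 p
            rcases abs_cases (x p) with ⟨e, -⟩ | ⟨e, -⟩ <;> omega
          rw [shapeKind, if_neg ho, if_neg hn] at hk
          exact absurd hk (by decide)
    · intro h
      have h4 : ∀ p, x p % 4 = 0 := fun p => by
        have := h p; simp only [List.mem_cons, List.not_mem_nil, or_false] at this; omega
      have := h4 none
      rw [shapeKind, if_neg (by omega), if_pos h4]
  have h2 : ((shell 32).filter fun x => shapeKind x = 2).card = 98304 := by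
    rw [← leech_count_pairs.2, ← card_values_shell [-3, -1, 1, 3] (by decide) (by decide)]
    refine congrArg Finset.card (Finset.filter_congr fun x hx => ?_)
    constructor
    · intro hk
      by_cases ho : x none % 2 = 1
      · intro p; rcases (odd_shape32 hx ho).1 p with e | e | e | e <;> simp [e]
      · rw [shapeKind, if_neg ho] at hk; split at hk <;> simp at hk
    · intro h
      have := h none
      simp only [List.mem_cons, List.not_mem_nil, or_false] at this
      rw [shapeKind, if_pos (by omega)]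
  have hsum := Finset.card_eq_sum_card_fiberwise (f := shapeKind) (s := shell 32) (t := Finset.univ)
    fun x _ => Finset.mem_univ _
  rw [card_shell32, Fin.sum_univ_three] at hsum
  fin_cases i
  · exact h0
  · show _ = 97152
    simp only [Fin.isValue] at hsum ⊢
    have : ((shell 32).filter fun x => shapeKind x = 1).card = 97152 := by omega
    exact this
  · exact h2

theorem ncard_kind (i : Fin 3) :
    {v : leechLattice | sqNorm (v : GolayPt → ℤ) = 32 ∧ shapeKind (v : GolayPt → ℤ) = i}.ncard = kindSize i := by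
  classical
  rw [← card_kind, ← Set.ncard_coe_finset, ← Set.ncard_image_of_injective _ Subtype.val_injective]
  refine congrArg Set.ncard (Set.ext fun x => ?_)
  simp only [Set.mem_image, Finset.coe_filter, Set.mem_setOf_eq, mem_shell]
  exact ⟨fun ⟨v, h, e⟩ => e ▸ ⟨⟨v.2, h.1⟩, h.2⟩, fun ⟨⟨hL, hn⟩, hk⟩ => ⟨⟨x, hL⟩, ⟨hn, hk⟩, rfl⟩⟩

end Cfsg.Lib.Concrete
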