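import Cfsg.Agent.Lib.Concrete.LeechSimpleGroups
import Cfsg.Agent.Lib.Concrete.LeechMatrix
import Cfsg.Agent.S1583

/-!
The hundred points of the Higman–Sims configuration in the rank-24 lattice.
-/

set_option autoImplicit false

namespace Cfsg.Lib.Concrete

open Cfsg
open MulAction

local notation "zP" => (some 0 : GolayPt)

/-- A fixed-point-free involution (matrix scaled by eight). -/
def hsInvMat : List (List ℤ) := [
  [5, 1, -3, 1, 1, 1, 1, 1, 1, 1, 1, 1, 1, 1, 1, 1, 1, 1, 1, 1, 1, 1, 1, -3],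
  [1, 1, 1, 1, -3, -3, -3, 1, 1, 1, -3, -3, 1, 1, 1, 1, 1, 1, 1, 1, 1, 1, 1, 1],
  [-3, 1, 5, 1, 1, 1, 1, 1, 1, 1, 1, 1, 1, 1, 1, 1, 1, 1, 1, 1, 1, 1, 1, -3],
  [1, 1, 1, 1, 1, -3, 1, -3, 1, -3, 1, 1, -3, 1, 1, 1, 1, 1, 1, 1, 1, 1, -3, 1],
  [1, -3, 1, 1, -3, 1, 1, 1, 1, 1, 1, 1, 1, -3, 1, 1, -3, 1, 1, 1, 1, 1, -3, 1],
  [1, -3, 1, -3, 1, -3, 1, 1, 1, 1, 1, 1, 1, 1, -3, 1, 1, -3, 1, 1, 1, 1, 1, 1],
  [1, -3, 1, 1, 1, 1, 1, 1, -3, 1, 1, -3, -3, 1, 1, 1, 1, 1, -3, 1, 1, 1, 1, 1],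
  [1, 1, 1, -3, 1, 1, 1, -3, 1, 1, 1, -3, 1, -3, 1, -3, 1, 1, 1, 1, 1, 1, 1, 1],
  [1, 1, 1, 1, 1, 1, -3, 1, -3, 1, 1, 1, 1, 1, 1, -3, 1, -3, 1, 1, 1, 1, -3, 1],
  [1, 1, 1, -3, 1, 1, 1, 1, 1, 1, -3, 1, 1, 1, 1, 1, 1, 1, -3, -3, 1, 1, -3, 1],
  [1, -3, 1, 1, 1, 1, 1, 1, 1, -3, -3, 1, 1, 1, 1, -3, 1, 1, 1, 1, -3, 1, 1, 1],
  [1, -3, 1, 1, 1, 1, -3, -3, 1, 1, 1, 1, 1, 1, 1, 1, 1, 1, 1, -3, 1, -3, 1, 1],
  [1, 1, 1, -3, 1, 1, -3, 1, 1, 1, 1, 1, -3, 1, 1, 1, -3, 1, 1, 1, -3, 1, 1, 1],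
  [1, 1, 1, 1, -3, 1, 1, -3, 1, 1, 1, 1, 1, 1, 1, 1, 1, -3, -3, 1, -3, 1, 1, 1],
  [1, 1, 1, 1, 1, -3, 1, 1, 1, 1, 1, 1, 1, 1, 1, -3, -3, 1, -3, 1, 1, -3, 1, 1],
  [1, 1, 1, 1, 1, 1, 1, -3, -3, 1, -3, 1, 1, 1, -3, 1, -3, 1, 1, 1, 1, 1, 1, 1],
  [1, 1, 1, 1, -3, 1, 1, 1, 1, 1, 1, 1, -3, 1, -3, -3, 1, 1, 1, -3, 1, 1, 1, 1],
  [1, 1, 1, 1, 1, -3, 1, 1, -3, 1, 1, 1, 1, -3, 1, 1, 1, 1, 1, -3, -3, 1, 1, 1],
  [1, 1, 1, 1, 1, 1, -3, 1, 1, -3, 1, 1, 1, -3, -3, 1, 1, 1, -3, 1, 1, 1, 1, 1],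
  [1, 1, 1, 1, 1, 1, 1, 1, 1, -3, 1, -3, 1, 1, 1, 1, -3, -3, 1, -3, 1, 1, 1, 1],
  [1, 1, 1, 1, 1, 1, 1, 1, 1, 1, -3, 1, -3, -3, 1, 1, 1, -3, 1, 1, 1, -3, 1, 1],
  [1, 1, 1, 1, 1, 1, 1, 1, 1, 1, 1, -3, 1, 1, -3, 1, 1, 1, 1, 1, -3, -3, -3, 1],
  [1, 1, 1, -3, -3, 1, 1, 1, -3, -3, 1, 1, 1, 1, 1, 1, 1, 1, 1, 1, 1, -3, 1, 1],
  [-3, 1, -3, 1, 1, 1, 1, 1, 1, 1, 1, 1, 1, 1, 1, 1, 1, 1, 1, 1, 1, 1, 1, 5]]

/-- Minus three at one point, one elsewhere. -/
def oddPt (p : GolayPt) : GolayPt → ℤ := fun q => if q = p then -3 else 1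

/-- Two on a set, zero elsewhere. -/
def twoPt (o : Finset GolayPt) : GolayPt → ℤ := fun q => if q ∈ o then 2 else 0

/-- The hexad masks. -/
def hexadMasks : List ℕ := octList.filter fun m => m.testBit 23 && m.testBit 0

/-- The hundred vectors. -/
def hundredList : List (GolayPt → ℤ) :=
  Spor.vecU :: ((List.finRange 22).map fun i => oddPt (gpt ⟨i.val + 1, by omega⟩)) ++
    hexadMasks.map fun m => fun q => if m.testBit (gidx q).val then 2 else 0

/-- A vector as a list, for comparisons. -/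
def vecKey (x : GolayPt → ℤ) : List ℤ := (List.finRange 24).map fun i => x (gpt i)

theorem vecKey_injective : Function.Injective vecKey := fun x y h => funext fun p => by
  have := List.map_inj_left.1 h (gidx p) (List.mem_finRange _)
  rwa [gpt_gidx] at this

theorem hundred_check : hundredList.length = 100 ∧ (hundredList.map vecKey).Nodup ∧
    hundredList.all (fun x => inLeech x && sqNorm x == 32 && dotInt fiveVec x == 24 &&
      dotInt fiveVecNeg x == -24) = true := by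
  decide +kernel

theorem mem_hundred {y : leechLattice} (h1 : sqNorm (y : GolayPt → ℤ) = 32)
    (h2 : dotInt (fiveL : GolayPt → ℤ) (y : GolayPt → ℤ) = 24)
    (h3 : dotInt (fiveNegL : GolayPt → ℤ) (y : GolayPt → ℤ) = -24) : (y : GolayPt → ℤ) ∈ hundredList := by
  classical
  obtain ⟨hc, -⟩ := Cfsg.Agent.S1583.result fiveL fiveNegL fiveL_norm fiveNegL_norm five_dot
  obtain ⟨hlen, hnd, hall⟩ := hundred_check
  simp only [List.all_eq_true, Bool.and_eq_true, beq_iff_eq] at hall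
  set T := {x : leechLattice | sqNorm (x : GolayPt → ℤ) = 32 ∧ dotInt (fiveL : GolayPt → ℤ) (x : GolayPt → ℤ) = 24 ∧
    dotInt (fiveNegL : GolayPt → ℤ) (x : GolayPt → ℤ) = -24}
  have hnd' : hundredList.Nodup := List.Nodup.of_map _ hnd
  have hsub : (↑hundredList.toFinset : Set (GolayPt → ℤ)) ⊆ Subtype.val '' T := by
    intro x hx
    obtain ⟨⟨⟨a, b⟩, c⟩, d⟩ := hall x (List.mem_toFinset.1 hx)
    exact ⟨⟨x, mem_leech_of_inLeech a⟩, ⟨b, c, d⟩, rfl⟩
  have hcT : (Subtype.val '' T).ncard = 100 := by rw [Set.ncard_image_of_injective _ Subtype.val_injective, hc]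
  have heq := Set.eq_of_subset_of_ncard_le hsub (by
    rw [hcT, Set.ncard_coe_finset, List.toFinset_card_of_nodup hnd', hlen]) (Set.finite_of_ncard_ne_zero (by omega))
  exact List.mem_toFinset.1 (show (y : GolayPt → ℤ) ∈ (↑hundredList.toFinset : Set (GolayPt → ℤ)) by
    rw [heq]; exact ⟨y, ⟨h1, h2, h3⟩, rfl⟩)

theorem hsInv_check : matOk hsInvMat = true ∧
    (List.finRange 24).all (fun i => (List.finRange 24).all fun j => matEntry hsInvMat i j == matEntry hsInvMat j i) = true ∧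
    vecKey (matFun hsInvMat fiveVec) = vecKey fiveVec ∧ vecKey (matFun hsInvMat fiveVecNeg) = vecKey fiveVecNeg ∧
    hundredList.all (fun x => vecKey (matFun hsInvMat x) != vecKey x) = true := by
  decide +kernel

/-- A fixed-point-free involution of the hundred points. -/
theorem exists_fpf : ∃ g : Co0, g • fiveL = fiveL ∧ g • fiveNegL = fiveNegL ∧ orderOf g = 2 ∧
    ∀ x : leechLattice, sqNorm (x : GolayPt → ℤ) = 32 → dotInt (fiveL : GolayPt → ℤ) (x : GolayPt → ℤ) = 24 →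
      dotInt (fiveNegL : GolayPt → ℤ) (x : GolayPt → ℤ) = -24 → g • x ≠ x := by
  obtain ⟨hok, hsym, h5, h5', hfree⟩ := hsInv_check
  simp only [List.all_eq_true, beq_iff_eq, bne_iff_ne] at hsym hfree
  have hne : ∀ x : leechLattice, sqNorm (x : GolayPt → ℤ) = 32 → dotInt (fiveL : GolayPt → ℤ) (x : GolayPt → ℤ) = 24 →
      dotInt (fiveNegL : GolayPt → ℤ) (x : GolayPt → ℤ) = -24 → matCo0 hsInvMat hok • x ≠ x := fun x a b c e =>
    hfree _ (mem_hundred a b c) (congrArg vecKey ((matCo0_apply _ hok x).symm.trans (congrArg Subtype.val e)))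
  refine ⟨matCo0 hsInvMat hok, Subtype.ext (vecKey_injective h5), Subtype.ext (vecKey_injective h5'), ?_, hne⟩
  have hok' : ((matOrth hsInvMat = true ∧ matOrth (matT hsInvMat) = true) ∧ matPres hsInvMat = true) ∧
      matPres (matT hsInvMat) = true := by
    simpa only [matOk, Bool.and_eq_true] using hok
  haveI : Fact (Nat.Prime 2) := ⟨Nat.prime_two⟩
  refine orderOf_eq_prime ?_ fun h1 => ?_
  · rw [pow_two]
    refine Subtype.ext (Equiv.ext fun v => Subtype.ext ?_)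
    show matFun hsInvMat (matFun hsInvMat v.1) = v.1
    exact matFun_matFun (fun i j => hsym i (List.mem_finRange _) j (List.mem_finRange _)) hok'.1.1.1 hok'.1.2 hok'.1.2 v.2
  · refine hne Spor.leechU leechU_norm' ?_ ?_ (by rw [h1, one_smul])
    · show dotInt fiveVec Spor.vecU = 24
      decide +kernel
    · show dotInt fiveVecNeg Spor.vecU = -24
      decide +kernel

/-- Some automorphism carries the representative pair to a given pair. -/
theorem hs_pair_exists {v w : leechLattice} (hv : sqNorm (v : GolayPt → ℤ) = 48) (hw : sqNorm (w : GolayPt → ℤ) = 48)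
    (hvw : dotInt (v : GolayPt → ℤ) (w : GolayPt → ℤ) = -32) : ∃ k : Co0, k • fiveL = v ∧ k • fiveNegL = w := by
  obtain ⟨hz, hzv⟩ := neg_sum_facts hv hw hvw
  obtain ⟨hz0, hzv0⟩ := neg_sum_facts fiveL_norm fiveNegL_norm five_dot
  set z0 : leechLattice := -(fiveL + fiveNegL) with hz0def
  obtain ⟨g, hg⟩ := exists_smul_eq_of_moves (moves32 z0.2 hz0) (moves32 (-(v + w)).2 hz)
  have hd : dotInt ((-(v + w) : leechLattice) : GolayPt → ℤ) ((g • fiveL : leechLattice) : GolayPt → ℤ) = -16 := by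
    rw [← hg, co0_dot, hzv0]
  obtain ⟨k, k1, k2⟩ := exists_fix_fortyEight hz ((co0_sqNorm g _).trans fiveL_norm) hv hd hzv
  have kz : (k * g) • z0 = -(v + w) := by rw [mul_smul, hg, k1]
  have kv : (k * g) • fiveL = v := by rw [mul_smul, k2]
  refine ⟨k * g, kv, ?_⟩
  have h3 : co0Hom (k * g) z0 = -(v + w) := kz
  rw [hz0def, map_neg, map_add, neg_inj, show co0Hom (k * g) fiveL = v from kv] at h3
  exact add_left_cancel h3

theorem hundred_cases {y : leechLattice} (h1 : sqNorm (y : GolayPt → ℤ) = 32)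
    (h2 : dotInt (fiveL : GolayPt → ℤ) (y : GolayPt → ℤ) = 24)
    (h3 : dotInt (fiveNegL : GolayPt → ℤ) (y : GolayPt → ℤ) = -24) :
    y = Spor.leechU ∨ (∃ p, p ≠ none ∧ p ≠ zP ∧ (y : GolayPt → ℤ) = oddPt p) ∨
      ∃ o ∈ octads, none ∈ o ∧ zP ∈ o ∧ (y : GolayPt → ℤ) = twoPt o := by
  have h := mem_hundred h1 h2 h3
  simp only [hundredList, List.cons_append, List.mem_cons, List.mem_append, List.mem_map, hexadMasks,
    List.mem_filter, Bool.and_eq_true] at h
  rcases h with h | ⟨i, -, h⟩ | ⟨m, ⟨hm, hA, hB⟩, h⟩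
  · exact Or.inl (Subtype.ext h)
  · refine Or.inr (Or.inl ⟨gpt ⟨i.val + 1, by omega⟩, fun e => ?_, fun e => ?_, h.symm⟩)
    · have h' := congrArg Fin.val (congrArg gidx e)
      rw [gidx_gpt] at h'
      exact absurd h' (show i.val + 1 ≠ 23 by omega)
    · have h' := congrArg Fin.val (congrArg gidx e)
      rw [gidx_gpt] at h'
      exact absurd h' (show i.val + 1 ≠ 0 by omega)
  · refine Or.inr (Or.inr ⟨mset m, (mset_mem_octads_iff (octList_lt hm)).2 hm,
      by rw [mem_mset]; simpa [gidx] using hA, by rw [mem_mset]; simpa [gidx] using hB, ?_⟩)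
    rw [← h]
    funext q
    simp [twoPt, mem_mset]

theorem dot_hundred_odd {p : GolayPt} (hp : p ≠ none) (hp' : p ≠ zP) :
    4 * oddPt p none + 4 * oddPt p zP = 8 := by
  simp [oddPt, Ne.symm hp, Ne.symm hp']

theorem dot_hundred_two {o : Finset GolayPt} (hA : none ∈ o) (hB : zP ∈ o) :
    4 * twoPt o none + 4 * twoPt o zP = 16 := by
  simp [twoPt, hA, hB]

end Cfsg.Lib.Concrete

namespace Cfsg.Lib.Concrete

open Cfsg
open MulAction
open scoped Pointwise

local notation "zP" => (some 0 : GolayPt)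

/-- The hundred points as a set. -/
def hundredSet (v w : leechLattice) : Set leechLattice :=
  {x | sqNorm (x : GolayPt → ℤ) = 32 ∧ dotInt (v : GolayPt → ℤ) (x : GolayPt → ℤ) = 24 ∧
    dotInt (w : GolayPt → ℤ) (x : GolayPt → ℤ) = -24}

theorem leechU_mem_hundred : Spor.leechU ∈ hundredSet fiveL fiveNegL :=
  ⟨leechU_norm', show dotInt fiveVec Spor.vecU = 24 by decide +kernel,
    show dotInt fiveVecNeg Spor.vecU = -24 by decide +kernel⟩

theorem exists_triple {v w x : leechLattice} (hv : sqNorm (v : GolayPt → ℤ) = 48) (hw : sqNorm (w : GolayPt → ℤ) = 48)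
    (hvw : dotInt (v : GolayPt → ℤ) (w : GolayPt → ℤ) = -32) (hx : x ∈ hundredSet v w) :
    ∃ k : Co0, k • fiveL = v ∧ k • fiveNegL = w ∧ k • Spor.leechU = x := by
  obtain ⟨k, hk1, hk2⟩ := hs_pair_exists hv hw hvw
  have hU : k • Spor.leechU ∈ hundredSet v w := by
    obtain ⟨a, b, c⟩ := leechU_mem_hundred
    exact ⟨(co0_sqNorm _ _).trans a, by rw [← hk1, co0_dot]; exact b, by rw [← hk2, co0_dot]; exact c⟩
  obtain ⟨g, g1, g2, g3⟩ := (Cfsg.Agent.S1583.result v w hv hw hvw).2 _ hU x hx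
  exact ⟨g * k, by rw [mul_smul, hk1, g1], by rw [mul_smul, hk2, g2], by rw [mul_smul, g3]⟩

theorem smul_hundred {v w : leechLattice} (k : Co0) {y : leechLattice} :
    k • y ∈ hundredSet (k • v) (k • w) ↔ y ∈ hundredSet v w := by
  simp only [hundredSet, Set.mem_setOf_eq, co0_sqNorm, co0_dot]

theorem hundred_rank_three :
    {y | y ∈ hundredSet fiveL fiveNegL ∧ dotInt ((Spor.leechU : leechLattice) : GolayPt → ℤ) (y : GolayPt → ℤ) = 8}.ncard = 22 ∧
    {y | y ∈ hundredSet fiveL fiveNegL ∧ y ≠ Spor.leechU ∧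
      dotInt ((Spor.leechU : leechLattice) : GolayPt → ℤ) (y : GolayPt → ℤ) ≠ 8}.ncard = 77 ∧
    ∀ y ∈ hundredSet fiveL fiveNegL, ∀ y' ∈ hundredSet fiveL fiveNegL, y ≠ Spor.leechU → y' ≠ Spor.leechU →
      (dotInt ((Spor.leechU : leechLattice) : GolayPt → ℤ) (y : GolayPt → ℤ) = 8 ↔
        dotInt ((Spor.leechU : leechLattice) : GolayPt → ℤ) (y' : GolayPt → ℤ) = 8) →
      ∃ g : Co0, g • fiveL = fiveL ∧ g • fiveNegL = fiveNegL ∧ g • Spor.leechU = Spor.leechU ∧ g • y = y' := by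
  classical
  have hU : dotInt ((Spor.leechU : leechLattice) : GolayPt → ℤ) ((Spor.leechU : leechLattice) : GolayPt → ℤ) = 32 := by
    rw [dotInt_self]; exact leechU_norm'
  have hcase : ∀ y ∈ hundredSet fiveL fiveNegL, y ≠ Spor.leechU →
      (dotInt ((Spor.leechU : leechLattice) : GolayPt → ℤ) (y : GolayPt → ℤ) = 8 ∧
        ∃ p, p ≠ none ∧ p ≠ zP ∧ (y : GolayPt → ℤ) = oddPt p) ∨
      (dotInt ((Spor.leechU : leechLattice) : GolayPt → ℤ) (y : GolayPt → ℤ) = 16 ∧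
        ∃ o ∈ octads, none ∈ o ∧ zP ∈ o ∧ (y : GolayPt → ℤ) = twoPt o) := by
    rintro y ⟨h1, h2, h3⟩ hne
    rcases hundred_cases h1 h2 h3 with e | ⟨p, p1, p2, e⟩ | ⟨o, ho, oA, oB, e⟩
    · exact absurd e hne
    · exact Or.inl ⟨by rw [dot_leechU, e]; exact dot_hundred_odd p1 p2, p, p1, p2, e⟩
    · exact Or.inr ⟨by rw [dot_leechU, e]; exact dot_hundred_two oA oB, o, ho, oA, oB, e⟩
  obtain ⟨hc, -⟩ := Cfsg.Agent.S1583.result fiveL fiveNegL fiveL_norm fiveNegL_norm five_dot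
  set D := {y | y ∈ hundredSet fiveL fiveNegL ∧
    dotInt ((Spor.leechU : leechLattice) : GolayPt → ℤ) (y : GolayPt → ℤ) = 8}
  have hD : D.ncard = 22 := by
    have hset : ((Finset.univ.filter fun p : GolayPt => p ≠ none ∧ p ≠ zP)).card = 22 := by decide
    rw [← hset, ← Set.ncard_coe_finset, ← Set.ncard_image_of_injective D Subtype.val_injective]
    refine (Set.ncard_congr (fun p _ => oddPt p) ?_ ?_ ?_).symm
    · intro p hp
      simp only [Finset.coe_filter, Finset.mem_univ, true_and, Set.mem_setOf_eq] at hp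
      have hm : oddPt p ∈ hundredList := by
        obtain ⟨i, rfl⟩ : ∃ i : Fin 22, gpt ⟨i.val + 1, by omega⟩ = p := by
          revert hp; revert p; decide
        simp only [hundredList, List.cons_append, List.mem_cons, List.mem_append, List.mem_map]
        exact Or.inr (Or.inl ⟨i, List.mem_finRange i, rfl⟩)
      have hall := hundred_check.2.2
      simp only [List.all_eq_true, Bool.and_eq_true, beq_iff_eq] at hall
      obtain ⟨⟨⟨a, b⟩, c⟩, d⟩ := hall _ hm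
      exact ⟨⟨oddPt p, mem_leech_of_inLeech a⟩, ⟨⟨b, c, d⟩, by rw [dot_leechU]; exact dot_hundred_odd hp.1 hp.2⟩, rfl⟩
    · intro p q _ _ e
      have := congrFun e p
      simp only [oddPt, if_true] at this
      by_contra hne
      rw [if_neg hne] at this
      omega
    · rintro _ ⟨y, ⟨hy, hd⟩, rfl⟩
      have hne : y ≠ Spor.leechU := fun e => by rw [e, hU] at hd; omega
      rcases hcase y hy hne with ⟨-, p, p1, p2, e⟩ | ⟨h16, -⟩
      · exact ⟨p, by simp [p1, p2], e.symm⟩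
      · omega
  refine ⟨hD, ?_, ?_⟩
  · have hsub : D ⊆ hundredSet fiveL fiveNegL \ {Spor.leechU} := fun y hy =>
      ⟨hy.1, fun e => by have := hy.2; rw [Set.mem_singleton_iff.1 e, hU] at this; omega⟩
    have hfin : (hundredSet fiveL fiveNegL).Finite := Set.finite_of_ncard_ne_zero (by
      rw [show (hundredSet fiveL fiveNegL).ncard = 100 from hc]; norm_num)
    rw [show {y | y ∈ hundredSet fiveL fiveNegL ∧ y ≠ Spor.leechU ∧
      dotInt ((Spor.leechU : leechLattice) : GolayPt → ℤ) (y : GolayPt → ℤ) ≠ 8} =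
      (hundredSet fiveL fiveNegL \ {Spor.leechU}) \ D from Set.ext fun y =>
        ⟨fun ⟨a, b, c⟩ => ⟨⟨a, b⟩, fun h => c h.2⟩, fun ⟨⟨a, b⟩, c⟩ => ⟨a, b, fun h => c ⟨a, h⟩⟩⟩,
      Set.ncard_sdiff hsub (hfin.subset fun y hy => hy.1), Set.ncard_sdiff_singleton_of_mem leechU_mem_hundred,
      show (hundredSet fiveL fiveNegL).ncard = 100 from hc, hD]
  intro y hy y' hy' hne hne' hiff
  have finish : ∀ σ : M24, σ.1 none = none → σ.1 zP = zP → ∀ f : GolayPt → ℤ, (∀ q, (y' : GolayPt → ℤ) (σ.1 q) = f q) →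
      (y : GolayPt → ℤ) = f →
      ∃ g : Co0, g • fiveL = fiveL ∧ g • fiveNegL = fiveNegL ∧ g • Spor.leechU = Spor.leechU ∧ g • y = y' := by
    intro σ hA hB f hf e
    have hm : permHom σ ∈ permM22 := ⟨σ, ⟨hA, hB⟩, rfl⟩
    refine ⟨permHom σ, (permM22_le_hs hm).1, (permM22_le_hs hm).2, (permM22_le_mcl hm).1,
      Subtype.ext (funext fun q => ?_)⟩
    rw [permHom_smul, e, ← hf, Equiv.apply_symm_apply]
  rcases hcase y hy hne with ⟨d, p, p1, p2, e⟩ | ⟨d, o, ho, oA, oB, e⟩ <;>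
    rcases hcase y' hy' hne' with ⟨d', p', q1, q2, e'⟩ | ⟨d', o', ho', oA', oB', e'⟩
  · haveI := M24_pretransitive_le 3 (by norm_num)
    have inj : ∀ r : GolayPt, r ≠ none → r ≠ zP → Function.Injective ![(none : GolayPt), zP, r] := by
      intro r r1 r2 i j h
      fin_cases i <;> fin_cases j <;> simp at h <;>
        first | rfl | exact absurd h r1 | exact absurd h.symm r1 | exact absurd h r2 | exact absurd h.symm r2
    obtain ⟨σ, hσ⟩ := MulAction.exists_smul_eq M24 (⟨![none, zP, p], inj p p1 p2⟩ : Fin 3 ↪ GolayPt)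
      ⟨![none, zP, p'], inj p' q1 q2⟩
    have hp : σ.1 p = p' := congrArg (fun f : Fin 3 ↪ GolayPt => f 2) hσ
    refine finish σ (congrArg (fun f : Fin 3 ↪ GolayPt => f 0) hσ) (congrArg (fun f : Fin 3 ↪ GolayPt => f 1) hσ)
      _ (fun q => ?_) e
    rw [e']
    show (if σ.1 q = p' then (-3 : ℤ) else 1) = if q = p then -3 else 1
    exact if_congr (by rw [← hp]; exact σ.1.injective.eq_iff) rfl rfl
  · exact absurd (hiff.1 d) (by omega)
  · exact absurd (hiff.2 d') (by omega)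
  · have five : ∀ u : Finset GolayPt, u ∈ octads → none ∈ u → zP ∈ u → ∃ f : Fin 5 ↪ GolayPt,
        f 0 = none ∧ f 1 = zP ∧ ∀ i, f i ∈ u := by
      intro u hu uA uB
      obtain ⟨t, ht, htc⟩ := Finset.exists_subset_card_eq (show 3 ≤ ((u.erase none).erase zP).card by
        rw [Finset.card_erase_of_mem (Finset.mem_erase.2 ⟨none_ne_zeroPt.symm, uB⟩), Finset.card_erase_of_mem uA, hu.2]
        norm_num)
      obtain ⟨a, b, c, nab, nac, nbc, rfl⟩ := Finset.card_eq_three.1 htc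
      simp only [Finset.insert_subset_iff, Finset.singleton_subset_iff, Finset.mem_erase] at ht
      obtain ⟨⟨a1, a2, a3⟩, ⟨b1, b2, b3⟩, c1, c2, c3⟩ := ht
      refine ⟨⟨![none, zP, a, b, c], fun i j h => ?_⟩, rfl, rfl, fun i => ?_⟩
      · fin_cases i <;> fin_cases j <;> simp at h <;>
          first | rfl | exact absurd h nab | exact absurd h.symm nab | exact absurd h nac | exact absurd h.symm nac
                | exact absurd h nbc | exact absurd h.symm nbc | exact absurd h a2 | exact absurd h.symm a2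
                | exact absurd h a1 | exact absurd h.symm a1 | exact absurd h b2 | exact absurd h.symm b2
                | exact absurd h b1 | exact absurd h.symm b1 | exact absurd h c2 | exact absurd h.symm c2
                | exact absurd h c1 | exact absurd h.symm c1
      · fin_cases i <;> assumption
    obtain ⟨f, f0, f1, fm⟩ := five o ho oA oB
    obtain ⟨f', f0', f1', fm'⟩ := five o' ho' oA' oB'
    haveI := M24_pretransitive_le 5 (by norm_num)
    obtain ⟨σ, hσ⟩ := MulAction.exists_smul_eq M24 f f'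
    have hfi : ∀ i, σ.1 (f i) = f' i := fun i => congrArg (fun h : Fin 5 ↪ GolayPt => h i) hσ
    have himg : σ.1 • o = o' := by
      refine octads_eq_of_five ((smul_mem_octads_iff σ.2 o).2 ho) ho' (s := Finset.univ.map f') ?_ ?_ ?_
      · simp
      · intro q hq
        obtain ⟨i, -, rfl⟩ := Finset.mem_map.1 hq
        rw [← hfi]
        exact Finset.smul_mem_smul_finset (fm i)
      · intro q hq
        obtain ⟨i, -, rfl⟩ := Finset.mem_map.1 hq
        exact fm' i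
    refine finish σ (by have := hfi 0; rwa [f0, f0'] at this) (by have := hfi 1; rwa [f1, f1'] at this) _ (fun q => ?_) e
    rw [e']
    show (if σ.1 q ∈ o' then (2 : ℤ) else 0) = if q ∈ o then 2 else 0
    refine if_congr ?_ rfl rfl
    rw [← himg]
    exact Finset.smul_mem_smul_finset_iff σ.1

end Cfsg.Lib.Concrete
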