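import Cfsg.Agent.Lib.Concrete.LeechJointOrbits
import Cfsg.Agent.Lib.Concrete.LeechGroup

/-!
The 2025 short vectors orthogonal to `pairBase` with product 16 with a vector of product -8 with it:
count by double counting, and transitivity.
-/

set_option autoImplicit false

namespace Cfsg.Lib.Concrete

open Finset Cfsg

local notation "pA" => gpt 0
local notation "pB" => gpt 1

theorem repEight_check : inLeech repEight = true ∧ sqNorm repEight = 32 ∧ repEight pA = 1 ∧ repEight pB = -3 ∧
    inLeech perpBase = true ∧ sqNorm perpBase = 32 ∧ dotInt pairBase repEight = -8 ∧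
    dotInt pairBase perpBase = 0 ∧ dotInt repEight perpBase = 16 ∧
    (codeList.filter fun m => !m.testBit 0 && !m.testBit 1).length = 1024 ∧
    (∀ p, repEight p ≠ 0) := by
  decide +kernel

theorem repEight_mem : repEight ∈ shell 32 :=
  mem_shell.2 ⟨mem_leech_of_inLeech repEight_check.1, repEight_check.2.1⟩

/-- The vector with product -8 with `pairL`, as a lattice vector. -/
def repEightL : leechLattice := ⟨repEight, mem_leech_of_inLeech repEight_check.1⟩

/-- The orthogonal vector, as a lattice vector. -/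
def perpL : leechLattice := ⟨perpBase, mem_leech_of_inLeech repEight_check.2.2.2.2.1⟩

theorem three_diff {x : GolayPt → ℤ} (hx : x ∈ shell 32) (hA : x pA = 1) (hB : x pB = -3) :
    ∃ c ∈ codeSets, pA ∉ c ∧ pB ∉ c ∧ x = fun p => if p ∈ c then -repEight p else repEight p := by
  obtain ⟨hL, -⟩ := mem_shell.1 hx
  obtain ⟨hall, e, he, hone⟩ := odd_shape32 hx (a := pA) (by omega)
  have heB : e = pB := by
    by_contra h
    have := hone pB (Ne.symm h)
    rw [hB] at this
    norm_num at this
  subst heB
  obtain ⟨m, -, -, h3⟩ := mem_leechLattice_iff.1 hL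
  refine ⟨_, h3 3, fun h => ?_, fun h => ?_, funext fun p => ?_⟩
  · have := (Finset.mem_filter.1 h).2
    unfold Int.ModEq at this; omega
  · have := (Finset.mem_filter.1 h).2
    unfold Int.ModEq at this; omega
  · simp only [repEight, Finset.mem_filter, Finset.mem_univ, true_and]
    unfold Int.ModEq
    by_cases hp : p = pB
    · subst hp; simp [hB]
    · have := hone p hp
      rcases (abs_eq (by norm_num)).1 this with e | e <;> simp [hp, e]

theorem card_threeOne : ((shell 32).filter fun y => y pA = 1 ∧ y pB = -3).card = 1024 := by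
  classical
  obtain ⟨-, -, hA, hB, -, -, -, -, -, hlen, hnz⟩ := repEight_check
  rw [← hlen, ← List.toFinset_card_of_nodup (codeList_nodup.filter _)]
  symm
  refine Finset.card_bij (fun m _ p => if p ∈ mset m then -repEight p else repEight p) ?_ ?_ ?_
  · intro m hm
    simp only [List.mem_toFinset, List.mem_filter, Bool.and_eq_true, Bool.not_eq_true'] at hm
    have hc : mset m ∈ codeSets := mem_supports_iff.2 ⟨m, hm.1, rfl⟩
    have h0 : pA ∉ mset m := by rw [mem_mset, gidx_gpt]; simp [hm.2.1]
    have h1 : pB ∉ mset m := by rw [mem_mset, gidx_gpt]; simp [hm.2.2]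
    have hf := pairFix_flip (mem_shell.1 repEight_mem).1 hc h0 h1
    exact Finset.mem_filter.2 ⟨hf.mem_shell_right repEight_mem, (if_neg h0).trans hA, (if_neg h1).trans hB⟩
  · intro m hm m' hm' e
    simp only [List.mem_toFinset, List.mem_filter] at hm hm'
    refine mset_inj (codeList_lt hm.1) (codeList_lt hm'.1) (Finset.ext fun p => ?_)
    have h := congrFun e p
    have := hnz p
    by_cases a : p ∈ mset m <;> by_cases b : p ∈ mset m' <;> simp only [a, b, if_true, if_false] at h ⊢ <;> omega
  · intro y hy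
    obtain ⟨hy1, hy2, hy3⟩ := Finset.mem_filter.1 hy
    obtain ⟨c, hc, cA, cB, rfl⟩ := three_diff hy1 hy2 hy3
    obtain ⟨m, hm, rfl⟩ := mem_supports_iff.1 hc
    refine ⟨m, ?_, rfl⟩
    simp only [List.mem_toFinset, List.mem_filter, Bool.and_eq_true, Bool.not_eq_true']
    rw [mem_mset, gidx_gpt] at cA cB
    exact ⟨hm, by simpa using cA, by simpa using cB⟩

/-- The vectors with product -8 with `pairBase`. -/
noncomputable def eightSet : Finset (GolayPt → ℤ) := (shell 32).filter fun y => y pA + y pB = -2

theorem card_eightSet : eightSet.card = 47104 := by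
  rw [← census32.2.2.1, ← dotCount_moves (moves32 pairL.2 pairBase_check.2.1) 8, ← dotCount_neg, dotCount, eightSet]
  refine congrArg Finset.card (Finset.filter_congr fun x _ => ?_)
  rw [show ((pairL : leechLattice) : GolayPt → ℤ) = pairBase from rfl, dot_pairBase]
  omega

theorem card_perp_rep : (perpSet.filter fun x => dotInt repEight x = 16).card = 2025 := by
  classical
  have hfib : ∀ y ∈ eightSet, (perpSet.filter fun x => dotInt y x = 16).card =
      (perpSet.filter fun x => dotInt repEight x = 16).card := fun y hy => by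
    obtain ⟨hy1, hy2⟩ := Finset.mem_filter.1 hy
    have h := pairFix_card (pairFix_eight hy1 hy2) (N := 32) (fun s => s = 0) 16
    simpa [perpSet, Finset.filter_filter] using h
  have hfib' : ∀ x ∈ perpSet, (eightSet.filter fun y => dotInt y x = 16).card = 1024 := fun x hx => by
    obtain ⟨hx1, hx2⟩ := Finset.mem_filter.1 hx
    have h := pairFix_card (pairFix_perp_all hx1 hx2) (N := 32) (fun s => s = -2) 16
    rw [← card_threeOne, eightSet, Finset.filter_filter,
      Finset.filter_congr fun y _ => show (y pA + y pB = -2 ∧ dotInt y x = 16) ↔ (y pA + y pB = -2 ∧ dotInt x y = 16) by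
        rw [dotInt_comm], h]
    refine congrArg Finset.card (Finset.filter_congr fun y _ => ?_)
    rw [dot_perpBase]; omega
  have h := Finset.sum_card_bipartiteAbove_eq_sum_card_bipartiteBelow (s := eightSet) (t := perpSet)
    (fun y x => dotInt y x = 16)
  simp only [Finset.bipartiteAbove, Finset.bipartiteBelow] at h
  rw [Finset.sum_congr rfl hfib, Finset.sum_congr rfl hfib', Finset.sum_const, Finset.sum_const,
    card_eightSet, card_perpSet, smul_eq_mul, smul_eq_mul] at h
  omega

/-- The 2025 vectors attached to a pair of short vectors. -/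
def fourSet (v w : leechLattice) : Set leechLattice :=
  {x | sqNorm (x : GolayPt → ℤ) = 32 ∧ dotInt (v : GolayPt → ℤ) (x : GolayPt → ℤ) = 0 ∧
    dotInt (w : GolayPt → ℤ) (x : GolayPt → ℤ) = 16}

theorem smul_fourSet {v w : leechLattice} (k : Co0) {y : leechLattice} :
    k • y ∈ fourSet (k • v) (k • w) ↔ y ∈ fourSet v w := by
  simp only [fourSet, Set.mem_setOf_eq, co0_sqNorm, co0_dot]

theorem perpL_mem : perpL ∈ fourSet pairL repEightL :=
  ⟨repEight_check.2.2.2.2.2.1, repEight_check.2.2.2.2.2.2.2.1, repEight_check.2.2.2.2.2.2.2.2.1⟩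

theorem mem_perp_of_fourSet {x : leechLattice} (hx : x ∈ fourSet pairL repEightL) :
    (x : GolayPt → ℤ) ∈ perpSet ∧ dotInt repEight (x : GolayPt → ℤ) = 16 := by
  obtain ⟨h1, h2, h3⟩ := hx
  rw [show ((pairL : leechLattice) : GolayPt → ℤ) = pairBase from rfl, dot_pairBase] at h2
  exact ⟨Finset.mem_filter.2 ⟨mem_shell.2 ⟨x.2, h1⟩, by omega⟩, h3⟩

theorem ncard_fourSet : (fourSet pairL repEightL).ncard = 2025 := by
  classical
  rw [← card_perp_rep, ← Set.ncard_image_of_injective _ Subtype.val_injective, ← Set.ncard_coe_finset]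
  refine congrArg Set.ncard (Set.ext fun y => ?_)
  simp only [Set.mem_image, Finset.coe_filter, Set.mem_setOf_eq]
  constructor
  · rintro ⟨x, hx, rfl⟩
    exact mem_perp_of_fourSet hx
  · rintro ⟨hy, hd⟩
    obtain ⟨hy1, hy2⟩ := Finset.mem_filter.1 hy
    obtain ⟨hL, hn⟩ := mem_shell.1 hy1
    exact ⟨⟨y, hL⟩, ⟨hn, (dot_pairBase y).trans (by omega), hd⟩, rfl⟩

theorem finite_fourSet : (fourSet pairL repEightL).Finite :=
  Set.finite_of_ncard_ne_zero (by rw [ncard_fourSet]; norm_num)

/-- Transitivity on the 2025. -/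
theorem exists_fix_four {x x' : leechLattice} (hx : x ∈ fourSet pairL repEightL) (hx' : x' ∈ fourSet pairL repEightL) :
    ∃ g : Co0, g • pairL = pairL ∧ g • repEightL = repEightL ∧ g • x = x' := by
  have norm : ∀ a : leechLattice, a ∈ fourSet pairL repEightL →
      ∃ g : Co0, g • pairL = pairL ∧ ((g • a : leechLattice) : GolayPt → ℤ) = perpBase ∧
        ∃ c ∈ codeSets, pA ∉ c ∧ pB ∉ c ∧
          ((g • repEightL : leechLattice) : GolayPt → ℤ) = fun p => if p ∈ c then -repEight p else repEight p := by
    intro a ha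
    obtain ⟨ha', hda⟩ := mem_perp_of_fourSet ha
    obtain ⟨ha1, ha2⟩ := Finset.mem_filter.1 ha'
    obtain ⟨hax, g, hg, he⟩ := pairFix_perp_all ha1 ha2
    rw [Subtype.coe_eta] at he
    have h1 : ((g • repEightL : leechLattice) : GolayPt → ℤ) pA + ((g • repEightL : leechLattice) : GolayPt → ℤ) pB = -2 :=
      (PairFix.sum_eq ⟨repEightL.2, g, hg, rfl⟩).trans (by
        show repEight pA + repEight pB = -2
        rw [repEight_check.2.2.1, repEight_check.2.2.2.1]; norm_num)
    have h2 := co0_dot g a repEightL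
    rw [he, dot_perpBase, dotInt_comm, show ((repEightL : leechLattice) : GolayPt → ℤ) = repEight from rfl, hda] at h2
    exact ⟨g, hg, he, three_diff (mem_shell.2 ⟨Subtype.coe_prop _, (co0_sqNorm g _).trans repEight_check.2.1⟩)
      (by omega) (by omega)⟩
  have reach : ∀ a : leechLattice, a ∈ fourSet pairL repEightL →
      ∃ g : Co0, g • pairL = pairL ∧ g • repEightL = repEightL ∧ g • a = perpL := by
    intro a ha
    obtain ⟨g, hg, ga, c, hc, cA, cB, gw⟩ := norm a ha
    obtain ⟨k, hk, hkfix⟩ := exists_flip_fix hc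
    have hne : ∀ p ∈ c, p ≠ pA ∧ p ≠ pB := fun p hp => ⟨fun h => cA (h ▸ hp), fun h => cB (h ▸ hp)⟩
    have k1 : k • pairL = pairL :=
      hkfix _ fun p hp => pairBase_check.2.2.2.2.2.2.2.2.2.1 p (hne p hp).1 (hne p hp).2
    have k2 : k • perpL = perpL :=
      hkfix _ fun p hp => by
        show perpBase p = 0
        simp only [perpBase, if_neg (hne p hp).1, if_neg (hne p hp).2]
    have k3 : k • (g • repEightL) = repEightL := Subtype.ext ((hk _).trans (funext fun p => by
      show (if p ∈ c then -((g • repEightL : leechLattice) : GolayPt → ℤ) p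
        else ((g • repEightL : leechLattice) : GolayPt → ℤ) p) = repEight p
      rw [gw]
      by_cases h : p ∈ c <;> simp [h]))
    refine ⟨k * g, by rw [mul_smul, hg, k1], by rw [mul_smul, k3], ?_⟩
    rw [mul_smul, show g • a = perpL from Subtype.ext ga, k2]
  obtain ⟨g, g1, g2, g3⟩ := reach x hx
  obtain ⟨h, h1, h2, h3⟩ := reach x' hx'
  refine ⟨h⁻¹ * g, ?_, ?_, ?_⟩
  · rw [mul_smul, g1]; exact inv_smul_eq_iff.2 h1.symm
  · rw [mul_smul, g2]; exact inv_smul_eq_iff.2 h2.symm
  · rw [mul_smul, g3]; exact inv_smul_eq_iff.2 h3.symm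

/-- Any pair with product -8 and a member of its 2025 come from the standard triple. -/
theorem exists_four_triple {v w : leechLattice} (hv : sqNorm (v : GolayPt → ℤ) = 32)
    (hw : sqNorm (w : GolayPt → ℤ) = 32) (hvw : dotInt (v : GolayPt → ℤ) (w : GolayPt → ℤ) = -8) :
    ∃ c : Co0, c • pairL = v ∧ c • repEightL = w := by
  obtain ⟨h, hh⟩ := exists_smul_eq_of_moves (moves32 v.2 hv) (moves32 pairL.2 pairBase_check.2.1)
  have h1 := co0_dot h v w
  rw [hh, show ((pairL : leechLattice) : GolayPt → ℤ) = pairBase from rfl, dot_pairBase, hvw] at h1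
  obtain ⟨hx, g, hg, e⟩ := pairFix_eight (x := ((h • w : leechLattice) : GolayPt → ℤ))
    (mem_shell.2 ⟨(h • w).2, (co0_sqNorm h w).trans hw⟩) (by omega)
  have e' : g • (h • w) = repEightL := Subtype.ext e
  refine ⟨h⁻¹ * g⁻¹, ?_, ?_⟩
  · rw [mul_smul, inv_smul_eq_iff.2 hg.symm, ← hh, inv_smul_smul]
  · rw [mul_smul, ← e', inv_smul_smul, inv_smul_smul]

end Cfsg.Lib.Concrete
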