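import Cfsg.Agent.Lib.Concrete.LeechTree
import Cfsg.Agent.Lib.Concrete.LeechSimpleGroups
import Cfsg.Agent.S1580

/-!
The McLaughlin configuration of 275 vectors in the rank-24 lattice.
-/

set_option autoImplicit false

namespace Cfsg.Lib.Concrete

open Cfsg

def mclRankThreeGens : List (List (List ℤ)) := [
  [[6, 0, 0, 2, 0, 0, 0, 0, 2, 0, 0, 0, 0, 0, 2, 2, 0, 0, 2, 0, -2, 0, 0, 2],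
    [0, 2, -2, 0, -2, 2, 2, 2, 0, -2, 2, -2, -2, -2, 0, 0, 2, 2, 0, 2, 0, 2, 2, 0],
    [0, 2, 2, 0, 2, 2, 2, -2, 0, 2, 2, -2, 2, -2, 0, 0, 2, -2, 0, -2, 0, -2, 2, 0],
    [0, 2, -2, 0, 2, 2, -2, -2, 0, 2, -2, 2, 2, -2, 0, 0, 2, 2, 0, 2, 0, 2, -2, 0],
    [0, 2, 2, 0, 2, -2, 2, 2, 0, 2, 2, 2, -2, -2, 0, 0, -2, 2, 0, 2, 0, -2, -2, 0],
    [0, -2, 2, 0, -2, 2, 2, -2, 0, -2, 2, 2, 2, 2, 0, 0, 2, 2, 0, 2, 0, -2, -2, 0],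
    [0, 2, 2, 0, 2, 2, 2, -2, 0, -2, -2, 2, -2, 2, 0, 0, -2, -2, 0, 2, 0, 2, 2, 0],
    [-2, 0, 0, 2, 0, 0, 0, 0, 2, 0, 0, 0, 0, 0, 2, 2, 0, 0, 2, 0, 6, 0, 0, 2],
    [0, -2, -2, 0, 2, -2, 2, -2, 0, 2, 2, -2, 2, 2, 0, 0, -2, 2, 0, 2, 0, 2, 2, 0],
    [0, 2, 2, 0, 2, -2, 2, 2, 0, -2, -2, -2, 2, 2, 0, 0, 2, 2, 0, -2, 0, 2, -2, 0],
    [0, -2, 2, 0, 2, 2, -2, 2, 0, -2, 2, 2, 2, -2, 0, 0, -2, 2, 0, -2, 0, 2, 2, 0],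
    [0, -2, -2, 0, 2, 2, 2, 2, 0, 2, 2, 2, -2, 2, 0, 0, 2, -2, 0, -2, 0, 2, -2, 0],
    [0, -2, 2, 0, -2, -2, 2, 2, 0, 2, -2, 2, 2, -2, 0, 0, 2, -2, 0, 2, 0, 2, 2, 0],
    [0, -2, 2, 0, 2, 2, -2, 2, 0, 2, -2, -2, -2, 2, 0, 0, 2, 2, 0, 2, 0, -2, 2, 0],
    [0, 2, -2, 0, 2, -2, -2, 2, 0, -2, 2, 2, 2, 2, 0, 0, 2, -2, 0, 2, 0, -2, 2, 0],
    [2, 0, 0, -2, 0, 0, 0, 0, -2, 0, 0, 0, 0, 0, 6, -2, 0, 0, -2, 0, 2, 0, 0, -2],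
    [2, 0, 0, -2, 0, 0, 0, 0, 6, 0, 0, 0, 0, 0, -2, -2, 0, 0, -2, 0, 2, 0, 0, -2],
    [0, 2, 2, 0, -2, 2, -2, 2, 0, 2, 2, -2, 2, 2, 0, 0, -2, -2, 0, 2, 0, 2, -2, 0],
    [0, 2, 2, 0, -2, -2, -2, -2, 0, 2, 2, 2, -2, 2, 0, 0, 2, 2, 0, -2, 0, 2, 2, 0],
    [2, 0, 0, -2, 0, 0, 0, 0, -2, 0, 0, 0, 0, 0, -2, -2, 0, 0, 6, 0, 2, 0, 0, -2],
    [2, 0, 0, -2, 0, 0, 0, 0, -2, 0, 0, 0, 0, 0, -2, 6, 0, 0, -2, 0, 2, 0, 0, -2],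
    [0, 2, -2, 0, -2, 2, 2, 2, 0, 2, -2, 2, 2, 2, 0, 0, -2, 2, 0, -2, 0, -2, 2, 0],
    [2, 0, 0, 6, 0, 0, 0, 0, -2, 0, 0, 0, 0, 0, -2, -2, 0, 0, -2, 0, 2, 0, 0, -2],
    [2, 0, 0, -2, 0, 0, 0, 0, -2, 0, 0, 0, 0, 0, -2, -2, 0, 0, -2, 0, 2, 0, 0, 6]],
  [[6, 0, -2, 2, 0, 0, 0, 2, 0, 0, 0, 2, 0, 2, 0, 2, 0, 0, 0, 0, 0, 0, 0, 2],
    [0, -2, 0, 0, -2, -2, 2, 0, 2, -2, 2, 0, 2, 0, 2, 0, 2, 2, -2, -2, 2, 2, 2, 0],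
    [-2, 0, 6, 2, 0, 0, 0, 2, 0, 0, 0, 2, 0, 2, 0, 2, 0, 0, 0, 0, 0, 0, 0, 2],
    [0, 2, 0, 0, -2, -2, 2, 0, -2, 2, 2, 0, -2, 0, 2, 0, -2, -2, 2, 2, 2, 2, 2, 0],
    [0, 2, 0, 0, 2, 2, 2, 0, -2, -2, 2, 0, 2, 0, 2, 0, -2, 2, -2, 2, -2, 2, -2, 0],
    [2, 0, 2, -2, 0, 0, 0, -2, 0, 0, 0, 6, 0, -2, 0, -2, 0, 0, 0, 0, 0, 0, 0, -2],
    [0, 2, 0, 0, 2, 2, 2, 0, -2, 2, 2, 0, 2, 0, -2, 0, 2, -2, -2, -2, 2, -2, 2, 0],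
    [2, 0, 2, 6, 0, 0, 0, -2, 0, 0, 0, -2, 0, -2, 0, -2, 0, 0, 0, 0, 0, 0, 0, -2],
    [0, 2, 0, 0, 2, -2, 2, 0, 2, 2, -2, 0, -2, 0, -2, 0, 2, 2, -2, 2, -2, 2, 2, 0],
    [2, 0, 2, -2, 0, 0, 0, 6, 0, 0, 0, -2, 0, -2, 0, -2, 0, 0, 0, 0, 0, 0, 0, -2],
    [0, -2, 0, 0, 2, 2, 2, 0, 2, 2, 2, 0, -2, 0, 2, 0, 2, -2, 2, -2, -2, 2, -2, 0],
    [0, -2, 0, 0, 2, 2, 2, 0, 2, -2, 2, 0, -2, 0, -2, 0, -2, 2, 2, 2, 2, -2, 2, 0],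
    [2, 0, 2, -2, 0, 0, 0, -2, 0, 0, 0, -2, 0, -2, 0, 6, 0, 0, 0, 0, 0, 0, 0, -2],
    [0, -2, 0, 0, -2, 2, -2, 0, -2, 2, 2, 0, 2, 0, -2, 0, 2, 2, 2, 2, -2, 2, 2, 0],
    [0, -2, 0, 0, 2, 2, -2, 0, 2, 2, -2, 0, 2, 0, 2, 0, -2, -2, -2, 2, 2, 2, 2, 0],
    [0, 2, 0, 0, 2, -2, -2, 0, 2, -2, 2, 0, 2, 0, 2, 0, 2, -2, 2, 2, -2, -2, 2, 0],
    [0, 2, 0, 0, 2, -2, -2, 0, 2, 2, 2, 0, 2, 0, -2, 0, -2, 2, 2, -2, 2, 2, -2, 0],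
    [0, 2, 0, 0, 2, 2, -2, 0, -2, -2, -2, 0, -2, 0, 2, 0, 2, 2, 2, -2, 2, 2, 2, 0],
    [0, 2, 0, 0, -2, 2, 2, 0, 2, 2, -2, 0, 2, 0, 2, 0, -2, 2, 2, -2, -2, -2, 2, 0],
    [0, -2, 0, 0, 2, -2, 2, 0, -2, 2, -2, 0, 2, 0, 2, 0, 2, 2, 2, 2, 2, -2, -2, 0],
    [0, 2, 0, 0, -2, 2, -2, 0, 2, 2, 2, 0, -2, 0, 2, 0, 2, 2, -2, 2, 2, -2, -2, 0],
    [0, 2, 0, 0, -2, 2, 2, 0, 2, -2, -2, 0, 2, 0, -2, 0, 2, -2, 2, 2, 2, 2, -2, 0],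
    [2, 0, 2, -2, 0, 0, 0, -2, 0, 0, 0, -2, 0, 6, 0, -2, 0, 0, 0, 0, 0, 0, 0, -2],
    [2, 0, 2, -2, 0, 0, 0, -2, 0, 0, 0, -2, 0, -2, 0, -2, 0, 0, 0, 0, 0, 0, 0, 6]]]

private def mclRankThreePts0 : List (List ℤ) := [
  [2, 0, 2, 0, 2, 2, 2, 0, 0, 0, 2, 2, 0, 0, 0, 0, 0, 0, 0, 0, 0, 0, 0, 2],
  [2, 0, 0, 0, 0, 0, 0, 0, 2, 2, 0, 0, 2, 2, 0, 2, 2, 0, 0, 0, 0, 0, 0, 2],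
  [3, -1, 1, 1, -1, 1, -1, 1, 1, 1, -1, 1, 1, 1, 1, -1, 1, 1, 1, -1, 1, 1, -1, 1],
  [3, 1, 1, -1, -1, -1, 1, -1, 1, -1, 1, -1, 1, 1, 1, 1, 1, -1, 1, 1, 1, 1, 1, 1],
  [3, -1, -1, 1, -1, 1, -1, 1, -1, 1, 1, 1, 1, 1, -1, 1, 1, 1, 1, 1, -1, 1, 1, 1],
  [3, 1, 1, -1, -1, 1, -1, 1, -1, 1, 1, -1, -1, 1, 1, -1, 1, 1, 1, 1, 1, 1, 1, 1],
  [3, 1, 1, -1, -1, 1, 1, 1, 1, 1, -1, -1, 1, -1, 1, 1, 1, 1, 1, 1, 1, -1, -1, 1],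
  [2, 2, 0, 2, 0, 0, 0, 0, 0, 0, 0, 0, 2, 0, 0, 2, 0, 0, 0, 0, 0, 2, 2, 2],
  [3, 1, -1, 1, -1, 1, -1, -1, 1, -1, 1, 1, 1, 1, 1, -1, -1, 1, 1, 1, 1, 1, 1, 1],
  [4, 0, 0, 0, 0, 0, 0, 0, 0, 0, 0, 0, 0, 4, 0, 0, 0, 0, 0, 0, 0, 0, 0, 0],
  [2, 2, 0, 0, 0, 0, 0, 0, 0, 0, 0, 0, 0, 2, 0, 2, 0, 2, 2, 2, 0, 0, 0, 2],
  [2, 0, 0, 2, 0, 0, 0, 0, 0, 2, 0, 0, 0, 2, 0, 0, 0, 2, 0, 0, 2, 0, 2, 2],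
  [3, 1, 1, 1, 1, 1, -1, 1, -1, 1, -1, -1, 1, 1, -1, 1, 1, 1, -1, 1, 1, 1, -1, 1],
  [2, 0, 0, 0, 0, 0, 0, 0, 0, 2, 0, 0, 2, 0, 0, 0, 0, 0, 2, 2, 2, 2, 0, 2],
  [3, 1, 1, 1, -1, -1, 1, 1, 1, 1, 1, -1, 1, -1, 1, -1, -1, 1, 1, -1, 1, 1, 1, 1],
  [3, 1, 1, 1, 1, -1, 1, 1, 1, -1, -1, -1, 1, 1, 1, 1, 1, 1, 1, -1, -1, 1, -1, 1],
  [3, 1, -1, 1, -1, 1, 1, 1, 1, -1, 1, -1, -1, -1, 1, 1, 1, 1, 1, 1, -1, 1, 1, 1],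
  [3, 1, -1, 1, 1, 1, -1, 1, -1, -1, -1, 1, -1, 1, 1, 1, 1, 1, 1, -1, 1, 1, 1, 1],
  [3, -1, -1, -1, -1, 1, 1, -1, 1, 1, -1, 1, -1, 1, 1, 1, 1, 1, 1, 1, 1, 1, 1, 1],
  [4, 0, 0, 0, 0, 0, 0, 0, 0, 0, 0, 0, 0, 0, 0, 0, 0, 0, 0, 0, 0, 0, 4, 0]]

private def mclRankThreePts1 : List (List ℤ) := [
  [3, 1, -1, 1, 1, 1, 1, 1, 1, 1, -1, -1, -1, 1, 1, -1, -1, 1, 1, 1, 1, 1, -1, 1],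
  [3, -1, 1, 1, 1, -1, -1, -1, 1, -1, -1, 1, 1, 1, -1, 1, 1, 1, 1, 1, 1, 1, 1, 1],
  [2, 0, 0, 0, 0, 0, 0, 2, 2, 0, 0, 0, 0, 2, 0, 0, 0, 0, 2, 0, 0, 2, 2, 2],
  [3, 1, 1, 1, -1, -1, 1, 1, 1, -1, -1, 1, -1, 1, 1, -1, 1, 1, 1, 1, 1, -1, 1, 1],
  [3, -1, 1, -1, 1, -1, 1, 1, 1, 1, -1, -1, 1, 1, 1, -1, 1, 1, -1, 1, 1, 1, 1, 1],
  [2, 0, 0, 2, 0, 0, 0, 2, 2, 0, 0, 0, 2, 0, 0, 0, 0, 2, 0, 2, 0, 0, 0, 2],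
  [2, 0, 0, 2, 0, 0, 0, 0, 0, 0, 0, 0, 0, 2, 2, 0, 2, 0, 0, 2, 0, 2, 0, 2],
  [3, 1, 1, -1, 1, -1, -1, 1, 1, 1, 1, -1, 1, -1, -1, 1, 1, 1, 1, 1, -1, 1, 1, 1],
  [2, 2, 0, 2, 0, 0, 0, 2, 0, 2, 0, 0, 0, 0, 0, 0, 2, 0, 2, 0, 0, 0, 0, 2],
  [4, 0, 0, 0, 0, 0, 0, 0, 0, 4, 0, 0, 0, 0, 0, 0, 0, 0, 0, 0, 0, 0, 0, 0],
  [4, 4, 0, 0, 0, 0, 0, 0, 0, 0, 0, 0, 0, 0, 0, 0, 0, 0, 0, 0, 0, 0, 0, 0],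
  [3, 1, -1, 1, 1, -1, -1, 1, 1, 1, 1, 1, 1, 1, -1, 1, -1, 1, 1, -1, 1, 1, -1, 1],
  [3, 1, -1, 1, -1, -1, 1, 1, -1, 1, 1, 1, -1, 1, 1, 1, -1, -1, 1, 1, 1, 1, 1, 1],
  [4, 0, 0, 0, 0, 0, 0, 0, 0, 0, 0, 0, 0, 0, 0, 0, 0, 4, 0, 0, 0, 0, 0, 0],
  [3, 1, -1, 1, -1, 1, 1, 1, 1, -1, -1, 1, 1, 1, -1, 1, 1, -1, 1, 1, 1, 1, -1, 1],
  [3, 1, -1, 1, -1, 1, 1, 1, 1, 1, -1, 1, 1, 1, 1, 1, -1, 1, 1, -1, -1, -1, 1, 1],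
  [3, 1, -1, 1, 1, -1, 1, 1, 1, 1, -1, 1, -1, 1, -1, 1, 1, 1, -1, 1, -1, 1, 1, 1],
  [3, -1, -1, 1, 1, -1, -1, 1, 1, 1, 1, 1, -1, -1, 1, -1, 1, 1, 1, 1, 1, 1, 1, 1],
  [3, -1, -1, 1, -1, 1, 1, 1, 1, 1, 1, -1, 1, 1, 1, -1, 1, -1, 1, 1, 1, -1, 1, 1],
  [3, 1, 1, -1, -1, 1, -1, 1, 1, -1, -1, 1, 1, 1, 1, 1, 1, 1, -1, 1, -1, 1, 1, 1]]

private def mclRankThreePts2 : List (List ℤ) := [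
  [3, 1, -1, -1, -1, -1, 1, 1, 1, 1, 1, 1, 1, 1, 1, -1, 1, 1, 1, 1, -1, 1, -1, 1],
  [3, 1, 1, 1, -1, -1, -1, -1, 1, 1, 1, 1, -1, 1, 1, 1, 1, 1, 1, -1, -1, 1, 1, 1],
  [3, 1, -1, -1, 1, 1, 1, 1, -1, 1, -1, -1, 1, 1, 1, 1, 1, -1, 1, 1, -1, 1, 1, 1],
  [3, 1, 1, 1, -1, 1, -1, 1, 1, 1, -1, 1, -1, -1, -1, 1, -1, 1, 1, 1, 1, 1, 1, 1],
  [2, 2, 0, 0, 0, 0, 0, 0, 2, 2, 0, 0, 0, 0, 2, 0, 0, 0, 0, 2, 0, 0, 2, 2],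
  [3, 1, -1, 1, 1, 1, -1, 1, 1, 1, 1, -1, 1, 1, 1, -1, 1, 1, -1, -1, -1, 1, 1, 1],
  [3, 1, 1, -1, 1, -1, -1, 1, 1, 1, -1, 1, -1, 1, 1, 1, 1, -1, 1, 1, 1, 1, -1, 1],
  [3, 1, 1, 1, 1, -1, -1, 1, 1, -1, 1, -1, -1, 1, 1, 1, -1, 1, -1, 1, 1, 1, 1, 1],
  [3, 1, 1, 1, 1, -1, -1, -1, 1, 1, 1, -1, 1, 1, 1, -1, 1, 1, 1, 1, 1, -1, -1, 1],
  [3, 1, 1, 1, 1, -1, -1, 1, -1, 1, -1, 1, 1, 1, 1, -1, -1, 1, 1, 1, -1, 1, 1, 1],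
  [3, -1, 1, 1, -1, -1, 1, 1, 1, 1, 1, -1, -1, 1, -1, 1, 1, 1, 1, 1, 1, 1, -1, 1],
  [3, 1, 1, 1, 1, -1, 1, -1, -1, 1, -1, -1, -1, -1, 1, 1, 1, 1, 1, 1, 1, 1, 1, 1],
  [3, -1, -1, 1, 1, 1, 1, 1, 1, 1, -1, -1, 1, -1, -1, 1, 1, 1, 1, -1, 1, 1, 1, 1],
  [4, 0, 0, 0, 0, 0, 0, 0, 0, 0, 0, 0, 0, 0, 0, 0, 4, 0, 0, 0, 0, 0, 0, 0],
  [3, 1, -1, -1, 1, -1, 1, 1, 1, -1, -1, 1, 1, -1, 1, 1, -1, 1, 1, 1, 1, 1, 1, 1],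
  [4, 0, 0, 4, 0, 0, 0, 0, 0, 0, 0, 0, 0, 0, 0, 0, 0, 0, 0, 0, 0, 0, 0, 0],
  [3, 1, -1, 1, 1, 1, -1, -1, 1, 1, 1, -1, -1, 1, -1, 1, 1, -1, 1, 1, 1, 1, 1, 1],
  [3, 1, -1, -1, 1, 1, -1, 1, 1, 1, -1, 1, 1, 1, -1, -1, 1, 1, 1, 1, 1, -1, 1, 1],
  [3, 1, -1, 1, -1, 1, 1, 1, -1, 1, -1, 1, 1, -1, 1, -1, 1, 1, -1, 1, 1, 1, 1, 1],
  [4, 0, 0, 0, 0, 0, 0, 0, 0, 0, 0, 0, 0, 0, 0, 0, 0, 0, 0, 0, 0, 4, 0, 0]]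

private def mclRankThreePts3 : List (List ℤ) := [
  [4, 0, 0, 0, 0, 0, 0, 0, 0, 0, 0, 0, 0, 0, 0, 0, 0, 0, 4, 0, 0, 0, 0, 0],
  [3, 1, -1, 1, 1, -1, 1, -1, 1, 1, -1, 1, 1, 1, 1, -1, 1, -1, 1, -1, 1, 1, 1, 1],
  [4, 0, 0, 0, 0, 0, 0, 0, 4, 0, 0, 0, 0, 0, 0, 0, 0, 0, 0, 0, 0, 0, 0, 0],
  [3, 1, -1, 1, 1, -1, -1, 1, 1, -1, 1, 1, 1, 1, 1, 1, 1, -1, 1, 1, -1, -1, 1, 1],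
  [3, 1, -1, 1, -1, 1, -1, 1, 1, 1, 1, 1, -1, 1, 1, 1, 1, 1, -1, 1, 1, -1, -1, 1],
  [3, 1, -1, 1, -1, 1, 1, -1, -1, 1, 1, -1, 1, 1, 1, 1, 1, 1, 1, -1, 1, 1, -1, 1],
  [3, 1, 1, -1, 1, 1, -1, -1, 1, 1, -1, -1, 1, 1, 1, 1, -1, 1, 1, -1, 1, 1, 1, 1],
  [3, 1, -1, 1, 1, 1, -1, -1, 1, 1, -1, 1, 1, -1, 1, 1, 1, 1, 1, 1, -1, 1, -1, 1],
  [3, 1, 1, 1, -1, 1, -1, 1, 1, -1, 1, -1, 1, 1, -1, 1, 1, 1, 1, -1, 1, -1, 1, 1],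
  [3, 1, 1, 1, -1, -1, 1, -1, 1, 1, -1, 1, 1, 1, 1, 1, -1, 1, -1, 1, 1, 1, -1, 1],
  [3, -1, -1, 1, 1, -1, 1, -1, 1, 1, 1, -1, 1, 1, 1, 1, -1, 1, 1, 1, -1, 1, 1, 1],
  [3, 1, -1, 1, 1, -1, 1, 1, -1, -1, 1, -1, 1, 1, -1, -1, 1, 1, 1, 1, 1, 1, 1, 1],
  [2, 0, 0, 2, 0, 0, 0, 0, 2, 0, 0, 0, 0, 0, 2, 2, 0, 0, 2, 0, 2, 0, 0, 2],
  [3, 1, -1, -1, 1, -1, 1, 1, 1, 1, 1, -1, -1, 1, 1, 1, 1, 1, 1, -1, 1, -1, 1, 1],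
  [3, -1, -1, 1, 1, -1, 1, 1, -1, 1, -1, 1, 1, 1, 1, 1, 1, 1, 1, 1, 1, -1, -1, 1],
  [3, -1, 1, 1, -1, 1, -1, -1, 1, 1, 1, -1, 1, -1, 1, 1, 1, 1, -1, 1, 1, 1, 1, 1],
  [3, 1, 1, 1, 1, -1, -1, 1, 1, 1, -1, 1, 1, -1, 1, 1, 1, 1, -1, -1, 1, -1, 1, 1],
  [3, -1, 1, 1, 1, 1, -1, 1, 1, 1, -1, -1, -1, 1, 1, 1, 1, 1, 1, 1, -1, -1, 1, 1],
  [2, 0, 0, 0, 0, 0, 0, 2, 0, 0, 0, 0, 0, 0, 0, 2, 2, 0, 0, 2, 2, 0, 2, 2],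
  [3, 1, 1, 1, -1, -1, -1, 1, 1, 1, 1, 1, 1, 1, -1, -1, 1, -1, -1, 1, 1, 1, 1, 1]]

private def mclRankThreePts4 : List (List ℤ) := [
  [3, 1, 1, 1, 1, -1, 1, 1, 1, 1, -1, -1, 1, 1, -1, 1, -1, -1, 1, 1, 1, -1, 1, 1],
  [3, 1, 1, 1, -1, 1, -1, -1, -1, 1, -1, 1, 1, 1, 1, 1, 1, -1, 1, 1, 1, -1, 1, 1],
  [3, 1, -1, -1, -1, 1, 1, 1, 1, 1, 1, -1, 1, 1, -1, 1, -1, 1, -1, 1, 1, 1, 1, 1],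
  [3, 1, -1, 1, 1, -1, 1, 1, 1, 1, 1, -1, 1, -1, 1, 1, 1, -1, -1, 1, 1, 1, -1, 1],
  [4, 0, 0, 0, 0, 0, 0, 4, 0, 0, 0, 0, 0, 0, 0, 0, 0, 0, 0, 0, 0, 0, 0, 0],
  [3, -1, -1, 1, -1, -1, 1, 1, 1, -1, 1, 1, 1, 1, 1, 1, 1, 1, -1, -1, 1, 1, 1, 1],
  [3, 1, -1, 1, -1, -1, 1, -1, 1, 1, 1, 1, 1, -1, -1, 1, 1, 1, 1, 1, 1, -1, 1, 1],
  [4, 0, 0, 0, 0, 0, 0, 0, 0, 0, 0, 0, 0, 0, 0, 0, 0, 0, 0, 4, 0, 0, 0, 0],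
  [3, -1, 1, 1, -1, -1, 1, 1, 1, 1, -1, 1, 1, -1, 1, 1, 1, -1, 1, 1, -1, 1, 1, 1],
  [3, 1, -1, -1, -1, 1, -1, 1, 1, 1, 1, 1, 1, -1, 1, 1, 1, -1, 1, -1, 1, 1, 1, 1],
  [4, 0, 0, 0, 0, 0, 0, 0, 0, 0, 0, 0, 0, 0, 4, 0, 0, 0, 0, 0, 0, 0, 0, 0],
  [4, 0, 0, 0, 0, 0, 0, 0, 0, 0, 0, 0, 0, 0, 0, 4, 0, 0, 0, 0, 0, 0, 0, 0],
  [4, 0, 0, 0, 0, 0, 0, 0, 0, 0, 0, 0, 0, 0, 0, 0, 0, 0, 0, 0, 4, 0, 0, 0],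
  [2, 0, 0, 0, 0, 0, 0, 0, 0, 0, 0, 0, 2, 0, 2, 0, 2, 2, 2, 0, 0, 0, 2, 2],
  [3, -1, -1, -1, 1, 1, -1, 1, 1, -1, 1, -1, 1, 1, 1, 1, 1, 1, 1, 1, 1, 1, -1, 1],
  [3, 1, 1, -1, -1, -1, 1, 1, -1, 1, -1, 1, 1, 1, -1, 1, 1, 1, 1, -1, 1, 1, 1, 1],
  [3, 1, 1, 1, 1, 1, -1, 1, 1, -1, -1, -1, 1, -1, 1, -1, 1, -1, 1, 1, 1, 1, 1, 1],
  [3, 1, 1, 1, -1, -1, -1, 1, -1, -1, 1, 1, 1, -1, 1, 1, 1, 1, 1, 1, 1, 1, -1, 1],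
  [3, -1, -1, 1, 1, 1, -1, 1, 1, 1, -1, 1, 1, 1, 1, 1, -1, -1, -1, 1, 1, 1, 1, 1],
  [2, 2, 0, 0, 0, 0, 0, 2, 0, 0, 0, 0, 2, 2, 2, 0, 0, 0, 0, 0, 2, 0, 0, 2]]

private def mclRankThreePts5 : List (List ℤ) := [
  [3, -1, 1, 1, 1, -1, -1, 1, -1, 1, 1, -1, 1, 1, 1, 1, 1, -1, 1, -1, 1, 1, 1, 1],
  [3, -1, 1, -1, -1, -1, -1, 1, 1, 1, 1, 1, 1, 1, 1, 1, -1, 1, 1, 1, 1, -1, 1, 1],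
  [3, 1, 1, 1, -1, 1, 1, 1, 1, 1, -1, -1, -1, 1, 1, 1, 1, -1, -1, -1, 1, 1, 1, 1],
  [3, -1, 1, 1, -1, 1, 1, 1, -1, -1, -1, -1, 1, 1, 1, 1, -1, 1, 1, 1, 1, 1, 1, 1],
  [2, 2, 0, 0, 0, 0, 0, 0, 2, 0, 0, 0, 0, 0, 0, 0, 2, 2, 0, 0, 2, 2, 0, 2],
  [3, 1, -1, -1, 1, -1, -1, -1, -1, 1, 1, 1, 1, 1, 1, 1, 1, 1, -1, 1, 1, 1, 1, 1],
  [3, 1, -1, 1, 1, 1, 1, -1, 1, -1, -1, -1, 1, 1, 1, 1, 1, 1, -1, 1, 1, -1, 1, 1],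
  [4, 0, 0, 0, 0, 0, 0, 0, 0, 0, 0, 0, 4, 0, 0, 0, 0, 0, 0, 0, 0, 0, 0, 0],
  [3, 1, 1, 1, -1, 1, -1, 1, 1, 1, 1, -1, 1, 1, 1, 1, -1, -1, 1, 1, -1, 1, -1, 1],
  [3, 1, -1, 1, 1, 1, -1, 1, -1, 1, 1, -1, 1, -1, 1, 1, -1, 1, 1, 1, 1, -1, 1, 1],
  [3, 1, 1, 1, -1, 1, 1, -1, 1, 1, -1, -1, 1, 1, -1, -1, 1, 1, 1, 1, -1, 1, 1, 1],
  [3, 1, 1, 1, -1, -1, 1, 1, -1, 1, 1, -1, 1, 1, 1, 1, 1, 1, -1, 1, -1, -1, 1, 1],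
  [2, 0, 0, 0, 0, 0, 0, 2, 0, 2, 0, 0, 0, 0, 2, 2, 0, 2, 0, 0, 0, 2, 0, 2],
  [2, 0, 0, 0, 0, 0, 0, 0, 2, 0, 2, 2, 0, 0, 0, 2, 0, 0, 0, 2, 0, 2, 0, 2],
  [3, 1, -1, 1, 1, 1, 1, 1, 1, -1, 1, 1, 1, -1, 1, -1, 1, 1, 1, -1, 1, -1, -1, 1],
  [3, 1, 1, 1, 1, 1, -1, -1, 1, -1, 1, 1, 1, 1, 1, 1, 1, -1, -1, -1, 1, 1, -1, 1],
  [3, 1, 1, 1, 1, 1, -1, 1, -1, 1, 1, 1, -1, -1, 1, 1, 1, -1, -1, 1, -1, 1, 1, 1],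
  [3, 1, -1, -1, 1, 1, 1, 1, -1, 1, 1, 1, -1, -1, -1, 1, 1, 1, 1, 1, 1, 1, -1, 1],
  [3, -1, 1, 1, -1, 1, 1, 1, -1, 1, 1, 1, -1, -1, 1, 1, 1, 1, 1, -1, 1, -1, 1, 1],
  [3, 1, 1, -1, 1, 1, 1, 1, -1, -1, 1, -1, 1, -1, 1, 1, 1, 1, -1, -1, 1, 1, 1, 1]]

private def mclRankThreePts6 : List (List ℤ) := [
  [3, 1, 1, 1, 1, -1, 1, -1, -1, -1, 1, 1, 1, 1, 1, 1, -1, 1, 1, -1, 1, -1, 1, 1],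
  [3, -1, 1, 1, 1, 1, 1, 1, 1, 1, 1, -1, 1, 1, 1, 1, -1, 1, -1, -1, 1, -1, -1, 1],
  [2, 2, 0, 2, 2, 0, 0, 0, 0, 0, 0, 2, 0, 0, 0, 0, 0, 0, 0, 2, 2, 0, 0, 2],
  [3, -1, -1, 1, 1, 1, 1, -1, 1, 1, 1, 1, 1, 1, -1, -1, 1, 1, -1, 1, 1, 1, -1, 1],
  [3, 1, 1, -1, 1, 1, -1, 1, -1, -1, 1, 1, 1, 1, -1, 1, -1, -1, 1, 1, 1, 1, 1, 1],
  [3, 1, 1, 1, -1, 1, 1, 1, -1, 1, 1, 1, 1, 1, -1, -1, -1, 1, 1, 1, 1, -1, -1, 1],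
  [2, 2, 2, 0, 0, 0, 0, 0, 0, 2, 2, 0, 0, 0, 0, 2, 0, 0, 0, 0, 2, 0, 0, 2],
  [2, 2, 0, 0, 2, 0, 2, 0, 0, 2, 0, 0, 2, 0, 0, 0, 0, 2, 0, 0, 0, 0, 0, 2],
  [3, -1, 1, -1, 1, 1, 1, 1, 1, 1, 1, -1, -1, -1, 1, 1, -1, -1, 1, 1, 1, 1, 1, 1],
  [3, 1, 1, 1, 1, 1, 1, 1, -1, -1, -1, 1, 1, -1, -1, 1, 1, 1, 1, 1, -1, -1, 1, 1],
  [3, -1, 1, -1, 1, 1, -1, 1, 1, 1, 1, 1, -1, 1, -1, 1, 1, 1, -1, -1, 1, 1, 1, 1],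
  [3, 1, 1, -1, 1, -1, 1, 1, -1, 1, 1, 1, 1, -1, 1, -1, 1, -1, 1, 1, 1, -1, 1, 1],
  [2, 0, 0, 2, 2, 0, 2, 2, 0, 0, 0, 0, 0, 0, 2, 0, 0, 0, 0, 0, 0, 0, 2, 2],
  [3, -1, 1, 1, 1, 1, 1, 1, 1, -1, -1, 1, -1, -1, 1, 1, 1, 1, -1, 1, 1, 1, -1, 1],
  [2, 0, 0, 2, 0, 2, 0, 0, 2, 0, 0, 2, 0, 0, 0, 0, 2, 0, 0, 0, 0, 0, 2, 2],
  [3, 1, -1, -1, 1, 1, 1, 1, 1, -1, 1, 1, -1, 1, 1, -1, 1, -1, -1, 1, 1, 1, 1, 1],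
  [2, 0, 0, 0, 0, 0, 2, 0, 0, 0, 2, 0, 0, 0, 2, 0, 0, 2, 0, 2, 2, 0, 0, 2],
  [3, -1, 1, 1, 1, 1, 1, -1, -1, 1, -1, 1, 1, 1, 1, 1, 1, 1, -1, -1, -1, 1, 1, 1],
  [2, 0, 0, 0, 2, 2, 0, 0, 0, 0, 0, 0, 0, 0, 0, 0, 0, 2, 0, 2, 0, 2, 2, 2],
  [3, -1, 1, 1, 1, 1, 1, 1, -1, 1, -1, 1, -1, 1, -1, -1, 1, -1, 1, 1, 1, 1, 1, 1]]

private def mclRankThreePts7 : List (List ℤ) := [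
  [2, 0, 2, 0, 2, 0, 0, 2, 0, 0, 0, 0, 0, 0, 0, 0, 0, 2, 2, 0, 2, 0, 0, 2],
  [2, 0, 2, 2, 0, 0, 2, 0, 0, 0, 0, 0, 2, 0, 0, 0, 2, 0, 0, 0, 2, 0, 0, 2],
  [2, 0, 2, 2, 2, 0, 0, 0, 2, 2, 0, 0, 0, 0, 0, 0, 0, 0, 0, 0, 0, 2, 0, 2],
  [2, 0, 0, 0, 2, 0, 2, 0, 2, 0, 0, 0, 0, 0, 0, 0, 2, 0, 2, 2, 0, 0, 0, 2],
  [3, 1, 1, -1, 1, -1, 1, 1, 1, -1, 1, 1, 1, 1, -1, 1, 1, 1, -1, 1, 1, -1, -1, 1],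
  [2, 0, 0, 2, 0, 0, 0, 0, 0, 2, 2, 2, 2, 0, 2, 0, 0, 0, 0, 0, 0, 0, 0, 2],
  [3, 1, 1, 1, 1, 1, 1, -1, -1, 1, 1, -1, 1, 1, 1, -1, -1, -1, -1, 1, 1, 1, 1, 1],
  [3, -1, 1, -1, 1, 1, 1, 1, 1, 1, -1, 1, 1, 1, -1, 1, -1, 1, 1, 1, -1, 1, -1, 1],
  [2, 0, 0, 0, 0, 0, 0, 0, 0, 0, 2, 2, 0, 2, 0, 0, 2, 0, 2, 0, 2, 0, 0, 2],
  [3, 1, 1, -1, -1, 1, 1, -1, 1, 1, 1, 1, 1, 1, 1, -1, 1, 1, -1, -1, 1, -1, 1, 1],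
  [2, 0, 2, 0, 2, 0, 0, 0, 0, 0, 0, 0, 2, 0, 2, 2, 0, 0, 0, 2, 0, 0, 0, 2],
  [2, 0, 0, 2, 0, 2, 2, 0, 0, 2, 0, 0, 0, 0, 0, 2, 0, 0, 0, 2, 0, 0, 0, 2],
  [3, 1, 1, -1, 1, -1, 1, 1, 1, 1, 1, 1, 1, 1, 1, 1, -1, -1, -1, -1, -1, 1, 1, 1],
  [3, 1, 1, 1, 1, -1, 1, 1, 1, 1, 1, 1, -1, -1, 1, 1, -1, 1, 1, 1, -1, -1, -1, 1],
  [3, 1, -1, 1, 1, 1, 1, 1, -1, 1, 1, 1, 1, 1, -1, 1, 1, -1, -1, -1, 1, -1, 1, 1],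
  [3, 1, 1, -1, 1, 1, -1, 1, 1, 1, 1, 1, 1, -1, 1, -1, -1, 1, -1, 1, 1, 1, -1, 1],
  [3, 1, 1, 1, -1, 1, 1, 1, -1, -1, 1, 1, 1, 1, 1, -1, 1, -1, 1, -1, -1, 1, 1, 1],
  [3, 1, 1, -1, -1, 1, 1, 1, 1, -1, 1, 1, -1, 1, 1, 1, -1, 1, 1, -1, 1, 1, -1, 1],
  [2, 2, 0, 0, 0, 0, 2, 0, 0, 0, 0, 2, 0, 0, 2, 2, 2, 0, 0, 0, 0, 0, 0, 2],
  [3, 1, -1, 1, 1, 1, 1, -1, 1, 1, 1, 1, -1, -1, 1, 1, -1, 1, -1, -1, 1, 1, 1, 1]]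

private def mclRankThreePts8 : List (List ℤ) := [
  [2, 2, 0, 0, 2, 2, 0, 2, 2, 0, 0, 0, 0, 0, 0, 2, 0, 0, 0, 0, 0, 0, 0, 2],
  [3, -1, 1, 1, -1, 1, 1, -1, 1, 1, 1, 1, 1, 1, -1, 1, -1, -1, 1, -1, 1, 1, 1, 1],
  [3, 1, 1, -1, 1, 1, 1, 1, 1, -1, 1, -1, 1, 1, 1, -1, -1, 1, 1, 1, -1, -1, 1, 1],
  [2, 2, 0, 2, 0, 0, 2, 0, 2, 0, 2, 0, 0, 2, 0, 0, 0, 0, 0, 0, 0, 0, 0, 2],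
  [2, 0, 0, 0, 2, 0, 0, 0, 2, 0, 0, 2, 0, 2, 2, 0, 0, 2, 0, 0, 0, 0, 0, 2],
  [2, 0, 0, 0, 0, 0, 2, 0, 0, 0, 0, 2, 2, 2, 0, 0, 0, 0, 0, 2, 0, 0, 2, 2],
  [3, -1, 1, 1, -1, 1, 1, 1, 1, 1, 1, 1, -1, 1, 1, -1, -1, 1, -1, 1, -1, 1, 1, 1],
  [2, 0, 0, 0, 2, 0, 0, 2, 0, 2, 2, 0, 0, 2, 0, 0, 0, 0, 0, 2, 0, 0, 0, 2],
  [2, 0, 2, 0, 0, 0, 0, 0, 0, 2, 0, 2, 0, 0, 0, 0, 2, 2, 0, 2, 0, 0, 0, 2],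
  [2, 0, 2, 0, 0, 2, 0, 2, 0, 2, 0, 0, 2, 0, 0, 0, 0, 0, 0, 0, 0, 0, 2, 2],
  [2, 2, 2, 0, 0, 0, 2, 2, 0, 0, 0, 0, 0, 0, 0, 0, 0, 0, 0, 2, 0, 2, 0, 2],
  [3, -1, 1, 1, 1, -1, 1, 1, 1, 1, 1, 1, 1, 1, -1, -1, 1, 1, 1, -1, -1, -1, 1, 1],
  [2, 0, 2, 0, 0, 0, 0, 2, 2, 0, 2, 0, 0, 0, 2, 0, 2, 0, 0, 0, 0, 0, 0, 2],
  [3, 1, 1, 1, 1, 1, 1, 1, 1, 1, -1, 1, 1, 1, 1, -1, 1, -1, -1, 1, -1, -1, -1, 1],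
  [2, 0, 0, 0, 2, 2, 0, 0, 0, 2, 0, 0, 0, 0, 2, 0, 2, 0, 0, 0, 2, 0, 0, 2],
  [3, 1, 1, -1, 1, 1, 1, -1, 1, 1, -1, 1, 1, -1, -1, 1, 1, -1, -1, 1, 1, 1, 1, 1],
  [3, -1, 1, 1, 1, 1, -1, 1, 1, -1, 1, 1, 1, -1, 1, 1, -1, 1, 1, -1, -1, 1, 1, 1],
  [3, 1, 1, 1, 1, 1, 1, 1, -1, -1, 1, -1, -1, 1, 1, 1, 1, -1, 1, 1, 1, -1, -1, 1],
  [2, 0, 2, 0, 0, 0, 2, 0, 2, 0, 0, 0, 0, 0, 0, 2, 0, 2, 0, 0, 0, 0, 2, 2],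
  [3, -1, 1, -1, 1, 1, -1, -1, 1, 1, 1, 1, 1, 1, 1, -1, 1, -1, 1, 1, -1, 1, 1, 1]]

private def mclRankThreePts9 : List (List ℤ) := [
  [2, 0, 0, 0, 0, 2, 0, 2, 0, 0, 0, 2, 0, 0, 2, 0, 0, 0, 2, 2, 0, 0, 0, 2],
  [3, 1, 1, 1, -1, 1, 1, -1, -1, -1, 1, 1, -1, 1, -1, 1, 1, 1, -1, 1, 1, 1, 1, 1],
  [2, 0, 2, 0, 0, 2, 0, 0, 0, 0, 0, 0, 0, 0, 0, 2, 2, 0, 2, 0, 0, 2, 0, 2],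
  [2, 2, 0, 0, 0, 2, 2, 0, 0, 0, 0, 0, 0, 0, 0, 0, 0, 0, 2, 0, 2, 0, 2, 2],
  [3, 1, 1, 1, 1, 1, 1, 1, 1, -1, -1, 1, 1, 1, -1, -1, -1, 1, -1, -1, 1, 1, 1, 1],
  [3, -1, 1, 1, 1, -1, 1, 1, 1, -1, 1, 1, 1, 1, 1, -1, -1, -1, 1, 1, 1, 1, -1, 1],
  [3, -1, 1, -1, 1, -1, 1, -1, 1, 1, 1, 1, 1, -1, 1, 1, 1, 1, 1, -1, 1, 1, -1, 1],
  [3, 1, 1, 1, 1, 1, 1, -1, 1, 1, 1, -1, 1, -1, 1, 1, 1, -1, 1, -1, -1, -1, 1, 1],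
  [4, 0, 0, 0, 4, 0, 0, 0, 0, 0, 0, 0, 0, 0, 0, 0, 0, 0, 0, 0, 0, 0, 0, 0],
  [3, -1, 1, 1, 1, 1, -1, 1, 1, 1, 1, 1, 1, -1, -1, 1, 1, -1, 1, 1, 1, -1, -1, 1],
  [2, 0, 2, 0, 0, 0, 0, 0, 0, 0, 0, 2, 0, 0, 2, 0, 0, 0, 0, 0, 2, 2, 2, 2],
  [4, 0, 0, 0, 0, 0, 4, 0, 0, 0, 0, 0, 0, 0, 0, 0, 0, 0, 0, 0, 0, 0, 0, 0],
  [2, 0, 0, 2, 2, 0, 0, 0, 0, 0, 2, 0, 0, 0, 0, 2, 2, 2, 0, 0, 0, 0, 0, 2],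
  [3, 1, 1, -1, -1, 1, 1, -1, -1, 1, 1, 1, 1, -1, 1, 1, -1, 1, 1, 1, -1, 1, 1, 1],
  [3, 1, 1, 1, 1, 1, 1, 1, -1, 1, 1, -1, -1, 1, -1, 1, -1, 1, 1, -1, -1, 1, 1, 1],
  [3, 1, 1, 1, 1, 1, -1, -1, -1, 1, 1, 1, 1, -1, -1, -1, 1, 1, 1, -1, 1, 1, 1, 1],
  [3, 1, 1, 1, 1, 1, 1, 1, -1, 1, -1, 1, 1, -1, 1, 1, -1, -1, 1, -1, 1, 1, -1, 1],
  [3, 1, 1, 1, 1, 1, 1, -1, 1, -1, 1, -1, 1, -1, -1, 1, -1, 1, 1, 1, 1, 1, -1, 1],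
  [3, 1, 1, 1, 1, -1, 1, 1, 1, -1, 1, 1, -1, -1, -1, 1, 1, -1, 1, -1, 1, 1, 1, 1],
  [3, 1, 1, 1, 1, -1, 1, 1, -1, 1, 1, 1, -1, 1, 1, -1, 1, 1, -1, -1, 1, 1, -1, 1]]

private def mclRankThreePts10 : List (List ℤ) := [
  [3, -1, 1, -1, -1, 1, 1, 1, 1, -1, 1, 1, 1, -1, -1, -1, 1, 1, 1, 1, 1, 1, 1, 1],
  [3, 1, 1, -1, 1, 1, 1, -1, 1, 1, 1, -1, -1, 1, 1, 1, 1, 1, -1, 1, -1, 1, -1, 1],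
  [2, 0, 0, 0, 2, 0, 0, 0, 0, 2, 0, 2, 0, 0, 0, 2, 0, 0, 2, 0, 0, 0, 2, 2],
  [3, 1, 1, -1, 1, 1, 1, 1, 1, 1, -1, 1, -1, -1, 1, -1, 1, 1, 1, -1, -1, 1, 1, 1],
  [3, -1, -1, 1, 1, 1, 1, 1, 1, 1, 1, 1, -1, 1, 1, 1, 1, -1, 1, -1, -1, 1, -1, 1],
  [3, 1, 1, -1, 1, 1, -1, -1, 1, -1, 1, 1, -1, -1, 1, 1, 1, 1, 1, 1, 1, -1, 1, 1],
  [2, 0, 0, 0, 0, 2, 2, 0, 2, 0, 0, 0, 2, 0, 2, 0, 0, 0, 0, 0, 0, 2, 0, 2],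
  [3, 1, 1, 1, 1, 1, 1, -1, 1, -1, -1, 1, -1, 1, 1, 1, -1, -1, 1, 1, -1, 1, 1, 1],
  [3, 1, -1, -1, 1, 1, 1, -1, 1, -1, 1, 1, 1, 1, -1, 1, 1, 1, 1, -1, -1, 1, 1, 1],
  [3, 1, 1, 1, 1, 1, -1, 1, 1, 1, 1, 1, -1, 1, 1, -1, -1, -1, 1, -1, 1, -1, 1, 1],
  [3, -1, 1, 1, 1, -1, 1, -1, 1, 1, 1, 1, -1, 1, 1, 1, 1, -1, -1, 1, 1, -1, 1, 1],
  [2, 0, 0, 2, 2, 2, 0, 0, 0, 0, 0, 0, 2, 2, 0, 0, 0, 0, 2, 0, 0, 0, 0, 2],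
  [2, 0, 2, 0, 0, 2, 0, 0, 2, 0, 0, 0, 0, 2, 0, 0, 0, 0, 0, 2, 2, 0, 0, 2],
  [2, 0, 2, 0, 0, 0, 0, 0, 0, 0, 2, 0, 2, 2, 0, 0, 0, 2, 0, 0, 0, 2, 0, 2],
  [2, 0, 2, 0, 0, 0, 2, 0, 0, 2, 0, 0, 0, 2, 2, 0, 0, 0, 2, 0, 0, 0, 0, 2],
  [3, 1, 1, -1, -1, 1, 1, 1, 1, 1, 1, 1, -1, 1, -1, 1, 1, -1, 1, 1, -1, -1, 1, 1],
  [3, 1, 1, -1, 1, 1, -1, 1, -1, 1, 1, 1, 1, 1, 1, 1, 1, 1, 1, -1, -1, -1, -1, 1],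
  [2, 0, 2, 2, 0, 0, 0, 2, 0, 0, 0, 2, 0, 2, 0, 2, 0, 0, 0, 0, 0, 0, 0, 2],
  [4, 0, 0, 0, 0, 0, 0, 0, 0, 0, 4, 0, 0, 0, 0, 0, 0, 0, 0, 0, 0, 0, 0, 0],
  [3, 1, 1, -1, 1, 1, 1, 1, -1, 1, -1, 1, -1, 1, 1, 1, -1, 1, -1, 1, 1, -1, 1, 1]]

private def mclRankThreePts11 : List (List ℤ) := [
  [3, -1, 1, 1, 1, -1, 1, 1, -1, 1, 1, 1, 1, -1, -1, 1, -1, 1, -1, 1, 1, 1, 1, 1],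
  [3, 1, 1, -1, 1, 1, 1, 1, 1, 1, 1, -1, 1, 1, -1, -1, 1, -1, 1, -1, 1, 1, -1, 1],
  [2, 2, 2, 0, 0, 0, 0, 0, 2, 0, 0, 2, 2, 0, 0, 0, 0, 0, 2, 0, 0, 0, 0, 2],
  [3, -1, 1, 1, -1, 1, 1, -1, 1, -1, 1, 1, 1, 1, 1, 1, 1, 1, 1, 1, -1, -1, -1, 1],
  [2, 0, 0, 0, 0, 2, 0, 0, 0, 0, 2, 0, 0, 2, 2, 2, 0, 0, 0, 0, 0, 0, 2, 2],
  [3, 1, -1, 1, 1, 1, 1, 1, -1, -1, 1, 1, 1, 1, 1, 1, -1, 1, -1, 1, -1, 1, -1, 1],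
  [3, -1, 1, 1, 1, 1, -1, -1, -1, 1, 1, 1, -1, 1, 1, 1, -1, 1, 1, 1, 1, 1, -1, 1],
  [2, 0, 0, 2, 0, 0, 2, 0, 0, 0, 0, 2, 0, 0, 0, 0, 0, 2, 2, 0, 0, 2, 0, 2],
  [2, 0, 0, 0, 0, 0, 2, 0, 0, 2, 2, 0, 0, 0, 0, 0, 2, 0, 0, 0, 0, 2, 2, 2],
  [3, -1, -1, -1, 1, 1, 1, 1, 1, 1, 1, 1, 1, -1, 1, 1, 1, 1, -1, 1, -1, -1, 1, 1],
  [2, 2, 0, 0, 0, 2, 0, 0, 0, 0, 2, 0, 2, 0, 0, 0, 2, 0, 0, 2, 0, 0, 0, 2],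
  [4, 0, 4, 0, 0, 0, 0, 0, 0, 0, 0, 0, 0, 0, 0, 0, 0, 0, 0, 0, 0, 0, 0, 0],
  [2, 0, 0, 0, 0, 0, 2, 2, 0, 0, 2, 0, 2, 0, 0, 2, 0, 0, 2, 0, 0, 0, 0, 2],
  [3, -1, 1, 1, 1, 1, -1, 1, -1, -1, 1, 1, 1, 1, 1, -1, 1, 1, -1, 1, 1, -1, 1, 1],
  [3, -1, 1, -1, -1, 1, 1, 1, -1, 1, 1, 1, 1, 1, 1, 1, 1, -1, -1, 1, 1, 1, -1, 1],
  [2, 2, 2, 2, 0, 2, 0, 0, 0, 0, 0, 0, 0, 0, 2, 0, 0, 2, 0, 0, 0, 0, 0, 2],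
  [3, 1, -1, 1, 1, 1, 1, 1, 1, 1, 1, 1, 1, -1, -1, -1, -1, -1, 1, 1, -1, 1, 1, 1],
  [3, 1, 1, -1, 1, -1, 1, -1, 1, 1, 1, 1, -1, 1, -1, -1, -1, 1, 1, 1, 1, 1, 1, 1],
  [2, 0, 2, 2, 0, 0, 0, 0, 0, 0, 2, 0, 0, 0, 0, 0, 0, 0, 2, 2, 0, 0, 2, 2],
  [2, 0, 0, 0, 0, 2, 2, 2, 0, 0, 0, 0, 0, 2, 0, 0, 2, 2, 0, 0, 0, 0, 0, 2]]

private def mclRankThreePts12 : List (List ℤ) := [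
  [3, -1, 1, 1, 1, 1, 1, 1, -1, 1, 1, -1, 1, -1, 1, -1, 1, 1, 1, 1, -1, 1, -1, 1],
  [3, 1, 1, 1, 1, 1, 1, 1, 1, 1, 1, -1, -1, -1, -1, -1, 1, 1, -1, 1, 1, -1, 1, 1],
  [2, 0, 0, 0, 2, 0, 0, 2, 0, 0, 0, 2, 2, 0, 0, 0, 2, 0, 0, 0, 0, 2, 0, 2],
  [3, 1, 1, 1, -1, 1, 1, 1, 1, 1, 1, 1, 1, -1, -1, 1, 1, 1, -1, -1, -1, 1, -1, 1],
  [2, 2, 0, 0, 0, 2, 0, 0, 0, 2, 0, 2, 0, 2, 0, 0, 0, 0, 0, 0, 0, 2, 0, 2],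
  [3, 1, 1, 1, 1, 1, 1, -1, 1, 1, -1, 1, -1, 1, -1, 1, 1, 1, 1, -1, 1, -1, -1, 1],
  [2, 0, 0, 0, 2, 0, 0, 0, 2, 0, 2, 0, 2, 0, 0, 0, 0, 0, 0, 0, 2, 0, 2, 2],
  [3, 1, 1, 1, 1, -1, 1, -1, -1, 1, 1, 1, 1, 1, -1, 1, 1, -1, 1, 1, -1, 1, -1, 1],
  [2, 0, 0, 0, 0, 2, 0, 0, 2, 2, 2, 0, 0, 0, 0, 0, 0, 2, 2, 0, 0, 0, 0, 2],
  [4, 0, 0, 0, 0, 0, 0, 0, 0, 0, 0, 4, 0, 0, 0, 0, 0, 0, 0, 0, 0, 0, 0, 0],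
  [2, 0, 0, 0, 0, 2, 0, 0, 0, 0, 0, 2, 2, 0, 0, 2, 0, 2, 0, 0, 2, 0, 0, 2],
  [2, 2, 0, 0, 2, 0, 0, 0, 0, 0, 2, 0, 0, 0, 2, 0, 0, 0, 2, 0, 0, 2, 0, 2],
  [3, 1, 1, 1, -1, 1, 1, -1, 1, 1, 1, 1, -1, -1, 1, -1, 1, -1, 1, 1, 1, 1, -1, 1],
  [3, -1, 1, -1, 1, -1, 1, 1, -1, -1, 1, 1, -1, 1, 1, 1, 1, 1, 1, 1, -1, 1, 1, 1],
  [3, -1, 1, -1, 1, 1, 1, 1, 1, -1, -1, 1, 1, 1, 1, 1, 1, -1, 1, -1, 1, -1, 1, 1],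
  [3, 1, 1, 1, -1, 1, 1, 1, 1, -1, 1, 1, 1, -1, 1, 1, -1, -1, -1, 1, 1, -1, 1, 1],
  [2, 2, 2, 0, 2, 0, 0, 0, 0, 0, 0, 0, 0, 2, 0, 0, 2, 0, 0, 0, 0, 0, 2, 2],
  [3, 1, 1, -1, 1, 1, 1, -1, -1, -1, -1, 1, 1, 1, 1, -1, 1, 1, 1, 1, 1, 1, -1, 1],
  [3, -1, 1, -1, 1, 1, 1, -1, -1, 1, 1, -1, 1, 1, -1, 1, 1, 1, 1, 1, 1, -1, 1, 1],
  [3, -1, -1, -1, 1, 1, 1, 1, -1, 1, 1, 1, 1, 1, 1, -1, -1, 1, 1, -1, 1, 1, 1, 1]]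

private def mclRankThreePts13 : List (List ℤ) := [
  [2, 0, 0, 0, 2, 0, 2, 0, 0, 0, 0, 0, 0, 2, 0, 2, 0, 0, 0, 0, 2, 2, 0, 2],
  [3, -1, 1, 1, 1, 1, 1, -1, 1, 1, -1, 1, 1, -1, 1, -1, -1, 1, 1, 1, 1, -1, 1, 1],
  [4, 0, 0, 0, 0, 4, 0, 0, 0, 0, 0, 0, 0, 0, 0, 0, 0, 0, 0, 0, 0, 0, 0, 0],
  [3, -1, -1, 1, 1, 1, 1, 1, 1, -1, 1, 1, -1, 1, -1, 1, -1, 1, 1, 1, 1, -1, 1, 1],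
  [3, 1, 1, 1, 1, 1, -1, 1, 1, -1, 1, 1, -1, 1, -1, -1, 1, 1, 1, 1, -1, 1, -1, 1],
  [3, 1, -1, -1, 1, 1, 1, -1, 1, 1, 1, 1, 1, 1, 1, 1, -1, -1, 1, 1, 1, -1, -1, 1],
  [3, 1, 1, 1, 1, -1, 1, -1, 1, -1, 1, 1, 1, -1, 1, -1, 1, 1, -1, 1, -1, 1, 1, 1],
  [3, 1, 1, 1, 1, 1, -1, -1, 1, 1, 1, 1, 1, 1, -1, 1, -1, 1, -1, 1, -1, -1, 1, 1],
  [2, 0, 0, 0, 0, 0, 2, 2, 2, 2, 0, 2, 0, 0, 0, 0, 0, 0, 0, 0, 2, 0, 0, 2],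
  [3, -1, 1, 1, 1, 1, 1, -1, 1, -1, 1, -1, -1, 1, 1, -1, 1, 1, 1, -1, 1, 1, 1, 1],
  [3, -1, 1, 1, 1, 1, 1, 1, 1, -1, 1, -1, 1, 1, -1, 1, 1, -1, -1, 1, -1, 1, 1, 1],
  [3, -1, -1, 1, 1, 1, 1, -1, -1, -1, 1, 1, 1, -1, 1, 1, 1, -1, 1, 1, 1, 1, 1, 1],
  [2, 0, 0, 2, 0, 2, 0, 2, 0, 0, 2, 0, 0, 0, 0, 0, 0, 0, 0, 0, 2, 2, 0, 2],
  [3, 1, -1, 1, 1, 1, 1, -1, -1, 1, 1, 1, -1, 1, 1, -1, 1, 1, 1, 1, -1, -1, 1, 1],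
  [2, 2, 0, 0, 0, 0, 0, 2, 0, 0, 2, 2, 0, 0, 0, 0, 0, 2, 0, 0, 0, 0, 2, 2]]

def mclRankThreePts : List (List ℤ) :=
  mclRankThreePts0 ++ mclRankThreePts1 ++ mclRankThreePts2 ++ mclRankThreePts3 ++ mclRankThreePts4 ++ mclRankThreePts5 ++ mclRankThreePts6 ++ mclRankThreePts7 ++ mclRankThreePts8 ++ mclRankThreePts9 ++ mclRankThreePts10 ++ mclRankThreePts11 ++ mclRankThreePts12 ++ mclRankThreePts13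

def mclRankThreeTree : List (ℕ × ℕ) := [(0, 0), (1, 0), (1, 0), (1, 1), (2, 0), (2, 1), (3, 0), (3, 1), (4, 0), (4, 1), (5, 0), (5, 1), (6, 0), (6, 1), (7, 0), (7, 1), (8, 0), (8, 1), (9, 0), (9, 1), (10, 0), (10, 1), (11, 0), (11, 1), (12, 1), (13, 0), (13, 1), (14, 0), (14, 1), (15, 0), (16, 0), (16, 1), (17, 0), (17, 1), (18, 0), (19, 1), (20, 0), (20, 1), (21, 0), (21, 1), (22, 0), (22, 1), (23, 0), (23, 1), (24, 1), (25, 0), (25, 1), (26, 1), (27, 0), (28, 0), (28, 1), (30, 0), (30, 1), (31, 1), (32, 0), (32, 1), (33, 0), (33, 1), (34, 0), (34, 1), (35, 1), (36, 0), (36, 1), (37, 0), (37, 1), (39, 0), (39, 1), (40, 0), (41, 1), (42, 0), (42, 1), (43, 0), (44, 1), (45, 1), (46, 0), (46, 1), (47, 1), (48, 0),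 (48, 1), (50, 1), (51, 0), (53, 0), (53, 1), (54, 0), (55, 1), (56, 1), (59, 0), (60, 0), (61, 0), (62, 1), (63, 0), (63, 1), (64, 1), (66, 1), (67, 1), (68, 1), (69, 1), (72, 1), (74, 0), (75, 1), (76, 0), (77, 1), (79, 1), (81, 0), (82, 0), (84, 0), (87, 0), (88, 0), (88, 1), (90, 1), (95, 1), (96, 0), (96, 1), (113, 0), (113, 0), (113, 1), (114, 0), (114, 1), (115, 0), (115, 1), (116, 0), (116, 1), (117, 0), (117, 1), (118, 0), (118, 1), (119, 0), (119, 1), (120, 0), (120, 1), (121, 0), (121, 1), (122, 0), (122, 1), (123, 0), (123, 1), (124, 0), (124, 1), (125, 0), (125, 1), (126, 0), (126, 1), (127, 0), (127, 1), (128, 0), (128, 1), (129, 0), (129, 1), (130, 0), (130, 1), (131, 0), (131, 1), (132, 0), (132, 1),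 (133, 0), (133, 1), (134, 0), (134, 1), (135, 0), (135, 1), (136, 0), (137, 0), (137, 1), (138, 0), (138, 1), (139, 0), (139, 1), (140, 0), (140, 1), (141, 0), (141, 1), (142, 0), (142, 1), (143, 0), (144, 0), (144, 1), (145, 0), (145, 1), (146, 0), (147, 1), (148, 0), (148, 1), (149, 0), (149, 1), (151, 0), (151, 1), (152, 0), (152, 1), (153, 0), (153, 1), (154, 0), (154, 1), (155, 0), (156, 0), (156, 1), (157, 1), (158, 0), (158, 1), (159, 0), (160, 0), (161, 0), (162, 0), (162, 1), (163, 0), (164, 0), (164, 1), (165, 0), (165, 1), (166, 0), (166, 1), (167, 1), (168, 0), (168, 1), (169, 0), (169, 1), (171, 1), (172, 0), (174, 0), (176, 0), (177, 0), (177, 1), (178, 0), (178, 1), (179, 0), (179, 1), (180, 0), (180,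 1), (183, 1), (184, 0), (185, 0), (186, 1), (187, 0), (187, 1), (189, 0), (189, 1), (190, 1), (191, 1), (194, 0), (195, 0), (195, 1), (196, 1), (197, 0), (197, 1), (198, 1), (200, 1), (201, 0), (201, 1), (203, 0), (203, 1), (204, 0), (205, 1), (206, 1), (208, 0), (209, 0), (210, 0), (210, 1), (213, 1), (215, 0), (216, 1), (217, 0), (219, 0), (219, 1), (223, 0), (226, 0), (227, 1), (229, 1), (236, 0), (240, 0), (241, 1), (244, 1), (247, 1), (249, 0), (250, 0), (259, 1), (269, 1)]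

/-- The base point. -/
def mclBase : List ℤ := [2, 0, 2, 0, 2, 2, 2, 0, 0, 0, 2, 2, 0, 0, 0, 0, 0, 0, 0, 0, 0, 0, 0, 2]
/-- The short vector of the pair. -/
def mclV : List ℤ := [4, 0, 0, 0, 0, 0, 0, 0, 0, 0, 0, 0, 0, 0, 0, 0, 0, 0, 0, 0, 0, 0, 0, 4]
/-- The norm-48 vector of the pair. -/
def mclU : List ℤ := [5, 1, 1, 1, 1, 1, 1, 1, 1, 1, 1, 1, 1, 1, 1, 1, 1, 1, 1, 1, 1, 1, 1, 1]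

theorem mclRankThree_gens : gensOk mclRankThreeGens [mclV, mclU, mclBase] = true := by decide +kernel

theorem mclRankThree_tree : treeOk mclRankThreeGens mclRankThreePts mclRankThreeTree [0, 1, 113] = true := by
  decide +kernel

theorem mclRankThree_pts : ptsOk mclRankThreePts [(mclV, 16), (mclU, 24)] = true ∧ mclRankThreePts.Nodup ∧
    mclRankThreePts.length = 275 := by decide +kernel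

theorem mclRankThree_vals : dotInt (keyVec mclBase) (keyVec (mclRankThreePts.getD 0 [])) = 32 ∧
    dotInt (keyVec mclBase) (keyVec (mclRankThreePts.getD 1 [])) = 8 ∧
    dotInt (keyVec mclBase) (keyVec (mclRankThreePts.getD 113 [])) = 16 ∧
    mclRankThreePts.getD 0 [] = mclBase ∧ inLeech (keyVec mclV) = true ∧ inLeech (keyVec mclU) = true ∧
    inLeech (keyVec mclBase) = true ∧ sqNorm (keyVec mclU) = 48 ∧ sqNorm (keyVec mclV) = 32 ∧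
    sqNorm (keyVec mclU - keyVec mclV) = 32 ∧ sqNorm (keyVec mclBase) = 32 ∧
    dotInt (keyVec mclV) (keyVec mclBase) = 16 ∧ dotInt (keyVec mclU) (keyVec mclBase) = 24 ∧
    (mclRankThreePts.filter fun a => decide (dotInt (keyVec mclBase) (keyVec a) = 8)).length = 112 ∧
    (mclRankThreePts.filter fun a => decide (keyVec a ≠ keyVec mclBase ∧
      dotInt (keyVec mclBase) (keyVec a) = 16)).length = 162 := by decide +kernel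

def mclVL : leechLattice := ⟨keyVec mclV, mem_leech_of_inLeech mclRankThree_vals.2.2.2.2.1⟩
def mclUL : leechLattice := ⟨keyVec mclU, mem_leech_of_inLeech mclRankThree_vals.2.2.2.2.2.1⟩
def mclXL : leechLattice := ⟨keyVec mclBase, mem_leech_of_inLeech mclRankThree_vals.2.2.2.2.2.2.1⟩

/-- The 275 vectors attached to a pair. -/
def mclSet (u v : leechLattice) : Set leechLattice :=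
  {x | sqNorm (x : GolayPt → ℤ) = 32 ∧ sqNorm ((u - x) : GolayPt → ℤ) = 32 ∧
    dotInt (v : GolayPt → ℤ) (x : GolayPt → ℤ) = 16}

theorem mclSet_smul {u v : leechLattice} (k : Co0) {y : leechLattice} :
    k • y ∈ mclSet (k • u) (k • v) ↔ y ∈ mclSet u v := by
  simp only [mclSet, Set.mem_setOf_eq, co0_sqNorm, co0_dot, sqNorm_sub']

theorem mclXL_mem : mclXL ∈ mclSet mclUL mclVL := by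
  obtain ⟨-, -, -, -, -, -, -, hu, hv, huv, hx, hvx, hux, -, -⟩ := mclRankThree_vals
  refine ⟨hx, ?_, hvx⟩
  show sqNorm (keyVec mclU - keyVec mclBase) = 32
  rw [sqNorm_sub', hu, hx, hux]
  norm_num

theorem mcl_rank_three :
    {y | y ∈ mclSet mclUL mclVL ∧ dotInt (mclXL : GolayPt → ℤ) (y : GolayPt → ℤ) = 8}.ncard = 112 ∧
    {y | y ∈ mclSet mclUL mclVL ∧ y ≠ mclXL ∧ dotInt (mclXL : GolayPt → ℤ) (y : GolayPt → ℤ) = 16}.ncard = 162 ∧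
    ∀ y ∈ mclSet mclUL mclVL, ∀ y' ∈ mclSet mclUL mclVL, y ≠ mclXL → y' ≠ mclXL →
      dotInt (mclXL : GolayPt → ℤ) (y : GolayPt → ℤ) = dotInt (mclXL : GolayPt → ℤ) (y' : GolayPt → ℤ) →
      ∃ g : Co0, g • mclUL = mclUL ∧ g • mclVL = mclVL ∧ g • mclXL = mclXL ∧ g • y = y' := by
  classical
  obtain ⟨r0, r1, r2, hbase, -, -, -, hu, hv, huv, -, -, -, h112, h162⟩ := mclRankThree_vals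
  obtain ⟨hpts, hnd, hlen⟩ := mclRankThree_pts
  obtain ⟨hc, -⟩ := Cfsg.Agent.S1580.result mclUL mclVL hu ⟨hv, huv⟩
  have hT : ∀ a ∈ mclRankThreePts, ∃ y ∈ mclSet mclUL mclVL, (y : GolayPt → ℤ) = keyVec a := fun a ha => by
    obtain ⟨-, hm, hn, hd⟩ := ptsOk_spec hpts ha
    refine ⟨⟨_, hm⟩, ⟨hn, ?_, hd _ (List.mem_cons_self ..)⟩, rfl⟩
    show sqNorm (keyVec mclU - keyVec a) = 32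
    rw [sqNorm_sub', hu, hn, hd (mclU, 24) (by simp)]
    norm_num
  have hl : ∀ a ∈ mclRankThreePts, a.length = 24 := fun a ha => (ptsOk_spec hpts ha).1
  have hcnt := fun P hP => @ncard_filter_pts mclRankThreePts hl hnd (mclSet mclUL mclVL) hT (hc.trans hlen.symm)
    (by omega) P hP
  refine ⟨(hcnt (fun z => dotInt (keyVec mclBase) z = 8) inferInstance).trans h112, ?_, ?_⟩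
  · refine Eq.trans ?_ ((hcnt (fun z => z ≠ keyVec mclBase ∧ dotInt (keyVec mclBase) z = 16) inferInstance).trans h162)
    exact congrArg Set.ncard (Set.ext fun y => and_congr_right fun _ => and_congr_left fun _ =>
      not_congr ⟨congrArg Subtype.val, fun e => Subtype.ext e⟩)
  intro y hy y' hy' hne hne' hd
  have key : ∀ z ∈ mclSet mclUL mclVL, z ≠ mclXL → ∃ r ∈ [1, 113], ∃ g : Co0,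
      g • mclUL = mclUL ∧ g • mclVL = mclVL ∧ g • mclXL = mclXL ∧
      dotInt (mclXL : GolayPt → ℤ) (z : GolayPt → ℤ) = dotInt (keyVec mclBase) (keyVec (mclRankThreePts.getD r [])) ∧
      ∀ v : leechLattice, (v : GolayPt → ℤ) = keyVec (mclRankThreePts.getD r []) → g • v = z := by
    intro z hz hzne
    obtain ⟨i, hi, e⟩ := mem_of_card _ hl hnd _ hT (hc.trans hlen.symm) (by omega) hz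
    obtain ⟨r, hr, g, hg1, hg2⟩ := exists_root _ _ _ _ _ mclRankThree_gens mclRankThree_tree
      (fun a ha => (ptsOk_spec hpts ha).2.1) i hi
    have gX : g • mclXL = mclXL := hg1 _ _ (by simp) rfl
    have hrlt : r < mclRankThreePts.length := by
      rw [hlen]; simp only [List.mem_cons, List.not_mem_nil, or_false] at hr; omega
    obtain ⟨v0, -, ev⟩ := hT _ (show mclRankThreePts.getD r [] ∈ mclRankThreePts by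
      rw [List.getD_eq_getElem _ _ hrlt]; exact List.getElem_mem hrlt)
    have gv : ∀ v : leechLattice, (v : GolayPt → ℤ) = keyVec (mclRankThreePts.getD r []) → g • v = z :=
      fun v hv => Subtype.ext ((hg2 v hv).trans e.symm)
    refine ⟨r, ?_, g, hg1 _ _ (by simp) rfl, hg1 _ _ (by simp) rfl, gX, ?_, gv⟩
    · simp only [List.mem_cons, List.not_mem_nil, or_false] at hr ⊢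
      refine hr.resolve_left fun h0 => hzne ?_
      subst h0
      rw [← gv mclXL (by rw [hbase]; rfl), gX]
    · conv_lhs => rw [← gv v0 ev, ← gX, co0_dot, ev]
      rfl
  obtain ⟨r, hr, g, a1, a2, a3, a4, a5⟩ := key y hy hne
  obtain ⟨r', hr', g', b1, b2, b3, b4, b5⟩ := key y' hy' hne'
  rw [a4, b4] at hd
  have hrr : r = r' := by
    simp only [List.mem_cons, List.not_mem_nil, or_false] at hr hr'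
    rcases hr with rfl | rfl <;> rcases hr' with rfl | rfl <;> omega
  subst hrr
  obtain ⟨v0, -, ev⟩ := hT _ (show mclRankThreePts.getD r [] ∈ mclRankThreePts by
    have : r < mclRankThreePts.length := by
      rw [hlen]; simp only [List.mem_cons, List.not_mem_nil, or_false] at hr; omega
    rw [List.getD_eq_getElem _ _ this]; exact List.getElem_mem this)
  refine ⟨g' * g⁻¹, ?_, ?_, ?_, ?_⟩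
  · rw [mul_smul, show g⁻¹ • mclUL = mclUL from inv_smul_eq_iff.2 a1.symm, b1]
  · rw [mul_smul, show g⁻¹ • mclVL = mclVL from inv_smul_eq_iff.2 a2.symm, b2]
  · rw [mul_smul, show g⁻¹ • mclXL = mclXL from inv_smul_eq_iff.2 a3.symm, b3]
  · rw [mul_smul, show g⁻¹ • y = v0 from inv_smul_eq_iff.2 (a5 v0 ev).symm, b5 v0 ev]

end Cfsg.Lib.Concrete
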