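import Cfsg.Agent.Lib.Concrete.LeechCount
import Cfsg.Agent.Lib.Concrete.LeechIndex
import Cfsg.Prelude.Def_SporadicCombinatorics

/-!
The lattice modulo twice itself: every class has a vector of norm at most 64, and the vectors of
norm 64 fall into crosses of 48.
-/

set_option autoImplicit false

namespace Cfsg.Lib.Concrete

open Finset

/-- Doubling. -/
def dblHom : (GolayPt → ℤ) →+ (GolayPt → ℤ) := AddMonoidHom.mk' (fun x => 2 • x) fun x y => smul_add 2 x y

theorem dblHom_injective : Function.Injective dblHom := fun x y h => by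
  funext i
  have h1 : (2 : ℕ) • x i = 2 • y i := congrFun h i
  simp only [nsmul_eq_mul] at h1
  push_cast at h1
  omega

theorem index_range_dblHom : dblHom.range.index = 2 ^ 24 := by
  let f : (GolayPt → ℤ) →+ (GolayPt → ZMod 2) := AddMonoidHom.mk' (fun x i => (x i : ZMod 2)) fun x y => by
    funext i; simp
  have hk : dblHom.range = f.ker := by
    ext x
    rw [AddMonoidHom.mem_ker]
    constructor
    · rintro ⟨y, rfl⟩
      funext i
      show (((2 • y) i : ℤ) : ZMod 2) = 0
      exact (ZMod.intCast_zmod_eq_zero_iff_dvd _ 2).2 ⟨y i, by simp [nsmul_eq_mul]⟩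
    · intro h
      have h2 : ∀ i, (2 : ℤ) ∣ x i := fun i => (ZMod.intCast_zmod_eq_zero_iff_dvd _ 2).1 (congrFun h i)
      choose y hy using h2
      exact ⟨y, funext fun i => by show (2 • y) i = x i; rw [hy i]; simp [nsmul_eq_mul]⟩
  rw [hk, AddSubgroup.index_ker, AddMonoidHom.range_eq_top.2 fun g => ⟨fun i => (g i).val, funext fun i => by simp [f]⟩,
    Nat.card_congr AddSubgroup.topEquiv.toEquiv]
  simp [Nat.card_eq_fintype_card]

/-- Twice the lattice, inside the lattice. -/
def twoLeech : AddSubgroup leechLattice := (leechLattice.map dblHom).addSubgroupOf leechLattice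

theorem card_leech_mod_two : Nat.card (leechLattice ⧸ twoLeech) = 2 ^ 24 := by
  have hle : leechLattice.map dblHom ≤ leechLattice := by
    rintro _ ⟨x, hx, rfl⟩
    exact nsmul_mem hx 2
  have h := AddSubgroup.relIndex_mul_index hle
  rw [AddSubgroup.index_map_of_injective _ dblHom_injective, index_range_dblHom, index_leech] at h
  rw [← AddSubgroup.index_eq_card]
  exact Nat.eq_of_mul_eq_mul_right (show 0 < 2 ^ 36 by norm_num) (h.trans (by ring))

theorem mk_eq_iff {x y : leechLattice} : (QuotientAddGroup.mk x : leechLattice ⧸ twoLeech) = QuotientAddGroup.mk y ↔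
    ∃ z ∈ leechLattice, (y : GolayPt → ℤ) - x = 2 • z := by
  rw [QuotientAddGroup.eq, twoLeech, AddSubgroup.mem_addSubgroupOf, AddSubgroup.mem_map]
  refine exists_congr fun z => and_congr_right fun _ => ?_
  rw [AddSubgroup.coe_add, AddSubgroup.coe_neg, eq_comm, neg_add_eq_sub]
  rfl

theorem close_pair {x y : GolayPt → ℤ} (hx : x ∈ leechLattice) (hy : y ∈ leechLattice)
    (hxn : sqNorm x ≤ 64) (hyn : sqNorm y ≤ 64) (h : ∃ z ∈ leechLattice, y - x = 2 • z) :
    y = x ∨ y = -x ∨ (sqNorm x = 64 ∧ sqNorm y = 64 ∧ ∑ i, x i * y i = 0) := by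
  obtain ⟨z, hz, he⟩ := h
  have hi : ∀ i, y i - x i = 2 * z i := fun i => by
    have := congrFun he i
    simpa [nsmul_eq_mul] using this
  have hw : z + x ∈ leechLattice := add_mem hz hx
  by_cases h1 : z = 0
  · exact Or.inl (sub_eq_zero.1 (by rw [he, h1, nsmul_zero]))
  by_cases h2 : z + x = 0
  · refine Or.inr (Or.inl (funext fun i => ?_))
    have := hi i
    have := congrFun h2 i
    simp only [Pi.add_apply, Pi.zero_apply] at this
    simp only [Pi.neg_apply]
    omega
  refine Or.inr (Or.inr ?_)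
  have a1 := sqNorm_ge (mem_leechLattice_iff.1 hz) h1
  have a2 := sqNorm_ge (mem_leechLattice_iff.1 hw) h2
  have b1 : 4 * sqNorm z = sqNorm x + sqNorm y - 2 * ∑ i, x i * y i := by
    simp only [sqNorm, Finset.mul_sum, ← Finset.sum_add_distrib, ← Finset.sum_sub_distrib]
    refine Finset.sum_congr rfl fun i _ => ?_
    linear_combination (-(y i - x i + 2 * z i)) * hi i
  have b2 : 4 * sqNorm (z + x) = sqNorm x + sqNorm y + 2 * ∑ i, x i * y i := by
    simp only [sqNorm, Pi.add_apply, Finset.mul_sum, ← Finset.sum_add_distrib]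
    refine Finset.sum_congr rfl fun i _ => ?_
    linear_combination (-(x i + y i + 2 * (z i + x i))) * hi i
  omega

theorem card_le_48 (F : Finset (GolayPt → ℤ)) (hn : ∀ y ∈ F, sqNorm y = 64)
    (ho : ∀ y ∈ F, ∀ y' ∈ F, y' = y ∨ y' = -y ∨ ∑ i, y i * y' i = 0) : F.card ≤ 48 := by
  classical
  have key : ∀ i, ∑ y ∈ F, y i ^ 2 ≤ 128 := by
    intro i
    set S := ∑ y ∈ F, y i ^ 2 with hS
    let s : GolayPt → ℤ := fun j => ∑ y ∈ F, y i * y j
    have hsi : s i = S := Finset.sum_congr rfl fun y _ => (sq (y i)).symm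
    have h1 : S ^ 2 ≤ ∑ j, s j ^ 2 := hsi ▸ Finset.single_le_sum (f := fun j => s j ^ 2) (fun j _ => sq_nonneg _) (Finset.mem_univ i)
    have h2 : ∑ j, s j ^ 2 = ∑ y ∈ F, ∑ y' ∈ F, y i * y' i * ∑ j, y j * y' j := by
      simp only [s, sq, Finset.sum_mul, Finset.mul_sum]
      rw [Finset.sum_comm]
      refine Finset.sum_congr rfl fun y _ => ?_
      rw [Finset.sum_comm]
      exact Finset.sum_congr rfl fun y' _ => Finset.sum_congr rfl fun j _ => by ring
    have h3 : ∀ y ∈ F, ∑ y' ∈ F, y i * y' i * ∑ j, y j * y' j ≤ 128 * y i ^ 2 := by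
      intro y hy
      have hne : y ≠ -y := fun h => by
        have h0 : ∀ j, y j = 0 := fun j => by have := congrFun h j; simp only [Pi.neg_apply] at this; omega
        have := hn y hy
        simp [sqNorm, h0] at this
      have hd : ∀ y' ∈ F, y i * y' i * ∑ j, y j * y' j =
          if y' ∈ ({y, -y} : Finset (GolayPt → ℤ)) then 64 * y i ^ 2 else 0 := by
        intro y' hy'
        have hself : ∑ j, y j * y j = 64 := by rw [← hn y hy]; exact Finset.sum_congr rfl fun j _ => (sq (y j)).symm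
        rcases eq_or_ne y' y with rfl | h1
        · rw [hself, if_pos (by simp)]; ring
        rcases eq_or_ne y' (-y) with rfl | h2
        · rw [if_pos (by simp)]
          simp only [Pi.neg_apply, mul_neg, Finset.sum_neg_distrib, hself]; ring
        · rw [if_neg (by simp [h1, h2]), ((ho y hy y' hy').resolve_left h1).resolve_left h2, mul_zero]
      rw [Finset.sum_congr rfl hd, ← Finset.sum_filter, Finset.sum_const, nsmul_eq_mul]
      have hc : (F.filter fun y' => y' ∈ ({y, -y} : Finset (GolayPt → ℤ))).card ≤ 2 :=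
        (Finset.card_le_card fun z hz => (Finset.mem_filter.1 hz).2).trans Finset.card_le_two
      have h2' : ((F.filter fun y' => y' ∈ ({y, -y} : Finset (GolayPt → ℤ))).card : ℤ) ≤ 2 := by exact_mod_cast hc
      calc ((F.filter fun y' => y' ∈ ({y, -y} : Finset (GolayPt → ℤ))).card : ℤ) * (64 * y i ^ 2)
          ≤ 2 * (64 * y i ^ 2) := mul_le_mul_of_nonneg_right h2' (by positivity)
        _ = 128 * y i ^ 2 := by ring
    have h4 : S ^ 2 ≤ 128 * S := by
      rw [hS, Finset.mul_sum]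
      exact h1.trans (h2.le.trans (Finset.sum_le_sum h3))
    nlinarith [Finset.sum_nonneg fun y (_ : y ∈ F) => sq_nonneg (y i)]
  have h := Finset.sum_le_sum (s := (Finset.univ : Finset GolayPt)) fun i _ => key i
  have hsum : ∀ y ∈ F, ∑ i : GolayPt, y i ^ 2 = (64 : ℤ) := fun y hy => hn y hy
  rw [Finset.sum_comm, Finset.sum_congr rfl hsum, Finset.sum_const,
    Finset.sum_const, Finset.card_univ, show Fintype.card GolayPt = 24 from rfl, nsmul_eq_mul, nsmul_eq_mul] at h
  push_cast at h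
  omega

theorem finite_norm_eq (N : ℕ) (hN : N ≤ 64) :
    {x : leechLattice | sqNorm (x : GolayPt → ℤ) = (N : ℤ)}.Finite := by
  refine Set.Finite.of_finite_image (f := fun x : leechLattice => (x : GolayPt → ℤ)) ?_ Subtype.val_injective.injOn
  refine Set.Finite.subset (Set.Finite.pi fun _ : GolayPt => Set.finite_Icc (-8 : ℤ) 8) ?_
  rintro _ ⟨x, hx, rfl⟩ i -
  have h := abs_le_of_sqNorm (b := 8) hx (by push_cast; omega) i
  push_cast at h
  exact abs_le.1 h

theorem ncard_subtype_norm (N : ℕ) :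
    {x : leechLattice | sqNorm (x : GolayPt → ℤ) = (N : ℤ)}.ncard =
      {x : GolayPt → ℤ | x ∈ leechLattice ∧ sqNorm x = (N : ℤ)}.ncard := by
  rw [← Set.ncard_image_of_injective _ (Subtype.val_injective (p := fun x => x ∈ leechLattice))]
  congr 1
  ext x
  simp only [Set.mem_image, Set.mem_setOf_eq]
  exact ⟨fun ⟨y, hy, e⟩ => e ▸ ⟨y.2, hy⟩, fun h => ⟨⟨x, h.1⟩, h.2, rfl⟩⟩

/-- The classes of the vectors of norm `N`. -/
noncomputable def normClasses (N : ℕ) : Set (leechLattice ⧸ twoLeech) :=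
  QuotientAddGroup.mk '' {x : leechLattice | sqNorm (x : GolayPt → ℤ) = (N : ℤ)}

theorem fibre_le (N b : ℕ) (hN : N ≤ 64)
    (hb : ∀ S : Finset (GolayPt → ℤ), (∀ y ∈ S, sqNorm y = (N : ℤ)) →
      (∀ y ∈ S, ∀ y' ∈ S, y' = y ∨ y' = -y ∨ (N = 64 ∧ ∑ i, y i * y' i = 0)) → S.card ≤ b) :
    {x : GolayPt → ℤ | x ∈ leechLattice ∧ sqNorm x = (N : ℤ)}.ncard ≤ b * (normClasses N).ncard ∧
      ∀ x : leechLattice, sqNorm (x : GolayPt → ℤ) = (N : ℤ) →
        ({y : GolayPt → ℤ | y ∈ leechLattice ∧ sqNorm y = (N : ℤ) ∧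
          ∃ z ∈ leechLattice, (x : GolayPt → ℤ) - y = 2 • z}.ncard ≤ b ∧
        {x : GolayPt → ℤ | x ∈ leechLattice ∧ sqNorm x = (N : ℤ)}.ncard + (b -
          {y : GolayPt → ℤ | y ∈ leechLattice ∧ sqNorm y = (N : ℤ) ∧
            ∃ z ∈ leechLattice, (x : GolayPt → ℤ) - y = 2 • z}.ncard) ≤ b * (normClasses N).ncard) := by
  classical
  haveI := (finite_norm_eq N hN).fintype
  set A := {x : leechLattice | sqNorm (x : GolayPt → ℤ) = (N : ℤ)}.toFinset with hA
  let mk : leechLattice → leechLattice ⧸ twoLeech := QuotientAddGroup.mk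
  have hmemA : ∀ u : leechLattice, u ∈ A ↔ sqNorm (u : GolayPt → ℤ) = (N : ℤ) := fun u => by simp [hA]
  have hfib : ∀ q, (A.filter fun y => mk y = q).card ≤ b := by
    intro q
    rw [← Finset.card_map ⟨fun y : leechLattice => (y : GolayPt → ℤ), Subtype.val_injective⟩]
    refine hb _ (fun y hy => ?_) fun y hy y' hy' => ?_
    · obtain ⟨u, hu, rfl⟩ := Finset.mem_map.1 hy
      exact (hmemA u).1 (Finset.mem_filter.1 hu).1
    · obtain ⟨u, hu, rfl⟩ := Finset.mem_map.1 hy
      obtain ⟨v, hv, rfl⟩ := Finset.mem_map.1 hy'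
      obtain ⟨hu1, hu2⟩ := Finset.mem_filter.1 hu
      obtain ⟨hv1, hv2⟩ := Finset.mem_filter.1 hv
      have e1 : sqNorm (u : GolayPt → ℤ) = (N : ℤ) := (hmemA u).1 hu1
      have e2 : sqNorm (v : GolayPt → ℤ) = (N : ℤ) := (hmemA v).1 hv1
      rcases close_pair u.2 v.2 (by omega) (by omega) (mk_eq_iff.1 (hu2.trans hv2.symm)) with h | h | ⟨h, -, h'⟩
      · exact Or.inl h
      · exact Or.inr (Or.inl h)
      · exact Or.inr (Or.inr ⟨by omega, h'⟩)
  have hsum : A.card = ∑ q ∈ A.image mk, (A.filter fun y => mk y = q).card := Finset.card_eq_sum_card_image _ _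
  have hcl : (normClasses N).ncard = (A.image mk).card := by
    rw [← Set.ncard_coe_finset, Finset.coe_image, hA, Set.coe_toFinset]; rfl
  have hAc : {x : GolayPt → ℤ | x ∈ leechLattice ∧ sqNorm x = (N : ℤ)}.ncard = A.card := by
    rw [← ncard_subtype_norm, Set.ncard_eq_toFinset_card']
  refine ⟨?_, fun x hx => ?_⟩
  · rw [hAc, hsum, hcl, mul_comm]
    exact (Finset.sum_le_card_nsmul _ _ _ fun q _ => hfib q).trans_eq (smul_eq_mul _ _)
  have hfx : {y : GolayPt → ℤ | y ∈ leechLattice ∧ sqNorm y = (N : ℤ) ∧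
      ∃ z ∈ leechLattice, (x : GolayPt → ℤ) - y = 2 • z}.ncard = (A.filter fun y => mk y = mk x).card := by
    rw [← Finset.card_map ⟨fun y : leechLattice => (y : GolayPt → ℤ), Subtype.val_injective⟩, ← Set.ncard_coe_finset]
    congr 1
    ext y
    simp only [Set.mem_setOf_eq, Finset.coe_map, Function.Embedding.coeFn_mk, Set.mem_image, Finset.mem_coe,
      Finset.mem_filter, hA, Set.mem_toFinset, mk, mk_eq_iff]
    exact ⟨fun ⟨h1, h2, h3⟩ => ⟨⟨y, h1⟩, ⟨h2, h3⟩, rfl⟩, fun ⟨u, ⟨h1, h2⟩, e⟩ => e ▸ ⟨u.2, h1, h2⟩⟩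
  rw [hfx]
  refine ⟨hfib _, ?_⟩
  rw [hAc, hsum, hcl]
  have hxm : mk x ∈ A.image mk := Finset.mem_image_of_mem mk (Set.mem_toFinset.2 hx)
  rw [← Finset.add_sum_erase _ _ hxm]
  have h1 := Finset.sum_le_card_nsmul ((A.image mk).erase (mk x)) (fun q => (A.filter fun y => mk y = q).card) b
    fun q _ => hfib q
  rw [smul_eq_mul, Finset.card_erase_of_mem hxm] at h1
  have h2 : 0 < (A.image mk).card := Finset.card_pos.2 ⟨_, hxm⟩
  have h3 := hfib (mk x)
  obtain ⟨c, hc⟩ : ∃ c, (A.image mk).card = c + 1 := ⟨_, (Nat.sub_add_cancel h2).symm⟩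
  rw [hc, Nat.add_sub_cancel] at h1
  rw [hc, Nat.mul_add, mul_one, mul_comm b c]
  omega

theorem pm_card (N : ℕ) (hN : N ≠ 64) (S : Finset (GolayPt → ℤ))
    (h : ∀ y ∈ S, ∀ y' ∈ S, y' = y ∨ y' = -y ∨ (N = 64 ∧ ∑ i, y i * y' i = 0)) : S.card ≤ 2 := by
  classical
  rcases S.eq_empty_or_nonempty with rfl | ⟨y, hy⟩
  · simp
  refine (Finset.card_le_card (t := {y, -y}) fun y' hy' => ?_).trans Finset.card_le_two
  rcases h y hy y' hy' with e | e | e
  · simp [e]
  · simp [e]
  · exact absurd e.1 hN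

theorem crosses_and_classes :
    (normClasses 0 ∪ normClasses 32 ∪ normClasses 48 ∪ normClasses 64 = Set.univ) ∧
      (normClasses 64).ncard = 8292375 := by
  classical
  haveI : Finite (leechLattice ⧸ twoLeech) := Nat.finite_of_card_ne_zero (by rw [card_leech_mod_two]; norm_num)
  have h0 : 1 ≤ (normClasses 0).ncard := (Set.ncard_pos (Set.toFinite _)).2 ⟨_, ⟨0, by simp [sqNorm], rfl⟩⟩
  have h32 := (fibre_le 32 2 (by norm_num) fun S _ h => pm_card 32 (by norm_num) S h).1
  rw [ncard_leech_norm 32 5 (by norm_num) (by norm_num), leech_count32] at h32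
  have h48 := (fibre_le 48 2 (by norm_num) fun S _ h => pm_card 48 (by norm_num) S h).1
  rw [ncard_leech_norm 48 6 (by norm_num) (by norm_num), leech_count48] at h48
  have h64 := (fibre_le 64 48 le_rfl fun S hn h => card_le_48 S (fun y hy => hn y hy)
    fun y hy y' hy' => (h y hy y' hy').imp_right (Or.imp_right And.right)).1
  rw [ncard_leech_norm 64 8 (by norm_num) (by norm_num), leech_count64] at h64
  have hdis : ∀ M N : ℕ, M ≤ 64 → N ≤ 64 → M ≠ N → Disjoint (normClasses M) (normClasses N) := by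
    intro M N hM hN hne
    refine Set.disjoint_left.2 ?_
    rintro _ ⟨x, hx, rfl⟩ ⟨y, hy, e⟩
    have hx' : sqNorm (x : GolayPt → ℤ) = (M : ℤ) := hx
    have hy' : sqNorm (y : GolayPt → ℤ) = (N : ℤ) := hy
    have hneg : ∀ v : GolayPt → ℤ, sqNorm (-v) = sqNorm v := fun v => by simp [sqNorm]
    rcases close_pair y.2 x.2 (by omega) (by omega) (mk_eq_iff.1 e) with h | h | ⟨h, h', -⟩
    · rw [h] at hx'; omega
    · rw [h, hneg] at hx'; omega
    · omega
  have hu : (normClasses 0 ∪ normClasses 32 ∪ normClasses 48 ∪ normClasses 64).ncard =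
      (normClasses 0).ncard + (normClasses 32).ncard + (normClasses 48).ncard + (normClasses 64).ncard := by
    rw [Set.ncard_union_eq, Set.ncard_union_eq, Set.ncard_union_eq]
    · exact hdis 0 32 (by norm_num) (by norm_num) (by norm_num)
    · exact Set.disjoint_union_left.2 ⟨hdis 0 48 (by norm_num) (by norm_num) (by norm_num),
        hdis 32 48 (by norm_num) (by norm_num) (by norm_num)⟩
    · exact Set.disjoint_union_left.2 ⟨Set.disjoint_union_left.2 ⟨hdis 0 64 (by norm_num) le_rfl (by norm_num),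
        hdis 32 64 (by norm_num) le_rfl (by norm_num)⟩, hdis 48 64 (by norm_num) le_rfl (by norm_num)⟩
  have hle := Set.ncard_le_ncard (Set.subset_univ (normClasses 0 ∪ normClasses 32 ∪ normClasses 48 ∪ normClasses 64))
  rw [Set.ncard_univ, card_leech_mod_two, hu] at hle
  refine ⟨Set.eq_of_subset_of_ncard_le (Set.subset_univ _) ?_, by omega⟩
  rw [Set.ncard_univ, card_leech_mod_two, hu]
  omega

theorem exists_short_representative {x : GolayPt → ℤ} (hx : x ∈ leechLattice) :
    ∃ y ∈ leechLattice, sqNorm y ≤ 64 ∧ ∃ z ∈ leechLattice, x - y = 2 • z := by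
  have h : (QuotientAddGroup.mk (⟨x, hx⟩ : leechLattice) : leechLattice ⧸ twoLeech) ∈
      normClasses 0 ∪ normClasses 32 ∪ normClasses 48 ∪ normClasses 64 := by
    rw [crosses_and_classes.1]; exact Set.mem_univ _
  rcases h with ((h | h) | h) | h <;> obtain ⟨y, hy, e⟩ := h <;>
    refine ⟨y, y.2, ?_, mk_eq_iff.1 e⟩ <;>
    (have hy' := Set.mem_setOf_eq ▸ hy; omega)

theorem cross_ncard {x : GolayPt → ℤ} (hx : x ∈ leechLattice) (hn : sqNorm x = 64) : (cross x).ncard = 48 := by
  have h := (fibre_le 64 48 le_rfl fun S hn h => card_le_48 S (fun y hy => hn y hy)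
    fun y hy y' hy' => (h y hy y' hy').imp_right (Or.imp_right And.right)).2 ⟨x, hx⟩ hn
  rw [ncard_leech_norm 64 8 (by norm_num) (by norm_num), leech_count64, crosses_and_classes.2] at h
  have he : cross x = {y : GolayPt → ℤ | y ∈ leechLattice ∧ sqNorm y = ((64 : ℕ) : ℤ) ∧
      ∃ z ∈ leechLattice, x - y = 2 • z} := by
    ext y; simp [cross, hn]
  rw [he]
  simp only at h
  omega

end Cfsg.Lib.Concrete
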