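import Cfsg.Agent.Lib.Concrete.LeechShapes

/-!
Transitivity of the automorphism group of the rank-24 lattice on the vectors of norm 32, 48 and 64.
-/

set_option autoImplicit false

namespace Cfsg.Lib.Concrete

open Finset
open scoped Pointwise symmDiff

/-- The vector with a single 8 at the extra point. -/
def top8 : GolayPt → ℤ := Pi.single none 8

theorem absSet_eq_empty {x : GolayPt → ℤ} {v : ℤ} (h : (absSet x v).card = 0) : absSet x v = ∅ :=
  Finset.card_eq_zero.1 h

theorem no_eight {x : GolayPt → ℤ} (hall : ∀ p, |x p| = 0 ∨ |x p| = 2 ∨ |x p| = 4 ∨ |x p| = 6 ∨ |x p| = 8)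
    (h : (absSet x 8).card = 0) (p : GolayPt) : |x p| = 0 ∨ |x p| = 2 ∨ |x p| = 4 ∨ |x p| = 6 := by
  rcases hall p with e | e | e | e | e
  · exact Or.inl e
  · exact Or.inr (Or.inl e)
  · exact Or.inr (Or.inr (Or.inl e))
  · exact Or.inr (Or.inr (Or.inr e))
  · exact absurd (mem_absSet.2 e) (by rw [absSet_eq_empty h]; simp)

theorem smul_empty_mset (σ : Equiv.Perm GolayPt) {x : GolayPt → ℤ} {v : ℤ} (h : (absSet x v).card = 0) :
    σ • absSet x v = mset 0 := by
  rw [absSet_eq_empty h, Finset.smul_finset_empty, mset_zero]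

/-- M24 moves at most five points to any others. -/
theorem exists_map_small {x y : Finset GolayPt} (a b : ℕ) (hx : x.card = (mset a).card) (hy : y.card = (mset b).card)
    (hi : Disjoint x y) (hi' : Disjoint (mset a) (mset b)) (hle : x.card + y.card ≤ 5) :
    ∃ g ∈ M24, g • x = mset a ∧ g • y = mset b := by
  have hc : (x ∪ y).card ≤ 5 := (Finset.card_union_of_disjoint hi).le.trans hle
  exact exists_map_pair hx hy
    (by rw [Finset.disjoint_iff_inter_eq_empty.1 hi, Finset.disjoint_iff_inter_eq_empty.1 hi'])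
    (hc.trans (by norm_num)) fun h => absurd h (by omega)

theorem perm_smul_eq_baseOctad {g : Equiv.Perm GolayPt} (hg : g ∈ M24) {o : Finset GolayPt} (ho : o ∈ octads)
    {s : Finset GolayPt} (hs : 5 ≤ s.card) (hso : s ⊆ o) (hb : g • s ⊆ baseOctad) : g • o = baseOctad :=
  octads_eq_of_five (smul_octad_mem hg ho) baseOctad_mem (s := g • s) (by rwa [card_smul_points])
    (Finset.smul_finset_subset_smul_finset hso) hb

theorem octad_of_two {x : GolayPt → ℤ} (hu : absSet x 2 ∪ absSet x 6 ∈ codeSets)
    (hc : (absSet x 2 ∪ absSet x 6).card = 8) : absSet x 2 ∪ absSet x 6 ∈ octads := ⟨hu, hc⟩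

/-- The shapes of the even vectors of norm at most 64. -/
theorem even_shapes {x : GolayPt → ℤ} (hx : x ∈ leechLattice) (h : x none % 2 = 0) {N : ℕ}
    (hN : sqNorm x = (N : ℤ)) (hle : N ≤ 64) :
    ∃ k, (absSet x 2 ∪ absSet x 6).card = k ∧ (k = 0 ∨ k = 8 ∨ k = 12 ∨ k = 16) ∧
      (absSet x 2).card + (absSet x 6).card = k ∧
      4 * (absSet x 2).card + 16 * (absSet x 4).card + 36 * (absSet x 6).card + 64 * (absSet x 8).card = N ∧
      (∀ p, |x p| = 0 ∨ |x p| = 2 ∨ |x p| = 4 ∨ |x p| = 6 ∨ |x p| = 8) ∧
      absSet x 2 ∪ absSet x 6 ∈ codeSets := by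
  obtain ⟨h1, h2, h3, h4⟩ := even_counts hx h hN hle
  refine ⟨_, rfl, ?_, h4, by exact_mod_cast h1, h2, h3⟩
  rcases code_card h3 with e | e | e | e | e <;> omega

theorem mem_codeSets_univ : (Finset.univ : Finset GolayPt) ∈ codeSets :=
  ⟨1, one_mem_golayCode, by ext; simp [support₂]⟩

/-- A vector of norm 64 with an entry of absolute value 8. -/
theorem moves_eight {x : GolayPt → ℤ} (hx : x ∈ leechLattice) (hn : sqNorm x = 64) {i : GolayPt} (hi : |x i| = 8) :
    Moves x top8 := by
  haveI := M24_isPretransitive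
  have hsq : x i ^ 2 = 64 := by rw [← sq_abs, hi]; norm_num
  have hzero : ∀ p, p ≠ i → x p = 0 := fun p hp => by
    have h1 := Finset.add_sum_erase Finset.univ (fun q => x q ^ 2) (Finset.mem_univ i)
    have h2 := Finset.single_le_sum (f := fun q => x q ^ 2) (fun q _ => sq_nonneg (x q))
      (Finset.mem_erase.2 ⟨hp, Finset.mem_univ p⟩)
    have h3 : x i ^ 2 + ∑ q ∈ Finset.univ.erase i, x q ^ 2 = 64 := h1.trans hn
    have h4 : x p ^ 2 ≤ 0 := by
      have : ∑ q ∈ Finset.univ.erase i, x q ^ 2 = 0 := by omega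
      simpa [this] using h2
    exact sq_eq_zero_iff.1 (le_antisymm h4 (sq_nonneg _))
  have he : x = Pi.single i (x i) := funext fun p => by
    by_cases hp : p = i
    · subst hp; simp
    · simp [hp, hzero p hp]
  obtain ⟨σ, hσ⟩ := MulAction.exists_smul_eq M24 i (none : GolayPt)
  rcases (abs_eq (by norm_num : (0 : ℤ) ≤ 8)).1 hi with h8 | h8
  · have h := moves_mono hx σ.2 empty_mem_codeSets
    rwa [he, signedPerm_single, h8, show σ.1 i = none from hσ, if_neg (Finset.notMem_empty _), ← h8, ← he, h8] at h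
  · have h := moves_mono hx σ.2 mem_codeSets_univ
    rwa [he, signedPerm_single, show σ.1 i = none from hσ, if_pos (Finset.mem_univ _), ← he, h8, neg_neg] at h

/-- Pattern of four fours. -/
abbrev pat4 : GolayPt → ℤ := vec 0 8388615 0 8388608

theorem pat4_check : signOk pat4 = true ∧ sqNorm pat4 = 64 ∧ (absSet (xiFun pat4) 8).card = 1 := by decide +kernel

/-- An even vector of norm 64 with no entry 2 modulo 4. -/
theorem moves64_zero {x : GolayPt → ℤ} (hx : x ∈ leechLattice) (hn : sqNorm x = 64) (h4 : ∀ p, x p % 4 = 0) :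
    Moves x top8 := by
  have h := h4 none
  obtain ⟨k, -, -, -, h64, hall, -⟩ := even_shapes hx (by omega) (N := 64) (by exact_mod_cast hn) le_rfl
  have hz : ∀ v : ℤ, v % 4 = 2 → (absSet x v).card = 0 := fun v hv => Finset.card_eq_zero.2
    (Finset.eq_empty_of_forall_notMem fun p hp => by
      have := h4 p
      rw [mem_absSet] at hp
      rcases abs_cases (x p) with ⟨e, _⟩ | ⟨e, _⟩ <;> omega)
  have e2 := hz 2 rfl
  have e6 := hz 6 rfl
  by_cases h8 : (absSet x 8).card = 0
  · obtain ⟨σ, hσ, hs, -⟩ := exists_map_small (x := absSet x 4) (y := ∅) 8388615 0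
      (by rw [show (mset 8388615).card = 4 by decide +kernel]; omega) (by simp [mset_zero]) (by simp)
      (by simp [mset_zero]) (by simp; omega)
    obtain ⟨c1, c2, c3⟩ := pat4_check
    have hm := moves_of_shape hx hσ (m6 := 0) c1 (no_eight hall h8) (smul_empty_mset σ e2) hs (smul_empty_mset σ e6)
    obtain ⟨i, hi⟩ := Finset.card_pos.1 (show 0 < (absSet (xiFun pat4) 8).card by omega)
    exact (hm.trans (moves_xi hm.mem_right)).trans
      (moves_eight (xiFun_mem hm.mem_right) ((xiFun_sqNorm hm.mem_right).trans c2) (mem_absSet.1 hi))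
  · obtain ⟨i, hi⟩ := Finset.card_pos.1 (Nat.pos_of_ne_zero h8)
    exact moves_eight hx hn (mem_absSet.1 hi)

/-- A pattern carried by `xiFun` into the vectors with no entry 2 modulo 4. -/
def goodPat (t : GolayPt → ℤ) : Bool :=
  signOk t && decide (sqNorm t = 64) && decide (∀ p, xiFun t p % 4 = 0)

theorem moves_of_goodPat {x : GolayPt → ℤ} {t : GolayPt → ℤ} (h : goodPat t = true)
    (hm : Moves x t) : Moves x top8 := by
  simp only [goodPat, Bool.and_eq_true, decide_eq_true_eq] at h
  exact (hm.trans (moves_xi hm.mem_right)).trans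
    (moves64_zero (xiFun_mem hm.mem_right) ((xiFun_sqNorm hm.mem_right).trans h.1.2) h.2)

/-- The four octads through the first tetrad other than the third union, with their minus signs. -/
def octNeg : List (ℕ × ℕ) :=
  [(8536111, 8519680), (11010247, 10485760), (9471495, 9437184), (8657159, 8650752)]

theorem pat_check : (octNeg.all fun e => [13, 16, 22].all fun b => goodPat (vec e.1 ((1 <<< 4) ||| (1 <<< b)) 0 e.2)) = true ∧
    goodPat (vec 8536110 0 1 8519684) = true := by
  decide +kernel

theorem octads_through_T0 :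
    octList.all (fun m => !((m &&& 8388615) == 8388615) || ((m == 12656663) || (octNeg.map Prod.fst).contains m)) = true := by
  decide +kernel

theorem pt_small : mset 12656663 \ mset 8388615 = {gpt 4, gpt 13, gpt 16, gpt 22} ∧ mset 16 = {gpt 4} ∧
    mset 1 = {gpt 0} ∧ 12656663 < 16777216 ∧ (mset 8388615).card = 4 ∧ mset 8388615 ∪ mset 16 ⊆ mset 12656663 ∧
    mset 12656663 ∈ octads := by
  refine ⟨by decide +kernel, by decide +kernel, by decide +kernel, by norm_num, by decide +kernel, by decide +kernel,
    (mset_mem_octads_iff (by norm_num)).2 (by decide +kernel)⟩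

theorem octads_inter_four {o o' : Finset GolayPt} (ho : o ∈ octads) (ho' : o' ∈ octads) (hne : o ≠ o')
    (h3 : 3 ≤ (o ∩ o').card) : (o ∩ o').card = 4 := by
  have hle : (o ∩ o').card ≤ 4 := by
    by_contra h
    exact hne (octads_eq_of_five ho ho' (s := o ∩ o') (by omega) Finset.inter_subset_left Finset.inter_subset_right)
  have hc := code_card (symmDiff_mem_supports ho.1 ho'.1)
  have h1 := Finset.card_union_add_card_inter o o'
  have h2 : (o ∆ o').card + (o ∩ o').card = (o ∪ o').card := by
    rw [← Finset.card_union_of_disjoint (by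
      rw [Finset.disjoint_left]; intro p; simp only [Finset.mem_symmDiff, Finset.mem_inter]; tauto)]
    congr 1
    ext p; simp only [Finset.mem_symmDiff, Finset.mem_inter, Finset.mem_union]; tauto
  have := ho.2
  have := ho'.2
  omega

/-- An even vector of norm 64 with eight entries 2 modulo 4. -/
theorem moves64_eight {x : GolayPt → ℤ} (hx : x ∈ leechLattice) (hn : sqNorm x = 64) (he : x none % 2 = 0)
    (h8 : (absSet x 2 ∪ absSet x 6).card = 8) : Moves x top8 := by
  classical
  obtain ⟨k, hk, -, hsum, h64, hall, hS⟩ := even_shapes hx he (N := 64) (by exact_mod_cast hn) le_rfl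
  obtain ⟨e8, e⟩ : (absSet x 8).card = 0 ∧
      ((absSet x 6).card = 1 ∧ (absSet x 4).card = 0 ∨ (absSet x 6).card = 0 ∧ (absSet x 4).card = 2) := by omega
  have hval := no_eight hall e8
  have hO : absSet x 2 ∪ absSet x 6 ∈ octads := ⟨hS, h8⟩
  rcases e with ⟨e6, e4⟩ | ⟨e6, e4⟩
  · obtain ⟨Q, hQ, hQc⟩ := Finset.exists_subset_card_eq (s := absSet x 2) (show 4 ≤ (absSet x 2).card by omega)
    have hd : Disjoint (absSet x 6) Q := Finset.disjoint_left.2 fun p a b => by
      have := hQ b
      rw [mem_absSet] at a this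
      omega
    obtain ⟨σ, hσ, hs6, hsQ⟩ := exists_map_small (x := absSet x 6) (y := Q) 1 8388622
      (by rw [e6]; decide +kernel) (by rw [hQc]; decide +kernel) hd (by decide +kernel) (by omega)
    have hbase : σ • (absSet x 2 ∪ absSet x 6) = baseOctad := by
      refine perm_smul_eq_baseOctad hσ hO (s := absSet x 6 ∪ Q) ?_ ?_ ?_
      · rw [Finset.card_union_of_disjoint hd, e6, hQc]
      · exact Finset.union_subset Finset.subset_union_right (hQ.trans Finset.subset_union_left)
      · rw [Finset.smul_finset_union, hs6, hsQ]; decide +kernel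
    have hd26 : absSet x 2 = (absSet x 2 ∪ absSet x 6) \ absSet x 6 := by
      ext p; simp only [Finset.mem_sdiff, Finset.mem_union, mem_absSet]; omega
    refine moves_of_goodPat pat_check.2 (moves_of_shape hx hσ ?_ hval ?_ (smul_empty_mset σ e4) hs6)
    · exact (Bool.and_eq_true _ _ ▸ (Bool.and_eq_true _ _ ▸ pat_check.2).1).1
    · rw [hd26, Finset.smul_finset_sdiff, hbase, hs6]; decide +kernel
  · have h6 : absSet x 6 = ∅ := absSet_eq_empty e6
    rw [h6, Finset.union_empty] at hO h8
    obtain ⟨T, hT, hTc⟩ := Finset.exists_subset_card_eq (s := absSet x 2) (show 3 ≤ (absSet x 2).card by omega)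
    have hd : Disjoint T (absSet x 4) := Finset.disjoint_left.2 fun p a b => by
      have := hT a
      rw [mem_absSet] at b this
      omega
    obtain ⟨o', ⟨ho', hsub⟩, -⟩ := octads_steiner.2 (T ∪ absSet x 4) (by rw [Finset.card_union_of_disjoint hd]; omega)
    have hI : (absSet x 2 ∩ o').card = 4 := by
      refine octads_inter_four hO ho' (fun e => ?_) ?_
      · obtain ⟨a, ha⟩ := Finset.card_pos.1 (show 0 < (absSet x 4).card by omega)
        have h2 := hsub (Finset.mem_union_right _ ha)
        rw [← e, mem_absSet] at h2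
        rw [mem_absSet] at ha
        omega
      · rw [← hTc]
        exact Finset.card_le_card (Finset.subset_inter hT (Finset.subset_union_left.trans hsub))
    obtain ⟨a, b, hab, hab'⟩ := Finset.card_eq_two.1 e4
    have hdI : Disjoint (absSet x 2 ∩ o') {a} := by
      rw [Finset.disjoint_singleton_right]
      intro h
      have h2 := (Finset.mem_inter.1 h).1
      have h4 : a ∈ absSet x 4 := by rw [hab']; simp
      rw [mem_absSet] at h2 h4
      omega
    obtain ⟨q1, q2, q3, q4, q5, q6, q7⟩ := pt_small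
    obtain ⟨σ, hσ, hsI, hsa⟩ := exists_map_small (x := absSet x 2 ∩ o') (y := {a}) 8388615 16
      (by rw [hI, q5]) (by rw [q2, Finset.card_singleton, Finset.card_singleton]) hdI (by decide +kernel)
      (by rw [Finset.card_singleton]; omega)
    have ha4 : a ∈ absSet x 4 := by rw [hab']; simp
    have hb4 : b ∈ absSet x 4 := by rw [hab']; simp
    have ho'' : σ • o' = mset 12656663 := by
      refine octads_eq_of_five (smul_octad_mem hσ ho') q7 (s := σ • ((absSet x 2 ∩ o') ∪ {a})) ?_ ?_ ?_
      · rw [card_smul_points, Finset.card_union_of_disjoint hdI, hI, Finset.card_singleton]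
      · refine Finset.smul_finset_subset_smul_finset (Finset.union_subset Finset.inter_subset_right ?_)
        rw [Finset.singleton_subset_iff]
        exact hsub (Finset.mem_union_right _ ha4)
      · rw [Finset.smul_finset_union, hsI, hsa]; exact q6
    have hbT : σ b ∈ mset 12656663 \ mset 8388615 := by
      rw [Finset.mem_sdiff, ← ho'', ← hsI, show σ b = σ • b from rfl, Finset.smul_mem_smul_finset_iff,
        Finset.smul_mem_smul_finset_iff]
      refine ⟨hsub (Finset.mem_union_right _ hb4), fun h => ?_⟩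
      have h2 := (Finset.mem_inter.1 h).1
      rw [mem_absSet] at h2 hb4
      omega
    have hsa' : σ a = gpt 4 := by
      have : σ • a ∈ σ • ({a} : Finset GolayPt) := Finset.smul_mem_smul_finset (Finset.mem_singleton_self a)
      rw [hsa, q2, Finset.mem_singleton] at this
      exact this
    obtain ⟨j, hj, hbj⟩ : ∃ j ∈ [13, 16, 22], σ b = gpt (Fin.ofNat 24 j) := by
      rw [q1] at hbT
      simp only [Finset.mem_insert, Finset.mem_singleton] at hbT
      rcases hbT with h | h | h | h
      · exact absurd (σ.injective (h.trans hsa'.symm)) (Ne.symm hab)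
      · exact ⟨13, by simp, h⟩
      · exact ⟨16, by simp, h⟩
      · exact ⟨22, by simp, h⟩
    have hs4 : σ • absSet x 4 = mset ((1 <<< 4) ||| (1 <<< j)) := by
      have hj24 : j < 24 := by revert hj; simp; omega
      rw [mset_or, hab', Finset.insert_eq, Finset.smul_finset_union, Finset.smul_finset_singleton,
        Finset.smul_finset_singleton, show σ • a = σ a from rfl, show σ • b = σ b from rfl, hsa', hbj,
        show (1 <<< 4 : ℕ) = 1 <<< (gidx (gpt 4)).val from rfl, mset_one_shift]
      conv_rhs => rw [← gidx_gpt_ofNat hj24, mset_one_shift]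
    obtain ⟨w, hw, hwe⟩ := mem_octads_iff.1 (smul_octad_mem hσ hO)
    have hne : w ≠ 12656663 := fun e => by
      rw [e, ← ho''] at hwe
      have e' : σ • o' = σ • absSet x 2 := hwe
      have h2 := hsub (Finset.mem_union_right _ ha4)
      rw [smul_left_cancel_iff] at e'
      rw [e', mem_absSet] at h2
      rw [mem_absSet] at ha4
      omega
    have hT0 : w &&& 8388615 = 8388615 := by
      refine mset_inj (lt_of_le_of_lt Nat.and_le_right (by norm_num)) (by norm_num) ?_
      rw [mset_and, hwe, ← hsI, Finset.inter_eq_right]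
      exact Finset.smul_finset_subset_smul_finset Finset.inter_subset_left
    have hmem := List.all_eq_true.1 octads_through_T0 w hw
    simp only [hT0, beq_self_eq_true, Bool.not_true, Bool.false_or, Bool.or_eq_true, beq_iff_eq, hne, false_or,
      List.contains_iff_mem, List.mem_map] at hmem
    obtain ⟨⟨w', ng⟩, hmem, rfl⟩ := hmem
    have hok := List.all_eq_true.1 (List.all_eq_true.1 pat_check.1 _ hmem) j hj
    refine moves_of_goodPat hok (moves_of_shape hx hσ ?_ hval hwe.symm hs4 (smul_empty_mset σ e6))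
    simp only [goodPat, Bool.and_eq_true] at hok
    exact hok.1.1

/-- The odd pattern with the given places of 5 and -3. -/
def oddPat (m5 m3 : ℕ) : GolayPt → ℤ := fun p =>
  if m5.testBit (gidx p).val then 5 else if m3.testBit (gidx p).val then -3 else 1

theorem moves_oddPat {y : GolayPt → ℤ} (hy : y ∈ leechLattice)
    (hall : ∀ p, y p = 1 ∨ y p = -3 ∨ y p = 5 ∨ y p = -7) (h7 : (Finset.univ.filter fun p => y p = -7).card = 0)
    {m5 m3 : ℕ} (h5 : (Finset.univ.filter fun p => y p = 5).card = (mset m5).card)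
    (h3 : (Finset.univ.filter fun p => y p = -3).card = (mset m3).card) (hd : Disjoint (mset m5) (mset m3))
    (hle : (mset m5).card + (mset m3).card ≤ 5) : Moves y (oddPat m5 m3) := by
  obtain ⟨σ, hσ, e5, e3⟩ := exists_map_small (x := Finset.univ.filter fun p => y p = 5)
    (y := Finset.univ.filter fun p => y p = -3) m5 m3 h5 h3
    (Finset.disjoint_filter.2 fun p _ a b => by omega) hd (by omega)
  have h := moves_perm hy hσ
  rwa [show (fun p => y (σ.symm p)) = oddPat m5 m3 from funext fun p => ?_] at h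
  have k5 : m5.testBit (gidx p).val = true ↔ y (σ.symm p) = 5 := by
    rw [← mem_mset, ← e5, ← Finset.inv_smul_mem_iff, Finset.mem_filter]; simp
  have k3 : m3.testBit (gidx p).val = true ↔ y (σ.symm p) = -3 := by
    rw [← mem_mset, ← e3, ← Finset.inv_smul_mem_iff, Finset.mem_filter]; simp
  rcases hall (σ.symm p) with e | e | e | e
  · simp only [oddPat, k5, k3, e]; norm_num
  · simp only [oddPat, k5, k3, e]; norm_num
  · simp only [oddPat, k5, k3, e]; norm_num
  · exact absurd e (Finset.filter_eq_empty_iff.1 (Finset.card_eq_zero.1 h7) (Finset.mem_univ _))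

/-- The sign change and sextet map used on odd patterns. -/
def oddImage (t : GolayPt → ℤ) : GolayPt → ℤ := xiFun (signedPerm 1 (mset 5279) t)

theorem moves_oddImage {x t : GolayPt → ℤ} (h : Moves x t) : Moves x (oddImage t) := by
  have h1 := moves_mono h.mem_right (one_mem M24)
    ((mset_mem_supports_iff (m := 5279) (by norm_num)).2 (by decide +kernel))
  exact h.trans (h1.trans (moves_xi h1.mem_right))

theorem odd_check :
    (sqNorm (oddPat 0 1) = 32 ∧ oddImage (oddPat 0 1) none % 2 = 0) ∧
    (sqNorm (oddPat 1 0) = 48 ∧ oddImage (oddPat 1 0) none % 2 = 0 ∧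
      (absSet (oddImage (oddPat 1 0)) 2).card = 8 ∧ (absSet (oddImage (oddPat 1 0)) 6).card = 0) ∧
    (sqNorm (oddPat 0 7) = 48 ∧ oddImage (oddPat 0 7) none % 2 = 0 ∧
      (absSet (oddImage (oddPat 0 7)) 2).card = 8 ∧ (absSet (oddImage (oddPat 0 7)) 6).card = 0) ∧
    (sqNorm (oddPat 1 6) = 64 ∧ oddImage (oddPat 1 6) none % 2 = 0 ∧
      (absSet (oddImage (oddPat 1 6)) 2 ∪ absSet (oddImage (oddPat 1 6)) 6).card = 8) ∧
    (sqNorm (oddImage (vec 11472927 0 0 0)) = 48 ∧ oddImage (vec 11472927 0 0 0) none % 2 = 0 ∧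
      (absSet (oddImage (vec 11472927 0 0 0)) 2).card = 8 ∧ (absSet (oddImage (vec 11472927 0 0 0)) 6).card = 0) := by
  decide +kernel

/-- The standard vector of norm 32. -/
abbrev rep32 : GolayPt → ℤ := vec 0 9 0 0

theorem rep32_check : signOk rep32 = true ∧ signOk (vec 8536111 0 0 8519680) = true ∧
    sqNorm (vec 8536111 0 0 8519680) = 32 ∧ (∀ p, xiFun (vec 8536111 0 0 8519680) p % 4 = 0) := by decide +kernel

theorem moves32_zero {x : GolayPt → ℤ} (hx : x ∈ leechLattice) (hn : sqNorm x = 32) (he : x none % 2 = 0)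
    (h0 : (absSet x 2).card = 0 ∧ (absSet x 6).card = 0) : Moves x rep32 := by
  obtain ⟨k, -, -, hsum, h32, hall, -⟩ := even_shapes hx he (N := 32) (by exact_mod_cast hn) (by norm_num)
  obtain ⟨σ, hσ, hs, -⟩ := exists_map_small (x := absSet x 4) (y := ∅) 9 0
    (by rw [show (mset 9).card = 2 by decide +kernel]; omega) (by simp [mset_zero]) (by simp)
    (by simp [mset_zero]) (by simp; omega)
  exact moves_of_shape hx hσ (m6 := 0) rep32_check.1 (no_eight hall (by omega)) (smul_empty_mset σ h0.1) hs
    (smul_empty_mset σ h0.2)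

theorem moves32_even {x : GolayPt → ℤ} (hx : x ∈ leechLattice) (hn : sqNorm x = 32) (he : x none % 2 = 0) :
    Moves x rep32 := by
  obtain ⟨k, hk, hk', hsum, h32, hall, hS⟩ := even_shapes hx he (N := 32) (by exact_mod_cast hn) (by norm_num)
  by_cases h0 : k = 0
  · exact moves32_zero hx hn he (by omega)
  obtain ⟨e2, e4, e6, e8⟩ : (absSet x 2).card = 8 ∧ (absSet x 4).card = 0 ∧ (absSet x 6).card = 0 ∧
      (absSet x 8).card = 0 := by omega
  rw [absSet_eq_empty e6, Finset.union_empty] at hS
  obtain ⟨σ, hσ, hs⟩ := M24_octad_transitive (o := absSet x 2) ⟨hS, e2⟩ baseOctad_mem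
  obtain ⟨-, c1, c2, c3⟩ := rep32_check
  have hm := moves_of_shape hx hσ c1 (no_eight hall e8) hs (smul_empty_mset σ e4) (smul_empty_mset σ e6)
  have hm' := hm.trans (moves_xi hm.mem_right)
  have h2 : ∀ v : ℤ, v % 4 = 2 → (absSet (xiFun (vec 8536111 0 0 8519680)) v).card = 0 := fun v hv =>
    Finset.card_eq_zero.2 (Finset.eq_empty_of_forall_notMem fun p hp => by
      have := c3 p
      rw [mem_absSet] at hp
      rcases abs_cases (xiFun (vec 8536111 0 0 8519680) p) with ⟨e, _⟩ | ⟨e, _⟩ <;> omega)
  exact hm'.trans (moves32_zero hm'.mem_right (hm'.sqNorm_eq.trans hn) (by have := c3 none; omega)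
    ⟨h2 2 rfl, h2 6 rfl⟩)

/-- All vectors of norm 32 lie in one orbit. -/
theorem moves32 {x : GolayPt → ℤ} (hx : x ∈ leechLattice) (hn : sqNorm x = 32) : Moves x rep32 := by
  rcases Int.emod_two_eq_zero_or_one (x none) with he | ho
  · exact moves32_even hx hn he
  obtain ⟨y, hm, hy⟩ := exists_odd_normal hx ho
  obtain ⟨c24, cN, hall⟩ := odd_counts (N := 32) (hm.sqNorm_eq.trans hn) (by norm_num) fun p => (hy p).2
  push_cast at cN
  have hp := moves_oddPat hm.mem_right hall (by omega) (m5 := 0) (m3 := 1)
    (by rw [show (mset 0).card = 0 by decide +kernel]; omega) (by rw [show (mset 1).card = 1 by decide +kernel]; omega)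
    (by decide +kernel) (by decide +kernel)
  have h := hm.trans (moves_oddImage hp)
  exact h.trans (moves32_even h.mem_right (h.sqNorm_eq.trans hn) odd_check.1.2)

/-- The standard vector of norm 48. -/
abbrev rep48 : GolayPt → ℤ := vec 8536111 16 0 8388608

theorem rep48_check : signOk rep48 = true ∧ signOk (vec 11472927 0 0 0) = true ∧ mset 16 = {bp 5} ∧
    baseDodecad = mset 11472927 := by decide +kernel

theorem moves48_eight {x : GolayPt → ℤ} (hx : x ∈ leechLattice) (hn : sqNorm x = 48) (he : x none % 2 = 0)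
    (e2 : (absSet x 2).card = 8) (e6 : (absSet x 6).card = 0) : Moves x rep48 := by
  obtain ⟨k, -, -, hsum, h48, hall, hS⟩ := even_shapes hx he (N := 48) (by exact_mod_cast hn) (by norm_num)
  rw [absSet_eq_empty e6, Finset.union_empty] at hS
  obtain ⟨a, ha⟩ := Finset.card_eq_one.1 (show (absSet x 4).card = 1 by omega)
  obtain ⟨σ, hσ, hs⟩ := M24_octad_transitive (o := absSet x 2) ⟨hS, e2⟩ baseOctad_mem
  have hout : σ a ∉ baseOctad := by
    rw [← hs, show σ a = σ • a from rfl, Finset.smul_mem_smul_finset_iff]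
    intro h
    have h4 : a ∈ absSet x 4 := by rw [ha]; simp
    rw [mem_absSet] at h h4
    omega
  have hb5 : ∀ z, z ∉ baseOctad → z ∉ (Finset.range 5).image bp := fun z hz h => by
    obtain ⟨j, hj, rfl⟩ := Finset.mem_image.1 h
    exact hz (bp_mem_baseOctad j (Finset.mem_range.1 hj))
  obtain ⟨g, hg, hga⟩ := fixB_five_orbit (hb5 _ hout) (hb5 _ bp_five_not_mem) (iff_of_false hout bp_five_not_mem)
  refine moves_of_shape hx (mul_mem hg.1 hσ) rep48_check.1 (no_eight hall (by omega)) ?_ ?_
    (smul_empty_mset _ e6)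
  · rw [mul_smul, hs, smul_baseOctad_of_fix hg]; rfl
  · rw [ha, rep48_check.2.2.1, Finset.smul_finset_singleton]
    exact congrArg (fun z => ({z} : Finset GolayPt)) hga

theorem moves48_even {x : GolayPt → ℤ} (hx : x ∈ leechLattice) (hn : sqNorm x = 48) (he : x none % 2 = 0) :
    Moves x rep48 := by
  obtain ⟨k, hk, hk', hsum, h48, hall, hS⟩ := even_shapes hx he (N := 48) (by exact_mod_cast hn) (by norm_num)
  have hk0 : k ≠ 0 := by
    intro h0
    have h4 : (absSet x 4).card = 3 := by omega
    have h8 : (absSet x 8).card = 0 := by omega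
    have hs := even_sum hx he
    have hd : (8 : ℤ) ∣ ∑ p, (x p - 4 * if p ∈ absSet x 4 then 1 else 0) := Finset.dvd_sum fun p _ => by
      simp only [mem_absSet]
      rcases no_eight hall h8 p with e | e | e | e
      · have : x p = 0 := abs_eq_zero.1 e
        simp [this]
      · exact absurd (mem_absSet.2 e) (by rw [absSet_eq_empty (x := x) (v := 2) (by omega)]; simp)
      · rw [if_pos e]; rcases abs_cases (x p) with ⟨e', _⟩ | ⟨e', _⟩ <;> omega
      · exact absurd (mem_absSet.2 e) (by rw [absSet_eq_empty (x := x) (v := 6) (by omega)]; simp)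
    rw [Finset.sum_sub_distrib, ← Finset.mul_sum, Finset.sum_boole, Finset.filter_mem_eq_inter, Finset.univ_inter,
      h4] at hd
    omega
  by_cases h8 : k = 8
  · exact moves48_eight hx hn he (by omega) (by omega)
  obtain ⟨e2, e4, e6, e8⟩ : (absSet x 2).card = 12 ∧ (absSet x 4).card = 0 ∧ (absSet x 6).card = 0 ∧
      (absSet x 8).card = 0 := by omega
  rw [absSet_eq_empty e6, Finset.union_empty] at hS
  obtain ⟨σ, hσ, hs⟩ := M24_dodecad_transitive (d := absSet x 2) ⟨hS, e2⟩ baseDodecad_mem
  obtain ⟨-, c1, -, c4⟩ := rep48_check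
  have hm := moves_of_shape hx hσ c1 (no_eight hall e8) (hs.trans c4) (smul_empty_mset σ e4) (smul_empty_mset σ e6)
  have h := moves_oddImage hm
  obtain ⟨-, -, -, -, d1, d2, d3, d4⟩ := odd_check
  exact h.trans (moves48_eight h.mem_right d1 d2 d3 d4)

/-- All vectors of norm 48 lie in one orbit. -/
theorem moves48 {x : GolayPt → ℤ} (hx : x ∈ leechLattice) (hn : sqNorm x = 48) : Moves x rep48 := by
  rcases Int.emod_two_eq_zero_or_one (x none) with he | ho
  · exact moves48_even hx hn he
  obtain ⟨y, hm, hy⟩ := exists_odd_normal hx ho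
  obtain ⟨c24, cN, hall⟩ := odd_counts (N := 48) (hm.sqNorm_eq.trans hn) (by norm_num) fun p => (hy p).2
  push_cast at cN
  obtain ⟨-, ⟨-, a2, a3, a4⟩, ⟨-, b2, b3, b4⟩, -⟩ := odd_check
  by_cases h5 : (Finset.univ.filter fun p => y p = 5).card = 0
  · have hp := moves_oddPat hm.mem_right hall (by omega) (m5 := 0) (m3 := 7)
      (by rw [show (mset 0).card = 0 by decide +kernel]; omega)
      (by rw [show (mset 7).card = 3 by decide +kernel]; omega) (by decide +kernel) (by decide +kernel)
    have h := hm.trans (moves_oddImage hp)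
    exact h.trans (moves48_eight h.mem_right (h.sqNorm_eq.trans hn) b2 b3 b4)
  · have hp := moves_oddPat hm.mem_right hall (by omega) (m5 := 1) (m3 := 0)
      (by rw [show (mset 1).card = 1 by decide +kernel]; omega)
      (by rw [show (mset 0).card = 0 by decide +kernel]; omega) (by decide +kernel) (by decide +kernel)
    have h := hm.trans (moves_oddImage hp)
    exact h.trans (moves48_eight h.mem_right (h.sqNorm_eq.trans hn) a2 a3 a4)

theorem dot_rep32 (x : GolayPt → ℤ) : dotInt rep32 x = 4 * (x (gpt 0) + x (gpt 3)) := by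
  have he : rep32 = fun p => (if p = gpt 0 then 4 else 0) + (if p = gpt 3 then 4 else 0) := by
    funext p; revert p; decide +kernel
  rw [dotInt, he]
  simp only [add_mul, ite_mul, zero_mul, Finset.sum_add_distrib]
  rw [Finset.sum_ite_eq' Finset.univ (gpt 0), Finset.sum_ite_eq' Finset.univ (gpt 3), if_pos (Finset.mem_univ _),
    if_pos (Finset.mem_univ _)]
  ring

/-- A norm 64 vector with inner product 32 with the standard minimal vector. -/
theorem moves64_pair {x : GolayPt → ℤ} (hx : x ∈ leechLattice) (hn : sqNorm x = 64)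
    (h : x (gpt 0) + x (gpt 3) = 8) : Moves x top8 := by
  have hne : gpt 0 ≠ gpt 3 := by decide +kernel
  have habs : 8 ≤ |x (gpt 0)| + |x (gpt 3)| := by
    have := le_abs_self (x (gpt 0)); have := le_abs_self (x (gpt 3)); omega
  rcases Int.emod_two_eq_zero_or_one (x none) with he | ho
  · obtain ⟨k, hk, hk', hsum, h64, hall, hS⟩ := even_shapes hx he (N := 64) (by exact_mod_cast hn) le_rfl
    rcases hk' with rfl | rfl | rfl | rfl
    · refine moves64_zero hx hn fun p => ?_
      rcases hall p with e | e | e | e | e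
      · rw [abs_eq_zero.1 e]; rfl
      · exact absurd (mem_absSet.2 e) (by rw [absSet_eq_empty (x := x) (v := 2) (by omega)]; simp)
      · rcases abs_cases (x p) with ⟨e', _⟩ | ⟨e', _⟩ <;> omega
      · exact absurd (mem_absSet.2 e) (by rw [absSet_eq_empty (x := x) (v := 6) (by omega)]; simp)
      · rcases abs_cases (x p) with ⟨e', _⟩ | ⟨e', _⟩ <;> omega
    · exact moves64_eight hx hn he hk
    all_goals
      exfalso
      have hle : ∀ p, |x p| ≤ 4 := fun p => by
        rcases hall p with e | e | e | e | e <;> try omega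
        · exact absurd (mem_absSet.2 e) (by rw [absSet_eq_empty (x := x) (v := 6) (by omega)]; simp)
        · exact absurd (mem_absSet.2 e) (by rw [absSet_eq_empty (x := x) (v := 8) (by omega)]; simp)
      have h0 := hle (gpt 0)
      have h3 := hle (gpt 3)
      have hone : (absSet x 4).card ≤ 1 := by omega
      exact hne (Finset.card_le_one.1 hone _ (mem_absSet.2 (by omega)) _ (mem_absSet.2 (by omega)))
  · obtain ⟨y, hm, hy⟩ := exists_odd_normal hx ho
    obtain ⟨c24, cN, hall⟩ := odd_counts (N := 64) (hm.sqNorm_eq.trans hn) le_rfl fun p => (hy p).2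
    push_cast at cN
    have h5 : (Finset.univ.filter fun p => y p = 5).card = 1 := by
      by_contra hne5
      have h5' : (Finset.univ.filter fun p => y p = 5).card = 0 := by omega
      have hle : ∀ p, |y p| ≤ 3 := fun p => by
        rcases hall p with e | e | e | e
        · rw [e]; norm_num
        · rw [e]; norm_num
        · exact absurd (Finset.mem_filter.2 ⟨Finset.mem_univ p, e⟩) (by rw [Finset.card_eq_zero.1 h5']; simp)
        · exact absurd (Finset.mem_filter.2 ⟨Finset.mem_univ p, e⟩)
            (by rw [Finset.card_eq_zero.1 (show (Finset.univ.filter fun p => y p = -7).card = 0 by omega)]; simp)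
      have := hle (gpt 0)
      have := hle (gpt 3)
      rw [← (hy (gpt 0)).1, ← (hy (gpt 3)).1] at habs
      omega
    obtain ⟨-, -, -, ⟨-, d2, d3⟩, -⟩ := odd_check
    have hp := moves_oddPat hm.mem_right hall (by omega) (m5 := 1) (m3 := 6)
      (by rw [show (mset 1).card = 1 by decide +kernel]; omega)
      (by rw [show (mset 6).card = 2 by decide +kernel]; omega) (by decide +kernel) (by decide +kernel)
    have h' := hm.trans (moves_oddImage hp)
    exact h'.trans (moves64_eight h'.mem_right (h'.sqNorm_eq.trans hn) d2 d3)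

/-- All vectors of norm 64 lie in one orbit. -/
theorem moves64 {x : GolayPt → ℤ} (hx : x ∈ leechLattice) (hn : sqNorm x = 64) : Moves x top8 := by
  have hfin : (cross x).ncard = 48 := cross_ncard hx hn
  have hnot : ¬ cross x ⊆ {x, -x} := fun hsub => by
    have h1 := Set.ncard_le_ncard hsub (Set.toFinite _)
    have h2 := Set.ncard_insert_le x ({-x} : Set (GolayPt → ℤ))
    rw [Set.ncard_singleton] at h2
    omega
  obtain ⟨y, hy, hy'⟩ := Set.not_subset.1 hnot
  simp only [Set.mem_insert_iff, Set.mem_singleton_iff, not_or] at hy'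
  obtain ⟨hyL, hyn, z, hz, hzz⟩ := hy
  rcases close_pair hx hyL hn.le (by omega) ⟨-z, neg_mem hz, by rw [smul_neg, ← hzz, neg_sub]⟩ with e | e | ⟨-, -, h0⟩
  · exact absurd e hy'.1
  · exact absurd e hy'.2
  have hp : ∀ p, x p - y p = 2 * z p := fun p => by simpa [nsmul_eq_mul] using congrFun hzz p
  have hzn : sqNorm z = 32 := by
    have h4 : 4 * sqNorm z = sqNorm x + sqNorm y - 2 * ∑ p, x p * y p := by
      simp only [sqNorm, Finset.mul_sum, ← Finset.sum_add_distrib, ← Finset.sum_sub_distrib]
      exact Finset.sum_congr rfl fun p _ => by linear_combination (-(x p - y p + 2 * z p)) * hp p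
    omega
  have hdot : dotInt z x = 32 := by
    have h2 : 2 * dotInt z x = sqNorm x - ∑ p, x p * y p := by
      simp only [dotInt, sqNorm, Finset.mul_sum, ← Finset.sum_sub_distrib]
      exact Finset.sum_congr rfl fun p _ => by linear_combination (-(x p)) * hp p
    omega
  obtain ⟨hzL, g, hg⟩ := moves32 hz hzn
  have hd := co0_dot g ⟨z, hzL⟩ ⟨x, hx⟩
  rw [hg, dot_rep32, hdot] at hd
  have hm : Moves x ((g • (⟨x, hx⟩ : leechLattice) : leechLattice) : GolayPt → ℤ) := ⟨hx, g, rfl⟩
  exact hm.trans (moves64_pair hm.mem_right (hm.sqNorm_eq.trans hn) (by omega))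

/-- Two lattice vectors with the same image are in one orbit. -/
theorem exists_smul_eq_of_moves {v w : leechLattice} {t : GolayPt → ℤ} (hv : Moves v t) (hw : Moves w t) :
    ∃ g : Co0, g • v = w := by
  obtain ⟨hx, g, hg⟩ := hv.trans hw.symm
  exact ⟨g, Subtype.ext hg⟩

end Cfsg.Lib.Concrete
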