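import Cfsg.Agent.Lib.Concrete.Mathieu
import Cfsg.Agent.Lib.Concrete.OrbitFacts

/-!
M24 on sets of at most six points.
-/

set_option autoImplicit false

namespace Cfsg.Lib.Concrete

open Finset
open scoped Pointwise

/-- The image of a set as a pointwise smul. -/
theorem perm_smul_eq_image (g : Equiv.Perm GolayPt) (s : Finset GolayPt) : g • s = s.image g := rfl

/-- Any injective assignment on at most five points extends to M24. -/
theorem exists_map_le_five {A : Finset GolayPt} (hA : A.card ≤ 5) (φ : Equiv.Perm GolayPt) :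
    ∃ g ∈ M24, ∀ a ∈ A, g a = φ a := by
  obtain ⟨B, hAB, hB⟩ := Finset.exists_superset_card_eq hA (by rw [Fintype.card_option, ZMod.card]; norm_num)
  let x : Fin 5 ↪ GolayPt :=
    ((B.equivFinOfCardEq hB).symm.toEmbedding).trans (Function.Embedding.subtype _)
  have := M24_five_transitive
  obtain ⟨⟨g, hg⟩, hgx⟩ := MulAction.exists_smul_eq M24 x (x.trans φ.toEmbedding)
  refine ⟨g, hg, fun a ha => ?_⟩
  have := congrArg (fun f : Fin 5 ↪ GolayPt => f (B.equivFinOfCardEq hB ⟨a, hAB ha⟩)) hgx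
  simpa [x] using this

/-- A six-element set inside an octad. -/
def InOctad (A : Finset GolayPt) : Prop := ∃ o ∈ octads, A ⊆ o

theorem inOctad_smul_iff {g : Equiv.Perm GolayPt} (hg : g ∈ M24) (A : Finset GolayPt) :
    InOctad (g • A) ↔ InOctad A := by
  constructor
  · rintro ⟨o, ho, h⟩
    exact ⟨g⁻¹ • o, smul_octad_mem (inv_mem hg) ho, fun a ha => Finset.mem_inv_smul_finset_iff.2 (h (Finset.smul_mem_smul_finset ha))⟩
  · rintro ⟨o, ho, h⟩
    exact ⟨g • o, smul_octad_mem hg ho, Finset.smul_finset_subset_smul_finset h⟩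

theorem inOctad_insert_base_iff {a : GolayPt} :
    InOctad (insert a ((Finset.range 5).image bp)) ↔ a ∈ baseOctad := by
  constructor
  · rintro ⟨o, ho, h⟩
    rw [← octads_eq_of_five ho baseOctad_mem base_card.ge (fun y hy => h (mem_insert_of_mem hy)) fun y hy => by
      obtain ⟨j, hj, rfl⟩ := mem_image.1 hy
      exact bp_mem_baseOctad j (mem_range.1 hj)]
    exact h (mem_insert_self _ _)
  · intro ha
    refine ⟨baseOctad, baseOctad_mem, insert_subset ha fun y hy => ?_⟩
    obtain ⟨j, hj, rfl⟩ := mem_image.1 hy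
    exact bp_mem_baseOctad j (mem_range.1 hj)

theorem smul_baseOctad_of_fix {g : Equiv.Perm GolayPt} (hg : g ∈ fixB 5) : g • baseOctad = baseOctad :=
  smul_octad_eq_of_five hg.1 baseOctad_mem base_card.ge
    (fun y hy => by obtain ⟨j, hj, rfl⟩ := mem_image.1 hy; exact bp_mem_baseOctad j (mem_range.1 hj))
    (fun y hy => by obtain ⟨j, hj, rfl⟩ := mem_image.1 hy; exact hg.2 j (mem_range.1 hj))

/-- The stabiliser of five base points has two orbits outside them. -/
theorem fixB_five_orbit {a b : GolayPt} (ha : a ∉ (Finset.range 5).image bp) (hb : b ∉ (Finset.range 5).image bp)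
    (h : a ∈ baseOctad ↔ b ∈ baseOctad) : ∃ g ∈ fixB 5, g a = b := by
  have hne : ∀ {x}, x ∉ (Finset.range 5).image bp → ∀ j < 5, x ≠ bp j := fun {x} hx j hj e =>
    hx (e ▸ mem_image_of_mem _ (mem_range.2 hj))
  have key : ∀ x, x ∉ (Finset.range 5).image bp →
      ∃ g ∈ fixB 5, g (if x ∈ baseOctad then bp 6 else bp 5) = x := by
    intro x hx
    split
    · next hxo =>
      obtain ⟨g, -, hg, hgx⟩ := exists_rep_trPts (k := 6) (by norm_num) (mem_trPts_six x hxo (hne hx))
      exact ⟨g, ⟨hg.1, fun j hj => hg.2 j (by omega)⟩, hgx⟩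
    · next hxo =>
      obtain ⟨g, -, hg, hgx⟩ := exists_rep_trPts (k := 5) (by norm_num) (mem_trPts_five x hxo)
      exact ⟨g, hg, hgx⟩
  obtain ⟨g, hg, hga⟩ := key a ha
  obtain ⟨g', hg', hgb⟩ := key b hb
  refine ⟨g' * g⁻¹, mul_mem hg' (inv_mem hg), ?_⟩
  rw [Equiv.Perm.mul_apply, ← hga, ← Equiv.Perm.mul_apply g⁻¹ g, inv_mul_cancel, Equiv.Perm.one_apply]
  by_cases hao : a ∈ baseOctad
  · rw [if_pos hao]; rwa [if_pos (h.1 hao)] at hgb
  · rw [if_neg hao]; rwa [if_neg (fun hh => hao (h.2 hh))] at hgb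

/-- An injective assignment on six points respecting octads extends to M24. -/
theorem exists_map_six {A : Finset GolayPt} (hA : A.card = 6) (φ : Equiv.Perm GolayPt)
    (h : InOctad A ↔ InOctad (φ • A)) : ∃ g ∈ M24, ∀ a ∈ A, g a = φ a := by
  obtain ⟨a, ha⟩ := Finset.card_pos.1 (show 0 < A.card by omega)
  set A5 := A.erase a with hA5
  have h5 : A5.card = 5 := by rw [hA5, card_erase_of_mem ha, hA]
  obtain ⟨g1, hg1, hg1A⟩ := exists_smul_base h5
  obtain ⟨g2, hg2, hg2A⟩ := exists_map_le_five h5.le φ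
  have hins : A = insert a A5 := (insert_erase ha).symm
  -- the images of the sixth point
  set x := g1⁻¹ a with hx
  set y := g1⁻¹ (g2⁻¹ (φ a)) with hy
  have hxn : x ∉ (Finset.range 5).image bp := by
    intro hh
    have : a ∈ A5 := by rw [← hg1A, perm_smul_eq_image]; exact mem_image.2 ⟨x, hh, by simp [x]⟩
    exact (mem_erase.1 this).1 rfl
  have hyn : y ∉ (Finset.range 5).image bp := by
    intro hh
    have hm : g2⁻¹ (φ a) ∈ A5 := by rw [← hg1A, perm_smul_eq_image]; exact mem_image.2 ⟨y, hh, by simp [y]⟩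
    have := hg2A _ hm
    simp at this
    rw [show g2⁻¹ (φ a) = a from this.symm] at hm
    exact (mem_erase.1 hm).1 rfl
  have hxy : x ∈ baseOctad ↔ y ∈ baseOctad := by
    rw [← inOctad_insert_base_iff, ← inOctad_insert_base_iff,
      ← inOctad_smul_iff hg1 (insert x _), ← inOctad_smul_iff hg1 (insert y _), Finset.smul_finset_insert,
      Finset.smul_finset_insert, hg1A, ← inOctad_smul_iff hg2 (insert (g1 • y) A5), Finset.smul_finset_insert]
    have e1 : g1 • x = a := by simp [x]
    have e2 : g2 • g1 • y = φ a := by simp [y]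
    have e3 : g2 • A5 = φ • A5 := by
      rw [perm_smul_eq_image, perm_smul_eq_image]
      exact image_congr fun z hz => hg2A z hz
    rw [e1, e2, e3, ← hins, h]
    conv_lhs => rw [hins, Finset.smul_finset_insert]
    rfl
  obtain ⟨k, hk, hkx⟩ := fixB_five_orbit hxn hyn hxy
  refine ⟨g2 * g1 * k * g1⁻¹, mul_mem (mul_mem (mul_mem hg2 hg1) hk.1) (inv_mem hg1), fun z hz => ?_⟩
  rw [hins, mem_insert] at hz
  rcases hz with rfl | hz
  · simp only [Equiv.Perm.mul_apply]
    rw [show g1⁻¹ z = x from rfl, hkx]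
    simp [y]
  · rw [← hg1A, perm_smul_eq_image] at hz
    obtain ⟨w, hw, rfl⟩ := mem_image.1 hz
    obtain ⟨j, hj, rfl⟩ := mem_image.1 hw
    simp only [Equiv.Perm.mul_apply]
    rw [show g1⁻¹ (g1 (bp j)) = bp j by simp, hk.2 j (mem_range.1 hj)]
    exact hg2A _ (by rw [← hg1A, perm_smul_eq_image]; exact mem_image_of_mem _ hw)

/-- Two sets are moved to two others with the same Venn diagram. -/
theorem exists_perm_pair {α : Type*} [Fintype α] [DecidableEq α] {x y x' y' : Finset α}
    (hx : x.card = x'.card) (hy : y.card = y'.card) (hi : (x ∩ y).card = (x' ∩ y').card) :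
    ∃ π : Equiv.Perm α, x.image π = x' ∧ y.image π = y' := by
  let c : Finset α → Finset α → α → Bool × Bool := fun x y a => (decide (a ∈ x), decide (a ∈ y))
  have cnt : ∀ x y : Finset α, ∀ v : Bool × Bool, Fintype.card {a // c x y a = v} =
      match v with
      | (true, true) => (x ∩ y).card
      | (true, false) => x.card - (x ∩ y).card
      | (false, true) => y.card - (x ∩ y).card
      | (false, false) => Fintype.card α - (x.card + y.card - (x ∩ y).card) := by
    intro x y v
    rw [Fintype.card_subtype]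
    rcases v with ⟨_ | _, _ | _⟩
    · rw [← card_union, ← card_compl]
      congr 1; ext a; simp [c]
    · rw [← card_sdiff_add_card_inter y x, inter_comm y x, Nat.add_sub_cancel]
      congr 1; ext a; simp [c]; tauto
    · rw [← card_sdiff_add_card_inter x y, Nat.add_sub_cancel]
      congr 1; ext a; simp [c]
    · congr 1; ext a; simp [c]
  let e := fun v : Bool × Bool => Fintype.equivOfCardEq
    (show Fintype.card {a // c x y a = v} = Fintype.card {a // c x' y' a = v} by
      rw [cnt, cnt]; rcases v with ⟨_ | _, _ | _⟩ <;> simp [hx, hy, hi])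
  have hmap := Equiv.ofFiberEquiv_map e
  refine ⟨Equiv.ofFiberEquiv e, ?_, ?_⟩
  · refine eq_of_subset_of_card_le (fun b hb => ?_) (by rw [card_image_of_injective _ (Equiv.injective _), hx])
    obtain ⟨a, ha, rfl⟩ := mem_image.1 hb
    have := congrArg Prod.fst (hmap a)
    simpa [c, ha] using this
  · refine eq_of_subset_of_card_le (fun b hb => ?_) (by rw [card_image_of_injective _ (Equiv.injective _), hy])
    obtain ⟨a, ha, rfl⟩ := mem_image.1 hb
    have := congrArg Prod.snd (hmap a)
    simpa [c, ha] using this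

/-- M24 on pairs of sets with at most six points in all. -/
theorem exists_map_pair {x y x' y' : Finset GolayPt} (hx : x.card = x'.card) (hy : y.card = y'.card)
    (hi : (x ∩ y).card = (x' ∩ y').card) (hle : (x ∪ y).card ≤ 6)
    (h6 : (x ∪ y).card = 6 → (InOctad (x ∪ y) ↔ InOctad (x' ∪ y'))) :
    ∃ g ∈ M24, g • x = x' ∧ g • y = y' := by
  obtain ⟨π, hπx, hπy⟩ := exists_perm_pair hx hy hi
  have hu : π • (x ∪ y) = x' ∪ y' := by rw [perm_smul_eq_image, image_union, hπx, hπy]
  obtain ⟨g, hg, hga⟩ : ∃ g ∈ M24, ∀ a ∈ x ∪ y, g a = π a := by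
    rcases Nat.lt_or_ge (x ∪ y).card 6 with h | h
    · exact exists_map_le_five (by omega) π
    · exact exists_map_six (by omega) π (by rw [hu]; exact h6 (by omega))
  refine ⟨g, hg, ?_, ?_⟩
  · rw [← hπx, perm_smul_eq_image]; exact image_congr fun a ha => hga a (mem_union_left _ ha)
  · rw [← hπy, perm_smul_eq_image]; exact image_congr fun a ha => hga a (mem_union_right _ ha)

/-- The pointwise stabiliser in M24 of a set. -/
def fixSet (A : Finset GolayPt) : Subgroup (Equiv.Perm GolayPt) :=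
  M24 ⊓ fixingSubgroup (Equiv.Perm GolayPt) (A : Set GolayPt)

theorem mem_fixSet {A : Finset GolayPt} {g : Equiv.Perm GolayPt} :
    g ∈ fixSet A ↔ g ∈ M24 ∧ ∀ a ∈ A, g a = a := by
  rw [fixSet, Subgroup.mem_inf, mem_fixingSubgroup_iff]
  rfl

theorem card_fixSet_smul {c : Equiv.Perm GolayPt} (hc : c ∈ M24) (A : Finset GolayPt) :
    Nat.card (fixSet (c • A)) = Nat.card (fixSet A) := by
  refine Nat.card_congr ⟨fun g => ⟨c⁻¹ * g.1 * c, ?_⟩, fun g => ⟨c * g.1 * c⁻¹, ?_⟩,
    fun g => Subtype.ext (by group), fun g => Subtype.ext (by group)⟩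
  · obtain ⟨hg, hfix⟩ := mem_fixSet.1 g.2
    refine mem_fixSet.2 ⟨mul_mem (mul_mem (inv_mem hc) hg) hc, fun a ha => ?_⟩
    simp only [Equiv.Perm.mul_apply]
    rw [hfix (c a) (Finset.smul_mem_smul_finset ha)]
    simp
  · obtain ⟨hg, hfix⟩ := mem_fixSet.1 g.2
    refine mem_fixSet.2 ⟨mul_mem (mul_mem hc hg) (inv_mem hc), fun a ha => ?_⟩
    obtain ⟨b, hb, rfl⟩ := mem_image.1 ha
    simp [hfix b hb]

theorem card_fixSet_base_six {b : GolayPt} (hb : b = bp 5 ∨ b = bp 6) :
    Nat.card (fixSet (insert b ((Finset.range 5).image bp))) = if b = bp 5 then 3 else 16 := by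
  have hbn : b ∉ (Finset.range 5).image bp := by rcases hb with rfl | rfl <;> decide +kernel
  let H := fixB 5
  have hst : Nat.card (MulAction.stabilizer H b) = Nat.card (fixSet (insert b ((Finset.range 5).image bp))) := by
    refine Nat.card_congr ⟨fun g => ⟨g.1.1, mem_fixSet.2 ⟨g.1.2.1, fun a ha => ?_⟩⟩,
      fun g => ⟨⟨g.1, (mem_fixSet.1 g.2).1, fun j hj => (mem_fixSet.1 g.2).2 _
        (mem_insert_of_mem (mem_image_of_mem _ (mem_range.2 hj)))⟩, (mem_fixSet.1 g.2).2 b (mem_insert_self _ _)⟩,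
      fun g => rfl, fun g => rfl⟩
    rcases mem_insert.1 ha with rfl | ha
    · exact g.2
    · obtain ⟨j, hj, rfl⟩ := mem_image.1 ha
      exact g.1.2.2 j (mem_range.1 hj)
  set P : Finset GolayPt := univ.filter fun a => a ∉ (Finset.range 5).image bp ∧ (a ∈ baseOctad ↔ b ∈ baseOctad)
  have horb : MulAction.orbit H b = ↑P := by
    ext a
    rw [mem_coe, mem_filter]
    constructor
    · rintro ⟨⟨g, hg⟩, rfl⟩
      refine ⟨mem_univ _, fun h => ?_, ?_⟩
      · obtain ⟨j, hj, hja⟩ := mem_image.1 h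
        refine hbn (mem_image.2 ⟨j, hj, g.injective ?_⟩)
        rw [hg.2 j (mem_range.1 hj)]
        exact hja
      · have he := smul_baseOctad_of_fix hg
        show g b ∈ baseOctad ↔ _
        conv_lhs => rw [← he]
        exact Finset.smul_mem_smul_finset_iff g
    · rintro ⟨-, han, hiff⟩
      obtain ⟨g, hg, hga⟩ := fixB_five_orbit hbn han hiff.symm
      exact ⟨⟨g, hg⟩, hga⟩
  have h := Nat.card_congr (MulAction.orbitProdStabilizerEquivGroup H b)
  rw [Nat.card_prod, hst, Nat.card_coe_set_eq, horb, Set.ncard_coe_finset] at h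
  have h48 : Nat.card H = 48 := card_fixB_eq (k := 5) (by norm_num)
  rw [h48] at h
  rcases hb with rfl | rfl
  · rw [show P.card = 16 by decide +kernel] at h
    rw [if_pos rfl]; omega
  · rw [show P.card = 3 by decide +kernel] at h
    rw [if_neg (by decide +kernel : bp 6 ≠ bp 5)]; omega

theorem exists_smul_base_six {E : Finset GolayPt} (hE : E.card = 6) :
    ∃ c ∈ M24, ∃ b, (b = bp 5 ∨ b = bp 6) ∧ (b = bp 6 ↔ InOctad E) ∧
      c • insert b ((Finset.range 5).image bp) = E := by
  by_cases hin : InOctad E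
  · have hc : (insert (bp 6) ((Finset.range 5).image bp)).card = 6 := by decide +kernel
    obtain ⟨g, hg, hgx, -⟩ := exists_map_pair (x := insert (bp 6) ((Finset.range 5).image bp)) (y := ∅) (x' := E)
      (y' := ∅) (hc.trans hE.symm) rfl (by simp) (by rw [union_empty, hc])
      fun _ => by rw [union_empty, union_empty, inOctad_insert_base_iff]; exact iff_of_true bp_six_mem hin
    exact ⟨g, hg, bp 6, Or.inr rfl, iff_of_true rfl hin, hgx⟩
  · have hc : (insert (bp 5) ((Finset.range 5).image bp)).card = 6 := by decide +kernel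
    obtain ⟨g, hg, hgx, -⟩ := exists_map_pair (x := insert (bp 5) ((Finset.range 5).image bp)) (y := ∅) (x' := E)
      (y' := ∅) (hc.trans hE.symm) rfl (by simp) (by rw [union_empty, hc])
      fun _ => by rw [union_empty, union_empty, inOctad_insert_base_iff]; exact iff_of_false bp_five_not_mem hin
    exact ⟨g, hg, bp 5, Or.inl rfl, iff_of_false (by decide +kernel) hin, hgx⟩

theorem card_fixSet_six {E : Finset GolayPt} (hE : E.card = 6) :
    (InOctad E → Nat.card (fixSet E) = 16) ∧ (¬ InOctad E → Nat.card (fixSet E) = 3) := by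
  obtain ⟨c, hc, b, hb, hiff, rfl⟩ := exists_smul_base_six hE
  rw [card_fixSet_smul hc, card_fixSet_base_six hb]
  constructor
  · intro h; rw [hiff.2 h, if_neg (by decide +kernel : bp 6 ≠ bp 5)]
  · intro h
    rcases hb with hb | hb
    · rw [if_pos hb]
    · exact absurd (hiff.1 hb) h

/-- Every permutation of a six-element set is induced. -/
theorem induces_sym_six {E : Finset GolayPt} (hE : E.card = 6) (σ : Equiv.Perm ↥E) :
    ∃ g ∈ M24, ∀ p : ↥E, g p = σ p := by
  have hmem : ∀ p : ↥E, Equiv.Perm.ofSubtype σ (p : GolayPt) = (σ p : GolayPt) := fun p => Equiv.Perm.ofSubtype_apply_coe σ p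
  have hsE : Equiv.Perm.ofSubtype σ • E = E := by
    refine eq_of_subset_of_card_le (fun a ha => ?_) (card_smul_points _ _).ge
    obtain ⟨b, hb, rfl⟩ := mem_image.1 ha
    show (Equiv.Perm.ofSubtype σ) b ∈ E
    rw [hmem ⟨b, hb⟩]; exact (σ ⟨b, hb⟩).2
  obtain ⟨g, hg, hga⟩ := exists_map_six hE (Equiv.Perm.ofSubtype σ) (by rw [hsE])
  exact ⟨g, hg, fun p => (hga p p.2).trans (hmem p)⟩

theorem card_stabilizer_six {E : Finset GolayPt} (hE : E.card = 6) :
    Nat.card (MulAction.stabilizer M24 E) = 720 * Nat.card (fixSet E) := by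
  have hstab : ∀ (g : MulAction.stabilizer M24 E) (x : GolayPt), x ∈ E ↔ (g.1.1 : Equiv.Perm GolayPt) x ∈ E := by
    intro g x
    have he : g.1.1 • E = E := g.2
    exact (Finset.smul_mem_smul_finset_iff g.1.1).symm.trans (Finset.ext_iff.1 he (g.1.1 • x))
  let f : MulAction.stabilizer M24 E →* Equiv.Perm ↥E :=
    { toFun := fun g => g.1.1.subtypePerm fun x => (hstab g x).symm
      map_one' := Equiv.ext fun _ => rfl
      map_mul' := fun _ _ => Equiv.ext fun _ => rfl }
  have hsurj : Function.Surjective f := fun σ => by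
    obtain ⟨g, hg, h⟩ := induces_sym_six hE σ
    have hgE : g • E = E := by
      refine eq_of_subset_of_card_le (fun a ha => ?_) (card_smul_points _ _).ge
      obtain ⟨b, hb, rfl⟩ := mem_image.1 ha
      show g b ∈ E
      rw [h ⟨b, hb⟩]; exact (σ ⟨b, hb⟩).2
    exact ⟨⟨⟨g, hg⟩, hgE⟩, Equiv.ext fun p => Subtype.ext (h p)⟩
  have hker : Nat.card f.ker = Nat.card (fixSet E) := by
    refine Nat.card_congr ⟨fun g => ⟨g.1.1.1, mem_fixSet.2 ⟨g.1.1.2, fun a ha =>
        congrArg Subtype.val (Equiv.congr_fun (g.2 : f g.1 = 1) ⟨a, ha⟩)⟩⟩,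
      fun g => ⟨⟨⟨g.1, (mem_fixSet.1 g.2).1⟩, ?_⟩, Equiv.ext fun p => Subtype.ext ((mem_fixSet.1 g.2).2 p p.2)⟩,
      fun g => rfl, fun g => rfl⟩
    show g.1 • E = E
    rw [perm_smul_eq_image]
    exact (image_congr fun a ha => (mem_fixSet.1 g.2).2 a ha).trans image_id
  rw [← f.ker.card_mul_index, hker, Subgroup.index_ker, MonoidHom.range_eq_top.2 hsurj, Subgroup.card_top,
    Nat.card_perm, Nat.card_eq_fintype_card (α := ↥E), Fintype.card_coe, hE, mul_comm]
  rfl

end Cfsg.Lib.Concrete
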