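import Cfsg.Agent.Lib.Concrete.LeechXi
import Cfsg.Agent.Lib.Concrete.LeechMod2
import Cfsg.Agent.Lib.Concrete.SixPoints

/-!
Normal forms of short lattice vectors under the monomial group.
-/

set_option autoImplicit false

namespace Cfsg.Lib.Concrete

open Finset
open scoped Pointwise symmDiff

/-- Some automorphism carries `x` to `y`. -/
def Moves (x y : GolayPt → ℤ) : Prop :=
  ∃ (hx : x ∈ leechLattice) (g : Co0), ((g • (⟨x, hx⟩ : leechLattice) : leechLattice) : GolayPt → ℤ) = y

theorem Moves.mem_left {x y : GolayPt → ℤ} (h : Moves x y) : x ∈ leechLattice := h.1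

theorem Moves.mem_right {x y : GolayPt → ℤ} (h : Moves x y) : y ∈ leechLattice := by
  obtain ⟨hx, g, rfl⟩ := h; exact (g • (⟨x, hx⟩ : leechLattice)).2

theorem Moves.sqNorm_eq {x y : GolayPt → ℤ} (h : Moves x y) : sqNorm y = sqNorm x := by
  obtain ⟨hx, g, rfl⟩ := h; exact co0_sqNorm g _

theorem Moves.refl {x : GolayPt → ℤ} (hx : x ∈ leechLattice) : Moves x x := ⟨hx, 1, by rw [one_smul]⟩

theorem Moves.symm {x y : GolayPt → ℤ} (h : Moves x y) : Moves y x := by
  obtain ⟨hx, g, rfl⟩ := h
  exact ⟨(g • (⟨x, hx⟩ : leechLattice)).2, g⁻¹, by rw [Subtype.coe_eta, inv_smul_smul]⟩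

theorem Moves.trans {x y z : GolayPt → ℤ} (h : Moves x y) (h' : Moves y z) : Moves x z := by
  obtain ⟨hx, g, rfl⟩ := h
  obtain ⟨hy, g', rfl⟩ := h'
  exact ⟨hx, g' * g, by rw [mul_smul, Subtype.coe_eta]⟩

theorem moves_mono {x : GolayPt → ℤ} (hx : x ∈ leechLattice) {σ : Equiv.Perm GolayPt} (hσ : σ ∈ M24)
    {c : Finset GolayPt} (hc : c ∈ codeSets) : Moves x (signedPerm σ c x) :=
  ⟨hx, monoCo0 σ hσ c hc, monoCo0_smul σ hσ c hc _⟩

theorem moves_xi {x : GolayPt → ℤ} (hx : x ∈ leechLattice) : Moves x (xiFun x) := ⟨hx, xiCo0, xiCo0_apply _⟩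

theorem empty_mem_codeSets : (∅ : Finset GolayPt) ∈ codeSets := ⟨0, zero_mem _, by simp [support₂]⟩

theorem moves_perm {x : GolayPt → ℤ} (hx : x ∈ leechLattice) {σ : Equiv.Perm GolayPt} (hσ : σ ∈ M24) :
    Moves x fun p => x (σ.symm p) := by
  have h := moves_mono hx hσ empty_mem_codeSets
  rwa [show signedPerm σ ∅ x = fun p => x (σ.symm p) from funext fun p => by simp [signedPerm]] at h

theorem signedPerm_one (c : Finset GolayPt) (x : GolayPt → ℤ) (p : GolayPt) :
    signedPerm 1 c x p = if p ∈ c then -x p else x p := rfl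

/-- The vector with the given absolute values on the given masks and the given minus signs. -/
def vec (m2 m4 m6 ng : ℕ) : GolayPt → ℤ := fun p =>
  (if ng.testBit (gidx p).val then -1 else 1) *
    (if m2.testBit (gidx p).val then 2 else if m4.testBit (gidx p).val then 4
      else if m6.testBit (gidx p).val then 6 else 0)

/-- Code words used to change signs on a pattern. -/
def signWit : List ℕ :=
  [0, 15777, 18147, 21116, 31554, 42232, 52005, 84464, 118953, 126216, 145176, 153797, 175681, 185603, 213833,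
  252432, 334433, 337856, 418953, 493953, 530245, 555160, 563843, 582081, 593097, 602472, 628112, 657763, 684577,
  689317, 722544, 762504, 797449, 832080, 902657, 1075305, 1100945, 1148257, 1352353, 1661185, 2269481, 2313249,
  3172097, 4241960, 4336072, 4441280, 4819776, 8412681, 8414120, 8688833, 8946281, 9048457, 9440193]

theorem signWit_code : signWit.all (fun m => isCode m && decide (m < 16777216)) = true := by decide +kernel

/-- The mask of the support of a pattern. -/
def suppMask (t : GolayPt → ℤ) : ℕ := orMask bits24 (fun i => !(t (gpt (Fin.ofNat 24 i)) == 0)) id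

/-- The first position with value 2 modulo 4. -/
def twoFirst (t : GolayPt → ℤ) : ℕ := (bits24.find? fun i => t (gpt (Fin.ofNat 24 i)) % 4 == 2).getD 0

/-- Enough sign changes are available on a pattern. -/
def signOk (t : GolayPt → ℤ) : Bool :=
  inLeech t && bits24.all (fun i =>
    let v := t (gpt (Fin.ofNat 24 i))
    (v % 2 == 0) && (if v % 4 == 2 then signWit.any (fun m => (m &&& suppMask t) == ((1 <<< i) ^^^ (1 <<< twoFirst t)))
      else (v == 0) || signWit.any (fun m => (m &&& suppMask t) == 1 <<< i)))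

theorem mset_one_shift (p : GolayPt) : mset (1 <<< (gidx p).val) = {p} := by
  ext q
  rw [mem_mset, Nat.one_shiftLeft, Nat.testBit_two_pow, decide_eq_true_eq, Finset.mem_singleton]
  exact ⟨fun h => gidx_injective (Fin.ext h.symm), fun h => h ▸ rfl⟩

theorem gpt_ofNat_gidx (p : GolayPt) : gpt (Fin.ofNat 24 (gidx p).val) = p := by
  rw [show Fin.ofNat 24 (gidx p).val = gidx p from Fin.ofNat_val_eq_self _, gpt_gidx]

theorem gidx_gpt_ofNat {i : ℕ} (hi : i < 24) : (gidx (gpt (Fin.ofNat 24 i))).val = i := by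
  rw [gidx_gpt, Fin.val_ofNat, Nat.mod_eq_of_lt hi]

theorem mset_suppMask (t : GolayPt → ℤ) : mset (suppMask t) = Finset.univ.filter fun p => t p ≠ 0 := by
  ext p
  rw [mem_mset, suppMask, testBit_orMask, Finset.mem_filter]
  constructor
  · rintro ⟨i, hi, hc, hf⟩
    simp only [id] at hf
    subst hf
    simpa [gpt_ofNat_gidx, gpt_gidx] using hc
  · intro h
    exact ⟨_, mem_bits24.2 (gidx p).isLt, by simpa [gpt_ofNat_gidx, gpt_gidx] using h.2, rfl⟩

theorem even_sum {x : GolayPt → ℤ} (hx : x ∈ leechLattice) (h : x none % 2 = 0) : (8 : ℤ) ∣ ∑ p, x p := by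
  obtain ⟨m, h1, h2, -⟩ := mem_leechLattice_iff.1 hx
  have := h1 none
  unfold Int.ModEq at this h2
  omega

/-- A pattern with enough sign changes absorbs every vector with the same absolute values. -/
theorem moves_of_abs {x t : GolayPt → ℤ} (hok : signOk t = true) (hx : x ∈ leechLattice)
    (habs : ∀ p, |x p| = |t p|) : Moves x t := by
  classical
  simp only [signOk, Bool.and_eq_true, List.all_eq_true, beq_iff_eq] at hok
  obtain ⟨htL, hloc⟩ := hok
  have htL := mem_leech_of_inLeech htL
  set A := Finset.univ.filter fun p => t p ≠ 0 with hA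
  set q := gpt (Fin.ofNat 24 (twoFirst t)) with hq
  have htf : twoFirst t < 24 := by
    unfold twoFirst
    cases h : bits24.find? fun i => t (gpt (Fin.ofNat 24 i)) % 4 == 2 with
    | none => simp
    | some i => simpa using mem_bits24.1 (List.mem_of_find?_eq_some h)
  let E : Finset GolayPt → Finset GolayPt := fun s =>
    if Odd (s.filter fun p => t p % 4 = 2).card then {q} else ∅
  have hwit : ∀ a, t a ≠ 0 → ∃ c ∈ codeSets, c ∩ A = if t a % 4 = 2 then {a} ∆ {q} else {a} := by
    intro a ha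
    obtain ⟨-, h⟩ := hloc _ (mem_bits24.2 (gidx a).isLt)
    rw [gpt_ofNat_gidx] at h
    have key : ∀ w : ℕ, signWit.any (fun m => (m &&& suppMask t) == w) = true → ∃ c ∈ codeSets, c ∩ A = mset w := by
      intro w hw
      obtain ⟨m, hm, he⟩ := List.any_eq_true.1 hw
      have hm' := List.all_eq_true.1 signWit_code m hm
      simp only [Bool.and_eq_true, decide_eq_true_eq] at hm'
      refine ⟨mset m, (mset_mem_supports_iff hm'.2).2 hm'.1, ?_⟩
      rw [hA, ← mset_suppMask, ← mset_and, (beq_iff_eq.1 he)]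
    by_cases h4 : t a % 4 = 2
    · rw [if_pos h4] at h ⊢
      obtain ⟨c, hc, e⟩ := key _ h
      refine ⟨c, hc, ?_⟩
      rw [e, mset_xor, mset_one_shift, show twoFirst t = (gidx q).val from (gidx_gpt_ofNat htf).symm, mset_one_shift]
    · rw [if_neg h4] at h ⊢
      rw [Bool.or_eq_true, beq_iff_eq] at h
      obtain ⟨c, hc, e⟩ := key _ (h.resolve_left ha)
      exact ⟨c, hc, by rw [e, mset_one_shift]⟩
  have hgen : ∀ s : Finset GolayPt, (∀ a ∈ s, t a ≠ 0) → ∃ c ∈ codeSets, c ∩ A = s ∆ E s := by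
    intro s
    induction s using Finset.induction_on with
    | empty => exact fun _ => ⟨∅, empty_mem_codeSets, by simp [E]⟩
    | @insert a s ha ih =>
      intro hs
      obtain ⟨c, hc, e⟩ := ih fun b hb => hs b (Finset.mem_insert_of_mem hb)
      obtain ⟨d, hd, e'⟩ := hwit a (hs a (Finset.mem_insert_self a s))
      refine ⟨c ∆ d, symmDiff_mem_supports hc hd, ?_⟩
      rw [show (c ∆ d) ∩ A = (c ∩ A) ∆ (d ∩ A) by
        ext p; simp only [Finset.mem_inter, Finset.mem_symmDiff]; tauto, e, e']
      simp only [E, Finset.filter_insert]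
      by_cases h4 : t a % 4 = 2
      · simp only [if_pos h4]
        rw [Finset.card_insert_of_notMem (by simp [ha])]
        by_cases ho : Odd (s.filter fun p => t p % 4 = 2).card
        · rw [if_pos ho, if_neg (by simpa [Nat.odd_add_one] using ho)]
          ext p
          simp only [Finset.mem_symmDiff, Finset.mem_insert, Finset.mem_singleton, Finset.notMem_empty]
          by_cases p = a <;> by_cases p = q <;> by_cases p ∈ s <;> simp_all
        · rw [if_neg ho, if_pos (by simpa [Nat.odd_add_one] using ho)]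
          ext p
          simp only [Finset.mem_symmDiff, Finset.mem_insert, Finset.mem_singleton, Finset.notMem_empty]
          by_cases p = a <;> by_cases p = q <;> by_cases p ∈ s <;> simp_all
      · simp only [if_neg h4]
        ext p
        simp only [Finset.mem_symmDiff, Finset.mem_insert, Finset.mem_singleton]
        by_cases p = a <;> by_cases p ∈ s <;> simp_all
  set dis := Finset.univ.filter fun p => x p ≠ t p with hdis
  have hcase : ∀ p, x p = t p ∨ x p = -t p := fun p => abs_eq_abs.1 (habs p)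
  have hdis0 : ∀ a ∈ dis, t a ≠ 0 := fun a ha h0 => by
    have := (Finset.mem_filter.1 ha).2
    rcases hcase a with h | h <;> rw [h0] at h this <;> simp_all
  have htev : ∀ p, t p % 2 = 0 := fun p => by
    obtain ⟨h, -⟩ := hloc _ (mem_bits24.2 (gidx p).isLt)
    rwa [gpt_ofNat_gidx] at h
  have hev : ¬ Odd (dis.filter fun p => t p % 4 = 2).card := by
    have h1 := even_sum hx (by rcases hcase none with h | h <;> have := htev none <;> omega)
    have h2 := even_sum htL (htev none)
    have hd : (8 : ℤ) ∣ ∑ p, (x p - t p - 4 * if p ∈ dis.filter (fun p => t p % 4 = 2) then 1 else 0) :=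
      Finset.dvd_sum fun p _ => by
        have := htev p
        simp only [Finset.mem_filter, hdis, Finset.mem_univ, true_and]
        rcases hcase p with h | h <;> split <;> omega
    rw [Finset.sum_sub_distrib, Finset.sum_sub_distrib, ← Finset.mul_sum, Finset.sum_boole,
      Finset.filter_mem_eq_inter, Finset.univ_inter] at hd
    rw [Nat.odd_iff]
    omega
  obtain ⟨c, hc, e⟩ := hgen dis hdis0
  rw [show E dis = ∅ from if_neg hev] at e
  have hm := moves_mono hx (one_mem M24) hc
  rwa [show signedPerm 1 c x = t from funext fun p => ?_] at hm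
  rw [signedPerm_one]
  by_cases h0 : t p = 0
  · have : x p = 0 := by rcases hcase p with h | h <;> simp [h0] at h <;> exact h
    simp [this, h0]
  · have hiff : p ∈ c ↔ x p ≠ t p := by
      have h1 := Finset.ext_iff.1 e p
      simpa [hA, h0, Finset.mem_symmDiff, hdis] using h1
    by_cases hp : p ∈ c
    · rw [if_pos hp]
      rcases hcase p with h | h
      · exact absurd h (hiff.1 hp)
      · rw [h, neg_neg]
    · rw [if_neg hp]
      exact not_not.1 fun h => hp (hiff.2 h)

/-- The points with a given absolute value. -/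
def absSet (x : GolayPt → ℤ) (v : ℤ) : Finset GolayPt := Finset.univ.filter fun p => |x p| = v

theorem mem_absSet {x : GolayPt → ℤ} {v : ℤ} {p : GolayPt} : p ∈ absSet x v ↔ |x p| = v := by simp [absSet]

/-- A vector of known shape moves to a pattern of the same shape. -/
theorem moves_of_shape {x : GolayPt → ℤ} (hx : x ∈ leechLattice) {σ : Equiv.Perm GolayPt} (hσ : σ ∈ M24)
    {m2 m4 m6 ng : ℕ} (hok : signOk (vec m2 m4 m6 ng) = true)
    (hval : ∀ p, |x p| = 0 ∨ |x p| = 2 ∨ |x p| = 4 ∨ |x p| = 6)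
    (h2 : σ • absSet x 2 = mset m2) (h4 : σ • absSet x 4 = mset m4) (h6 : σ • absSet x 6 = mset m6) :
    Moves x (vec m2 m4 m6 ng) := by
  refine (moves_perm hx hσ).trans (moves_of_abs hok (moves_perm hx hσ).mem_right fun p => ?_)
  have key : ∀ (v : ℤ) (m : ℕ), σ • absSet x v = mset m → (|x (σ.symm p)| = v ↔ m.testBit (gidx p).val = true) := by
    intro v m h
    rw [← mem_mset, ← h, ← Finset.inv_smul_mem_iff, mem_absSet]
    rfl
  have e2 := key 2 m2 h2
  have e4 := key 4 m4 h4
  have e6 := key 6 m6 h6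
  rw [vec, abs_mul, show |(if ng.testBit (gidx p).val then (-1 : ℤ) else 1)| = 1 by split <;> rfl, one_mul]
  show |x (σ.symm p)| = _
  rcases hval (σ.symm p) with h | h | h | h <;> rw [h] at e2 e4 e6 ⊢ <;> simp at e2 e4 e6 <;> simp [e2, e4, e6]

theorem sum_values {ι : Type*} (s : Finset ι) (y : ι → ℤ) (V : Finset ℤ) (hV : ∀ p ∈ s, y p ∈ V) (g : ℤ → ℤ) :
    ∑ p ∈ s, g (y p) = ∑ v ∈ V, ((s.filter fun p => y p = v).card : ℤ) * g v := by
  rw [← Finset.sum_fiberwise_of_maps_to hV]
  refine Finset.sum_congr rfl fun v _ => ?_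
  rw [Finset.sum_congr rfl (g := fun _ => g v) fun p hp => by rw [(Finset.mem_filter.1 hp).2], Finset.sum_const,
    nsmul_eq_mul]

theorem abs_le_eight {x : GolayPt → ℤ} {N : ℕ} (hN : sqNorm x = (N : ℤ)) (hle : N ≤ 64) (p : GolayPt) :
    |x p| ≤ 8 := by
  have := abs_le_of_sqNorm (b := 8) hN (by push_cast; omega) p
  simpa using this

/-- An odd vector can be made congruent to 1 modulo 4 everywhere. -/
theorem exists_odd_normal {x : GolayPt → ℤ} (hx : x ∈ leechLattice) (h : x none % 2 = 1) :
    ∃ y, Moves x y ∧ ∀ p, |y p| = |x p| ∧ y p % 4 = 1 := by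
  obtain ⟨m, h1, -, h3⟩ := mem_leechLattice_iff.1 hx
  refine ⟨_, moves_mono hx (one_mem M24) (h3 3), fun p => ?_⟩
  have hp := h1 p
  have hn := h1 none
  unfold Int.ModEq at hp hn
  rw [signedPerm_one]
  by_cases hc : x p % 4 = 3
  · rw [if_pos (by rw [Finset.mem_filter]; exact ⟨Finset.mem_univ _, hc⟩), abs_neg]; omega
  · rw [if_neg (show p ∉ _ from fun hm => hc (Finset.mem_filter.1 hm).2)]; omega

theorem odd_counts {y : GolayPt → ℤ} {N : ℕ} (hN : sqNorm y = (N : ℤ)) (hle : N ≤ 64) (hy : ∀ p, y p % 4 = 1) :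
    ((Finset.univ.filter fun p => y p = 1).card : ℤ) + (Finset.univ.filter fun p => y p = -3).card +
      (Finset.univ.filter fun p => y p = 5).card + (Finset.univ.filter fun p => y p = -7).card = 24 ∧
    ((Finset.univ.filter fun p => y p = 1).card : ℤ) + 9 * (Finset.univ.filter fun p => y p = -3).card +
      25 * (Finset.univ.filter fun p => y p = 5).card + 49 * (Finset.univ.filter fun p => y p = -7).card = N ∧
    ∀ p, y p = 1 ∨ y p = -3 ∨ y p = 5 ∨ y p = -7 := by
  have hall : ∀ p, y p = 1 ∨ y p = -3 ∨ y p = 5 ∨ y p = -7 := fun p => by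
    have := hy p
    have := abs_le.1 (abs_le_eight hN hle p)
    omega
  have hV : ∀ p ∈ (Finset.univ : Finset GolayPt), y p ∈ ({1, -3, 5, -7} : Finset ℤ) := fun p _ => by
    simp only [Finset.mem_insert, Finset.mem_singleton]; exact hall p
  have e1 := sum_values _ y _ hV fun _ => 1
  have e2 := sum_values _ y _ hV fun v => v ^ 2
  simp only [Finset.sum_const, Finset.card_univ, nsmul_eq_mul, mul_one] at e1
  rw [show (Fintype.card GolayPt) = 24 from rfl] at e1
  rw [← sqNorm, hN] at e2
  simp only [Finset.sum_insert, Finset.mem_insert, Finset.mem_singleton, Finset.sum_singleton,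
    show ¬((1 : ℤ) = -3 ∨ (1 : ℤ) = 5 ∨ (1 : ℤ) = -7) by norm_num,
    show ¬((-3 : ℤ) = 5 ∨ (-3 : ℤ) = -7) by norm_num, show ¬((5 : ℤ) = -7) by norm_num,
    not_false_eq_true] at e1 e2
  refine ⟨?_, ?_, hall⟩
  · push_cast at e1 ⊢; linarith
  · norm_num at e2; linarith

/-- The shape of an even vector. -/
theorem even_counts {x : GolayPt → ℤ} (hx : x ∈ leechLattice) (h : x none % 2 = 0) {N : ℕ}
    (hN : sqNorm x = (N : ℤ)) (hle : N ≤ 64) :
    4 * ((absSet x 2).card : ℤ) + 16 * (absSet x 4).card + 36 * (absSet x 6).card + 64 * (absSet x 8).card = N ∧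
    (∀ p, |x p| = 0 ∨ |x p| = 2 ∨ |x p| = 4 ∨ |x p| = 6 ∨ |x p| = 8) ∧
    (absSet x 2 ∪ absSet x 6) ∈ codeSets ∧ (absSet x 2).card + (absSet x 6).card = (absSet x 2 ∪ absSet x 6).card := by
  obtain ⟨m, h1, -, h3⟩ := mem_leechLattice_iff.1 hx
  have hpar : ∀ p, x p % 2 = 0 := fun p => by
    have hp := h1 p
    have hn := h1 none
    unfold Int.ModEq at hp hn
    omega
  have hall : ∀ p, |x p| = 0 ∨ |x p| = 2 ∨ |x p| = 4 ∨ |x p| = 6 ∨ |x p| = 8 := fun p => by
    have hp := hpar p
    have := abs_le_eight hN hle p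
    rcases abs_cases (x p) with ⟨e, _⟩ | ⟨e, _⟩ <;> rw [e] at this ⊢ <;> omega
  have hV : ∀ p ∈ (Finset.univ : Finset GolayPt), |x p| ∈ ({0, 2, 4, 6, 8} : Finset ℤ) := fun p _ => by
    simp only [Finset.mem_insert, Finset.mem_singleton]; exact hall p
  have e2 := sum_values _ (fun p => |x p|) _ hV fun v => v ^ 2
  simp only [sq_abs] at e2
  rw [← sqNorm, hN] at e2
  simp only [Finset.sum_insert, Finset.mem_insert, Finset.mem_singleton, Finset.sum_singleton,
    show ¬((0 : ℤ) = 2 ∨ (0 : ℤ) = 4 ∨ (0 : ℤ) = 6 ∨ (0 : ℤ) = 8) by norm_num,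
    show ¬((2 : ℤ) = 4 ∨ (2 : ℤ) = 6 ∨ (2 : ℤ) = 8) by norm_num,
    show ¬((4 : ℤ) = 6 ∨ (4 : ℤ) = 8) by norm_num, show ¬((6 : ℤ) = 8) by norm_num, not_false_eq_true] at e2
  refine ⟨?_, hall, ?_, (Finset.card_union_of_disjoint ?_).symm⟩
  · norm_num at e2; unfold absSet; linarith
  · have heq : absSet x 2 ∪ absSet x 6 = Finset.univ.filter fun i => x i ≡ 2 [ZMOD 4] := by
      ext p
      simp only [Finset.mem_union, mem_absSet, Finset.mem_filter, Finset.mem_univ, true_and]
      have := hall p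
      unfold Int.ModEq
      rcases abs_cases (x p) with ⟨e, _⟩ | ⟨e, _⟩ <;> rw [e] at this ⊢ <;> omega
    rw [heq]
    exact h3 2
  · exact Finset.disjoint_left.2 fun p a b => by rw [mem_absSet] at a b; omega

theorem code_card {s : Finset GolayPt} (hs : s ∈ codeSets) :
    s.card = 0 ∨ s.card = 8 ∨ s.card = 12 ∨ s.card = 16 ∨ s.card = 24 := by
  obtain ⟨m, hm, rfl⟩ := mem_supports_iff.1 hs
  have := List.all_eq_true.1 code_weights m hm
  simp only [Bool.or_eq_true, beq_iff_eq] at this
  rw [mset_card, mcnt_eq_pcnt]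
  omega

end Cfsg.Lib.Concrete
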