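import Cfsg.Agent.Lib.Concrete.PrimeLocalSimple
import Cfsg.Agent.Lib.Concrete.LeechCrossCore
import Cfsg.Agent.Lib.Concrete.LeechStabCore
import Cfsg.Agent.Lib.Concrete.SporMathieu

/-!
Simplicity of the groups attached to the rank-24 lattice, from the Mathieu subgroups.
-/

set_option autoImplicit false

namespace Cfsg.Lib.Concrete

open Cfsg
open MulAction

local notation "zP" => (some 0 : GolayPt)

theorem permHom_smul (σ : M24) (v : leechLattice) (p : GolayPt) :
    ((permHom σ • v : leechLattice) : GolayPt → ℤ) p = (v : GolayPt → ℤ) (σ.1.symm p) := by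
  rw [show ((permHom σ • v : leechLattice) : GolayPt → ℤ) = signedPerm σ.1 ∅ v from monoCo0_smul σ.1 σ.2 ∅ empty_mem_codeSets v]
  simp [signedPerm]

theorem permHom_injective : Function.Injective permHom := fun σ τ h => by
  rw [← crossPerm_permHom σ, ← crossPerm_permHom τ]
  exact congrArg crossPerm (Subtype.ext h)

theorem permHom_fix_iff (σ : M24) (v : leechLattice) :
    permHom σ • v = v ↔ ∀ p, (v : GolayPt → ℤ) (σ.1 p) = (v : GolayPt → ℤ) p := by
  constructor
  · intro h p
    have := congrFun (congrArg Subtype.val h) (σ.1 p)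
    rw [permHom_smul, Equiv.symm_apply_apply] at this
    exact this.symm
  · intro h
    refine Subtype.ext (funext fun p => ?_)
    rw [permHom_smul, ← h (σ.1.symm p), Equiv.apply_symm_apply]

theorem fixed_none (σ : M24) (hσ : σ.1 none = none) : permHom σ • top = top :=
  (permHom_fix_iff _ _).2 fun p => by
    show (Pi.single none 8 : GolayPt → ℤ) (σ.1 p) = (Pi.single none 8 : GolayPt → ℤ) p
    by_cases hp : p = none
    · rw [hp, hσ]
    · rw [Pi.single_eq_of_ne hp, Pi.single_eq_of_ne]
      exact fun e => hp (σ.1.injective (e.trans hσ.symm))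

/-- An automorphism fixing `top` is a signed permutation fixing the extra point. -/
theorem mono_of_fix_top {g : Co0} (hg : g • top = top) : ∃ σ : M24, ∃ c : Finset GolayPt, σ.1 none = none ∧
    none ∉ c ∧ ∀ v : leechLattice, ((g • v : leechLattice) : GolayPt → ℤ) = signedPerm σ.1 c v := by
  obtain ⟨σ, c, hc, h⟩ := crossStab_monomial ⟨g, stabilizer_le_crossStab hg⟩
  have ht := h top
  rw [show ((top : leechLattice) : GolayPt → ℤ) = Pi.single none 8 from rfl, signedPerm_single] at ht
  have ht' : ((g • top : leechLattice) : GolayPt → ℤ) = Pi.single none 8 := by rw [hg]; rfl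
  have h1 := congrFun (ht'.symm.trans ht) none
  rw [Pi.single_eq_same] at h1
  by_cases hn : σ.1 none = none
  · refine ⟨σ, c, hn, fun hm => ?_, h⟩
    rw [hn, Pi.single_eq_same, if_pos hm] at h1
    norm_num at h1
  · rw [Pi.single_eq_of_ne (Ne.symm hn)] at h1
    norm_num at h1

/-- A signed permutation fixing a vector without zero coordinates, whose absolute values it preserves. -/
theorem eq_permHom {g : Co0} (hg : g • top = top) (w : leechLattice) (hw0 : ∀ p, (w : GolayPt → ℤ) p ≠ 0)
    (hw : g • w = w) (hsign : ∀ p q, |(w : GolayPt → ℤ) p| = |(w : GolayPt → ℤ) q| → (w : GolayPt → ℤ) p = (w : GolayPt → ℤ) q) :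
    ∃ σ : M24, σ.1 none = none ∧ (∀ p, (w : GolayPt → ℤ) (σ.1 p) = (w : GolayPt → ℤ) p) ∧ g = permHom σ := by
  classical
  obtain ⟨σ, c, hn, hc0, h⟩ := mono_of_fix_top hg
  have hv : ∀ p, signedPerm σ.1 c (w : GolayPt → ℤ) p = (w : GolayPt → ℤ) p := fun p => by rw [← h, hw]
  have hc : ∀ p, p ∉ c := fun p hp => by
    have := hv p
    simp only [signedPerm, hp, if_true] at this
    have h2 := hsign (σ.1.symm p) p (by rw [← this, abs_neg])
    have := hw0 p
    omega
  refine ⟨σ, hn, fun p => ?_, Subtype.ext (Equiv.ext fun v => Subtype.ext ((h v).trans (funext fun p => ?_)))⟩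
  · have := hv (σ.1 p)
    simp only [signedPerm, hc, if_false, Equiv.symm_apply_apply] at this
    exact this.symm
  · show _ = ((permHom σ • v : leechLattice) : GolayPt → ℤ) p
    rw [permHom_smul]
    simp [signedPerm, hc]

/-- If `g` normalises the cyclic group of `permHom x`, then `g⁻¹` moves a fixed vector to a fixed vector. -/
theorem fix_back {H : Type*} [Group H] {X : Type*} [MulAction H X] {a g : H} {v : X} (hv : a • v = v)
    (hg : g * a * g⁻¹ ∈ Subgroup.zpowers a) : a • g⁻¹ • v = g⁻¹ • v := by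
  have h1 : (g * a * g⁻¹) • v = v :=
    (Subgroup.zpowers_le.2 (show a ∈ MulAction.stabilizer H v from hv)) hg
  rw [mul_smul, mul_smul] at h1
  exact eq_inv_smul_iff.2 h1

theorem fixed_by_moved {x : M24} {p : ℕ} [hp : Fact p.Prime] (hx : x ^ p = 1) (F : Finset GolayPt)
    (hF : ∀ i, i ∈ F ↔ x.1 i = i) {y : leechLattice} (hy : permHom x • y = y) (f : ℤ → ℤ) :
    (p : ℤ) ∣ ∑ i ∈ Fᶜ, f ((y : GolayPt → ℤ) i) :=
  dvd_sum_moved x.1 (congrArg Subtype.val hx) Fᶜ (fun i => by rw [Finset.mem_compl, hF]) _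
    fun i => by rw [(permHom_fix_iff x y).1 hy i]

theorem card_fixed_dvd {x : M24} {p : ℕ} [hp : Fact p.Prime] (hx : x ^ p = 1) (F : Finset GolayPt)
    (hF : ∀ i, i ∈ F ↔ x.1 i = i) : p ∣ 24 - F.card := by
  have h := dvd_sum_moved x.1 (congrArg Subtype.val hx) Fᶜ (fun i => by rw [Finset.mem_compl, hF]) (fun _ => 1)
    fun _ => rfl
  rw [Finset.sum_const, Finset.card_compl, show Fintype.card GolayPt = 24 from rfl, nsmul_eq_mul, mul_one,
    Int.natCast_dvd_natCast] at h
  exact h

/-- An element of order 23 fixing the extra point moves the other points. -/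
theorem fixed_twentythree {x : M24} (hx : orderOf x = 23) (hn : x.1 none = none) :
    ∀ i, i ∈ ({none} : Finset GolayPt) ↔ x.1 i = i := by
  haveI : Fact (Nat.Prime 23) := ⟨by norm_num⟩
  set F := Finset.univ.filter fun i => x.1 i = i
  have hd := card_fixed_dvd (x := x) (p := 23) (hx ▸ pow_orderOf_eq_one x) F fun i => by simp [F]
  have hx1 : x ≠ 1 := fun e => by rw [e, orderOf_one] at hx; omega
  have hlt : F.card < 9 := by
    by_contra h9
    exact hx1 (Subtype.ext (eq_one_of_nine_fixed x.2 (s := F) (by omega) fun i hi => (Finset.mem_filter.1 hi).2))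
  have hF : F.card = 1 := by
    obtain ⟨k, hk⟩ := hd
    omega
  obtain ⟨a, ha⟩ := Finset.card_eq_one.1 hF
  have : none ∈ F := by simp [F, hn]
  rw [ha, Finset.mem_singleton] at this
  intro i
  rw [this, ← ha]; simp [F]

/-- An element of order 11 fixing two points moves the other points. -/
theorem fixed_eleven {x : M24} (hx : orderOf x = 11) (hn : x.1 none = none) (hz : x.1 zP = zP) :
    ∀ i, i ∈ ({none, zP} : Finset GolayPt) ↔ x.1 i = i := by
  haveI : Fact (Nat.Prime 11) := ⟨by norm_num⟩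
  set F := Finset.univ.filter fun i => x.1 i = i
  have hd := card_fixed_dvd (x := x) (p := 11) (hx ▸ pow_orderOf_eq_one x) F fun i => by simp [F]
  have hx1 : x ≠ 1 := fun e => by rw [e, orderOf_one] at hx; omega
  have hlt : F.card < 9 := by
    by_contra h9
    exact hx1 (Subtype.ext (eq_one_of_nine_fixed x.2 (s := F) (by omega) fun i hi => (Finset.mem_filter.1 hi).2))
  have hF : F.card = 2 := by
    obtain ⟨k, hk⟩ := hd
    omega
  have he : ({none, zP} : Finset GolayPt) = F := Finset.eq_of_subset_of_card_le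
    (fun i hi => by rcases Finset.mem_insert.1 hi with r | r
                    · simp [F, r, hn]
                    · simp [F, Finset.mem_singleton.1 r, hz])
    (by rw [hF, Finset.card_pair none_ne_zeroPt])
  intro i
  rw [he]; simp [F]

theorem sum_split (f : GolayPt → ℤ) : ∑ i, f i = f none + ∑ i ∈ ({none} : Finset GolayPt)ᶜ, f i ∧
    ∑ i, f i = f none + f zP + ∑ i ∈ ({none, zP} : Finset GolayPt)ᶜ, f i := by
  refine ⟨?_, ?_⟩
  · rw [← Finset.sum_add_sum_compl ({none} : Finset GolayPt), Finset.sum_singleton]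
  · rw [← Finset.sum_add_sum_compl ({none, zP} : Finset GolayPt), Finset.sum_pair none_ne_zeroPt]

theorem eq_top_of_none {y : leechLattice} (hn : sqNorm (y : GolayPt → ℤ) = 64) (h : (y : GolayPt → ℤ) none = 8) :
    y = top := by
  have h1 := (sum_split fun i => (y : GolayPt → ℤ) i ^ 2).1
  rw [show ∑ i, (y : GolayPt → ℤ) i ^ 2 = 64 from hn, h] at h1
  have h2 : ∀ i ∈ ({none} : Finset GolayPt)ᶜ, (y : GolayPt → ℤ) i ^ 2 = 0 :=
    (Finset.sum_eq_zero_iff_of_nonneg fun i _ => sq_nonneg _).1 (by linarith)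
  refine Subtype.ext (funext fun i => ?_)
  show _ = (Pi.single none 8 : GolayPt → ℤ) i
  by_cases hi : i = none
  · rw [hi, h, Pi.single_eq_same]
  · rw [Pi.single_eq_of_ne hi]
    exact pow_eq_zero_iff two_ne_zero |>.1 (h2 i (by simp [hi]))

theorem top_norm : sqNorm ((top : leechLattice) : GolayPt → ℤ) = 64 := (stdCross_subset (e8_mem_stdCross none)).2

theorem dot_top (v : leechLattice) : dotInt ((top : leechLattice) : GolayPt → ℤ) (v : GolayPt → ℤ) = 8 * (v : GolayPt → ℤ) none := by
  rw [dotInt, Finset.sum_eq_single none (fun p _ hp => by simp [top, e8, hp]) (by simp)]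
  simp [top, e8]

/-! ### Representatives -/

/-- `(5, 1, …, 1)`. -/
def fiveVec : GolayPt → ℤ := fun p => if p = none then 5 else 1

/-- `(-1, -5, -1, …, -1)`. -/
def fiveVecNeg : GolayPt → ℤ := fun p => if p = zP then -5 else -1

theorem reps_check : inLeech fiveVec = true ∧ inLeech fiveVecNeg = true ∧ inLeech oddBase = true ∧
    sqNorm fiveVec = 48 ∧ sqNorm fiveVecNeg = 48 ∧ sqNorm oddBase = 32 ∧
    dotInt fiveVec fiveVecNeg = -32 ∧ dotInt Spor.vecU oddBase = -8 := by decide +kernel

def fiveL : leechLattice := ⟨fiveVec, mem_leech_of_inLeech reps_check.1⟩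
def fiveNegL : leechLattice := ⟨fiveVecNeg, mem_leech_of_inLeech reps_check.2.1⟩
def threeL : leechLattice := ⟨oddBase, mem_leech_of_inLeech reps_check.2.2.1⟩

theorem fiveL_apply (p : GolayPt) : (fiveL : GolayPt → ℤ) p = if p = none then 5 else 1 := rfl
theorem fiveNegL_apply (p : GolayPt) : (fiveNegL : GolayPt → ℤ) p = if p = zP then -5 else -1 := rfl
theorem threeL_apply (p : GolayPt) : (threeL : GolayPt → ℤ) p = if p = none then -3 else 1 := rfl

theorem small_abs {y : leechLattice} (hn : sqNorm (y : GolayPt → ℤ) = 64) (i : GolayPt) :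
    -8 ≤ (y : GolayPt → ℤ) i ∧ (y : GolayPt → ℤ) i ≤ 8 := by
  have h : (y : GolayPt → ℤ) i ^ 2 ≤ 64 := hn ▸
    Finset.single_le_sum (f := fun i => (y : GolayPt → ℤ) i ^ 2) (fun j _ => sq_nonneg _) (Finset.mem_univ i)
  constructor <;> nlinarith

theorem dot_five (y : leechLattice) : dotInt (fiveL : GolayPt → ℤ) (y : GolayPt → ℤ) =
    4 * (y : GolayPt → ℤ) none + ∑ i, (y : GolayPt → ℤ) i := by
  have h : ∀ i, (fiveL : GolayPt → ℤ) i * (y : GolayPt → ℤ) i =
      (if i = none then 4 * (y : GolayPt → ℤ) i else 0) + (y : GolayPt → ℤ) i := fun i => by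
    rw [fiveL_apply]; split <;> ring
  simp only [dotInt, h, Finset.sum_add_distrib, Finset.sum_ite_eq', Finset.mem_univ, if_true]

theorem dot_fiveNeg (y : leechLattice) : dotInt (fiveNegL : GolayPt → ℤ) (y : GolayPt → ℤ) =
    -(4 * (y : GolayPt → ℤ) zP + ∑ i, (y : GolayPt → ℤ) i) := by
  have h : ∀ i, (fiveNegL : GolayPt → ℤ) i * (y : GolayPt → ℤ) i =
      (if i = zP then -(4 * (y : GolayPt → ℤ) i) else 0) + -(y : GolayPt → ℤ) i := fun i => by
    rw [fiveNegL_apply]; split <;> ring
  simp only [dotInt, h, Finset.sum_add_distrib, Finset.sum_ite_eq', Finset.mem_univ, if_true, Finset.sum_neg_distrib]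
  ring

theorem dot_three (y : leechLattice) : dotInt (threeL : GolayPt → ℤ) (y : GolayPt → ℤ) =
    ∑ i, (y : GolayPt → ℤ) i - 4 * (y : GolayPt → ℤ) none := by
  have h : ∀ i, (threeL : GolayPt → ℤ) i * (y : GolayPt → ℤ) i =
      (y : GolayPt → ℤ) i - (if i = none then 4 * (y : GolayPt → ℤ) i else 0) := fun i => by
    rw [threeL_apply]; split <;> ring
  simp only [dotInt, h, Finset.sum_sub_distrib, Finset.sum_ite_eq', Finset.mem_univ, if_true]

theorem dot_leechU (y : leechLattice) : dotInt ((Spor.leechU : leechLattice) : GolayPt → ℤ) (y : GolayPt → ℤ) =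
    4 * (y : GolayPt → ℤ) none + 4 * (y : GolayPt → ℤ) zP := by
  have h : ∀ i, ((Spor.leechU : leechLattice) : GolayPt → ℤ) i * (y : GolayPt → ℤ) i =
      (if i = none then 4 * (y : GolayPt → ℤ) i else 0) + (if i = zP then 4 * (y : GolayPt → ℤ) i else 0) := fun i => by
    show Spor.vecU i * _ = _
    unfold Spor.vecU
    by_cases h1 : i = none
    · subst h1; simp [none_ne_zeroPt]
    · by_cases h2 : i = zP <;> simp [h1, h2]
  simp only [dotInt, h, Finset.sum_add_distrib, Finset.sum_ite_eq', Finset.mem_univ, if_true]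

/-- M23 and M22 inside the lattice group. -/
noncomputable def permM23 : Subgroup Co0 := (stabilizer M24 (none : GolayPt)).map permHom
noncomputable def permM22 : Subgroup Co0 := (stabilizer M24 (none : GolayPt) ⊓ stabilizer M24 zP).map permHom

theorem permM23_simple : IsSimpleGroup permM23 := by
  have := isSimple_stabilizer (none : GolayPt)
  exact ((stabilizer M24 (none : GolayPt)).equivMapOfInjective permHom permHom_injective).isSimpleGroup_congr.1 this

theorem permM22_simple : IsSimpleGroup permM22 := by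
  have := isSimple_two_stabilizer none_ne_zeroPt
  exact ((stabilizer M24 (none : GolayPt) ⊓ stabilizer M24 zP).equivMapOfInjective permHom
    permHom_injective).isSimpleGroup_congr.1 this

theorem card_permM23 : Nat.card permM23 = 10200960 := by
  rw [permM23, Subgroup.card_map_of_injective permHom_injective, card_M24_stabilizer]

theorem card_permM22 : Nat.card permM22 = 443520 := by
  rw [permM22, Subgroup.card_map_of_injective permHom_injective, card_two_stabilizer none_ne_zeroPt]

theorem exists_twentythree : ∃ x : M24, orderOf x = 23 ∧ x.1 none = none := by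
  haveI : Fact (Nat.Prime 23) := ⟨by norm_num⟩
  haveI : Finite M24 := Nat.finite_of_card_ne_zero (by rw [card_M24]; norm_num)
  obtain ⟨x, hx⟩ := exists_prime_orderOf_dvd_card' (G := stabilizer M24 (none : GolayPt)) 23
    (by rw [card_M24_stabilizer]; norm_num)
  exact ⟨x, (Subgroup.orderOf_coe x).trans hx, x.2⟩

theorem exists_eleven : ∃ x : M24, orderOf x = 11 ∧ x.1 none = none ∧ x.1 zP = zP := by
  haveI : Fact (Nat.Prime 11) := ⟨by norm_num⟩
  haveI : Finite M24 := Nat.finite_of_card_ne_zero (by rw [card_M24]; norm_num)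
  obtain ⟨x, hx⟩ := exists_prime_orderOf_dvd_card' (G := ↥(stabilizer M24 (none : GolayPt) ⊓ stabilizer M24 zP)) 11
    (by rw [card_two_stabilizer none_ne_zeroPt]; norm_num)
  exact ⟨x, (Subgroup.orderOf_coe x).trans hx, x.2.1, x.2.2⟩

/-- Moving to a fixed norm-64 vector with prescribed products forces fixing `top`. -/
theorem fix_top_of_back {g : Co0} (h : g⁻¹ • top = top) : g • top = top :=
  (eq_inv_smul_iff.1 h.symm).symm ▸ rfl

theorem back_facts {g v : _} (hv : (g : Co0) • (v : leechLattice) = v) :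
    sqNorm ((g⁻¹ • top : leechLattice) : GolayPt → ℤ) = 64 ∧
      dotInt ((g⁻¹ • top : leechLattice) : GolayPt → ℤ) (v : GolayPt → ℤ) = 8 * (v : GolayPt → ℤ) none := by
  refine ⟨(co0_sqNorm _ _).trans top_norm, ?_⟩
  rw [← dot_top v]
  conv_lhs => rw [show v = g⁻¹ • v from eq_inv_smul_iff.2 hv]
  exact co0_dot _ _ _

theorem normalizer_three {x : M24} (hx : orderOf x = 23) (hn : x.1 none = none) {g : Co0}
    (hv : g • threeL = threeL) (hg : g * permHom x * g⁻¹ ∈ Subgroup.zpowers (permHom x)) : g ∈ permM23 := by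
  haveI : Fact (Nat.Prime 23) := ⟨by norm_num⟩
  obtain ⟨h64, hd⟩ := back_facts hv
  have hy := fix_back (fixed_none x hn) hg
  set y := g⁻¹ • top with hydef
  rw [dotInt_comm, dot_three, threeL_apply, if_pos rfl, (sum_split (y : GolayPt → ℤ)).1] at hd
  obtain ⟨k, hk⟩ := fixed_by_moved (p := 23) (hx ▸ pow_orderOf_eq_one x) _ (fixed_twentythree hx hn) hy id
  simp only [id] at hk
  obtain ⟨l, u⟩ := small_abs h64 none
  have h8 : (y : GolayPt → ℤ) none = 8 := by omega
  obtain ⟨σ, h1, -, rfl⟩ := eq_permHom (fix_top_of_back (eq_top_of_none h64 h8)) threeL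
    (fun p => by rw [threeL_apply]; split <;> norm_num) hv
    (fun p q => by rw [threeL_apply, threeL_apply]; split <;> split <;> norm_num)
  exact ⟨σ, h1, rfl⟩

theorem normalizer_five {x : M24} (hx : orderOf x = 23) (hn : x.1 none = none) {g : Co0}
    (hv : g • fiveL = fiveL) (hg : g * permHom x * g⁻¹ ∈ Subgroup.zpowers (permHom x)) : g ∈ permM23 := by
  haveI : Fact (Nat.Prime 23) := ⟨by norm_num⟩
  obtain ⟨h64, hd⟩ := back_facts hv
  have hy := fix_back (fixed_none x hn) hg
  set y := g⁻¹ • top with hydef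
  rw [dotInt_comm, dot_five, fiveL_apply, if_pos rfl, (sum_split (y : GolayPt → ℤ)).1] at hd
  obtain ⟨k, hk⟩ := fixed_by_moved (p := 23) (hx ▸ pow_orderOf_eq_one x) _ (fixed_twentythree hx hn) hy id
  simp only [id] at hk
  obtain ⟨l, u⟩ := small_abs h64 none
  have h8 : (y : GolayPt → ℤ) none = 8 := by omega
  obtain ⟨σ, h1, -, rfl⟩ := eq_permHom (fix_top_of_back (eq_top_of_none h64 h8)) fiveL
    (fun p => by rw [fiveL_apply]; split <;> norm_num) hv
    (fun p q => by rw [fiveL_apply, fiveL_apply]; split <;> split <;> norm_num)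
  exact ⟨σ, h1, rfl⟩

theorem normalizer_mcl {x : M24} (hx : orderOf x = 11) (hn : x.1 none = none) (hz : x.1 zP = zP) {g : Co0}
    (hu : g • Spor.leechU = Spor.leechU) (hv : g • threeL = threeL)
    (hg : g * permHom x * g⁻¹ ∈ Subgroup.zpowers (permHom x)) : g ∈ permM22 := by
  haveI : Fact (Nat.Prime 11) := ⟨by norm_num⟩
  obtain ⟨h64, hd⟩ := back_facts hv
  obtain ⟨-, hdu⟩ := back_facts hu
  have hy := fix_back (fixed_none x hn) hg
  set y := g⁻¹ • top with hydef
  rw [dotInt_comm, dot_three, threeL_apply, if_pos rfl, (sum_split (y : GolayPt → ℤ)).2] at hd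
  rw [dotInt_comm, dot_leechU, show ((Spor.leechU : leechLattice) : GolayPt → ℤ) none = 4 from rfl] at hdu
  obtain ⟨k, hk⟩ := fixed_by_moved (p := 11) (hx ▸ pow_orderOf_eq_one x) _ (fixed_eleven hx hn hz) hy id
  simp only [id] at hk
  obtain ⟨l, u⟩ := small_abs h64 none
  obtain ⟨l', u'⟩ := small_abs h64 zP
  have h8 : (y : GolayPt → ℤ) none = 8 := by omega
  obtain ⟨σ, h1, h2, rfl⟩ := eq_permHom (fix_top_of_back (eq_top_of_none h64 h8)) threeL
    (fun p => by rw [threeL_apply]; split <;> norm_num) hv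
    (fun p q => by rw [threeL_apply, threeL_apply]; split <;> split <;> norm_num)
  refine ⟨σ, ⟨h1, ?_⟩, rfl⟩
  show σ.1 zP = zP
  have h3 := (permHom_fix_iff σ _).1 hu zP
  by_contra hne
  have h4 : σ.1 zP ≠ none := fun e => none_ne_zeroPt (σ.1.injective (h1.trans e.symm))
  change Spor.vecU (σ.1 zP) = Spor.vecU zP at h3
  simp [Spor.vecU, hne, h4] at h3

theorem normalizer_hs {x : M24} (hx : orderOf x = 11) (hn : x.1 none = none) (hz : x.1 zP = zP) {g : Co0}
    (hv : g • fiveL = fiveL) (hw : g • fiveNegL = fiveNegL)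
    (hg : g * permHom x * g⁻¹ ∈ Subgroup.zpowers (permHom x)) : g ∈ permM22 := by
  haveI : Fact (Nat.Prime 11) := ⟨by norm_num⟩
  obtain ⟨h64, hd⟩ := back_facts hv
  obtain ⟨-, hdw⟩ := back_facts hw
  have hy := fix_back (fixed_none x hn) hg
  set y := g⁻¹ • top with hydef
  rw [dotInt_comm, dot_five, fiveL_apply, if_pos rfl, (sum_split (y : GolayPt → ℤ)).2] at hd
  rw [dotInt_comm, dot_fiveNeg, fiveNegL_apply, if_neg none_ne_zeroPt, (sum_split (y : GolayPt → ℤ)).2] at hdw
  obtain ⟨k, hk⟩ := fixed_by_moved (p := 11) (hx ▸ pow_orderOf_eq_one x) _ (fixed_eleven hx hn hz) hy id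
  simp only [id] at hk
  obtain ⟨l, u⟩ := small_abs h64 none
  obtain ⟨l', u'⟩ := small_abs h64 zP
  have hsq : (y : GolayPt → ℤ) none ^ 2 + (y : GolayPt → ℤ) zP ^ 2 ≤ 64 := by
    have h1 := (sum_split fun i => (y : GolayPt → ℤ) i ^ 2).2
    rw [show ∑ i, (y : GolayPt → ℤ) i ^ 2 = 64 from h64] at h1
    have := Finset.sum_nonneg (s := ({none, zP} : Finset GolayPt)ᶜ) (f := fun i => (y : GolayPt → ℤ) i ^ 2) fun i _ => sq_nonneg _
    linarith
  have hb : (y : GolayPt → ℤ) zP ≤ 0 := by nlinarith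
  have h8 : (y : GolayPt → ℤ) none = 8 := by omega
  obtain ⟨σ, h1, h2, rfl⟩ := eq_permHom (fix_top_of_back (eq_top_of_none h64 h8)) fiveL
    (fun p => by rw [fiveL_apply]; split <;> norm_num) hv
    (fun p q => by rw [fiveL_apply, fiveL_apply]; split <;> split <;> norm_num)
  refine ⟨σ, ⟨h1, ?_⟩, rfl⟩
  show σ.1 zP = zP
  have h3 := (permHom_fix_iff σ _).1 hw zP
  by_contra hne
  rw [fiveNegL_apply, fiveNegL_apply, if_neg hne, if_pos rfl] at h3
  omega

end Cfsg.Lib.Concrete
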