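import Cfsg.Agent.Lib.Concrete.LeechMatrix
import Cfsg.Agent.Lib.Concrete.LeechCensus

/-!
Certificates for orbits of explicitly generated subgroups of the automorphism group of the rank-24 lattice.
-/

set_option autoImplicit false

namespace Cfsg.Lib.Concrete

open Cfsg

/-- A vector from a list of coordinates. -/
def keyVec (l : List ℤ) : GolayPt → ℤ := fun p => l.getD (gidx p).val 0

/-- The matrix maps the first listed vector to the second. -/
def mapsTo (M : List (List ℤ)) (a b : List ℤ) : Bool :=
  (List.finRange 24).all fun i => matDot M (keyVec a) i == 8 * b.getD i.val 0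

/-- The generators are automorphisms fixing every vector in `fix`. -/
def gensOk (gens : List (List (List ℤ))) (fix : List (List ℤ)) : Bool :=
  gens.all fun M => matOk M && fix.all fun a => mapsTo M a a

/-- Every point is a root or the image of an earlier point under a listed generator. -/
def treeOk (gens : List (List (List ℤ))) (pts : List (List ℤ)) (tree : List (ℕ × ℕ)) (roots : List ℕ) : Bool :=
  (List.range pts.length).all fun i => roots.contains i ||
    match tree.getD i (i, 0) with
    | (p, g) => decide (p < i) && decide (g < gens.length) && mapsTo (gens.getD g []) (pts.getD p []) (pts.getD i [])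

theorem smul_of_mapsTo {M : List (List ℤ)} (hM : matOk M = true) {a b : List ℤ} (h : mapsTo M a b = true)
    {va vb : leechLattice} (ha : (va : GolayPt → ℤ) = keyVec a) (hb : (vb : GolayPt → ℤ) = keyVec b) :
    matCo0 M hM • va = vb := by
  refine Subtype.ext (funext fun p => ?_)
  rw [matCo0_apply, ha, hb]
  simp only [mapsTo, List.all_eq_true, beq_iff_eq] at h
  show matDot M (keyVec a) (gidx p) / 8 = b.getD (gidx p).val 0
  rw [h (gidx p) (List.mem_finRange _), Int.mul_ediv_cancel_left _ (by norm_num)]

/-- Every listed point is reached from a root by an element fixing `fix`. -/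
theorem exists_root (gens : List (List (List ℤ))) (fix pts : List (List ℤ)) (tree : List (ℕ × ℕ)) (roots : List ℕ)
    (hg : gensOk gens fix = true) (ht : treeOk gens pts tree roots = true)
    (hmem : ∀ a ∈ pts, keyVec a ∈ leechLattice) :
    ∀ (i : ℕ) (hi : i < pts.length), ∃ r ∈ roots, ∃ g : Co0,
      (∀ v : leechLattice, ∀ a ∈ fix, (v : GolayPt → ℤ) = keyVec a → g • v = v) ∧
      ∀ v : leechLattice, (v : GolayPt → ℤ) = keyVec (pts.getD r []) →
        ((g • v : leechLattice) : GolayPt → ℤ) = keyVec (pts.getD i []) := by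
  intro i
  induction i using Nat.strong_induction_on with
  | _ i ih =>
    intro hi
    by_cases hr : i ∈ roots
    · exact ⟨i, hr, 1, fun v a _ _ => one_smul _ v, fun v hv => by rw [one_smul, hv]⟩
    have h := List.all_eq_true.1 ht i (List.mem_range.2 hi)
    simp only [Bool.or_eq_true, List.contains_iff_mem] at h
    have h' := h.resolve_left hr
    generalize hpg : tree.getD i (i, 0) = pg at h'
    obtain ⟨p, g⟩ := pg
    simp only [Bool.and_eq_true, decide_eq_true_eq] at h'
    obtain ⟨⟨hp, hgl⟩, hm⟩ := h'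
    obtain ⟨r, hr', k, hk1, hk2⟩ := ih p hp (hp.trans hi)
    have hM := List.all_eq_true.1 hg (gens.getD g []) (by
      rw [List.getD_eq_getElem _ _ hgl]; exact List.getElem_mem hgl)
    simp only [Bool.and_eq_true, List.all_eq_true] at hM
    refine ⟨r, hr', matCo0 _ hM.1 * k, fun v a ha hv => ?_, fun v hv => ?_⟩
    · rw [mul_smul, hk1 v a ha hv]
      exact smul_of_mapsTo hM.1 (hM.2 a ha) hv hv
    · rw [mul_smul]
      have hmp : keyVec (pts.getD i []) ∈ leechLattice := hmem _ (by
        rw [List.getD_eq_getElem _ _ hi]; exact List.getElem_mem hi)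
      exact congrArg Subtype.val (smul_of_mapsTo hM.1 hm (va := k • v) (vb := ⟨_, hmp⟩) (hk2 v hv) rfl)

/-- A list of distinct vectors inside a set of the same size exhausts it. -/
theorem mem_of_card (pts : List (List ℤ)) (hlen : ∀ a ∈ pts, a.length = 24) (hnd : pts.Nodup) (T : Set leechLattice)
    (hT : ∀ a ∈ pts, ∃ v ∈ T, (v : GolayPt → ℤ) = keyVec a) (hc : T.ncard = pts.length) (hpos : 0 < pts.length)
    {y : leechLattice} (hy : y ∈ T) : ∃ i, i < pts.length ∧ (y : GolayPt → ℤ) = keyVec (pts.getD i []) := by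
  classical
  have hkey : ∀ a ∈ pts, ∀ b ∈ pts, keyVec a = keyVec b → a = b := fun a ha b hb h => by
    refine List.ext_getElem ((hlen a ha).trans (hlen b hb).symm) fun i h1 h2 => ?_
    have := congrFun h (gpt ⟨i, (hlen a ha) ▸ h1⟩)
    simp only [keyVec, gidx_gpt] at this
    rwa [List.getD_eq_getElem _ _ h1, List.getD_eq_getElem _ _ h2] at this
  have hsub : (↑(pts.toFinset.image keyVec) : Set (GolayPt → ℤ)) ⊆ Subtype.val '' T := fun x hx => by
    obtain ⟨a, ha, rfl⟩ := Finset.mem_image.1 (Finset.mem_coe.1 hx)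
    obtain ⟨v, hv, e⟩ := hT a (List.mem_toFinset.1 ha)
    exact ⟨v, hv, e⟩
  have hcard : (Subtype.val '' T).ncard = pts.length := by
    rw [Set.ncard_image_of_injective _ Subtype.val_injective, hc]
  have heq := Set.eq_of_subset_of_ncard_le hsub (by
    rw [hcard, Set.ncard_coe_finset, Finset.card_image_of_injOn (fun a ha b hb => hkey a
      (List.mem_toFinset.1 ha) b (List.mem_toFinset.1 hb)), List.toFinset_card_of_nodup hnd])
    (Set.finite_of_ncard_ne_zero (by omega))
  have : (y : GolayPt → ℤ) ∈ (↑(pts.toFinset.image keyVec) : Set (GolayPt → ℤ)) := by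
    rw [heq]; exact ⟨y, hy, rfl⟩
  obtain ⟨a, ha, e⟩ := Finset.mem_image.1 (Finset.mem_coe.1 this)
  obtain ⟨i, hi, rfl⟩ := List.getElem_of_mem (List.mem_toFinset.1 ha)
  exact ⟨i, hi, by rw [List.getD_eq_getElem _ _ hi, e]⟩

/-- Counting a subset of an exhausted set. -/
theorem ncard_filter_pts (pts : List (List ℤ)) (hlen : ∀ a ∈ pts, a.length = 24) (hnd : pts.Nodup) (T : Set leechLattice)
    (hT : ∀ a ∈ pts, ∃ v ∈ T, (v : GolayPt → ℤ) = keyVec a) (hc : T.ncard = pts.length) (hpos : 0 < pts.length)
    (P : (GolayPt → ℤ) → Prop) [DecidablePred P] :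
    {y | y ∈ T ∧ P (y : GolayPt → ℤ)}.ncard = (pts.filter fun a => decide (P (keyVec a))).length := by
  classical
  rw [← List.toFinset_card_of_nodup (hnd.filter _), ← Set.ncard_coe_finset]
  refine (Set.ncard_congr (fun a ha => (⟨keyVec a, ?_⟩ : leechLattice)) ?_ ?_ ?_).symm
  · simp only [List.coe_toFinset, Set.mem_setOf_eq, List.mem_filter] at ha
    obtain ⟨v, -, e⟩ := hT a ha.1
    exact e ▸ v.2
  · intro a ha
    simp only [List.coe_toFinset, Set.mem_setOf_eq, List.mem_filter, decide_eq_true_eq] at ha
    obtain ⟨v, hv, e⟩ := hT a ha.1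
    exact ⟨by rwa [show (⟨keyVec a, e ▸ v.2⟩ : leechLattice) = v from Subtype.ext e.symm], ha.2⟩
  · intro a b ha hb h
    simp only [List.coe_toFinset, Set.mem_setOf_eq, List.mem_filter] at ha hb
    have h' := congrArg Subtype.val h
    refine List.ext_getElem ((hlen a ha.1).trans (hlen b hb.1).symm) fun i h1 h2 => ?_
    have := congrFun h' (gpt ⟨i, (hlen a ha.1) ▸ h1⟩)
    simp only [keyVec, gidx_gpt] at this
    rwa [List.getD_eq_getElem _ _ h1, List.getD_eq_getElem _ _ h2] at this
  · rintro y ⟨hy, hP⟩
    obtain ⟨i, hi, e⟩ := mem_of_card pts hlen hnd T hT hc hpos hy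
    refine ⟨pts.getD i [], ?_, Subtype.ext e.symm⟩
    simp only [List.coe_toFinset, Set.mem_setOf_eq, List.mem_filter, decide_eq_true_eq]
    exact ⟨by rw [List.getD_eq_getElem _ _ hi]; exact List.getElem_mem hi, e ▸ hP⟩

/-- Each listed vector is a lattice vector of norm 32 with prescribed products. -/
def ptsOk (pts : List (List ℤ)) (cond : List (List ℤ × ℤ)) : Bool :=
  pts.all fun a => a.length == 24 && inLeech (keyVec a) && sqNorm (keyVec a) == 32 &&
    cond.all fun c => dotInt (keyVec c.1) (keyVec a) == c.2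

theorem ptsOk_spec {pts : List (List ℤ)} {cond : List (List ℤ × ℤ)} (h : ptsOk pts cond = true) {a : List ℤ}
    (ha : a ∈ pts) : a.length = 24 ∧ keyVec a ∈ leechLattice ∧ sqNorm (keyVec a) = 32 ∧
      ∀ c ∈ cond, dotInt (keyVec c.1) (keyVec a) = c.2 := by
  have h := List.all_eq_true.1 h a ha
  simp only [Bool.and_eq_true, beq_iff_eq, List.all_eq_true] at h
  exact ⟨h.1.1.1, mem_leech_of_inLeech h.1.1.2, h.1.2, h.2⟩

/-- The listed vector of a function. -/
def coordList (f : GolayPt → ℤ) : List ℤ := (List.finRange 24).map fun i => f (gpt i)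

theorem keyVec_coordList (f : GolayPt → ℤ) : keyVec (coordList f) = f := funext fun p => by
  simp [keyVec, coordList, gpt_gidx]

end Cfsg.Lib.Concrete
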