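import Cfsg.Agent.Lib.Concrete.MathieuOut
import Cfsg.Agent.Lib.Concrete.ClassFacts
import Cfsg.Agent.Lib.Concrete.M23TriplesData
import Cfsg.Agent.Lib.Perm.ReeCycles

/-!
Which triples of prime orders generate M23.
-/

set_option autoImplicit false

namespace Cfsg.Lib.Concrete

open MulAction

/-- The checks on a generating pair. -/
def m23PairCheck (e : M23Pair) : Bool :=
  let im := [m23Aut.gp 0, m23Aut.gp 1, m23Aut.gp 2]
  let xy := [e.xp, e.yp]
  (e.wx.all fun i => Nat.blt i 3) && (e.wy.all fun i => Nat.blt i 3) &&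
  Nat.beq (packW im e.wx) e.xp && Nat.beq (packW im e.wy) e.yp &&
  wEq xy (List.replicate e.p 0) [] && !(wEq xy [0] []) &&
  wEq xy (List.replicate e.q 1) [] && !(wEq xy [1] []) &&
  wEq xy (List.replicate e.r [0, 1]).flatten [] && !(wEq xy [0, 1] []) &&
  ((List.range 3).all fun i => ((e.back.getD i []).all fun j => Nat.blt j 2) &&
    wEq ([e.xp, e.yp, im.getD i 0]) (e.back.getD i []) [2])

theorem m23Pairs_check : m23Pairs.all m23PairCheck = true := by decide +kernel

/-- Every admissible triple is listed. -/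
theorem m23Pairs_complete : ∀ p ∈ [2, 3, 5, 7, 11, 23], ∀ q ∈ [2, 3, 5, 7, 11, 23], ∀ r ∈ [2, 3, 5, 7, 11, 23],
    p ≤ q → q ≤ r → ¬ (p = 2 ∧ q = 2) →
    ¬ ((p = 2 ∧ q = 3) ∨ (p = 2 ∧ q = 5 ∧ r = 5) ∨ (p = 2 ∧ q = 5 ∧ r = 7) ∨ (p = 3 ∧ q = 3 ∧ r ≤ 7)) →
    (m23Pairs.any fun e => Nat.beq e.p p && Nat.beq e.q q && Nat.beq e.r r) = true := by
  decide +kernel

theorem wordProd_two {M : Type*} [Monoid M] (gs : ℕ → M) (n : ℕ) :
    wordProd gs (List.replicate n [0, 1]).flatten = (gs 0 * gs 1) ^ n := by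
  induction n with
  | zero => simp [wordProd]
  | succ n ih =>
    rw [List.replicate_succ, List.flatten_cons, wordProd_append, ih, pow_succ', wordProd]
    simp

theorem exists_pair {e : M23Pair} (hc : m23PairCheck e = true) (hp : e.p.Prime) (hq : e.q.Prime)
    (hr : e.r.Prime) :
    ∃ x y z : Cfsg.Spor.M23, orderOf x = e.p ∧ orderOf y = e.q ∧ orderOf z = e.r ∧ x * y * z = 1 ∧
      Subgroup.closure {x, y} = ⊤ := by
  haveI := Fact.mk hp
  haveI := Fact.mk hq
  haveI := Fact.mk hr
  obtain ⟨G⟩ := autGens_univ m23Aut rfl (by decide +kernel) rfl (by decide) (by decide +kernel)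
  have hgrp : m23Aut.grp = Spor.M23 := (grp_univ _ rfl).trans fixB_one_eq
  let g : ℕ → Equiv.Perm GolayPt := fun i => if h : i < 3 then (G.g ⟨i, h⟩ : Equiv.Perm GolayPt) else 1
  have hgm : ∀ i, g i ∈ Spor.M23 := fun i => by
    simp only [g]
    split
    · exact hgrp ▸ (G.g _).2
    · exact one_mem _
  simp only [m23PairCheck, Bool.and_eq_true, List.all_eq_true, Nat.blt_eq, Nat.beq_eq, List.mem_range,
    Bool.not_eq_true'] at hc
  obtain ⟨⟨⟨⟨⟨⟨⟨⟨⟨⟨hwx, hwy⟩, hxp⟩, hyp⟩, hxo⟩, hx1⟩, hyo⟩, hy1⟩, hzo⟩, hz1⟩, hback⟩ := hc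
  have hgrep : ∀ i < 3, Rep (g i) ([m23Aut.gp 0, m23Aut.gp 1, m23Aut.gp 2].getD i 0) := fun i hi => by
    simp only [g, dif_pos hi]
    interval_cases i <;> exact G.rep _
  set x := wordProd g e.wx with hx
  set y := wordProd g e.wy with hy
  have hxR : Rep x e.xp := hxp ▸ rep_packW fun a ha => hgrep a (hwx a ha)
  have hyR : Rep y e.yp := hyp ▸ rep_packW fun a ha => hgrep a (hwy a ha)
  have hmem : ∀ w : List ℕ, wordProd g w ∈ Spor.M23 := fun w =>
    Subgroup.list_prod_mem _ fun a ha => by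
      obtain ⟨i, -, rfl⟩ := List.mem_map.1 ha
      exact hgm i
  let gs : ℕ → Equiv.Perm GolayPt := fun i => if i = 0 then x else y
  have hgs : ∀ a < 2, Rep (gs a) ([e.xp, e.yp].getD a 0) := fun a ha => by
    interval_cases a
    · exact hxR
    · exact hyR
  have hwr : ∀ w : List ℕ, (∀ a ∈ w, a < 2) → (wEq [e.xp, e.yp] w [] = true ↔ wordProd gs w = 1) :=
    fun w hw => wEq_iff fun a ha => hgs a (hw a (by simpa using ha))
  have hX : x ^ e.p = 1 ∧ x ≠ 1 := by
    constructor
    · have := (hwr _ fun a ha => by rw [List.eq_of_mem_replicate ha]; norm_num).1 hxo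
      rwa [wordProd_replicate] at this
    · intro h1
      have := (hwr [0] (by simp)).2 (by simpa [wordProd, gs] using h1)
      rw [hx1] at this; exact Bool.false_ne_true this
  have hY : y ^ e.q = 1 ∧ y ≠ 1 := by
    constructor
    · have := (hwr _ fun a ha => by rw [List.eq_of_mem_replicate ha]; norm_num).1 hyo
      rwa [wordProd_replicate] at this
    · intro h1
      have := (hwr [1] (by simp)).2 (by simpa [wordProd, gs] using h1)
      rw [hy1] at this; exact Bool.false_ne_true this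
  have hZ : (x * y) ^ e.r = 1 ∧ x * y ≠ 1 := by
    constructor
    · have := (hwr _ fun a ha => by
        obtain ⟨l, hl, hal⟩ := List.mem_flatten.1 ha
        rw [List.eq_of_mem_replicate hl] at hal
        rcases List.mem_cons.1 hal with rfl | h
        · norm_num
        · rw [List.mem_singleton.1 h]; norm_num).1 hzo
      rwa [wordProd_two] at this
    · intro h1
      have := (hwr [0, 1] (by simp)).2 (by simpa [wordProd, gs] using h1)
      rw [hz1] at this; exact Bool.false_ne_true this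
  set X : Spor.M23 := ⟨x, hmem _⟩ with hXdef
  set Y : Spor.M23 := ⟨y, hmem _⟩ with hYdef
  refine ⟨X, Y, (X * Y)⁻¹, ?_, ?_, ?_, mul_inv_cancel _, ?_⟩
  · exact orderOf_eq_prime (Subtype.ext hX.1) fun h => hX.2 (congrArg Subtype.val h)
  · exact orderOf_eq_prime (Subtype.ext hY.1) fun h => hY.2 (congrArg Subtype.val h)
  · rw [orderOf_inv]
    exact orderOf_eq_prime (Subtype.ext hZ.1) fun h => hZ.2 (congrArg Subtype.val h)
  · apply Subgroup.map_injective Spor.M23.subtype_injective
    rw [MonoidHom.map_closure, Set.image_pair, ← MonoidHom.range_eq_map, Subgroup.range_subtype]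
    set K := Subgroup.closure ({x, y} : Set (Equiv.Perm GolayPt)) with hK
    show K = Spor.M23
    refine le_antisymm ((Subgroup.closure_le _).2 ?_) fun a ha => ?_
    · rintro a (rfl | rfl) <;> exact hmem _
    have hgi : ∀ i : Fin 3, (G.g i : Equiv.Perm GolayPt) ∈ K := fun i => by
      obtain ⟨hb, he⟩ := hback i i.isLt
      let gs' : ℕ → Equiv.Perm GolayPt := fun j => if j = 0 then x else if j = 1 then y else G.g i
      have h' : wordProd gs' (e.back.getD i []) = wordProd gs' [2] := by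
        refine (wEq_iff (imgs := [e.xp, e.yp, [m23Aut.gp 0, m23Aut.gp 1, m23Aut.gp 2].getD i 0]) fun j hj => ?_).1 he
        rcases List.mem_append.1 hj with hj | hj
        · have := hb j hj
          interval_cases j
          · exact hxR
          · exact hyR
        · rw [List.mem_singleton.1 hj]
          have := hgrep i i.isLt
          simp only [g, dif_pos i.isLt] at this
          exact this
      have e2 : wordProd gs' [2] = G.g i := by simp [wordProd, gs']
      rw [← e2, ← h']
      refine Subgroup.list_prod_mem _ fun b hb' => ?_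
      obtain ⟨j, hj, rfl⟩ := List.mem_map.1 hb'
      have := hb j hj
      interval_cases j
      · exact Subgroup.subset_closure (Or.inl rfl)
      · exact Subgroup.subset_closure (Or.inr rfl)
    have htop : (⊤ : Subgroup m23Aut.grp) ≤ K.comap m23Aut.grp.subtype := by
      rw [← G.gen, Subgroup.closure_le]
      rintro _ ⟨i, rfl⟩
      exact hgi i
    exact htop (x := ⟨a, hgrp.symm ▸ ha⟩) trivial

theorem fixed_eq {g : Equiv.Perm GolayPt} (hg : g ∈ Spor.M23) :
    (orderOf g = 2 → 8 ≤ (Finset.univ.filter fun a => g a = a).card) ∧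
    (orderOf g = 3 → 6 ≤ (Finset.univ.filter fun a => g a = a).card) := by
  have hpos : 0 < (Finset.univ.filter fun a => g a = a).card :=
    Finset.card_pos.2 ⟨none, Finset.mem_filter.2 ⟨Finset.mem_univ _, hg.2⟩⟩
  constructor
  · intro h2
    obtain ⟨t, ht, c, -, hR⟩ := involution_class hg.1 h2
    rw [fixed_card_eq hR] at hpos ⊢
    exact (by decide +kernel : ∀ t ∈ invTargets, 0 < pcnt (fixMask t.1) → 8 ≤ pcnt (fixMask t.1)) t ht hpos
  · intro h3
    obtain ⟨t, ht, c, -, hR⟩ := three_class hg.1 h3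
    rw [fixed_card_eq hR] at hpos ⊢
    exact (by decide +kernel : ∀ t ∈ threeTargets, 0 < pcnt (fixMask t.1) → 6 ≤ pcnt (fixMask t.1)) t ht hpos

/-- The fixed points are congruent to the degree modulo the order. -/
theorem fixed_mod {g : Equiv.Perm GolayPt} (hg : g ∈ Spor.M23) {p : ℕ} [Fact p.Prime] (hp : orderOf g = p) :
    0 < (Finset.univ.filter fun a => g a = a).card ∧ (Finset.univ.filter fun a => g a = a).card ≤ 8 ∧
      (Finset.univ.filter fun a => g a = a).card ≡ 24 [MOD p] := by
  refine ⟨Finset.card_pos.2 ⟨none, Finset.mem_filter.2 ⟨Finset.mem_univ _, hg.2⟩⟩,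
    fixed_card_le hg.1 fun e => ?_, ?_⟩
  · rw [e, orderOf_one] at hp
    exact (Fact.out : p.Prime).ne_one hp.symm
  · have := Equiv.Perm.card_compl_support_modEq (n := 1) (σ := g) (p := p) (by rw [pow_one, ← hp, pow_orderOf_eq_one])
    rw [show Fintype.card GolayPt = 24 from rfl] at this
    convert this using 2
    ext a; simp

/-- Lower bound on the invariant functions of an element of M23 of prime order. -/
theorem fixSpace_bound {g : Equiv.Perm GolayPt} (hg : g ∈ Spor.M23) :
    (orderOf g = 2 → 16 ≤ Module.finrank ℚ ↥(Perm.Ree.fixSpace g)) ∧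
    (orderOf g = 3 → 12 ≤ Module.finrank ℚ ↥(Perm.Ree.fixSpace g)) ∧
    (orderOf g = 5 → 8 ≤ Module.finrank ℚ ↥(Perm.Ree.fixSpace g)) ∧
    (orderOf g = 7 → 6 ≤ Module.finrank ℚ ↥(Perm.Ree.fixSpace g)) ∧
    ((orderOf g).Prime → 1 ≤ Module.finrank ℚ ↥(Perm.Ree.fixSpace g)) := by
  refine ⟨fun h => ?_, fun h => ?_, fun h => ?_, fun h => ?_, fun h => ?_⟩
  · haveI : Fact (Nat.Prime 2) := ⟨Nat.prime_two⟩
    have := Perm.Ree.cycles_le_fixSpace h ((fixed_eq hg).1 h)
    rw [show Fintype.card GolayPt = 24 from rfl] at this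
    omega
  · haveI : Fact (Nat.Prime 3) := ⟨Nat.prime_three⟩
    have := Perm.Ree.cycles_le_fixSpace h ((fixed_eq hg).2 h)
    rw [show Fintype.card GolayPt = 24 from rfl] at this
    omega
  · haveI : Fact (Nat.Prime 5) := ⟨by norm_num⟩
    obtain ⟨h1, h2, h3⟩ := fixed_mod hg h
    unfold Nat.ModEq at h3
    have := Perm.Ree.cycles_le_fixSpace (g := g) (f := 4) h (by omega)
    rw [show Fintype.card GolayPt = 24 from rfl] at this
    omega
  · haveI : Fact (Nat.Prime 7) := ⟨by norm_num⟩
    obtain ⟨h1, h2, h3⟩ := fixed_mod hg h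
    unfold Nat.ModEq at h3
    have := Perm.Ree.cycles_le_fixSpace (g := g) (f := 3) h (by omega)
    rw [show Fintype.card GolayPt = 24 from rfl] at this
    omega
  · haveI : Fact (orderOf g).Prime := ⟨h⟩
    have := Perm.Ree.cycles_le_fixSpace (g := g) (p := orderOf g) rfl (f := 0) (Nat.zero_le _)
    rw [show Fintype.card GolayPt = 24 from rfl] at this
    by_contra h0
    rw [not_le, Nat.lt_one_iff] at h0
    rw [h0] at this
    omega

/-- Ree's inequality in M23. -/
theorem generation_bound (x y z : Cfsg.Spor.M23) (h : x * y * z = 1) (hgen : Subgroup.closure {x, y} = ⊤) :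
    Module.finrank ℚ ↥(Perm.Ree.fixSpace (x : Equiv.Perm GolayPt)) +
      Module.finrank ℚ ↥(Perm.Ree.fixSpace (y : Equiv.Perm GolayPt)) +
      Module.finrank ℚ ↥(Perm.Ree.fixSpace (z : Equiv.Perm GolayPt)) ≤ 28 := by
  have h' : (x : Equiv.Perm GolayPt) * y * z = 1 := by
    simpa using congrArg Subtype.val h
  refine le_trans (Perm.Ree.fixSpace_sum_le h') ?_
  rw [show Fintype.card GolayPt = 24 from rfl]
  suffices hI : Module.finrank ℚ ↥(Perm.Ree.fixSpace (x : Equiv.Perm GolayPt) ⊓ Perm.Ree.fixSpace (y : Equiv.Perm GolayPt)) ≤ 2 by omega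
  set I := Perm.Ree.fixSpace (x : Equiv.Perm GolayPt) ⊓ Perm.Ree.fixSpace (y : Equiv.Perm GolayPt)
  let E : ↥I →ₗ[ℚ] ℚ × ℚ :=
    ((LinearMap.proj (none : GolayPt)).prod (LinearMap.proj (some 0 : GolayPt))).comp I.subtype
  have hE : Function.Injective E := by
    rw [injective_iff_map_eq_zero]
    rintro ⟨f, hfx, hfy⟩ hf
    have h0 : f none = 0 := congrArg Prod.fst hf
    have h1 : f (some 0) = 0 := congrArg Prod.snd hf
    have hinv : ∀ g ∈ Spor.M23, ∀ a, f (g a) = f a := by
      intro g hg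
      have hmem : (⟨g, hg⟩ : Spor.M23) ∈ Subgroup.closure {x, y} := hgen ▸ trivial
      refine Subgroup.closure_induction (p := fun (k : Spor.M23) _ => ∀ a, f ((k : Equiv.Perm GolayPt) a) = f a)
        ?_ (fun a => rfl) (fun k l _ _ hk hl a => ?_) (fun k _ hk a => ?_) hmem
      · rintro k (rfl | rfl)
        exacts [hfx, hfy]
      · show f ((k : Equiv.Perm GolayPt) ((l : Equiv.Perm GolayPt) a)) = _
        rw [hk, hl]
      · rw [← hk]
        simp
    refine Subtype.ext (funext fun a => ?_)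
    show f a = 0
    rcases eq_or_ne a none with rfl | ha
    · exact h0
    haveI := stabilizer_two_transitive (none : GolayPt)
    haveI : IsPretransitive (stabilizer M24 (none : GolayPt)) (SubMulAction.ofStabilizer M24 (none : GolayPt)) :=
      isPretransitive_of_is_two_pretransitive
    obtain ⟨k, hk⟩ := exists_smul_eq (stabilizer M24 (none : GolayPt))
      (⟨some 0, by simp [SubMulAction.mem_ofStabilizer_iff]⟩ : SubMulAction.ofStabilizer M24 (none : GolayPt))
      ⟨a, by simpa [SubMulAction.mem_ofStabilizer_iff] using ha⟩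
    have hk' : ((k : M24) : Equiv.Perm GolayPt) (some 0) = a := congrArg Subtype.val hk
    rw [← hk', hinv _ ⟨(k : M24).2, k.2⟩, h1]
  calc Module.finrank ℚ ↥I ≤ Module.finrank ℚ (ℚ × ℚ) := LinearMap.finrank_le_finrank_of_injective hE
    _ = 2 := by simp

end Cfsg.Lib.Concrete
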