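import Mathlib

/-!
# Closure of a set of numbers under maps, as bit masks
-/

set_option autoImplicit false

namespace Cfsg.Lib.Concrete.ReachMask

/-- One breadth-first step on masks. -/
def grow (N : ℕ) (fs : List (ℕ → ℕ)) (m : ℕ) : ℕ :=
  (List.range N).foldl (fun r c =>
    if Nat.testBit m c then fs.foldl (fun r f => Nat.lor r (2 ^ f c)) r else r) m

/-- Several steps. -/
def reach (N : ℕ) (fs : List (ℕ → ℕ)) : ℕ → ℕ → ℕ
  | 0, m => m
  | k + 1, m => reach N fs k (grow N fs m)

theorem grow_sound {N : ℕ} {fs : List (ℕ → ℕ)} {P : ℕ → Prop} (hP : ∀ c < N, P c → ∀ f ∈ fs, P (f c))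
    {m : ℕ} (hm : ∀ c, m.testBit c = true → P c) : ∀ c, (grow N fs m).testBit c = true → P c := by
  unfold grow
  have key : ∀ (l : List ℕ) (r : ℕ), (∀ c ∈ l, c < N) → (∀ c, r.testBit c = true → P c) →
      ∀ c, (l.foldl (fun r c => if Nat.testBit m c then fs.foldl (fun r f => Nat.lor r (2 ^ f c)) r else r)
        r).testBit c = true → P c := by
    intro l
    induction l with
    | nil => intro r _ hr; exact hr
    | cons a l ih =>
      intro r hl hr
      rw [List.foldl_cons]
      refine ih _ (fun c hc => hl c (List.mem_cons_of_mem _ hc)) ?_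
      split
      · rename_i ha
        have hPa := hm a ha
        have h2 : ∀ (gs : List (ℕ → ℕ)) (r : ℕ), (∀ f ∈ gs, f ∈ fs) → (∀ c, r.testBit c = true → P c) →
            ∀ c, (gs.foldl (fun r f => Nat.lor r (2 ^ f a)) r).testBit c = true → P c := by
          intro gs
          induction gs with
          | nil => intro r _ hr; exact hr
          | cons f gs ihg =>
            intro r hgs hr
            rw [List.foldl_cons]
            refine ihg _ (fun x hx => hgs x (List.mem_cons_of_mem _ hx)) fun c hc => ?_
            rw [show Nat.lor r (2 ^ f a) = r ||| 2 ^ f a from rfl, Nat.testBit_or, Bool.or_eq_true,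
              Nat.testBit_two_pow, decide_eq_true_iff] at hc
            rcases hc with hc | rfl
            · exact hr c hc
            · exact hP a (hl a List.mem_cons_self) hPa f (hgs f List.mem_cons_self)
        exact h2 fs r (fun _ h => h) hr
      · exact hr
  exact key (List.range N) m (fun c hc => List.mem_range.mp hc) hm

theorem reach_sound {N : ℕ} {fs : List (ℕ → ℕ)} {P : ℕ → Prop} (hP : ∀ c < N, P c → ∀ f ∈ fs, P (f c)) :
    ∀ (k m : ℕ), (∀ c, m.testBit c = true → P c) → ∀ c, (reach N fs k m).testBit c = true → P c := by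
  intro k
  induction k with
  | zero => intro m hm; exact hm
  | succ k ih => intro m hm; exact ih _ (grow_sound hP hm)

end Cfsg.Lib.Concrete.ReachMask
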