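import Cfsg.Agent.Lib.Concrete.Ternary
import Cfsg.Agent.Lib.Concrete.MTwelve
import Cfsg.Agent.Lib.Concrete.TernaryMonomialData

/-!
The monomial automorphism group of the ternary code of length twelve.
-/

set_option autoImplicit false

namespace Cfsg.Lib.Concrete.Ternary

open MulAction
open scoped Pointwise

/-- The hexad system of the ternary code. -/
abbrev thexads : Set (Finset ArrayPt) :=
  {h : Finset ArrayPt | ∃ x ∈ ternaryGolayCode, ternarySupport x = h ∧ h.card = 6}

/-- Preservation of the code by a monomial map. -/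
def Good (σ : Equiv.Perm ArrayPt) (c : ArrayPt → (ZMod 3)ˣ) : Prop :=
  ∀ x ∈ ternaryGolayCode, monomialMap σ c x ∈ ternaryGolayCode

theorem monomialMap_comp (σ τ : Equiv.Perm ArrayPt) (c d : ArrayPt → (ZMod 3)ˣ) (x : ArrayPt → ZMod 3) :
    monomialMap σ c (monomialMap τ d x) = monomialMap (σ * τ) (fun i => c i * d (σ.symm i)) x := by
  funext i
  simp only [monomialMap, Units.val_mul, Equiv.Perm.mul_def, Equiv.symm_trans_apply, mul_assoc]

theorem monomialMap_smul (σ : Equiv.Perm ArrayPt) (c : ArrayPt → (ZMod 3)ˣ) (a : ZMod 3) (x : ArrayPt → ZMod 3) :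
    monomialMap σ c (a • x) = a • monomialMap σ c x := by
  funext i
  simp only [monomialMap, Pi.smul_apply, smul_eq_mul]
  ring

theorem monomialMap_add (σ : Equiv.Perm ArrayPt) (c : ArrayPt → (ZMod 3)ˣ) (x y : ArrayPt → ZMod 3) :
    monomialMap σ c (x + y) = monomialMap σ c x + monomialMap σ c y := by
  funext i
  simp only [monomialMap, Pi.add_apply]
  ring

/-- Linear form of a monomial map. -/
def monomialLin (σ : Equiv.Perm ArrayPt) (c : ArrayPt → (ZMod 3)ˣ) :
    (ArrayPt → ZMod 3) →ₗ[ZMod 3] (ArrayPt → ZMod 3) where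
  toFun := monomialMap σ c
  map_add' := monomialMap_add σ c
  map_smul' := monomialMap_smul σ c

theorem monomialMap_injective (σ : Equiv.Perm ArrayPt) (c : ArrayPt → (ZMod 3)ˣ) :
    Function.Injective (monomialMap σ c) := by
  intro x y h
  funext i
  have := congrFun h (σ i)
  simpa [monomialMap] using this

/-- Permutation parts of monomial automorphisms. -/
def permParts : Subgroup (Equiv.Perm ArrayPt) where
  carrier := {σ | ∃ c, Good σ c}
  mul_mem' := by
    rintro σ τ ⟨c, hc⟩ ⟨d, hd⟩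
    exact ⟨_, fun x hx => monomialMap_comp σ τ c d x ▸ hc _ (hd x hx)⟩
  one_mem' := ⟨fun _ => 1, fun x hx => by
    have : monomialMap 1 (fun _ => (1 : (ZMod 3)ˣ)) x = x := by
      funext i; simp [monomialMap, Equiv.Perm.one_def]
    rwa [this]⟩
  inv_mem' := by
    rintro σ ⟨c, hc⟩
    have hpow : ∀ n : ℕ, ∃ d, Good (σ ^ n) d := by
      intro n
      induction n with
      | zero =>
        refine ⟨fun _ => 1, fun x hx => ?_⟩
        have : monomialMap (σ ^ 0) (fun _ => (1 : (ZMod 3)ˣ)) x = x := by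
          funext i; simp [monomialMap, Equiv.Perm.one_def]
        rwa [this]
      | succ n ih =>
        obtain ⟨d, hd⟩ := ih
        rw [pow_succ]
        exact ⟨_, fun x hx => monomialMap_comp (σ ^ n) σ d c x ▸ hd _ (hc x hx)⟩
    have hinv : σ⁻¹ = σ ^ (orderOf σ - 1) := by
      rw [inv_eq_iff_mul_eq_one, ← pow_succ', Nat.sub_add_cancel (orderOf_pos σ), pow_orderOf_eq_one]
    rw [Set.mem_ofPred_eq, hinv]
    exact hpow _

theorem permParts_le : permParts ≤ setSystemAut thexads := by
  rintro σ ⟨c, hc⟩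
  refine mem_setSystemAut_of_subset fun h hh => ?_
  obtain ⟨x, hx, rfl, hcard⟩ := hh
  have hs : σ • ternarySupport x = ternarySupport (monomialMap σ c x) := by
    ext p
    rw [Finset.smul_finset_def, Finset.mem_image]
    simp only [ternarySupport, Finset.mem_filter, Finset.mem_univ, true_and, monomialMap, ne_eq,
      mul_eq_zero, Units.ne_zero, false_or, Equiv.Perm.smul_def]
    exact ⟨fun ⟨q, hq, he⟩ => by subst he; simpa using hq, fun h => ⟨σ.symm p, h, by simp⟩⟩
  exact ⟨_, hc x hx, hs.symm, by rw [Finset.card_smul_finset, hcard]⟩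

/-- The twelve positions as an equivalence. -/
def tequiv : ArrayPt ≃ Fin 12 :=
  ⟨fun p => ⟨tidx p, tidx_lt p⟩, tpt, tpt_tidx, fun k => Fin.ext (tidx_tpt k)⟩

/-- Position function of a list. -/
def gfun (g : List ℕ) (k : Fin 12) : Fin 12 := Fin.ofNat 12 (g.getD k.val 0)

/-- The image of a word under a certificate. -/
def tmove (h : List ℕ) (m l : ℕ) : ℕ :=
  horner (tpos.map fun k =>
    bif Nat.beq (Nat.land (Nat.shiftRight m k) 1) 1 then Nat.mod (Nat.sub 3 (dget l (h.getD k 0))) 3
    else dget l (h.getD k 0))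

theorem monCerts_check :
    monCerts.all (fun e => infoBasis.all fun l => isT (tmove e.2.1 e.2.2 l)) = true ∧
    monCerts.all (fun e => tpos.all fun k => Nat.blt (e.2.1.getD k 0) 12) = true ∧
    (∀ e ∈ monCerts, ∀ k : Fin 12, gfun e.1 (gfun e.2.1 k) = k ∧ gfun e.2.1 (gfun e.1 k) = k) := by
  refine ⟨by decide +kernel, by decide +kernel, ?_⟩
  decide +kernel

theorem monCerts_moves : ∀ k : Fin 5, ∀ j : Fin 12, k.val ≤ j.val → ∃ e ∈ monCerts,
    (∀ i : Fin 12, i.val < k.val → gfun e.1 i = i) ∧ gfun e.1 (Fin.castLE (by norm_num) k) = j := by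
  decide +kernel

theorem infoBasis_check :
    infoBasis.all isT = true ∧ infoPos.all (fun k => Nat.blt k 12) = true ∧
    (tlist.all fun l => infoPos.any (fun k => !(Nat.beq (dget l k) 0)) || Nat.beq l 0) = true := by
  decide +kernel

theorem info_dual : ∀ i j : Fin 6,
    dget (infoBasis.getD j.val 0) (infoPos.getD i.val 0) = if i = j then 1 else 0 := by
  decide +kernel

theorem tword_mem {l : ℕ} (h : isT l = true) (hl : ∀ k < 12, dget l k < 3) (hr : tdigits (tword l) = l) :
    tword l ∈ ternaryGolayCode := by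
  show IsTernaryGolayWord (tword l)
  rw [isTernary_iff, hr]
  exact h

theorem infoBasis_tlist : ∀ i : Fin 6, infoBasis.getD i.val 0 ∈ tlist := by decide +kernel

theorem code_eq_combination {x : ArrayPt → ZMod 3} (hx : x ∈ ternaryGolayCode) :
    x = ∑ i : Fin 6, x (tpt (Fin.ofNat 12 (infoPos.getD i.val 0))) • tword (infoBasis.getD i.val 0) := by
  classical
  set y := x - ∑ i : Fin 6, x (tpt (Fin.ofNat 12 (infoPos.getD i.val 0))) • tword (infoBasis.getD i.val 0)
    with hy
  have hlt : ∀ i : Fin 6, infoPos.getD i.val 0 < 12 := by decide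
  have hym : y ∈ ternaryGolayCode :=
    sub_mem hx (sum_mem fun i _ => Submodule.smul_mem _ _ (mem_code_iff.2 ⟨_, infoBasis_tlist i, rfl⟩))
  obtain ⟨l, hl, hle⟩ := mem_code_iff.1 hym
  rcases eq_or_ne y 0 with h0 | h0
  · exact sub_eq_zero.1 h0
  exfalso
  have h := List.all_eq_true.1 infoBasis_check.2.2 l hl
  simp only [Bool.or_eq_true, List.any_eq_true, Bool.not_eq_true', Nat.beq_eq] at h
  rcases h with ⟨k, hk, hk0⟩ | rfl
  · obtain ⟨i, hi, rfl⟩ := List.getElem_of_mem hk
    have hi6 : i < 6 := hi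
    have hval : ∀ j : Fin 6, tword (infoBasis.getD j.val 0) (tpt (Fin.ofNat 12 (infoPos.getD i 0))) =
        if (⟨i, hi6⟩ : Fin 6) = j then 1 else 0 := by
      intro j
      have hd := info_dual ⟨i, hi6⟩ j
      show ((dget _ (tidx (tpt _)) : ℕ) : ZMod 3) = _
      rw [tidx_tpt, Fin.val_ofNat, Nat.mod_eq_of_lt (hlt ⟨i, hi6⟩), hd]
      split <;> simp
    have hz : y (tpt (Fin.ofNat 12 (infoPos.getD i 0))) = 0 := by
      rw [hy, Pi.sub_apply, Finset.sum_apply]
      simp only [Pi.smul_apply, smul_eq_mul, hval, mul_ite, mul_one, mul_zero, Finset.sum_ite_eq,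
        Finset.mem_univ, if_true]
      exact sub_self _
    rw [← hle] at hz
    have hz' : ((dget l (infoPos.getD i 0) : ℕ) : ZMod 3) = 0 := by
      have : tidx (tpt (Fin.ofNat 12 (infoPos.getD i 0))) = infoPos.getD i 0 := by
        rw [tidx_tpt, Fin.val_ofNat, Nat.mod_eq_of_lt (hlt ⟨i, hi6⟩)]
      rw [← this]
      exact hz
    have hd3 := dget_lt hl (hlt ⟨i, hi6⟩)
    rw [List.getD_eq_getElem _ _ hi] at hz' hd3
    rw [ZMod.natCast_eq_zero_iff, ] at hz'
    obtain ⟨q, hq⟩ := hz'
    rw [Nat.eq_of_beq_eq_true (show Nat.beq (dget l infoPos[i]) 0 = true by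
      rw [Nat.beq_eq]; omega)] at hk0
    exact absurd hk0 (by decide)
  · exact h0 (by rw [← hle]; funext p; simp [tword, dget])

theorem exists_cert_good {e : List ℕ × List ℕ × ℕ} (he : e ∈ monCerts) :
    ∃ σ ∈ permParts, ∀ p, tequiv (σ p) = gfun e.1 (tequiv p) := by
  classical
  obtain ⟨g, h, m⟩ := e
  have hinv := monCerts_check.2.2 _ he
  let π : Equiv.Perm (Fin 12) := ⟨gfun g, gfun h, fun k => (hinv k).2, fun k => (hinv k).1⟩
  let σ : Equiv.Perm ArrayPt := tequiv.symm.permCongr π
  let c : ArrayPt → (ZMod 3)ˣ := fun p => if m.testBit (tidx p) then -1 else 1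
  refine ⟨σ, ⟨c, ?_⟩, fun p => by simp [σ, π, Equiv.permCongr_apply]⟩
  have hb : ∀ i : Fin 6, monomialMap σ c (tword (infoBasis.getD i.val 0)) ∈ ternaryGolayCode := by
    intro i
    set l := infoBasis.getD i.val 0
    have hl : l ∈ tlist := infoBasis_tlist i
    show IsTernaryGolayWord _
    rw [isTernary_iff]
    have hT := List.all_eq_true.1 (List.all_eq_true.1 monCerts_check.1 _ he) l
      ((by decide : ∀ i : Fin 6, infoBasis.getD i.val 0 ∈ infoBasis) i)
    convert hT using 2
    rw [tmove, tdigits]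
    congr 1
    refine List.ext_getElem (by simp [tpos]) fun k hk1 hk2 => ?_
    have hk : k < 12 := by simpa using hk1
    have hh : h.getD k 0 < 12 := by
      have := List.all_eq_true.1 (List.all_eq_true.1 monCerts_check.2.1 _ he) k
        ((by decide : ∀ k < 12, k ∈ tpos) k hk)
      simpa [Nat.blt_eq] using this
    have hpk : ∀ (k : ℕ) (hk : k < tpos.length), tpos[k] = k := by decide
    rw [List.getElem_ofFn, List.getElem_map, hpk, tbit_eq]
    show ((c (tpt ⟨k, hk⟩) : ZMod 3) * ((dget l (tidx (σ.symm (tpt ⟨k, hk⟩))) : ℕ) : ZMod 3)).val = _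
    have hs : tidx (σ.symm (tpt ⟨k, hk⟩)) = h.getD k 0 := by
      show tidx (tpt (gfun h (tequiv (tpt ⟨k, hk⟩)))) = _
      rw [tidx_tpt, show tequiv (tpt ⟨k, hk⟩) = ⟨k, hk⟩ from tequiv.apply_symm_apply _]
      exact Nat.mod_eq_of_lt hh
    rw [hs]
    have hlt := dget_lt hl hh
    generalize dget l (h.getD k 0) = d at hlt
    simp only [c, tidx_tpt]
    cases m.testBit k <;> interval_cases d <;> decide
  intro x hx
  rw [code_eq_combination hx]
  show monomialLin σ c _ ∈ _
  rw [map_sum]
  exact sum_mem fun i _ => by rw [map_smul]; exact Submodule.smul_mem _ _ (hb i)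

/-- The first five points. -/
def firstFive : Fin 5 ↪ ArrayPt :=
  (Fin.castLEEmb (by norm_num : 5 ≤ 12)).trans tequiv.symm.toEmbedding

theorem permParts_transitive (y : Fin 5 ↪ ArrayPt) : ∃ σ ∈ permParts, ∀ i, σ (firstFive i) = y i := by
  suffices h : ∀ n ≤ 5, ∃ σ ∈ permParts, ∀ i : Fin 5, i.val < n → σ (firstFive i) = y i from
    (h 5 le_rfl).imp fun σ hσ => ⟨hσ.1, fun i => hσ.2 i i.isLt⟩
  intro n
  induction n with
  | zero => exact fun _ => ⟨1, one_mem _, fun i hi => absurd hi (Nat.not_lt_zero _)⟩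
  | succ n ih =>
    intro hn
    obtain ⟨σ, hσ, hfix⟩ := ih (by omega)
    set j := tequiv (σ.symm (y ⟨n, by omega⟩)) with hj
    have hle : n ≤ j.val := by
      by_contra hlt
      push Not at hlt
      have h1 := hfix ⟨j.val, by omega⟩ hlt
      have : firstFive ⟨j.val, by omega⟩ = σ.symm (y ⟨n, by omega⟩) := by
        show tequiv.symm _ = _
        rw [Equiv.symm_apply_eq, ← hj]
        exact Fin.ext rfl
      rw [this, Equiv.apply_symm_apply] at h1
      have := congrArg Fin.val (y.injective h1)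
      simp at this
      omega
    obtain ⟨e, he, hfix', hmove⟩ := monCerts_moves ⟨n, by omega⟩ j hle
    obtain ⟨τ, hτ, hτe⟩ := exists_cert_good he
    refine ⟨σ * τ, mul_mem hσ hτ, fun i hi => ?_⟩
    show σ (τ (firstFive i)) = y i
    rcases Nat.lt_succ_iff_lt_or_eq.1 hi with h | h
    · have : τ (firstFive i) = firstFive i := tequiv.injective (by
        rw [hτe]
        exact hfix' _ (by simpa [firstFive] using h))
      rw [this, hfix i h]
    · rw [show i = ⟨n, by omega⟩ from Fin.ext h]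
      have : τ (firstFive ⟨n, by omega⟩) = σ.symm (y ⟨n, by omega⟩) := tequiv.injective (by
        rw [hτe, ← hj, ← hmove]
        congr 1
        exact tequiv.apply_symm_apply _)
      rw [this, Equiv.apply_symm_apply]

theorem permParts_eq : permParts = setSystemAut thexads := by
  classical
  refine Subgroup.eq_of_le_of_card_ge permParts_le ?_
  rw [card_hex_aut (by simp) hexads_steiner]
  let f : permParts → (Fin 5 ↪ ArrayPt) := fun σ => firstFive.trans (σ : Equiv.Perm ArrayPt).toEmbedding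
  have hf : Function.Surjective f := fun y => by
    obtain ⟨σ, hσ, h⟩ := permParts_transitive y
    exact ⟨⟨σ, hσ⟩, Function.Embedding.ext h⟩
  refine le_trans ?_ (Nat.card_le_card_of_surjective f hf)
  rw [Nat.card_eq_fintype_card, Fintype.card_embedding_eq]
  simp [Nat.descFactorial]

theorem card_good_kernel : {d : ArrayPt → (ZMod 3)ˣ | Good 1 d} = {fun _ => 1, fun _ => -1} := by
  ext d
  constructor
  · intro hd
    rcases kernel_trivial d hd with h | h
    · exact Or.inl (funext h)
    · exact Or.inr (funext h)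
  · have key : ∀ u : (ZMod 3)ˣ, Good 1 (fun _ => u) := fun u x hx => by
      have : monomialMap 1 (fun _ => u) x = (u : ZMod 3) • x := by
        funext i; simp [monomialMap, Equiv.Perm.one_def]
      rw [this]
      exact Submodule.smul_mem _ _ hx
    rintro (rfl | rfl) <;> exact key _

theorem ncard_fibre {σ : Equiv.Perm ArrayPt} (hσ : σ ∈ permParts) :
    Nat.card {c : ArrayPt → (ZMod 3)ˣ // Good σ c} = 2 := by
  classical
  obtain ⟨c₀, h₀⟩ := hσ
  have hbij : Function.Bijective fun x : ternaryGolayCode => (⟨_, h₀ x x.2⟩ : ternaryGolayCode) :=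
    Finite.injective_iff_bijective.1 fun x y h =>
      Subtype.ext (monomialMap_injective σ c₀ (congrArg Subtype.val h))
  have hcomp : ∀ d x, monomialMap 1 d (monomialMap σ c₀ x) = monomialMap σ (d * c₀) x := by
    intro d x
    funext i
    simp [monomialMap, Equiv.Perm.one_def, mul_assoc]
  have hiff : ∀ d, Good 1 d ↔ Good σ (d * c₀) := by
    intro d
    refine ⟨fun hd x hx => hcomp d x ▸ hd _ (h₀ x hx), fun hd y hy => ?_⟩
    obtain ⟨x, hx⟩ := hbij.2 ⟨y, hy⟩
    rw [← show monomialMap σ c₀ x.1 = y from congrArg Subtype.val hx, hcomp]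
    exact hd _ x.2
  have e : {d : ArrayPt → (ZMod 3)ˣ // Good 1 d} ≃ {c : ArrayPt → (ZMod 3)ˣ // Good σ c} :=
    (Equiv.mulRight c₀).subtypeEquiv fun d => hiff d
  rw [← Nat.card_congr e]
  show Nat.card ↥{d : ArrayPt → (ZMod 3)ˣ | Good 1 d} = 2
  rw [Nat.card_coe_set_eq, card_good_kernel, Set.ncard_pair fun h => absurd (congrFun h (0, 0)) (by decide)]

theorem monomial_aut :
    Nat.card {f : Equiv.Perm ArrayPt × (ArrayPt → (ZMod 3)ˣ) // Good f.1 f.2} = 190080 ∧
    {σ : Equiv.Perm ArrayPt | ∃ c, Good σ c} = (setSystemAut thexads : Set (Equiv.Perm ArrayPt)) := by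
  classical
  refine ⟨?_, congrArg SetLike.coe permParts_eq⟩
  let e : {f : Equiv.Perm ArrayPt × (ArrayPt → (ZMod 3)ˣ) // Good f.1 f.2} ≃
      Σ σ : permParts, {c : ArrayPt → (ZMod 3)ˣ // Good σ.1 c} :=
    { toFun := fun f => ⟨⟨f.1.1, f.1.2, f.2⟩, ⟨f.1.2, f.2⟩⟩
      invFun := fun s => ⟨(s.1.1, s.2.1), s.2.2⟩
      left_inv := fun f => rfl
      right_inv := fun s => rfl }
  rw [Nat.card_congr e, Nat.card_sigma, Finset.sum_congr rfl fun σ _ => ncard_fibre σ.2, Finset.sum_const,
    Finset.card_univ, ← Nat.card_eq_fintype_card, permParts_eq, card_hex_aut (by simp) hexads_steiner]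
  rfl

end Cfsg.Lib.Concrete.Ternary
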