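import Cfsg.Agent.Lib.Concrete.MTwelveCoverData
import Cfsg.Agent.Lib.Concrete.ReachMask
import Cfsg.Agent.Lib.Concrete.TernaryMonomial
import Cfsg.Agent.Lib.Concrete.MathieuStem
import Cfsg.Agent.Lib.Schur.CoverBound

/-!
# The double cover of M12 and the multiplier of M12
-/

set_option autoImplicit false
set_option linter.unusedSimpArgs false

namespace Cfsg.Lib.Concrete.Cover12

open MulAction Ternary
open scoped Pointwise commutatorElement

/-- Signed positions. -/
abbrev SPt : Type := ArrayPt × (ZMod 3)ˣ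

/-- A monomial map on signed positions. -/
def rep2 (σ : Equiv.Perm ArrayPt) (c : ArrayPt → (ZMod 3)ˣ) : Equiv.Perm SPt where
  toFun x := (σ x.1, c (σ x.1) * x.2)
  invFun x := (σ.symm x.1, (c x.1)⁻¹ * x.2)
  left_inv x := by simp
  right_inv x := by simp

theorem rep2_mul (σ τ : Equiv.Perm ArrayPt) (c d : ArrayPt → (ZMod 3)ˣ) :
    rep2 σ c * rep2 τ d = rep2 (σ * τ) (fun i => c i * d (σ.symm i)) := by
  ext ⟨p, u⟩ <;> simp [rep2, mul_assoc]

theorem rep2_one : rep2 1 (fun _ => 1) = 1 := by
  ext ⟨p, u⟩ <;> simp [rep2]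

theorem good_comp {σ τ : Equiv.Perm ArrayPt} {c d : ArrayPt → (ZMod 3)ˣ} (hc : Good σ c) (hd : Good τ d) :
    Good (σ * τ) (fun i => c i * d (σ.symm i)) := fun x hx =>
  monomialMap_comp σ τ c d x ▸ hc _ (hd x hx)

/-- The monomial automorphisms as a monoid. -/
def monMonoid : Submonoid (Equiv.Perm SPt) where
  carrier := {g | ∃ σ c, Good σ c ∧ g = rep2 σ c}
  mul_mem' := by
    rintro _ _ ⟨σ, c, hc, rfl⟩ ⟨τ, d, hd, rfl⟩
    exact ⟨_, _, good_comp hc hd, rep2_mul σ τ c d⟩
  one_mem' := ⟨1, fun _ => 1, fun x hx => by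
    have : monomialMap 1 (fun _ => (1 : (ZMod 3)ˣ)) x = x := by
      funext i; simp [monomialMap, Equiv.Perm.one_def]
    rwa [this], rep2_one.symm⟩

/-- The double cover: all monomial automorphisms of the code. -/
def MG : Subgroup (Equiv.Perm SPt) where
  toSubmonoid := monMonoid
  inv_mem' := by
    intro g hg
    have hinv : g⁻¹ = g ^ (orderOf g - 1) := by
      rw [inv_eq_iff_mul_eq_one, ← pow_succ', Nat.sub_add_cancel (orderOf_pos g), pow_orderOf_eq_one]
    rw [hinv]
    exact monMonoid.pow_mem hg _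

theorem mem_MG {g : Equiv.Perm SPt} : g ∈ MG ↔ ∃ σ c, Good σ c ∧ g = rep2 σ c := Iff.rfl

/-- The permutation part. -/
noncomputable def permPart (g : MG) : Equiv.Perm ArrayPt := (mem_MG.1 g.2).choose

theorem permPart_spec (g : MG) : ∃ c, Good (permPart g) c ∧ (g : Equiv.Perm SPt) = rep2 (permPart g) c :=
  (mem_MG.1 g.2).choose_spec

theorem permPart_apply (g : MG) (p : ArrayPt) (u : (ZMod 3)ˣ) :
    ((g : Equiv.Perm SPt) (p, u)).1 = permPart g p := by
  obtain ⟨c, -, h⟩ := permPart_spec g
  rw [h]; rfl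

/-- The projection to the permutation parts. -/
noncomputable def proj : MG →* permParts :=
  MonoidHom.mk' (fun g => ⟨permPart g, (permPart_spec g).imp fun _ h => h.1⟩) fun g h =>
    Subtype.ext (Equiv.ext fun p => by
      show permPart (g * h) p = permPart g (permPart h p)
      rw [← permPart_apply (g * h) p 1, Subgroup.coe_mul, Equiv.Perm.mul_apply, ← permPart_apply h p 1,
        ← permPart_apply g _ ((h : Equiv.Perm SPt) (p, 1)).2])

theorem coe_proj (g : MG) : ((proj g : permParts) : Equiv.Perm ArrayPt) = permPart g := rfl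

theorem proj_surjective : Function.Surjective proj := by
  rintro ⟨σ, c, hc⟩
  exact ⟨⟨rep2 σ c, σ, c, hc, rfl⟩, Subtype.ext (Equiv.ext fun p =>
    (permPart_apply ⟨rep2 σ c, σ, c, hc, rfl⟩ p 1).symm)⟩

theorem neg_good : Good 1 (fun _ => (-1 : (ZMod 3)ˣ)) := by
  have h : (fun _ => (-1 : (ZMod 3)ˣ)) ∈ {d : ArrayPt → (ZMod 3)ˣ | Good 1 d} := by
    rw [card_good_kernel]; exact Or.inr rfl
  exact h

/-- The sign change. -/
def tau : MG := ⟨rep2 1 (fun _ => -1), 1, fun _ => -1, neg_good, rfl⟩

theorem tau_sq : tau * tau = 1 := Subtype.ext (by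
  show rep2 1 (fun _ => (-1 : (ZMod 3)ˣ)) * rep2 1 (fun _ => -1) = 1
  rw [rep2_mul, ← rep2_one]
  simp)

theorem ker_cases {g : MG} (hg : proj g = 1) : g = 1 ∨ g = tau := by
  obtain ⟨c, hc, h⟩ := permPart_spec g
  have h1 : permPart g = 1 := congrArg Subtype.val hg
  rw [h1] at hc h
  have hmem : c ∈ ({fun _ => 1, fun _ => -1} : Set (ArrayPt → (ZMod 3)ˣ)) := by
    rw [← card_good_kernel]; exact hc
  rcases hmem with rfl | rfl
  · exact Or.inl (Subtype.ext (h.trans rep2_one))
  · exact Or.inr (Subtype.ext h)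

theorem tau_ne_one : tau ≠ 1 := fun h => by
  have h1 := congrArg (fun g : MG => (g : Equiv.Perm SPt) ((0, 0), 1)) h
  revert h1
  show rep2 1 (fun _ => (-1 : (ZMod 3)ˣ)) ((0, 0), 1) = ((0, 0), 1) → False
  decide

theorem tau_mem_ker : tau ∈ proj.ker := Subtype.ext (Equiv.ext fun p => (permPart_apply tau p 1).symm)

theorem ker_le_center : proj.ker ≤ Subgroup.center MG := by
  intro g hg
  rcases ker_cases hg with rfl | rfl
  · exact one_mem _
  · refine Subgroup.mem_center_iff.2 fun x => Subtype.ext ?_
    obtain ⟨c, -, hx⟩ := permPart_spec x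
    show (x : Equiv.Perm SPt) * rep2 1 (fun _ => -1) = rep2 1 (fun _ => -1) * (x : Equiv.Perm SPt)
    rw [hx, rep2_mul, rep2_mul, mul_one, one_mul]
    congr 1
    funext i
    exact mul_comm _ _

theorem card_ker : Nat.card proj.ker = 2 := by
  have h : (proj.ker : Set MG) = {1, tau} := Set.ext fun g =>
    ⟨fun hg => ker_cases hg, fun hg => by rcases hg with rfl | rfl; exacts [one_mem _, tau_mem_ker]⟩
  rw [← SetLike.coe_sort_coe, Nat.card_coe_set_eq, h, Set.ncard_pair (Ne.symm tau_ne_one)]

theorem card_permParts : Nat.card permParts = 95040 := by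
  rw [permParts_eq, card_hex_aut (by simp) hexads_steiner]

theorem isSimple_permParts : IsSimpleGroup permParts := by
  haveI : IsSimpleGroup (setSystemAut thexads) := ((steiner_5612_aut (by simp) hexads_steiner).1).1
  exact (MulEquiv.subgroupCongr permParts_eq).isSimpleGroup_congr.2 inferInstance

theorem card_MG : Nat.card MG = 190080 := by
  have h := proj.ker.card_mul_index
  rw [Subgroup.index_ker, card_ker, MonoidHom.range_eq_top.2 proj_surjective, Subgroup.card_top, card_permParts] at h
  exact h.symm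

/-! ### The generators -/

/-- The position function of a generator. -/
def gP (i : ℕ) (k : Fin 12) : Fin 12 := gfun (genTrip i).1 k

/-- The inverse position function of a generator. -/
def gQ (i : ℕ) (k : Fin 12) : Fin 12 := gfun (genTrip i).2.1 k

theorem genTrip_inv : ∀ i : Fin 2, ∀ k : Fin 12, gP i (gQ i k) = k ∧ gQ i (gP i k) = k := by decide +kernel

/-- The signs of a generator. -/
def gC (i : ℕ) (p : ArrayPt) : (ZMod 3)ˣ := if (genTrip i).2.2.testBit (tidx p) then -1 else 1

/-- The permutation of a generator. -/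
def gS (i : Fin 2) : Equiv.Perm ArrayPt where
  toFun p := tpt (gP i (tequiv p))
  invFun p := tpt (gQ i (tequiv p))
  left_inv p := by
    show tpt (gQ i (tequiv (tpt (gP i (tequiv p))))) = p
    have : tequiv (tpt (gP i (tequiv p))) = gP i (tequiv p) := tequiv.apply_symm_apply _
    rw [this, (genTrip_inv i _).2]
    exact tequiv.symm_apply_apply p
  right_inv p := by
    show tpt (gP i (tequiv (tpt (gQ i (tequiv p))))) = p
    have : tequiv (tpt (gQ i (tequiv p))) = gQ i (tequiv p) := tequiv.apply_symm_apply _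
    rw [this, (genTrip_inv i _).1]
    exact tequiv.symm_apply_apply p

theorem gen_check : ∀ i : Fin 2, ∀ j : Fin 6,
    isT (tdigits (monomialMap (gS i) (gC i) (tword (infoBasis.getD j.val 0)))) = true := by
  decide +kernel

theorem gen_good (i : Fin 2) : Good (gS i) (gC i) := by
  intro x hx
  rw [code_eq_combination hx]
  show monomialLin (gS i) (gC i) _ ∈ _
  rw [map_sum]
  exact sum_mem fun j _ => by
    rw [map_smul]
    exact Submodule.smul_mem _ _ ((isTernary_iff _).2 (gen_check i j))

/-- The generators of the double cover. -/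
def gen (i : ℕ) : MG :=
  if i = 0 then ⟨rep2 (gS 0) (gC (0 : Fin 2).val), _, _, gen_good 0, rfl⟩
  else ⟨rep2 (gS 1) (gC (1 : Fin 2).val), _, _, gen_good 1, rfl⟩

/-- A signed position from its number. -/
def spt (n : ℕ) : SPt := (tpt (Fin.ofNat 12 n), if n < 12 then 1 else -1)

/-- The positions in tree order. -/
def posPt (x : ℕ) : SPt := spt (posList.getD x 0)

theorem pos_check : (∀ x : Fin 24, ∀ y : Fin 24, posPt x = posPt y → x = y) ∧
    (∀ i : Fin 2, ∀ x : Fin 24, (gen i : Equiv.Perm SPt) (posPt x) = posPt (m12S.tab i x)) ∧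
    (∀ i : Fin 2, ∀ x : Fin 24, m12T.tab i x = m12S.tab i x) ∧ (∀ p : SPt, ∃ x : Fin 24, posPt x = p) := by
  decide +kernel

/-- The value of a word. -/
def wordEl (W : List ℕ) : MG := wordProd gen W

theorem tau_word : ∀ p : SPt,
    ((⁅wordEl tauU, wordEl tauV⁆ ^ tauExp : MG) : Equiv.Perm SPt) p = (tau : Equiv.Perm SPt) p := by
  decide +kernel

theorem word_path (c : StemCert) (hsh : c.shapeOk = true) (hN : c.N = 24)
    (htab : ∀ i : Fin 2, ∀ x : Fin 24, c.tab i x = m12S.tab i x) :
    ∀ W : List ℕ, (∀ i ∈ W, i < 2) → ∀ x < c.N,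
      ((wordProd gen W : MG) : Equiv.Perm SPt) (posPt x) = posPt (c.endPt W x) := by
  intro W
  induction W with
  | nil => intro _ x _; simp [wordProd, StemCert.endPt]
  | cons i W ih =>
    intro hW x hx
    have hW' : ∀ j ∈ W, j < 2 := fun j hj => hW j (List.mem_cons_of_mem _ hj)
    have hi := hW i (List.mem_cons_self ..)
    have hy := StemCert.endPt_lt hsh hW' hx
    rw [show wordProd gen (i :: W) = gen i * wordProd gen W by simp [wordProd], Subgroup.coe_mul,
      Equiv.Perm.mul_apply, ih hW' x hx, StemCert.endPt, htab ⟨i, hi⟩ ⟨_, hN ▸ hy⟩]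
    exact pos_check.2.1 ⟨i, hi⟩ ⟨_, hN ▸ hy⟩

theorem rels_hold (c : StemCert) (hsh : c.shapeOk = true) (hN : c.N = 24)
    (htab : ∀ i : Fin 2, ∀ x : Fin 24, c.tab i x = m12S.tab i x) : ∀ W ∈ c.rels, wordProd gen W = 1 := by
  intro W hW
  obtain ⟨h2, hfix⟩ := StemCert.shape_rel hsh hW
  refine Subtype.ext (Equiv.ext fun p => ?_)
  obtain ⟨x, rfl⟩ := pos_check.2.2.2 p
  have hx : (x : ℕ) < c.N := by rw [hN]; exact x.isLt
  rw [word_path c hsh hN htab W h2 x hx, hfix x hx]
  rfl

/-- The generators on quadruples of positions. -/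
def quadFun (i : ℕ) (c : ℕ) : ℕ :=
  1728 * (gP i (Fin.ofNat 12 (c / 1728))).val + 144 * (gP i (Fin.ofNat 12 (c / 144 % 12))).val +
    12 * (gP i (Fin.ofNat 12 (c / 12 % 12))).val + (gP i (Fin.ofNat 12 (c % 12))).val

/-- The orbit of a quadruple. -/
def quadMask : ℕ := ReachMask.reach 20736 [quadFun 0, quadFun 1] 22 (2 ^ 171)

theorem quad_count : 11880 ≤ ((List.range 20736).filter fun c => Nat.testBit quadMask c).length := by
  decide +kernel

theorem closure_gen : Subgroup.closure {g : MG | g = gen 0 ∨ g = gen 1} = ⊤ := by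
  set H := Subgroup.closure {g : MG | g = gen 0 ∨ g = gen 1} with hH
  have hg : ∀ i, gen i ∈ H := fun i => Subgroup.subset_closure (by
    unfold gen
    by_cases h : i = 0
    · exact Or.inl (by rw [if_pos h, if_pos rfl])
    · exact Or.inr (by rw [if_neg h, if_neg one_ne_zero]))
  have hτ : tau ∈ H := by
    have hw : ∀ W : List ℕ, wordEl W ∈ H := fun W =>
      Subgroup.list_prod_mem _ fun g hg' => by
        obtain ⟨i, -, rfl⟩ := List.mem_map.1 hg'
        exact hg i
    have : tau = ⁅wordEl tauU, wordEl tauV⁆ ^ tauExp := Subtype.ext (Equiv.ext fun p => (tau_word p).symm)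
    rw [this, commutatorElement_def]
    exact pow_mem (mul_mem (mul_mem (mul_mem (hw _) (hw _)) (inv_mem (hw _))) (inv_mem (hw _))) _
  haveI := isSimple_permParts
  set K := H.map proj with hK
  have hbound : 11880 ≤ Nat.card K := by
    refine quad_count.trans ?_
    rw [← List.toFinset_card_of_nodup (List.nodup_range.filter _), ← Nat.card_eq_finsetCard]
    let F : K → ℕ := fun g =>
      1728 * (tequiv ((g : permParts).1 (tpt 0))).val + 144 * (tequiv ((g : permParts).1 (tpt 1))).val +
        12 * (tequiv ((g : permParts).1 (tpt 2))).val + (tequiv ((g : permParts).1 (tpt 3))).val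
    have hsub : ∀ c, quadMask.testBit c = true → c ∈ Set.range F := by
      refine ReachMask.reach_sound (fun c _ hP f hf => ?_) 22 _ fun c hc => ?_
      · obtain ⟨g, rfl⟩ := hP
        obtain ⟨i, rfl⟩ : ∃ i : Fin 2, f = quadFun i := by
          simp at hf; rcases hf with rfl | rfl
          exacts [⟨0, rfl⟩, ⟨1, rfl⟩]
        refine ⟨⟨proj (gen i), Subgroup.mem_map_of_mem _ (hg _)⟩ * g, ?_⟩
        have hpi : ∀ p : ArrayPt, tequiv ((proj (gen i) : permParts).1 p) = gP i (tequiv p) := fun p => by
          rw [coe_proj, ← permPart_apply (gen i) p 1]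
          fin_cases i <;> exact tequiv.apply_symm_apply _
        simp only [F, Subgroup.coe_mul, Equiv.Perm.mul_apply, hpi, quadFun]
        generalize tequiv ((g : permParts).1 (tpt 0)) = a
        generalize tequiv ((g : permParts).1 (tpt 1)) = b
        generalize tequiv ((g : permParts).1 (tpt 2)) = d
        generalize tequiv ((g : permParts).1 (tpt 3)) = e
        obtain ⟨a, ha⟩ := a; obtain ⟨b, hb⟩ := b; obtain ⟨d, hd⟩ := d; obtain ⟨e, he⟩ := e
        have e1 : (1728 * a + 144 * b + 12 * d + e) / 1728 = a := by omega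
        have e2 : (1728 * a + 144 * b + 12 * d + e) / 144 % 12 = b := by omega
        have e3 : (1728 * a + 144 * b + 12 * d + e) / 12 % 12 = d := by omega
        have e4 : (1728 * a + 144 * b + 12 * d + e) % 12 = e := by omega
        simp only [e1, e2, e3, e4, Fin.ofNat, Nat.mod_eq_of_lt ha, Nat.mod_eq_of_lt hb, Nat.mod_eq_of_lt hd,
          Nat.mod_eq_of_lt he]
      · rw [Nat.testBit_two_pow, decide_eq_true_iff] at hc
        refine ⟨1, ?_⟩
        subst hc
        decide +kernel
    haveI := (Set.finite_range F).to_subtype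
    refine le_trans ?_ (Finite.card_range_le F)
    exact Nat.card_le_card_of_injective
      (fun c => (⟨c.1, hsub _ (List.mem_filter.mp (List.mem_toFinset.mp c.2)).2⟩ : Set.range F))
      fun a b h => Subtype.ext (congrArg (fun t : Set.range F => (t : ℕ)) h)
  have hKtop : K = ⊤ := by
    rcases IsSimpleGroup.eq_bot_or_eq_top_of_normal K.normalCore inferInstance with h | h
    · exfalso
      have hd : K.normalCore.index ∣ K.index.factorial := by
        rw [Subgroup.normalCore_eq_ker, Subgroup.index_ker, Subgroup.index_eq_card, ← Nat.card_perm]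
        exact Subgroup.card_subgroup_dvd_card _
      rw [h, Subgroup.index_bot, card_permParts] at hd
      have hi := K.card_mul_index
      rw [card_permParts] at hi
      have hi8 : K.index ≤ 8 := by nlinarith
      have := Nat.le_of_dvd (Nat.factorial_pos _) hd
      have : K.index.factorial ≤ Nat.factorial 8 := Nat.factorial_le hi8
      simp [Nat.factorial] at this
      omega
    · exact top_le_iff.mp (h ▸ K.normalCore_le)
  have hker : proj.ker ≤ H := fun g hg' => by
    rcases ker_cases hg' with rfl | rfl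
    exacts [one_mem _, hτ]
  rw [← sup_eq_left.2 hker, ← Subgroup.comap_map_eq, ← hK, hKtop, Subgroup.comap_top]

theorem tau_mem_commutator : tau ∈ commutator MG := by
  have : tau = ⁅wordEl tauU, wordEl tauV⁆ ^ tauExp := Subtype.ext (Equiv.ext fun p => (tau_word p).symm)
  rw [this, commutator_def]
  exact pow_mem (Subgroup.commutator_mem_commutator (Subgroup.mem_top _) (Subgroup.mem_top _)) _

theorem proj_stem : IsStemExtension proj :=
  ⟨proj_surjective, ker_le_center, fun g hg => by
    rcases ker_cases hg with rfl | rfl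
    exacts [one_mem _, tau_mem_commutator]⟩

/-! ### The stabiliser of a signed position -/

theorem index_stab : (stabilizer MG (posPt 0)).index = 24 := by
  have horb : orbit MG (posPt 0) = Set.univ := by
    refine Set.eq_univ_of_forall fun p => ?_
    obtain ⟨x, rfl⟩ := pos_check.2.2.2 p
    have hsh : m12S.shapeOk = true := by decide +kernel
    suffices ∀ n, n < 24 → posPt n ∈ orbit MG (posPt 0) from this x x.isLt
    intro n
    induction n using Nat.strong_induction_on with
    | _ n ih =>
      intro hn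
      rcases Nat.eq_zero_or_pos n with rfl | hpos
      · exact mem_orbit_self _
      obtain ⟨hlt, htab⟩ := StemCert.shape_par hsh hpos hn
      obtain ⟨g, hg⟩ := ih _ hlt (by omega)
      refine ⟨gen (m12S.pi' n) * g, ?_⟩
      show ((gen (m12S.pi' n) * g : MG) : Equiv.Perm SPt) (posPt 0) = _
      rw [Subgroup.coe_mul, Equiv.Perm.mul_apply, show (g : Equiv.Perm SPt) (posPt 0) = posPt (m12S.px n) from hg]
      exact (pos_check.2.1 ⟨_, m12S.pi'_lt n⟩ ⟨m12S.px n, by omega⟩).trans (congrArg posPt htab)
  rw [index_stabilizer, horb, Set.ncard_univ]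
  simp [Nat.card_prod, ZMod.card_units]
  rfl

theorem stab_iso : Nonempty (stabilizer MG (posPt 0) ≃* g11) := by
  obtain ⟨e, he, -⟩ := hex_model (by simp) hexads_steiner firstFive
  obtain ⟨σ, hσ, hσ0⟩ := permParts_transitive (firstFive.setValue 0 (e.symm 11))
  have hσ' : σ (tpt 0) = e.symm 11 := by
    have h := hσ0 0
    rw [Function.Embedding.setValue_eq] at h
    exact h
  let Φ₀ : permParts ≃* stabilizer M24 baseDodecad :=
    (MulEquiv.subgroupCongr permParts_eq).trans ((autEquivOfIso e he).trans dodStdEquiv.symm)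
  let Φ : permParts ≃* stabilizer M24 baseDodecad := (MulAut.conj (⟨σ, hσ⟩ : permParts)).trans Φ₀
  let ψ : stabilizer MG (posPt 0) →* Equiv.Perm GolayPt :=
    (M24.subtype.comp (stabilizer M24 baseDodecad).subtype).comp
      (Φ.toMonoidHom.comp (proj.comp (stabilizer MG (posPt 0)).subtype))
  have hψinj : Function.Injective ψ := (injective_iff_map_eq_one ψ).2 fun g hg => by
    have h1 : Φ (proj g.1) = 1 := Subtype.ext (Subtype.ext hg)
    have h2 : proj g.1 = 1 := by simpa using h1
    rcases ker_cases h2 with h | h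
    · exact Subtype.ext h
    · exfalso
      have h3 : ((g.1 : MG) : Equiv.Perm SPt) (posPt 0) = posPt 0 := g.2
      rw [h] at h3
      revert h3
      show (tau : Equiv.Perm SPt) (posPt 0) = posPt 0 → False
      decide +kernel
  have hψle : ψ.range ≤ g11 := by
    rintro _ ⟨g, rfl⟩
    refine mem_mSub.2 ⟨(Φ (proj g.1)).1.2, fun j hj => ?_, (Φ (proj g.1)).2⟩
    obtain rfl : j = 0 := by omega
    show (Φ (proj g.1)).1.1 (bp 0) = bp 0
    have hb : bp 0 = dodPt 11 := by decide +kernel
    have hfix : (proj g.1 : permParts).1 (tpt 0) = tpt 0 := by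
      have h3 : ((g.1 : MG) : Equiv.Perm SPt) (posPt 0) = posPt 0 := g.2
      have hpp : posPt 0 = (tpt 0, 1) := by decide +kernel
      rw [coe_proj, ← permPart_apply g.1 (tpt 0) 1]
      exact (congrArg (fun z => (((g.1 : MG) : Equiv.Perm SPt) z).1) hpp).symm.trans
        ((congrArg Prod.fst h3).trans (congrArg Prod.fst hpp))
    rw [hb, ← dodToStd_spec (Φ (proj g.1)) 11]
    congr 1
    set π : permParts := MulAut.conj (⟨σ, hσ⟩ : permParts) (proj g.1) with hπ
    have hΦ : dodToStd (Φ₀ π) = e.permCongr π.1 :=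
      congrArg Subtype.val (dodStdEquiv.apply_symm_apply (autEquivOfIso e he (MulEquiv.subgroupCongr permParts_eq π)))
    show dodToStd (Φ₀ π) 11 = 11
    rw [hΦ, Equiv.permCongr_apply, ← hσ', hπ]
    show e (σ ((proj g.1 : permParts).1 (σ.symm (σ (tpt 0))))) = 11
    rw [Equiv.symm_apply_apply, hfix, hσ', Equiv.apply_symm_apply]
  have hcard : Nat.card (stabilizer MG (posPt 0)) = 7920 := by
    have h := (stabilizer MG (posPt 0)).card_mul_index
    rw [index_stab, card_MG] at h
    omega
  have hr : ψ.range = g11 := Subgroup.eq_of_le_of_card_ge hψle (by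
    rw [← Nat.card_congr (MonoidHom.ofInjective hψinj).toEquiv, hcard, card_g11])
  exact ⟨(MonoidHom.ofInjective hψinj).trans (MulEquiv.subgroupCongr hr)⟩

theorem liftsAt_stab (p : ℕ) (hp : p.Prime) : LiftsAt p (stabilizer MG (posPt 0)) := by
  obtain ⟨e⟩ := stab_iso
  refine liftsAt_of_noStem hp ?_ (NoStem.of_equiv e.symm (noStem_M11 p hp))
  have h : commutator g11 = ⊤ := by
    apply Subgroup.map_injective g11.subtype_injective
    rw [commutator_def, Subgroup.map_commutator, ← MonoidHom.range_eq_map, Subgroup.range_subtype]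
    exact perfect_dod_one
  have h2 : commutator (stabilizer MG (posPt 0)) = ⊤ := by
    rw [commutator_def, ← Subgroup.map_top_of_surjective e.symm.toMonoidHom e.symm.surjective,
      ← Subgroup.map_commutator, ← commutator_def, h, Subgroup.map_top_of_surjective _ e.symm.surjective]
  have h3 := congrArg (Subgroup.map (stabilizer MG (posPt 0)).subtype) h2
  rwa [commutator_def, Subgroup.map_commutator, ← MonoidHom.range_eq_map, Subgroup.range_subtype] at h3

theorem noStem_of_table {p : ℕ} [Fact p.Prime] (c : StemCert) (A : SVec p c.m) (hc : c.check A = true)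
    (hN : c.N = 24) (htab : ∀ i : Fin 2, ∀ x : Fin 24, c.tab i x = m12S.tab i x) : NoStem p MG := by
  have hsh : c.shapeOk = true := by
    simp only [StemCert.check, Bool.and_eq_true] at hc
    exact hc.1.1.1.1
  refine noStem_of_cert c A hc posPt gen closure_gen (fun i hi x hx => ?_) (fun y hy he => ?_)
    (rels_hold c hsh hN htab) (liftsAt_stab p Fact.out)
  · rw [htab ⟨i, hi⟩ ⟨x, hN ▸ hx⟩]
    exact pos_check.2.1 ⟨i, hi⟩ ⟨x, hN ▸ hx⟩
  · exact congrArg Fin.val (pos_check.1 ⟨y, hN ▸ hy⟩ 0 he)

theorem noStem_MG (p : ℕ) (hp : p.Prime) : NoStem p MG := by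
  haveI := Fact.mk hp
  by_cases h2 : p = 2
  · subst h2
    exact noStem_of_table m12S (xorVec _) (by decide +kernel) rfl (fun _ _ => rfl)
  by_cases h3 : p = 3
  · subst h3
    exact noStem_of_table m12T (digitVec 3 _) (by decide +kernel) rfl pos_check.2.2.1
  refine noStem_of_not_sq_dvd hp fun hd => ?_
  rw [card_MG] at hd
  have h1 : p ∣ 190080 := (dvd_pow_self p two_ne_zero).trans hd
  rcases prime_dvd_cases hp (a := 7) (b := 3) (h1.trans (by norm_num)) with
    rfl | rfl | rfl | rfl | rfl | rfl <;> first | omega | (norm_num at hd)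

theorem multiplier_sporM12 : Cfsg.HasCyclicSchurMultiplier Spor.M12 2 := by
  obtain ⟨g, hg, hgd⟩ := M24_dodecad_transitive squareDodecad_mem baseDodecad_mem
  obtain ⟨e, he, -⟩ := hex_model (by simp) hexads_steiner firstFive
  let E : permParts ≃* Spor.M12 :=
    (((MulEquiv.subgroupCongr permParts_eq).trans ((autEquivOfIso e he).trans dodStdEquiv.symm)).trans
      (stabilizerEquivStabilizer (g := (⟨g, hg⟩ : M24)) (a := Spor.squareDodecad) (b := baseDodecad) hgd.symm).symm).trans
      sporM12Equiv
  have hstem : IsStemExtension (E.toMonoidHom.comp proj) := by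
    have hk : (E.toMonoidHom.comp proj).ker = proj.ker := by
      ext x; simp [MonoidHom.mem_ker]
    exact ⟨E.surjective.comp proj_surjective, hk ▸ ker_le_center, hk ▸ proj_stem.2.2⟩
  have hperf : commutator Spor.M12 = ⊤ := by
    haveI := isSimple_sporM12
    rcases IsSimpleGroup.eq_bot_or_eq_top_of_normal (commutator Spor.M12) inferInstance with h | h
    · exfalso
      have hcomm : ∀ a b : Spor.M12, a * b = b * a := fun a b => by
        have hm : ⁅a, b⁆ ∈ commutator Spor.M12 := Subgroup.commutator_mem_commutator (Subgroup.mem_top a) (Subgroup.mem_top b)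
        rw [h, Subgroup.mem_bot] at hm
        exact commutatorElement_eq_one_iff_mul_comm.1 hm
      letI : CommGroup Spor.M12 := { (inferInstance : Group Spor.M12) with mul_comm := hcomm }
      have := IsSimpleGroup.prime_card (α := Spor.M12)
      rw [card_sporM12] at this
      norm_num at this
    · exact h
  have hk2 : Nat.card (E.toMonoidHom.comp proj).ker = 2 := by
    rw [show (E.toMonoidHom.comp proj).ker = proj.ker by ext x; simp [MonoidHom.mem_ker], card_ker]
  haveI : Fact (Nat.Prime 2) := ⟨Nat.prime_two⟩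
  haveI := isCyclic_of_prime_card hk2
  exact Schur.hasSchurMultiplier_of_cover hperf hstem noStem_MG
    (zmodCyclicMulEquiv (G := (E.toMonoidHom.comp proj).ker) inferInstance |>.symm.trans
      (AddEquiv.toMultiplicative (ZMod.ringEquivCongr hk2).toAddEquiv))

end Cfsg.Lib.Concrete.Cover12
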