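import Mathlib
import Cfsg.Prelude.Def_Sporadic_a

/-!
Subsets of the 24 Golay points as 24-bit masks, for computation by the kernel.
Position `i < 23` is the residue `i`, position 23 is the extra point.
-/

set_option autoImplicit false

namespace Cfsg.Lib.Concrete

open scoped symmDiff

/-- Position of a point. -/
def gidx : GolayPt → Fin 24
  | none => 23
  | some x => ⟨x.val, Nat.lt_succ_of_lt (ZMod.val_lt x)⟩

/-- Point at a position. -/
def gpt (i : Fin 24) : GolayPt :=
  if i.val = 23 then none else some (i.val : ZMod 23)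

theorem gpt_gidx : ∀ p : GolayPt, gpt (gidx p) = p := by decide

theorem gidx_gpt : ∀ i : Fin 24, gidx (gpt i) = i := by decide

/-- The positions, as a list. -/
def bits24 : List ℕ :=
  [0, 1, 2, 3, 4, 5, 6, 7, 8, 9, 10, 11, 12, 13, 14, 15, 16, 17, 18, 19, 20, 21, 22, 23]

theorem mem_bits24 {i : ℕ} : i ∈ bits24 ↔ i < 24 := by
  constructor
  · intro h; revert i; decide
  · intro h; interval_cases i <;> decide

/-- Inclusive-or of `2 ^ f i` over the `i` in `l` with `c i`. -/
def orMask (l : List ℕ) (c : ℕ → Bool) (f : ℕ → ℕ) : ℕ :=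
  l.foldr (fun i acc => bif c i then (1 <<< f i) ||| acc else acc) 0

theorem testBit_orMask (l : List ℕ) (c : ℕ → Bool) (f : ℕ → ℕ) (j : ℕ) :
    (orMask l c f).testBit j = true ↔ ∃ i ∈ l, c i = true ∧ f i = j := by
  induction l with
  | nil => simp [orMask]
  | cons a l ih =>
    have hrec : orMask (a :: l) c f =
        bif c a then (1 <<< f a) ||| orMask l c f else orMask l c f := rfl
    rw [hrec]
    cases hc : c a
    · simp only [cond_false, ih, List.mem_cons]
      constructor
      · rintro ⟨i, hi, h⟩; exact ⟨i, Or.inr hi, h⟩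
      · rintro ⟨i, rfl | hi, h⟩
        · rw [hc] at h; exact absurd h.1 Bool.false_ne_true
        · exact ⟨i, hi, h⟩
    · simp only [cond_true, Nat.testBit_or, Nat.one_shiftLeft, Nat.testBit_two_pow,
        Bool.or_eq_true, decide_eq_true_eq, ih, List.mem_cons]
      constructor
      · rintro (h | ⟨i, hi, h⟩)
        · exact ⟨a, Or.inl rfl, hc, h⟩
        · exact ⟨i, Or.inr hi, h⟩
      · rintro ⟨i, rfl | hi, h⟩
        · exact Or.inl h.2
        · exact Or.inr ⟨i, hi, h⟩

theorem orMask_lt (l : List ℕ) (c : ℕ → Bool) (f : ℕ → ℕ) {n : ℕ}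
    (h : ∀ i ∈ l, c i = true → f i < n) : orMask l c f < 2 ^ n := by
  apply Nat.lt_pow_two_of_testBit
  intro i hi
  rw [Bool.eq_false_iff]
  intro hb
  obtain ⟨a, ha, hca, rfl⟩ := (testBit_orMask l c f i).1 hb
  exact absurd (h a ha hca) (by omega)

/-- The finset of points of a mask. -/
def mset (m : ℕ) : Finset GolayPt := Finset.univ.filter fun p => m.testBit (gidx p).val

@[simp] theorem mem_mset {m : ℕ} {p : GolayPt} : p ∈ mset m ↔ m.testBit (gidx p).val = true := by
  simp [mset]

theorem mset_xor (a b : ℕ) : mset (a ^^^ b) = mset a ∆ mset b := by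
  ext p
  simp only [Finset.mem_symmDiff, mem_mset, Nat.testBit_xor]
  cases a.testBit (gidx p).val <;> cases b.testBit (gidx p).val <;> simp

theorem mset_and (a b : ℕ) : mset (a &&& b) = mset a ∩ mset b := by
  ext p; simp

theorem mset_or (a b : ℕ) : mset (a ||| b) = mset a ∪ mset b := by
  ext p; simp

theorem mset_inj {a b : ℕ} (ha : a < 2 ^ 24) (hb : b < 2 ^ 24) (h : mset a = mset b) : a = b := by
  apply Nat.eq_of_testBit_eq
  intro i
  by_cases hi : i < 24
  · have := Finset.ext_iff.1 h (gpt ⟨i, hi⟩)
    simp only [mem_mset, gidx_gpt] at this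
    exact Bool.eq_iff_iff.2 this
  · have hle : 2 ^ 24 ≤ 2 ^ i := Nat.pow_le_pow_right (by norm_num) (by omega)
    rw [Nat.testBit_lt_two_pow (lt_of_lt_of_le ha hle),
      Nat.testBit_lt_two_pow (lt_of_lt_of_le hb hle)]

/-- The mask of a finset of points. -/
def fmask (s : Finset GolayPt) : ℕ :=
  orMask bits24 (fun i => decide (i < 24 ∧ gpt (Fin.ofNat 24 i) ∈ s)) id

theorem fmask_lt (s : Finset GolayPt) : fmask s < 2 ^ 24 := by
  apply orMask_lt
  intro i hi _
  exact mem_bits24.1 hi

theorem testBit_fmask (s : Finset GolayPt) (p : GolayPt) :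
    (fmask s).testBit (gidx p).val = true ↔ p ∈ s := by
  rw [fmask, testBit_orMask]
  constructor
  · rintro ⟨i, _, hc, hf⟩
    simp only [id, decide_eq_true_eq] at hf hc
    subst hf
    simpa [gpt_gidx] using hc
  · intro h
    exact ⟨_, mem_bits24.2 (gidx p).isLt, by simp [gpt_gidx, h], rfl⟩

theorem mset_fmask (s : Finset GolayPt) : mset (fmask s) = s := by
  ext p; rw [mem_mset, testBit_fmask]

theorem fmask_mset {m : ℕ} (hm : m < 2 ^ 24) : fmask (mset m) = m :=
  mset_inj (fmask_lt _) hm (mset_fmask _)

/-- Number of set bits among the 24 positions. -/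
def mcnt (m : ℕ) : ℕ := bits24.countP fun i => m.testBit i

theorem mset_card (m : ℕ) : (mset m).card = mcnt m := by
  have hnd : bits24.Nodup := by decide
  rw [mcnt, List.countP_eq_length_filter,
    ← List.toFinset_card_of_nodup (hnd.filter _)]
  refine Finset.card_bij (fun p _ => (gidx p).val) ?_ ?_ ?_
  · intro p hp
    simp [mem_bits24, (gidx p).isLt, mem_mset.1 hp]
  · intro p _ q _ h
    rw [← gpt_gidx p, ← gpt_gidx q, Fin.ext h]
  · intro i hi
    simp [mem_bits24] at hi
    exact ⟨gpt ⟨i, hi.1⟩, by simp [gidx_gpt, hi.2], by simp [gidx_gpt]⟩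

/-- Bit counts of the 256 bytes, four binary places each. -/
def byteTable : ℕ := 95125173855764218123276304889944061997689682402263585766959741291920687686033329201817409157123347502415384089435969498586180241031507595463600295898153685276653211633572815512294064538494957912327413386667662218713394765509704508661031522276467630197481635010039778342554499416459730172574551513689147646224

/-- `mcnt` by three table look-ups; this is the one to evaluate in the kernel. -/
def pcnt (m : ℕ) : ℕ :=
  Nat.add (Nat.add
    (Nat.land (Nat.shiftRight byteTable (Nat.mul 4 (Nat.land m 255))) 15)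
    (Nat.land (Nat.shiftRight byteTable (Nat.mul 4 (Nat.land (Nat.shiftRight m 8) 255))) 15))
    (Nat.land (Nat.shiftRight byteTable (Nat.mul 4 (Nat.land (Nat.shiftRight m 16) 255))) 15)

theorem byteTable_spec :
    (List.range 256).all (fun b => (byteTable >>> (4 * b)) &&& 15 ==
      [0, 1, 2, 3, 4, 5, 6, 7].countP fun i => b.testBit i) = true := by
  decide +kernel

theorem countP_byte (m k : ℕ) :
    (byteTable >>> (4 * (m >>> k &&& 255))) &&& 15 =
      [0, 1, 2, 3, 4, 5, 6, 7].countP fun i => m.testBit (k + i) := by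
  have h := List.all_eq_true.1 byteTable_spec (m >>> k &&& 255)
    (List.mem_range.2 (Nat.lt_succ_of_le Nat.and_le_right))
  rw [beq_iff_eq] at h
  rw [h]
  refine List.countP_congr fun i hi => ?_
  have h255 : (255 : ℕ).testBit i = true := by revert i; decide
  simp [h255]

theorem mcnt_eq_pcnt (m : ℕ) : mcnt m = pcnt m := by
  show mcnt m = ((byteTable >>> (4 * (m &&& 255))) &&& 15) +
    ((byteTable >>> (4 * (m >>> 8 &&& 255))) &&& 15) +
    ((byteTable >>> (4 * (m >>> 16 &&& 255))) &&& 15)
  have h0 := countP_byte m 0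
  rw [Nat.shiftRight_zero] at h0
  rw [h0, countP_byte, countP_byte, mcnt, bits24]
  simp only [List.countP_cons, List.countP_nil, Nat.reduceAdd]
  omega

theorem mset_zero : mset 0 = ∅ := by ext p; simp

theorem mset_full : mset 16777215 = Finset.univ := by decide +kernel

/-- A family of subsets of the points described by a list of masks. -/
theorem ncard_of_masks {S : Set (Finset GolayPt)} {L : List ℕ} (hL : L.Nodup)
    (hlt : ∀ m ∈ L, m < 2 ^ 24) (h : ∀ m < 2 ^ 24, mset m ∈ S ↔ m ∈ L) :
    S.ncard = L.length := by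
  have hS : S = (L.toFinset.image mset : Finset (Finset GolayPt)) := by
    ext s
    rw [Finset.mem_coe, Finset.mem_image]
    constructor
    · intro hs
      exact ⟨fmask s, List.mem_toFinset.2 ((h _ (fmask_lt s)).1 (by rwa [mset_fmask])),
        mset_fmask s⟩
    · rintro ⟨m, hm, rfl⟩
      exact (h m (hlt m (List.mem_toFinset.1 hm))).2 (List.mem_toFinset.1 hm)
  rw [hS, Set.ncard_coe_finset, Finset.card_image_of_injOn,
    List.toFinset_card_of_nodup hL]
  intro a ha b hb
  exact mset_inj (hlt a (by simpa using ha)) (hlt b (by simpa using hb))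

end Cfsg.Lib.Concrete
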