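import Cfsg.Agent.Lib.Concrete.MTwelveData
import Cfsg.Agent.Lib.Concrete.Mask

/-!
The search showing that a normalised S(5, 6, 12) is a relabelling of the tabulated one.
-/

set_option autoImplicit false
set_option maxRecDepth 20000

namespace Cfsg.Lib.Concrete

/-- Image of a 12-place mask under a table. -/
def img12 (g : List ℕ) (m : ℕ) : ℕ := orMask bits24 (fun i => Nat.blt i 12 && m.testBit i) (fun i => g.getD i 0)

/-- The blocks compatible with those chosen through a five-set. -/
def cands12 (B : List ℕ) (T : ℕ) : List ℕ :=
  (((List.range 12).filter fun p => !T.testBit p).map fun p => Nat.lor T (Nat.pow 2 p)).filter fun c =>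
    B.all fun b => Nat.blt (pcnt (Nat.land b c)) 5

/-- The replay of the search. -/
def run12 : ℕ → List ℕ → List ℕ → Option (List ℕ)
  | 0, _, _ => none
  | _ + 1, _, [] => none
  | fuel + 1, B, T :: rest =>
    if Nat.ble 4096 T then
      if Nat.beq B.length 132 && (hexPerms.getD (T - 4096) []).length == 12 &&
          (B.all fun b => hex132.any (Nat.beq (img12 (hexPerms.getD (T - 4096) []) b))) then some rest else none
    else
      if Nat.beq (pcnt T) 5 && B.all (fun b => !Nat.beq (Nat.land b T) T) then
        (cands12 B T).foldl (fun acc c => acc.bind fun r => run12 fuel (c :: B) r) (some rest)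
      else none

theorem run12_check : run12 200 hexBase hexScript = some [] := by decide +kernel

/-- The conditions of a Steiner system on masks. -/
structure Sys12 (S : Finset ℕ) : Prop where
  cover : ∀ T, T < 4096 → pcnt T = 5 → ∃ p < 12, T.testBit p = false ∧ T ||| 2 ^ p ∈ S
  inter : ∀ b ∈ S, ∀ c ∈ S, b ≠ c → pcnt (b &&& c) < 5
  card : S.card = 132

theorem run12_sound {S : Finset ℕ} (hS : Sys12 S) : ∀ (fuel : ℕ) (B script rest : List ℕ),
    run12 fuel B script = some rest → B.Nodup → (∀ b ∈ B, b ∈ S) →
      ∃ g ∈ hexPerms, ∀ b ∈ S, img12 g b ∈ hex132 := by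
  intro fuel
  induction fuel with
  | zero => intro B script rest h; simp [run12] at h
  | succ fuel ih =>
    intro B script rest h hnd hB
    cases script with
    | nil => simp [run12] at h
    | cons T rest' =>
      rw [run12] at h
      split_ifs at h with h1 h2 h3
      · simp only [Bool.and_eq_true, Nat.beq_eq, beq_iff_eq, List.all_eq_true, List.any_eq_true] at h2
        obtain ⟨⟨hlen, hg⟩, hall⟩ := h2
        have hj : T - 4096 < hexPerms.length := by
          by_contra hj
          rw [List.getD_eq_default _ _ (not_lt.1 hj)] at hg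
          simp at hg
        refine ⟨_, List.getD_eq_getElem (d := []) hexPerms hj ▸ List.getElem_mem hj, fun b hb => ?_⟩
        have : B.toFinset = S := Finset.eq_of_subset_of_card_le (fun x hx => hB x (List.mem_toFinset.1 hx))
          (by rw [List.toFinset_card_of_nodup hnd, hlen, hS.card])
        obtain ⟨x, hx, hxe⟩ := hall b (List.mem_toFinset.1 (this.symm ▸ hb))
        exact hxe ▸ hx
      · simp only [Bool.and_eq_true, Nat.beq_eq, List.all_eq_true, Bool.not_eq_true'] at h3
        obtain ⟨hT, hun⟩ := h3
        have hT12 : T < 4096 := by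
          rw [Nat.ble_eq] at h1; omega
        obtain ⟨p, hp, hpT, hmem⟩ := hS.cover T hT12 hT
        have hc : T ||| 2 ^ p ∈ cands12 B T := by
          refine List.mem_filter.2 ⟨List.mem_map.2 ⟨p, List.mem_filter.2 ⟨List.mem_range.2 hp, by simp [hpT]⟩, rfl⟩, ?_⟩
          refine List.all_eq_true.2 fun b hb => Nat.ble_eq.mpr ?_
          refine hS.inter b (hB b hb) _ hmem fun e => ?_
          have : Nat.land b T = T := by
            show b &&& T = T
            rw [e, Nat.and_or_distrib_right, Nat.and_self]
            exact Nat.eq_of_testBit_eq fun i => by simp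
          have h' := hun b hb
          rw [this, ← Bool.not_eq_true, Nat.beq_eq] at h'
          exact h' rfl
        have hnew : ((T ||| 2 ^ p) :: B).Nodup := List.nodup_cons.2 ⟨fun hb => by
          have h' := hun _ hb
          rw [← Bool.not_eq_true, Nat.beq_eq] at h'
          refine h' (show (T ||| 2 ^ p) &&& T = T from Nat.eq_of_testBit_eq fun i => ?_)
          simp; tauto, hnd⟩
        have hsome : ∀ (L : List ℕ) (acc : Option (List ℕ)) (r : List ℕ),
            L.foldl (fun acc c => acc.bind fun r => run12 fuel (c :: B) r) acc = some r →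
            (∃ r0, acc = some r0) ∧ ∀ c ∈ L, ∃ r1 r2, run12 fuel (c :: B) r1 = some r2 := by
          intro L
          induction L with
          | nil => intro acc r he; exact ⟨⟨r, he⟩, fun c hc => by simp at hc⟩
          | cons a L ihL =>
            intro acc r he
            rw [List.foldl_cons] at he
            obtain ⟨⟨r0, hr0⟩, hrest⟩ := ihL _ _ he
            obtain ⟨r1, h4, h5⟩ := Option.bind_eq_some_iff.1 hr0
            refine ⟨⟨r1, h4⟩, fun c hc => ?_⟩
            rcases List.mem_cons.1 hc with rfl | hc
            · exact ⟨r1, r0, h5⟩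
            · exact hrest c hc
        obtain ⟨r1, r2, hr⟩ := (hsome _ _ _ h).2 _ hc
        exact ih _ _ _ hr hnew fun b hb => by
          rcases List.mem_cons.1 hb with rfl | hb
          · exact hmem
          · exact hB b hb

/-- A system containing the base blocks is a relabelling of the tabulated one. -/
theorem sys12_unique {S : Finset ℕ} (hS : Sys12 S) (hbase : ∀ b ∈ hexBase, b ∈ S) :
    ∃ g ∈ hexPerms, ∀ b ∈ S, img12 g b ∈ hex132 :=
  run12_sound hS 200 hexBase hexScript [] run12_check (by decide) hbase

end Cfsg.Lib.Concrete
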