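import Cfsg.Agent.Lib.Concrete.MathieuSearch
import Cfsg.Agent.Lib.Concrete.SporMathieu
import Cfsg.Prelude.Def_KGroupFacts

/-!
The automorphisms of the chain subgroups of M24, from certificates.
-/

set_option autoImplicit false

namespace Cfsg.Lib.Concrete

open scoped Pointwise

/-- Packed generator. -/
def AutCert.gp (c : AutCert) (i : ℕ) : ℕ := (c.gens.getD i (0, 0)).1

/-- Packed inverse of a generator. -/
def AutCert.gpi (c : AutCert) (i : ℕ) : ℕ := (c.gens.getD i (0, 0)).2

/-- Generators, inverses and the outer element, packed. -/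
def AutCert.imgs (c : AutCert) : List ℕ :=
  [c.gp 0, c.gp 1, c.gp 2, c.gpi 0, c.gpi 1, c.gpi 2, c.tau.1, c.tau.2]

/-- The group of a certificate. -/
def AutCert.grp (c : AutCert) : Subgroup (Equiv.Perm GolayPt) := mSub c.k (mset c.D)

/-- Two words agree. -/
def wEq (imgs w1 w2 : List ℕ) : Bool := bits24.all fun x => Nat.beq (evalW imgs w1 x) (evalW imgs w2 x)

/-- The generators lie in the group and generate it. -/
def genCheck (c : AutCert) : Bool :=
  Nat.ble c.k 7 && ((List.range 3).all fun i => elemCheck c.k c.D (c.gp i) (c.gpi i)) &&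
  Nat.beq (c.perms.getD 0 0) pId && ((List.range 3).all fun i => Nat.beq (c.perms.getD (i + 1) 0) (c.gp i)) &&
  ((List.range c.steps.length).all fun i =>
    let e := c.steps.getD i (0, 0)
    decide (e.1 < 4 + i) && decide (e.2 < 4 + i) &&
      prodCheck (c.perms.getD e.1 0) (c.perms.getD e.2 0) (c.perms.getD (4 + i) 0)) &&
  (List.range c.tr.length).all fun j => (c.tr.getD j []).all fun e =>
    decide (j < 7) && decide (e.1 < 24) && decide (e.2 < 4 + c.steps.length) &&
      Nat.beq (pget (c.perms.getD e.2 0) (m24Base.getD j 0)) e.1 &&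
      (List.range j).all fun i =>
        Nat.beq (pget (c.perms.getD e.2 0) (m24Base.getD i 0)) (m24Base.getD i 0)

/-- The points reached by the `j`-th transversal. -/
def autPts (c : AutCert) (j : ℕ) : Finset GolayPt :=
  ((c.tr.getD j []).map fun e => gpt (Fin.ofNat 24 e.1)).toFinset

/-- The first generator has order `p` and its normaliser acts on its powers. -/
def powCheck (c : AutCert) : Bool :=
  wEq c.imgs (List.replicate c.p 0) [] && !(wEq c.imgs [0] []) &&
  (List.range c.p).all fun k => Nat.beq k 0 || (List.range c.p).any fun i =>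
    wEq c.imgs (List.replicate i 1 ++ List.replicate k 0 ++ List.replicate i 4) [0] ||
      wEq c.imgs (List.replicate i 1 ++ List.replicate k 0 ++ List.replicate i 4) [3]

/-- The images of the second generator. -/
def secondCheck (c : AutCert) : Bool :=
  planOk (c.gp 0) c.plan1 0 && wEq c.imgs [1, 0] (List.replicate c.j2 0 ++ [1]) &&
  (searchAux c.k c.D (c.gp 0) (packW c.imgs (List.replicate c.j2 0)) c.plan1 0 0).all fun b =>
    (List.range c.p).any fun i => wEq (c.imgs ++ [b]) (List.replicate i 0 ++ [8] ++ List.replicate i 3) [1]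

/-- The relations hold for the given images. -/
def relsHold (c : AutCert) (a b : ℕ) : Bool :=
  c.rels.all fun r => wEq [a, c.gp 1, b] (List.replicate r.2 r.1).flatten []

/-- The images of the third generator. -/
def thirdList (c : AutCert) : List ℕ :=
  searchAux c.k c.D (c.gp 1) (packW c.imgs (List.replicate c.j3 1)) c.plan2 0 0

/-- The relations determine the third image if the first generator is fixed. -/
def thirdCheck (c : AutCert) : Bool :=
  planOk (c.gp 1) c.plan2 0 && wEq c.imgs [2, 1] (List.replicate c.j3 1 ++ [2]) &&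
  (c.rels.all fun r => r.1.all (fun i => Nat.blt i 3)) && relsHold c (c.gp 0) (c.gp 2) &&
  (thirdList c).all fun r => !(relsHold c (c.gp 0) r) || wEq (c.imgs ++ [r]) [8] [2]

/-- No automorphism inverts the first generator. -/
def noInvertCheck (c : AutCert) : Bool := (thirdList c).all fun r => !(relsHold c (c.gpi 0) r)

/-- The outer element inverts the first generator and is the only such automorphism. -/
def tauCheck (c : AutCert) : Bool :=
  ((thirdList c).all fun r => !(relsHold c (c.gpi 0) r) || wEq (c.imgs ++ [r]) [8] [6, 2, 7]) &&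
  prodCheck c.tau.1 c.tau.2 pId && prodCheck c.tau.2 c.tau.1 pId &&
  (bits24.all fun i => decide (pget c.tau.1 i < 24) && decide (pget c.tau.2 i < 24)) &&
  wEq c.imgs [6, 0, 7] [3] && wEq c.imgs [6, 1, 7] [1] &&
  elemCheck c.k c.D (packW c.imgs [6, 2, 7]) (packW c.imgs [6, 5, 7]) &&
  (searchAux c.k c.D (c.gp 0) (c.gpi 0) c.plan1 0 0).isEmpty

theorem exists_perm_of_packed {p q : ℕ} (h1 : prodCheck p q pId = true) (h2 : prodCheck q p pId = true)
    (h3 : (bits24.all fun i => decide (pget p i < 24) && decide (pget q i < 24)) = true) :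
    ∃ g : Equiv.Perm GolayPt, Rep g p ∧ Rep g⁻¹ q := by
  simp only [prodCheck, List.all_eq_true, Bool.and_eq_true, decide_eq_true_eq, Nat.beq_eq] at h1 h2 h3
  have hid : ∀ x : GolayPt, pget pId (gidx x).val = (gidx x).val := fun x => (rep_one x).symm
  let f : GolayPt → GolayPt := fun x => gpt (Fin.ofNat 24 (pget p (gidx x).val))
  let f' : GolayPt → GolayPt := fun x => gpt (Fin.ofNat 24 (pget q (gidx x).val))
  have hf : ∀ x, (gidx (f x)).val = pget p (gidx x).val := fun x => by
    simp only [f, gidx_gpt, Fin.val_ofNat]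
    exact Nat.mod_eq_of_lt (h3 _ (mem_bits24.2 (gidx x).isLt)).1
  have hf' : ∀ x, (gidx (f' x)).val = pget q (gidx x).val := fun x => by
    simp only [f', gidx_gpt, Fin.val_ofNat]
    exact Nat.mod_eq_of_lt (h3 _ (mem_bits24.2 (gidx x).isLt)).2
  refine ⟨{ toFun := f, invFun := f', left_inv := fun x => gidx_injective (Fin.ext ?_),
            right_inv := fun x => gidx_injective (Fin.ext ?_) }, hf, hf'⟩
  · rw [hf', hf, ← h2 _ (mem_bits24.2 (gidx x).isLt), hid]
  · rw [hf, hf', ← h1 _ (mem_bits24.2 (gidx x).isLt), hid]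

theorem wEq_iff {gs : ℕ → Equiv.Perm GolayPt} {imgs w1 w2 : List ℕ}
    (h : ∀ a ∈ w1 ++ w2, Rep (gs a) (imgs.getD a 0)) :
    wEq imgs w1 w2 = true ↔ wordProd gs w1 = wordProd gs w2 := by
  have h1 := evalW_eq w1 fun a ha => h a (List.mem_append_left _ ha)
  have h2 := evalW_eq w2 fun a ha => h a (List.mem_append_right _ ha)
  simp only [wEq, List.all_eq_true, Nat.beq_eq]
  constructor
  · intro e
    refine Equiv.ext fun x => gidx_injective (Fin.ext ?_)
    rw [h1, h2]
    exact e _ (mem_bits24.2 (gidx x).isLt)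
  · intro e i hi
    have := h1 (gpt ⟨i, mem_bits24.1 hi⟩)
    rw [e, h2, gidx_gpt] at this
    exact this.symm

theorem wordProd_replicate {M : Type*} [Monoid M] (gs : ℕ → M) (a n : ℕ) :
    wordProd gs (List.replicate n a) = gs a ^ n := by
  rw [wordProd, List.map_replicate, List.prod_replicate]

theorem wordProd_append {M : Type*} [Monoid M] (gs : ℕ → M) (u v : List ℕ) :
    wordProd gs (u ++ v) = wordProd gs u * wordProd gs v := by
  rw [wordProd, List.map_append, List.prod_append]; rfl

theorem wordProd_congr {M : Type*} [Monoid M] {gs gs' : ℕ → M} {w : List ℕ}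
    (h : ∀ a ∈ w, gs a = gs' a) : wordProd gs w = wordProd gs' w := by
  rw [wordProd, wordProd, List.map_congr_left h]

/-- The generators of a checked certificate. -/
structure AutGens (c : AutCert) where
  g : Fin 3 → c.grp
  rep : ∀ i : Fin 3, Rep (g i : Equiv.Perm GolayPt) (c.gp i.val)
  repi : ∀ i : Fin 3, Rep ((g i : Equiv.Perm GolayPt)⁻¹) (c.gpi i.val)
  gen : Subgroup.closure (Set.range g) = ⊤
  hk : c.k ≤ 7

theorem genCheck_sound {c : AutCert} {last : ℕ} (hc : genCheck c = true) (h7 : last ≤ 7)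
    (hlen : c.tr.length = last) (hk : c.k ≤ last)
    (htgt : ∀ j, c.k ≤ j → j < last → ∀ g ∈ mSub j (mset c.D), g (bp j) ∈ autPts c j)
    (hlast : ∀ g ∈ mSub last (mset c.D), g = 1) : Nonempty (AutGens c) := by
  simp only [genCheck, Bool.and_eq_true, List.all_eq_true, List.mem_range, Nat.beq_eq,
    decide_eq_true_eq, Nat.ble_eq] at hc
  obtain ⟨⟨⟨⟨⟨hk7, hel⟩, hp0⟩, hpi⟩, hst⟩, htr⟩ := hc
  choose g hg hr hri using fun i : Fin 3 => exists_of_elemCheck hk7 (hel i.val i.isLt)
  set H := Subgroup.closure (Set.range g) with hH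
  have hHle : H ≤ c.grp := (Subgroup.closure_le _).2 (by rintro _ ⟨i, rfl⟩; exact hg i)
  have hrep : ∀ i < 4 + c.steps.length, ∃ x ∈ H, Rep x (c.perms.getD i 0) := by
    intro i
    induction i using Nat.strong_induction_on with
    | _ i ih =>
      intro hi
      by_cases h4 : i < 4
      · rcases Nat.eq_zero_or_pos i with rfl | hpos
        · exact ⟨1, one_mem _, hp0 ▸ rep_one⟩
        · obtain ⟨m, rfl⟩ : ∃ m, i = m + 1 := ⟨i - 1, by omega⟩
          exact ⟨g ⟨m, by omega⟩, Subgroup.subset_closure ⟨_, rfl⟩,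
            (hpi m (by omega)) ▸ hr ⟨m, by omega⟩⟩
      · obtain ⟨j, rfl⟩ : ∃ j, i = 4 + j := ⟨i - 4, by omega⟩
        obtain ⟨⟨e1, e2⟩, e3⟩ := hst j (by omega)
        obtain ⟨a, ha, hra⟩ := ih _ e1 (by omega)
        obtain ⟨b, hb, hrb⟩ := ih _ e2 (by omega)
        exact ⟨a * b, mul_mem ha hb, hra.mul hrb e3⟩
  have key : ∀ n, ∀ j, c.k ≤ j → j + n = last → ∀ x ∈ mSub j (mset c.D), x ∈ H := by
    intro n
    induction n with
    | zero =>
      intro j _ hj x hx
      obtain rfl : j = last := by omega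
      rw [hlast x hx]; exact one_mem _
    | succ n ih =>
      intro j hkj hj x hx
      obtain ⟨e, he, hxe⟩ := List.mem_map.1 (List.mem_toFinset.1 (htgt j hkj (by omega) x hx))
      obtain ⟨⟨⟨⟨hj7, h1⟩, h2⟩, h3⟩, h4⟩ := htr j (by omega) e he
      obtain ⟨r, hrH, hrep'⟩ := hrep _ h2
      have hrk : r ∈ c.grp := hHle hrH
      have hfix : ∀ i < j, r (bp i) = bp i := fun i hi => by
        refine hrep'.apply_eq ?_
        simp only [Fin.val_ofNat, Nat.mod_eq_of_lt (base_lt i (by omega))]
        exact h4 i hi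
      have hb : r (bp j) = x (bp j) := by
        rw [← hxe]
        refine hrep'.apply_eq ?_
        simp only [Fin.val_ofNat, Nat.mod_eq_of_lt (base_lt j hj7), Nat.mod_eq_of_lt h1]
        exact h3
      have hrj : r ∈ mSub j (mset c.D) :=
        mem_mSub.2 ⟨(mem_mSub.1 hrk).1, hfix, (mem_mSub.1 hrk).2.2⟩
      have hin : r⁻¹ * x ∈ mSub j (mset c.D) := mul_mem (inv_mem hrj) hx
      have hnext : r⁻¹ * x ∈ mSub (j + 1) (mset c.D) := by
        refine mem_mSub.2 ⟨(mem_mSub.1 hin).1, fun i hi => ?_, (mem_mSub.1 hin).2.2⟩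
        rcases Nat.lt_succ_iff_lt_or_eq.1 hi with hi | rfl
        · exact (mem_mSub.1 hin).2.1 i hi
        · rw [Equiv.Perm.mul_apply, ← hb]
          exact r.symm_apply_apply _
      have := mul_mem hrH (ih (j + 1) (by omega) (by omega) _ hnext)
      rwa [mul_inv_cancel_left] at this
  refine ⟨⟨fun i => ⟨g i, hg i⟩, hr, hri, ?_, hk7⟩⟩
  refine Subgroup.map_injective c.grp.subtype_injective ?_
  rw [MonoidHom.map_closure, ← MonoidHom.range_eq_map, Subgroup.range_subtype, ← Set.range_comp]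
  refine le_antisymm ?_ fun x hx => key (last - c.k) c.k le_rfl (by omega) x hx
  exact hHle

variable {c : AutCert}

/-- The permutations named in `imgs`. -/
def permsOf (G : AutGens c) (τ : Equiv.Perm GolayPt) : ℕ → Equiv.Perm GolayPt
  | 0 => G.g 0
  | 1 => G.g 1
  | 2 => G.g 2
  | 3 => (G.g 0 : Equiv.Perm GolayPt)⁻¹
  | 4 => (G.g 1 : Equiv.Perm GolayPt)⁻¹
  | 5 => (G.g 2 : Equiv.Perm GolayPt)⁻¹
  | 6 => τ
  | _ => τ⁻¹

theorem rep_permsOf (G : AutGens c) {τ : Equiv.Perm GolayPt} {a : ℕ}
    (ha : a < 6 ∨ (a < 8 ∧ Rep τ c.tau.1 ∧ Rep τ⁻¹ c.tau.2)) :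
    Rep (permsOf G τ a) (c.imgs.getD a 0) := by
  rcases ha with ha | ⟨ha, h1, h2⟩
  · interval_cases a
    exacts [G.rep 0, G.rep 1, G.rep 2, G.repi 0, G.repi 1, G.repi 2]
  · interval_cases a
    exacts [G.rep 0, G.rep 1, G.rep 2, G.repi 0, G.repi 1, G.repi 2, h1, h2]

/-- The permutations named in `imgs ++ [r]`. -/
def permsExt (G : AutGens c) (τ b : Equiv.Perm GolayPt) (a : ℕ) : Equiv.Perm GolayPt :=
  if a = 8 then b else permsOf G τ a

theorem rep_permsExt (G : AutGens c) {τ b : Equiv.Perm GolayPt} {r a : ℕ} (hb : Rep b r)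
    (ha : a < 6 ∨ a = 8 ∨ (a < 8 ∧ Rep τ c.tau.1 ∧ Rep τ⁻¹ c.tau.2)) :
    Rep (permsExt G τ b a) ((c.imgs ++ [r]).getD a 0) := by
  rcases eq_or_ne a 8 with rfl | h8
  · exact hb
  · have ha' : a < 6 ∨ (a < 8 ∧ Rep τ c.tau.1 ∧ Rep τ⁻¹ c.tau.2) :=
      ha.imp_right fun h => h.resolve_left h8
    have hlt : a < 8 := by rcases ha' with h | h <;> omega
    rw [permsExt, if_neg h8, List.getD_append _ _ _ _ (by simpa [AutCert.imgs] using hlt)]
    exact rep_permsOf G ha'

theorem word_eq (G : AutGens c) {w1 w2 : List ℕ} (hw : ∀ a ∈ w1 ++ w2, a < 6)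
    (h : wEq c.imgs w1 w2 = true) : wordProd (permsOf G 1) w1 = wordProd (permsOf G 1) w2 :=
  (wEq_iff fun a ha => rep_permsOf G (Or.inl (hw a ha))).1 h

theorem searchAux_complete' {G : AutGens c} {P Q x : c.grp} {p q : ℕ} (hk : c.k ≤ 7)
    (hP : Rep (P : Equiv.Perm GolayPt) p) (hQ : Rep (Q : Equiv.Perm GolayPt) q) (h : x * P = Q * x)
    (steps : List PlanStep) (hplan : planOk p steps 0 = true) :
    ∃ r ∈ searchAux c.k c.D p q steps 0 0, Rep (x : Equiv.Perm GolayPt) r :=
  search_complete hk hP hQ x.2 (congrArg Subtype.val h) steps hplan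

theorem gen_ext (G : AutGens c) {f f' : c.grp →* Equiv.Perm GolayPt}
    (h : ∀ i, f (G.g i) = f' (G.g i)) : f = f' := by
  refine MonoidHom.eq_of_eqOn_dense G.gen ?_
  rintro _ ⟨i, rfl⟩
  exact h i

theorem exists_normalised (hc1 : powCheck c = true) (G : AutGens c) (hp : c.p.Prime)
    (hdvd : ¬ c.p ^ 2 ∣ 244823040) (φ : MulAut c.grp) :
    ∃ a : c.grp, (MulAut.conj a * φ) (G.g 0) = G.g 0 ∨ (MulAut.conj a * φ) (G.g 0) = (G.g 0)⁻¹ := by
  simp only [powCheck, Bool.and_eq_true, Bool.not_eq_true', List.all_eq_true, List.mem_range,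
    Bool.or_eq_true, Nat.beq_eq, List.any_eq_true] at hc1
  obtain ⟨⟨h1, h2⟩, h3⟩ := hc1
  have hord : orderOf (G.g 0) = c.p := by
    haveI := Fact.mk hp
    refine orderOf_eq_prime (Subtype.ext ?_) fun h => ?_
    · have := word_eq G (by intro a ha; simp at ha; omega) h1
      rw [wordProd_replicate] at this
      simpa [wordProd, permsOf] using this
    · have hh : wEq c.imgs [0] [] = true := (wEq_iff (gs := permsOf G 1) fun a ha =>
        rep_permsOf G (Or.inl (by simp at ha; omega))).2 (by simp [wordProd, permsOf, h])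
      rw [hh] at h2; exact Bool.noConfusion h2
  haveI := Fact.mk hp
  have hle : c.grp ≤ M24 := fun x hx => (mem_mSub.1 hx).1
  have hfin : Finite c.grp := Subtype.finite
  have hfac : (Nat.card c.grp).factorization c.p = 1 := by
    have hd : Nat.card c.grp ∣ 244823040 := card_M24 ▸ Subgroup.card_dvd_of_le hle
    have hne : Nat.card c.grp ≠ 0 := Nat.card_pos.ne'
    refine le_antisymm ?_ ?_
    · by_contra hh
      push Not at hh
      exact hdvd (((hp.pow_dvd_iff_le_factorization hne).2 hh).trans hd)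
    · rw [← hp.pow_dvd_iff_le_factorization hne, pow_one, ← hord]
      exact orderOf_dvd_natCard _
  have hcard : ∀ x : c.grp, orderOf x = c.p → Nat.card (Subgroup.zpowers x) = c.p ^ (Nat.card c.grp).factorization c.p :=
    fun x hx => by rw [Nat.card_zpowers, hx, hfac, pow_one]
  have hord' : orderOf (φ (G.g 0)) = c.p := by rw [φ.orderOf_eq, hord]
  let P1 := Sylow.ofCard (Subgroup.zpowers (G.g 0)) (hcard _ hord)
  let P2 := Sylow.ofCard (Subgroup.zpowers (φ (G.g 0))) (hcard _ hord')
  obtain ⟨a, ha⟩ := MulAction.exists_smul_eq c.grp P2 P1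
  have hmem : a * φ (G.g 0) * a⁻¹ ∈ Subgroup.zpowers (G.g 0) := by
    have : a * φ (G.g 0) * a⁻¹ ∈ (P1 : Subgroup c.grp) := by
      rw [← ha]
      exact ⟨φ (G.g 0), Subgroup.mem_zpowers _, rfl⟩
    exact this
  rw [← mem_powers_iff_mem_zpowers] at hmem
  obtain ⟨m, hm⟩ := hmem
  simp only at hm
  rw [← pow_mod_orderOf, hord] at hm
  have hk : m % c.p < c.p := Nat.mod_lt _ hp.pos
  have hk0 : m % c.p ≠ 0 := by
    intro h
    rw [h, pow_zero, eq_comm, conj_eq_one_iff, ← orderOf_eq_one_iff, hord'] at hm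
    exact hp.ne_one hm
  obtain ⟨i, hi, hd⟩ := (h3 _ hk).resolve_left hk0
  have hw : ∀ x ∈ List.replicate i 1 ++ List.replicate (m % c.p) 0 ++ List.replicate i 4, x < 6 := by
    intro x hx; simp at hx; omega
  refine ⟨(G.g 1) ^ i * a, ?_⟩
  have hval : ((MulAut.conj ((G.g 1) ^ i * a) * φ) (G.g 0) : Equiv.Perm GolayPt) =
      wordProd (permsOf G 1) (List.replicate i 1 ++ List.replicate (m % c.p) 0 ++ List.replicate i 4) := by
    rw [wordProd_append, wordProd_append, wordProd_replicate, wordProd_replicate, wordProd_replicate]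
    show _ = (G.g 1 : Equiv.Perm GolayPt) ^ i * (G.g 0 : Equiv.Perm GolayPt) ^ (m % c.p) * ((G.g 1 : Equiv.Perm GolayPt)⁻¹) ^ i
    rw [← Subgroup.coe_pow c.grp (G.g 0), hm, inv_pow]
    rw [MulAut.mul_apply, MulAut.conj_apply]
    push_cast
    simp only [mul_inv_rev, mul_assoc]
  rcases hd with hd | hd
  · left
    refine Subtype.ext (hval.trans ?_)
    rw [word_eq G (fun x hx => by
      rw [List.mem_append] at hx; rcases hx with hx | hx
      · exact hw x hx
      · simp at hx; omega) hd]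
    simp [wordProd, permsOf]
  · right
    refine Subtype.ext (hval.trans ?_)
    rw [word_eq G (fun x hx => by
      rw [List.mem_append] at hx; rcases hx with hx | hx
      · exact hw x hx
      · simp at hx; omega) hd]
    simp [wordProd, permsOf]

theorem exists_normalised_two (hc1 : powCheck c = true) (hc2 : secondCheck c = true) (hc3 : thirdCheck c = true)
    (G : AutGens c) (hp : c.p.Prime) (hdvd : ¬ c.p ^ 2 ∣ 244823040) (φ : MulAut c.grp) :
    ∃ a : c.grp, ∃ e : Bool, ∃ r ∈ thirdList c,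
      (MulAut.conj a * φ) (G.g 0) = (if e then G.g 0 else (G.g 0)⁻¹) ∧
      (MulAut.conj a * φ) (G.g 1) = G.g 1 ∧
      Rep ((MulAut.conj a * φ) (G.g 2) : Equiv.Perm GolayPt) r ∧
      relsHold c (if e then c.gp 0 else c.gpi 0) r = true := by
  obtain ⟨a, ha⟩ := exists_normalised hc1 G hp hdvd φ
  set θ := MulAut.conj a * φ with hθ
  simp only [secondCheck, Bool.and_eq_true, List.all_eq_true, List.any_eq_true, List.mem_range] at hc2
  obtain ⟨⟨hplan, hrel⟩, hall⟩ := hc2
  have hj : G.g 1 * G.g 0 = G.g 0 ^ c.j2 * G.g 1 := by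
    have := word_eq G (by intro x hx; simp at hx; omega) hrel
    rw [wordProd_append, wordProd_replicate] at this
    exact Subtype.ext (by simpa [wordProd, permsOf] using this)
  have hb : θ (G.g 1) * G.g 0 = G.g 0 ^ c.j2 * θ (G.g 1) := by
    have h := congrArg θ hj
    rw [map_mul, map_mul, map_pow] at h
    rcases ha with e | e <;> rw [e] at h
    · exact h
    · rw [inv_pow] at h
      have h2 : G.g 0 ^ c.j2 * (θ (G.g 1) * (G.g 0)⁻¹) * G.g 0 = θ (G.g 1) * G.g 0 := by
        rw [h, mul_inv_cancel_left]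
      rw [← h2, mul_assoc, inv_mul_cancel_right]
  have hpow : Rep (wordProd (permsOf G 1) (List.replicate c.j2 0)) (packW c.imgs (List.replicate c.j2 0)) :=
    rep_packW fun x hx => rep_permsOf G (Or.inl (by simp at hx; omega))
  rw [wordProd_replicate] at hpow
  obtain ⟨r, hr, hrep⟩ := searchAux_complete' (G := G) (P := G.g 0) (Q := G.g 0 ^ c.j2) (x := θ (G.g 1)) G.hk
    (G.rep 0) hpow hb c.plan1 hplan
  obtain ⟨i, -, hi⟩ := hall r hr
  have hconj : (G.g 0 : Equiv.Perm GolayPt) ^ i * (θ (G.g 1) : Equiv.Perm GolayPt) *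
      ((G.g 0 : Equiv.Perm GolayPt) ^ i)⁻¹ = G.g 1 := by
    have := (wEq_iff (gs := permsExt G 1 (θ (G.g 1))) fun x hx =>
      rep_permsExt G hrep (by simp at hx; omega)).1 hi
    rw [wordProd_append, wordProd_append, wordProd_replicate, wordProd_replicate] at this
    simpa [wordProd, permsExt, permsOf, inv_pow] using this
  set ψ := MulAut.conj (G.g 0 ^ i * a) * φ with hψ
  have hψx : ∀ x, ψ x = G.g 0 ^ i * θ x * (G.g 0 ^ i)⁻¹ := fun x => by
    rw [hψ, map_mul, mul_assoc, ← hθ]; rfl
  have hψ1 : ψ (G.g 1) = G.g 1 := Subtype.ext (by rw [hψx]; push_cast; exact hconj)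
  have hψ0 : ψ (G.g 0) = θ (G.g 0) := by
    rw [hψx]
    have hcm : Commute (G.g 0 ^ i) (θ (G.g 0)) := by
      rcases ha with e | e <;> rw [e]
      · exact (Commute.refl _).pow_left i
      · exact ((Commute.refl _).pow_left i).inv_right
    rw [hcm.eq, mul_inv_cancel_right]
  simp only [thirdCheck, Bool.and_eq_true, List.all_eq_true] at hc3
  obtain ⟨⟨⟨⟨hplan2, hrel2⟩, hidx⟩, hrels⟩, -⟩ := hc3
  have hj3 : G.g 2 * G.g 1 = G.g 1 ^ c.j3 * G.g 2 := by
    have := word_eq G (by intro x hx; simp at hx; omega) hrel2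
    rw [wordProd_append, wordProd_replicate] at this
    exact Subtype.ext (by simpa [wordProd, permsOf] using this)
  have hcc : ψ (G.g 2) * G.g 1 = G.g 1 ^ c.j3 * ψ (G.g 2) := by
    have h := congrArg ψ hj3
    rwa [map_mul, map_mul, map_pow, hψ1] at h
  have hpow3 : Rep (wordProd (permsOf G 1) (List.replicate c.j3 1)) (packW c.imgs (List.replicate c.j3 1)) :=
    rep_packW fun x hx => rep_permsOf G (Or.inl (by simp at hx; omega))
  rw [wordProd_replicate] at hpow3
  obtain ⟨r3, hr3, hrep3⟩ := searchAux_complete' (G := G) (P := G.g 1) (Q := G.g 1 ^ c.j3) (x := ψ (G.g 2)) G.hk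
    (G.rep 1) hpow3 hcc c.plan2 hplan2
  obtain ⟨e, he, herep⟩ : ∃ e : Bool, ψ (G.g 0) = (if e then G.g 0 else (G.g 0)⁻¹) ∧
      Rep (ψ (G.g 0) : Equiv.Perm GolayPt) (if e then c.gp 0 else c.gpi 0) := by
    rcases ha with h | h
    · exact ⟨true, hψ0.trans h, by rw [hψ0, h]; exact G.rep 0⟩
    · exact ⟨false, hψ0.trans h, by rw [hψ0, h]; exact G.repi 0⟩
  refine ⟨G.g 0 ^ i * a, e, r3, hr3, he, hψ1, hrep3, ?_⟩
  simp only [relsHold, List.all_eq_true]
  intro rl hrl
  have hlt : ∀ x ∈ (List.replicate rl.2 rl.1).flatten, x < 3 := by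
    intro x hx
    obtain ⟨l, hl, hxl⟩ := List.mem_flatten.1 hx
    rw [List.eq_of_mem_replicate hl] at hxl
    exact Nat.le_of_ble_eq_true (hidx rl hrl x hxl)
  have h0 := List.all_eq_true.1 hrels rl hrl
  let gs0 : ℕ → c.grp := fun x => G.g (Fin.ofNat 3 x)
  refine (wEq_iff (gs := fun x => (ψ (gs0 x) : Equiv.Perm GolayPt)) fun x hx => ?_).2 ?_
  · rw [List.append_nil] at hx
    have := hlt x hx
    interval_cases x
    · exact herep
    · show Rep (ψ (G.g 1) : Equiv.Perm GolayPt) _
      rw [hψ1]; exact G.rep 1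
    · exact hrep3
  · have h1 : wordProd (fun x => (gs0 x : Equiv.Perm GolayPt)) (List.replicate rl.2 rl.1).flatten = 1 :=
      (wEq_iff (w2 := []) fun x hx => by
        rw [List.append_nil] at hx
        have := hlt x hx
        interval_cases x
        exacts [G.rep 0, G.rep 1, G.rep 2]).1 h0
    have h2 : wordProd gs0 (List.replicate rl.2 rl.1).flatten = 1 := by
      apply c.grp.subtype_injective
      rw [map_wordProd, map_one]; exact h1
    have h3 := map_wordProd (c.grp.subtype.comp ψ.toMonoidHom) gs0 (List.replicate rl.2 rl.1).flatten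
    rw [h2, map_one] at h3
    exact h3.symm

theorem mem_inn_of_conj {G : Type*} [Group G] {φ : MulAut G} {a : G} (h : MulAut.conj a * φ ∈ Cfsg.Inn G) :
    φ ∈ Cfsg.Inn G := by
  have := Subgroup.mul_mem _ (Subgroup.inv_mem _ (⟨a, rfl⟩ : MulAut.conj a ∈ Cfsg.Inn G)) h
  rwa [inv_mul_cancel_left] at this

theorem out_card_one (hc1 : powCheck c = true) (hc2 : secondCheck c = true) (hc3 : thirdCheck c = true)
    (hc4 : noInvertCheck c = true) (G : AutGens c) (hp : c.p.Prime) (hdvd : ¬ c.p ^ 2 ∣ 244823040) :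
    Nat.card (Cfsg.Out c.grp) = 1 := by
  have htop : Cfsg.Inn c.grp = ⊤ := by
    refine eq_top_iff.2 fun φ _ => ?_
    obtain ⟨a, e, r, hr, he0, he1, hrep, hrels⟩ := exists_normalised_two hc1 hc2 hc3 G hp hdvd φ
    cases e
    · rw [noInvertCheck, List.all_eq_true] at hc4
      have := hc4 r hr
      rw [if_neg Bool.false_ne_true] at hrels
      rw [hrels] at this
      exact Bool.noConfusion this
    · simp only [thirdCheck, Bool.and_eq_true, List.all_eq_true, Bool.or_eq_true,
        Bool.not_eq_true'] at hc3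
      rw [if_pos rfl] at hrels
      have h8 := (hc3.2 r hr).resolve_left (by rw [hrels]; exact Bool.noConfusion)
      have h9 := (wEq_iff (gs := permsExt G 1 _) fun x hx => rep_permsExt G hrep (by simp at hx; omega)).1 h8
      simp only [wordProd, permsExt, permsOf, List.map_cons, List.map_nil, List.prod_singleton] at h9
      have heq : MulAut.conj a * φ = 1 := by
        have h := gen_ext G (f := c.grp.subtype.comp (MulAut.conj a * φ).toMonoidHom) (f' := c.grp.subtype) fun i => by
          fin_cases i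
          · exact congrArg Subtype.val he0
          · exact congrArg Subtype.val he1
          · exact h9
        exact MulEquiv.ext fun x => Subtype.ext (DFunLike.congr_fun h x)
      exact mem_inn_of_conj (heq ▸ one_mem _)
  rw [← Subgroup.index, htop, Subgroup.index_top]

theorem out_card_two (hc1 : powCheck c = true) (hc2 : secondCheck c = true) (hc3 : thirdCheck c = true)
    (hc4 : tauCheck c = true) (G : AutGens c) (hp : c.p.Prime) (hdvd : ¬ c.p ^ 2 ∣ 244823040) :
    Nat.card (Cfsg.Out c.grp) = 2 := by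
  simp only [tauCheck, Bool.and_eq_true, List.all_eq_true, Bool.or_eq_true, Bool.not_eq_true',
    List.isEmpty_iff] at hc4
  obtain ⟨⟨⟨⟨⟨⟨⟨hB, hp1⟩, hp2⟩, hp3⟩, hw0⟩, hw1⟩, hel⟩, hno⟩ := hc4
  obtain ⟨τ, hτ, hτi⟩ := exists_perm_of_packed hp1 hp2 (by
    simpa only [List.all_eq_true, Bool.and_eq_true] using hp3)
  have hrep8 : ∀ a < 8, Rep (permsOf G τ a) (c.imgs.getD a 0) := fun a ha =>
    rep_permsOf G (Or.inr ⟨ha, hτ, hτi⟩)
  have e0 : τ * G.g 0 * τ⁻¹ = (G.g 0 : Equiv.Perm GolayPt)⁻¹ := by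
    have := (wEq_iff (gs := permsOf G τ) fun x hx => hrep8 x (by simp at hx; omega)).1 hw0
    simpa [wordProd, permsOf, mul_assoc] using this
  have e1 : τ * G.g 1 * τ⁻¹ = (G.g 1 : Equiv.Perm GolayPt) := by
    have := (wEq_iff (gs := permsOf G τ) fun x hx => hrep8 x (by simp at hx; omega)).1 hw1
    simpa [wordProd, permsOf, mul_assoc] using this
  have e2 : τ * G.g 2 * τ⁻¹ ∈ c.grp := by
    obtain ⟨g, hg, hgr, -⟩ := exists_of_elemCheck G.hk hel
    have hr : Rep (wordProd (permsOf G τ) [6, 2, 7]) (packW c.imgs [6, 2, 7]) :=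
      rep_packW fun x hx => hrep8 x (by simp at hx; omega)
    have := hgr.ext hr
    rw [this] at hg
    show τ * G.g 2 * τ⁻¹ ∈ mSub c.k (mset c.D)
    simpa [wordProd, permsOf, mul_assoc] using hg
  let f : c.grp →* Equiv.Perm GolayPt := (MulAut.conj τ).toMonoidHom.comp c.grp.subtype
  have hmem : ∀ x, f x ∈ c.grp := by
    have hle : Subgroup.closure (Set.range G.g) ≤ c.grp.comap f := by
      rw [Subgroup.closure_le]
      rintro _ ⟨i, rfl⟩
      show τ * G.g i * τ⁻¹ ∈ c.grp
      fin_cases i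
      · exact (congrArg (· ∈ c.grp) e0).mpr (inv_mem (G.g 0).2)
      · exact (congrArg (· ∈ c.grp) e1).mpr (G.g 1).2
      · exact e2
    intro x
    exact hle (G.gen ▸ Subgroup.mem_top x)
  have hinj : Function.Injective (f.codRestrict c.grp hmem) := fun x y h =>
    Subtype.ext ((MulAut.conj τ).injective (congrArg Subtype.val h))
  let T : MulAut c.grp := MulEquiv.ofBijective _ (Finite.injective_iff_bijective.1 hinj)
  have hT : ∀ x : c.grp, (T x : Equiv.Perm GolayPt) = τ * x * τ⁻¹ := fun _ => rfl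
  have hdich : ∀ φ : MulAut c.grp, φ ∈ Cfsg.Inn c.grp ∨ ∃ b, φ = MulAut.conj b * T := by
    intro φ
    obtain ⟨a, e, r, hr, he0, he1, hrep, hrels⟩ := exists_normalised_two hc1 hc2 hc3 G hp hdvd φ
    cases e
    · right
      rw [if_neg Bool.false_ne_true] at hrels he0
      have h8 := (hB r hr).resolve_left (by rw [hrels]; exact Bool.noConfusion)
      have h9 := (wEq_iff (gs := permsExt G τ _) fun x hx => rep_permsExt G hrep (by
        rcases (show x = 8 ∨ x = 6 ∨ x = 2 ∨ x = 7 by simp at hx; omega) with rfl | rfl | rfl | rfl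
        · exact Or.inr (Or.inl rfl)
        · exact Or.inr (Or.inr ⟨by norm_num, hτ, hτi⟩)
        · exact Or.inl (by norm_num)
        · exact Or.inr (Or.inr ⟨by norm_num, hτ, hτi⟩))).1 h8
      simp [wordProd, permsExt, permsOf] at h9
      have heq : MulAut.conj a * φ = T := by
        have h := gen_ext G (f := c.grp.subtype.comp (MulAut.conj a * φ).toMonoidHom)
          (f' := c.grp.subtype.comp T.toMonoidHom) fun i => by
          fin_cases i
          · exact (congrArg Subtype.val he0).trans e0.symm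
          · exact (congrArg Subtype.val he1).trans e1.symm
          · exact h9.trans (mul_assoc _ _ _).symm
        exact MulEquiv.ext fun x => Subtype.ext (DFunLike.congr_fun h x)
      exact ⟨a⁻¹, by rw [← heq, map_inv, inv_mul_cancel_left]⟩
    · left
      simp only [thirdCheck, Bool.and_eq_true, List.all_eq_true, Bool.or_eq_true,
        Bool.not_eq_true'] at hc3
      rw [if_pos rfl] at hrels he0
      have h8 := (hc3.2 r hr).resolve_left (by rw [hrels]; exact Bool.noConfusion)
      have h9 := (wEq_iff (gs := permsExt G 1 _) fun x hx => rep_permsExt G hrep (by simp at hx; omega)).1 h8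
      simp only [wordProd, permsExt, permsOf, List.map_cons, List.map_nil, List.prod_singleton] at h9
      have heq : MulAut.conj a * φ = 1 := by
        have h := gen_ext G (f := c.grp.subtype.comp (MulAut.conj a * φ).toMonoidHom) (f' := c.grp.subtype) fun i => by
          fin_cases i
          · exact congrArg Subtype.val he0
          · exact congrArg Subtype.val he1
          · exact h9
        exact MulEquiv.ext fun x => Subtype.ext (DFunLike.congr_fun h x)
      exact mem_inn_of_conj (heq ▸ one_mem _)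
  have hTnot : T ∉ Cfsg.Inn c.grp := by
    rintro ⟨a, ha⟩
    have h : a * G.g 0 = (G.g 0)⁻¹ * a := by
      have h1 : a * G.g 0 * a⁻¹ = (G.g 0)⁻¹ := by
        have := DFunLike.congr_fun ha (G.g 0)
        rw [MulAut.conj_apply] at this
        exact this.trans (Subtype.ext ((hT _).trans e0))
      exact mul_inv_eq_iff_eq_mul.1 h1
    obtain ⟨r, hr, -⟩ := searchAux_complete' (G := G) G.hk (G.rep 0) (G.repi 0) h c.plan1 (by
      simp only [secondCheck, Bool.and_eq_true] at hc2
      exact hc2.1.1)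
    have hr' : r ∈ searchAux c.k c.D (c.gp 0) (c.gpi 0) c.plan1 0 0 := hr
    rw [hno] at hr'
    exact List.not_mem_nil hr'
  rw [← Subgroup.index, Subgroup.index_eq_two_iff]
  refine ⟨T, fun φ => ?_⟩
  rcases hdich φ with h | ⟨b, rfl⟩
  · refine Or.inr ⟨h, fun h2 => hTnot ?_⟩
    have := mul_mem (inv_mem h) h2
    rwa [inv_mul_cancel_left] at this
  · refine Or.inl ⟨?_, fun h2 => hTnot ?_⟩
    · rcases hdich (T * T) with h | ⟨d, hd⟩
      · rw [mul_assoc]; exact mul_mem ⟨b, rfl⟩ h
      · exact absurd (mul_right_cancel hd ▸ ⟨d, rfl⟩) hTnot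
    · have := mul_mem (inv_mem (⟨b, rfl⟩ : MulAut.conj b ∈ Cfsg.Inn c.grp)) h2
      rwa [inv_mul_cancel_left] at this

/-- Transport of automorphism groups. -/
theorem card_out_congr {A B : Type*} [Group A] [Group B] (e : A ≃* B) :
    Nat.card (Cfsg.Out A) = Nat.card (Cfsg.Out B) := by
  refine Nat.card_congr (QuotientGroup.congr (Cfsg.Inn A) (Cfsg.Inn B) (MulAut.congr e) ?_).toEquiv
  ext φ
  constructor
  · rintro ⟨_, ⟨a, rfl⟩, rfl⟩
    exact ⟨e a, MulEquiv.ext fun x => by simp [MulAut.congr]⟩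
  · rintro ⟨b, rfl⟩
    exact ⟨MulAut.conj (e.symm b), ⟨_, rfl⟩, MulEquiv.ext fun x => by simp [MulAut.congr]⟩

end Cfsg.Lib.Concrete
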