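import Cfsg.Agent.Lib.Concrete.MathieuPerfect
import Cfsg.Agent.Lib.Concrete.MathieuAutData

/-!
A complete search for the elements of a chain subgroup of M24 that transport one permutation to
another, pruned by code words, and words in packed permutations.
-/

set_option autoImplicit false

namespace Cfsg.Lib.Concrete

open scoped Pointwise

/-- Packing of a list of images. -/
def packList : List ℕ → ℕ
  | [] => 0
  | a :: L => Nat.add a (Nat.mul 32 (packList L))

theorem pget_packList : ∀ L : List ℕ, (∀ a ∈ L, a < 32) → ∀ i < L.length,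
    pget (packList L) i = L.getD i 0 := by
  intro L
  induction L with
  | nil => intro _ i hi; simp at hi
  | cons a L ih =>
    intro h i hi
    have ha := h a (List.mem_cons_self ..)
    show (((a + 32 * packList L) >>> (5 * i)) &&& 31) = (a :: L).getD i 0
    rw [show (31 : ℕ) = 2 ^ 5 - 1 from rfl, Nat.and_two_pow_sub_one_eq_mod]
    cases i with
    | zero => simp [Nat.add_mul_mod_self_left, Nat.mod_eq_of_lt ha]
    | succ i =>
      have h1 := ih (fun b hb => h b (List.mem_cons_of_mem _ hb)) i (by simpa using hi)
      rw [pget, Nat.mul_eq] at h1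
      rw [show (31 : ℕ) = 2 ^ 5 - 1 from rfl] at h1
      have h2 : (packList L >>> (5 * i)) % 2 ^ 5 = L.getD i 0 := by
        rw [← Nat.and_two_pow_sub_one_eq_mod]; exact h1
      have h3 : (a + 32 * packList L) >>> (5 * (i + 1)) = packList L >>> (5 * i) := by
        rw [show 5 * (i + 1) = 5 + 5 * i by ring, Nat.shiftRight_add]
        congr 1
        rw [Nat.shiftRight_eq_div_pow]
        omega
      rw [h3, h2, List.getD_cons_succ]

theorem nbeq_false {a b : ℕ} (h : a ≠ b) : Nat.beq a b = false := by
  cases e : Nat.beq a b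
  · rfl
  · exact absurd (Nat.eq_of_beq_eq_true e) h

/-- Setting the image of one position. -/
def pset (a x y : ℕ) : ℕ := Nat.lor a (Nat.shiftLeft y (Nat.mul 5 x))

theorem testBit_pget (a i j : ℕ) : (pget a i).testBit j = (a.testBit (5 * i + j) && decide (j < 5)) := by
  show ((a >>> (5 * i)) &&& 31).testBit j = _
  rw [Nat.testBit_and, Nat.testBit_shiftRight, show (31 : ℕ) = 2 ^ 5 - 1 from rfl,
    Nat.testBit_two_pow_sub_one]

theorem pget_pset {a x y : ℕ} (hy : y < 32) (h0 : pget a x = 0) (i : ℕ) :
    pget (pset a x y) i = if i = x then y else pget a i := by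
  have hy' : ∀ j, 5 ≤ j → y.testBit j = false := fun j hj =>
    Nat.testBit_lt_two_pow (lt_of_lt_of_le hy (by
      calc 32 = 2 ^ 5 := rfl
        _ ≤ 2 ^ j := Nat.pow_le_pow_right (by norm_num) hj))
  have e : pset a x y = a ||| (y <<< (5 * x)) := rfl
  refine Nat.eq_of_testBit_eq fun j => ?_
  rw [testBit_pget, e, Nat.testBit_or, Nat.testBit_shiftLeft]
  by_cases hj : j < 5
  · simp only [hj, decide_true, Bool.and_true]
    by_cases hi : i = x
    · subst hi
      rw [if_pos rfl]
      have h := testBit_pget a i j
      rw [h0, Nat.zero_testBit] at h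
      simp only [hj, decide_true, Bool.and_true] at h
      rw [← h]
      simp
    · rw [if_neg hi, testBit_pget]
      simp only [hj, decide_true, Bool.and_true]
      by_cases hle : 5 * x ≤ 5 * i + j
      · rw [hy' _ (by omega)]; simp
      · simp [hle]
  · simp only [hj, decide_false, Bool.and_false]
    split_ifs
    · exact (hy' j (by omega)).symm
    · rw [testBit_pget]; simp [hj]

/-- The possible images at a step. -/
def stepOpts (q a : ℕ) (st : PlanStep) : List ℕ :=
  if Nat.beq st.2.1 24 then bits24 else [pget q (pget a st.2.1)]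

/-- The tests applied to a proposed image. -/
def mathieuStepOk (k D p q a used : ℕ) (st : PlanStep) (y : ℕ) : Bool :=
  !(used.testBit y) &&
    ((List.range k).all fun j => !(Nat.beq st.1 (m24Base.getD j 0)) || Nat.beq y st.1) &&
    (D.testBit st.1 == D.testBit y) &&
    (!(Nat.beq st.2.1 24) || (Nat.beq (pget p st.1) st.1 == Nat.beq (pget q y) y)) &&
    st.2.2.all fun m => isCode (pimg (pset a st.1 y) m)

/-- All packed candidates. -/
def searchAux (k D p q : ℕ) : List PlanStep → ℕ → ℕ → List ℕ
  | [], a, _ => [a]
  | st :: rest, a, used => (stepOpts q a st).flatMap fun y =>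
      if mathieuStepOk k D p q a used st y then
        searchAux k D p q rest (pset a st.1 y) (Nat.lor used (Nat.shiftLeft 1 y))
      else []

/-- Validity of a plan for `p`. -/
def planOk (p : ℕ) : List PlanStep → ℕ → Bool
  | [], S => Nat.beq S 16777215
  | st :: rest, S =>
    decide (st.1 < 24) && !(S.testBit st.1) &&
      (Nat.beq st.2.1 24 || (decide (st.2.1 < 24) && S.testBit st.2.1 && Nat.beq (pget p st.2.1) st.1)) &&
      (st.2.2.all fun m => isCode m && decide (m < 16777216) &&
        Nat.beq (Nat.land m (Nat.lor S (Nat.shiftLeft 1 st.1))) m) &&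
      planOk p rest (Nat.lor S (Nat.shiftLeft 1 st.1))

/-- The image of a position. -/
def posImg (g : Equiv.Perm GolayPt) (i : ℕ) : ℕ := (gidx (g (gpt (Fin.ofNat 24 i)))).val

theorem posImg_gidx (g : Equiv.Perm GolayPt) (x : GolayPt) : posImg g (gidx x).val = (gidx (g x)).val := by
  rw [posImg]
  congr 3
  apply gidx_injective
  rw [gidx_gpt]
  exact Fin.ext (Nat.mod_eq_of_lt (gidx x).isLt)

theorem posImg_lt (g : Equiv.Perm GolayPt) (i : ℕ) : posImg g i < 24 := Fin.isLt _

theorem posImg_inj (g : Equiv.Perm GolayPt) {i j : ℕ} (hi : i < 24) (hj : j < 24)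
    (h : posImg g i = posImg g j) : i = j := by
  have h1 := gpt_injective (g.injective (gidx_injective (Fin.ext h)))
  simpa [Fin.ext_iff, Nat.mod_eq_of_lt hi, Nat.mod_eq_of_lt hj] using h1

theorem Rep.posImg_eq {g : Equiv.Perm GolayPt} {p : ℕ} (h : Rep g p) {i : ℕ} (hi : i < 24) :
    posImg g i = pget p i := by
  rw [posImg, h, gidx_gpt]
  simp [Nat.mod_eq_of_lt hi]

theorem searchAux_complete {k D p q : ℕ} (hk : k ≤ 7) {P Q g : Equiv.Perm GolayPt}
    (hP : Rep P p) (hQ : Rep Q q) (hg : g ∈ mSub k (mset D)) (hgPQ : g * P = Q * g) :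
    ∀ (steps : List PlanStep) (S a used : ℕ), planOk p steps S = true →
      (∀ i < 24, pget a i = if S.testBit i then posImg g i else 0) →
      (∀ y, used.testBit y = true → ∃ i < 24, S.testBit i = true ∧ y = posImg g i) →
      ∃ r ∈ searchAux k D p q steps a used, Rep g r := by
  obtain ⟨hg24, hgfix, hgD⟩ := mem_mSub.1 hg
  have hgq : ∀ i < 24, posImg g (pget p i) = pget q (posImg g i) := by
    intro i hi
    have h1 : gidx (gpt (Fin.ofNat 24 i)) = Fin.ofNat 24 i := gidx_gpt _
    have h2 := congrArg (fun f : Equiv.Perm GolayPt => (gidx (f (gpt (Fin.ofNat 24 i)))).val) hgPQ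
    simp only [Equiv.Perm.mul_apply] at h2
    rw [hQ, ← posImg_gidx, hP, h1] at h2
    simpa [posImg, Nat.mod_eq_of_lt hi] using h2
  intro steps
  induction steps with
  | nil =>
    intro S a used hp ha _
    simp only [planOk, Nat.beq_eq] at hp
    subst hp
    refine ⟨a, List.mem_singleton_self _, fun x => ?_⟩
    rw [ha _ (gidx x).isLt, if_pos, posImg_gidx]
    rw [show (16777215 : ℕ) = 2 ^ 24 - 1 from rfl, Nat.testBit_two_pow_sub_one]
    simp
  | cons st rest ih =>
    obtain ⟨x, par, ms⟩ := st
    intro S a used hp ha hused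
    simp only [planOk, Bool.and_eq_true, Bool.or_eq_true, decide_eq_true_eq, Nat.beq_eq,
      List.all_eq_true, Bool.not_eq_true'] at hp
    obtain ⟨⟨⟨⟨hx, hxS⟩, hpar⟩, hms⟩, hrest⟩ := hp
    have hyy : ∀ i, (Nat.lor S (Nat.shiftLeft 1 x)).testBit i = (S.testBit i || decide (x = i)) := by
      intro i
      show (S ||| 1 <<< x).testBit i = _
      rw [Nat.testBit_or, Nat.one_shiftLeft, Nat.testBit_two_pow]
    have ha0 : pget a x = 0 := by rw [ha x hx, hxS]; rfl
    have ha' : ∀ i < 24, pget (pset a x (posImg g x)) i =
        if (Nat.lor S (Nat.shiftLeft 1 x)).testBit i then posImg g i else 0 := by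
      intro i hi
      rw [pget_pset (lt_trans (posImg_lt g x) (by norm_num)) ha0, hyy]
      by_cases h : i = x
      · subst h; simp
      · rw [if_neg h, ha i hi]; simp [Ne.symm h]
    have hopt : posImg g x ∈ stepOpts q a (x, par, ms) := by
      simp only [stepOpts]
      by_cases hb : par = 24
      · subst hb
        simpa using mem_bits24.2 (posImg_lt g x)
      · obtain ⟨⟨hp1, hp2⟩, hp3⟩ := hpar.resolve_left hb
        rw [if_neg (by simpa using hb), List.mem_singleton, ha par hp1, if_pos hp2, ← hgq par hp1, hp3]
    have hok : mathieuStepOk k D p q a used (x, par, ms) (posImg g x) = true := by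
      simp only [mathieuStepOk, Bool.and_eq_true, Bool.not_eq_true', List.all_eq_true, List.mem_range,
        Bool.or_eq_true, Nat.beq_eq, beq_iff_eq]
      refine ⟨⟨⟨⟨?_, ?_⟩, ?_⟩, ?_⟩, ?_⟩
      · by_contra hu
        simp only [Bool.not_eq_false] at hu
        obtain ⟨i, hi, hiS, hxi⟩ := hused _ hu
        rw [posImg_inj g hx hi hxi, hiS] at hxS
        exact Bool.noConfusion hxS
      · intro j hj
        by_cases hb : x = m24Base.getD j 0
        · right
          have hj7 : j < 7 := by omega
          have := hgfix j hj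
          rw [posImg, hb]
          rw [bp] at this
          rw [this, gidx_gpt]
          exact Nat.mod_eq_of_lt (base_lt j hj7)
        · left; exact nbeq_false hb
      · have h1 := Finset.smul_mem_smul_finset_iff g (s := mset D) (b := gpt (Fin.ofNat 24 x))
        rw [hgD, mem_mset, mem_mset, gidx_gpt] at h1
        have h2 : D.testBit (posImg g x) = true ↔ D.testBit x = true := by
          simpa [posImg, Nat.mod_eq_of_lt hx] using h1
        rw [Bool.eq_iff_iff]
        exact h2.symm
      · by_cases hb : par = 24
        · right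
          rw [Bool.eq_iff_iff, Nat.beq_eq, Nat.beq_eq]
          constructor
          · intro h
            rw [← hgq x hx, h]
          · intro h
            have hpl : pget p x < 24 := by
              rw [← hP.posImg_eq hx]; exact posImg_lt P x
            exact posImg_inj g hpl hx ((hgq x hx).trans h)
        · left; exact nbeq_false hb
      · intro m hm
        obtain ⟨⟨hc, hlt⟩, hsub⟩ := hms m hm
        have hlt' : m < 2 ^ 24 := hlt
        have hin : ∀ i, m.testBit i = true → (Nat.lor S (Nat.shiftLeft 1 x)).testBit i = true := by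
          intro i hi
          have : (Nat.land m (Nat.lor S (Nat.shiftLeft 1 x))).testBit i = m.testBit i := by rw [hsub]
          rw [show Nat.land m (Nat.lor S (Nat.shiftLeft 1 x)) = m &&& Nat.lor S (Nat.shiftLeft 1 x) from rfl,
            Nat.testBit_and, hi, Bool.true_and] at this
          exact this
        have hagree : ∀ y : GolayPt, m.testBit (gidx y).val = true →
            pget (pset a x (posImg g x)) (gidx y).val = (gidx (g y)).val := fun y hy => by
          rw [ha' _ (gidx y).isLt, if_pos (hin _ hy), posImg_gidx]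
        have himg : g • mset m = mset (pimg (pset a x (posImg g x)) m) := by
          ext y
          rw [Finset.mem_smul_finset, mem_mset, pimg, testBit_orMask]
          constructor
          · rintro ⟨z, hz, rfl⟩
            exact ⟨(gidx z).val, mem_bits24.2 (gidx z).isLt, mem_mset.1 hz, hagree z (mem_mset.1 hz)⟩
          · rintro ⟨i, hi, hm', hp'⟩
            have hgi : (gidx (gpt ⟨i, mem_bits24.1 hi⟩)).val = i := by rw [gidx_gpt]
            refine ⟨gpt ⟨i, mem_bits24.1 hi⟩, mem_mset.2 (hgi.symm ▸ hm'), ?_⟩
            refine gidx_injective (Fin.ext ?_)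
            show (gidx (g (gpt ⟨i, mem_bits24.1 hi⟩))).val = _
            rw [← hagree _ (hgi.symm ▸ hm'), hgi, hp']
        have hbound : pimg (pset a x (posImg g x)) m < 2 ^ 24 := by
          refine Nat.lt_pow_two_of_testBit _ fun b hb => ?_
          by_contra hbit
          simp only [Bool.not_eq_false] at hbit
          rw [pimg, testBit_orMask] at hbit
          obtain ⟨i, hi, hm', hp'⟩ := hbit
          rw [← hp', ha' i (mem_bits24.1 hi), if_pos (hin i hm')] at hb
          exact absurd (posImg_lt g i) (by omega)
        have hmem := (mset_mem_supports_iff hlt').2 hc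
        have := mem_M24_iff.1 hg24 _ hmem
        rw [himg] at this
        exact (mset_mem_supports_iff hbound).1 this
    obtain ⟨r, hr, hrep⟩ := ih (Nat.lor S (Nat.shiftLeft 1 x)) (pset a x (posImg g x))
      (Nat.lor used (Nat.shiftLeft 1 (posImg g x))) hrest ha' (by
        intro y hy
        rw [show Nat.lor used (Nat.shiftLeft 1 (posImg g x)) = used ||| 1 <<< posImg g x from rfl,
          Nat.testBit_or, Bool.or_eq_true, Nat.one_shiftLeft, Nat.testBit_two_pow, decide_eq_true_eq] at hy
        rcases hy with hy | hy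
        · obtain ⟨i, hi, hiS, e⟩ := hused y hy
          exact ⟨i, hi, by rw [hyy, hiS]; rfl, e⟩
        · exact ⟨x, hx, by rw [hyy]; simp, hy.symm⟩)
    refine ⟨r, ?_, hrep⟩
    rw [searchAux, List.mem_flatMap]
    exact ⟨_, hopt, by rw [if_pos hok]; exact hr⟩

theorem search_complete {k D p q : ℕ} (hk : k ≤ 7) {P Q g : Equiv.Perm GolayPt}
    (hP : Rep P p) (hQ : Rep Q q) (hg : g ∈ mSub k (mset D)) (hgPQ : g * P = Q * g)
    (steps : List PlanStep) (hplan : planOk p steps 0 = true) :
    ∃ r ∈ searchAux k D p q steps 0 0, Rep g r :=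
  searchAux_complete hk hP hQ hg hgPQ steps 0 0 0 hplan
    (fun i _ => by
      rw [Nat.zero_testBit]
      show pget 0 i = 0
      refine Nat.eq_of_testBit_eq fun j => ?_
      rw [testBit_pget]; simp)
    fun y hy => by simp at hy

/-- Evaluation of a word in packed permutations at a position. -/
def evalW (imgs : List ℕ) (w : List ℕ) (x : ℕ) : ℕ := w.foldr (fun a y => pget (imgs.getD a 0) y) x

/-- The packed permutation of a word. -/
def packW (imgs : List ℕ) (w : List ℕ) : ℕ := packList (bits24.map fun x => evalW imgs w x)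

/-- The product of a word in permutations. -/
def wordProd {M : Type*} [Monoid M] (gs : ℕ → M) (w : List ℕ) : M := (w.map gs).prod

theorem map_wordProd {M N F : Type*} [Monoid M] [Monoid N] [FunLike F M N] [MonoidHomClass F M N]
    (f : F) (gs : ℕ → M) (w : List ℕ) : f (wordProd gs w) = wordProd (fun a => f (gs a)) w := by
  rw [wordProd, map_list_prod, List.map_map]; rfl

theorem evalW_eq {gs : ℕ → Equiv.Perm GolayPt} {imgs : List ℕ} :
    ∀ w : List ℕ, (∀ a ∈ w, Rep (gs a) (imgs.getD a 0)) → ∀ x : GolayPt,
      (gidx (wordProd gs w x)).val = evalW imgs w (gidx x).val := by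
  intro w
  induction w with
  | nil => intro _ x; rfl
  | cons a w ih =>
    intro h x
    show (gidx ((gs a * wordProd gs w) x)).val = pget (imgs.getD a 0) (evalW imgs w (gidx x).val)
    rw [Equiv.Perm.mul_apply, h a (List.mem_cons_self ..),
      ih (fun b hb => h b (List.mem_cons_of_mem _ hb))]

theorem rep_packW {gs : ℕ → Equiv.Perm GolayPt} {imgs : List ℕ} {w : List ℕ}
    (h : ∀ a ∈ w, Rep (gs a) (imgs.getD a 0)) : Rep (wordProd gs w) (packW imgs w) := by
  intro x
  rw [evalW_eq w h x, packW]
  have hlen : bits24.length = 24 := rfl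
  have hget : ∀ i < 24, bits24.getD i 0 = i := by decide
  have hi := (gidx x).isLt
  rw [pget_packList _ ?_ _ (by rw [List.length_map, hlen]; exact hi)]
  · rw [List.getD_eq_getElem?_getD, List.getElem?_map]
    have := hget _ hi
    rw [List.getD_eq_getElem?_getD] at this
    rcases hb : bits24[(gidx x).val]? with _ | b
    · rw [List.getElem?_eq_none_iff, hlen] at hb; omega
    · rw [hb] at this; simp only [Option.getD_some] at this; subst this; rfl
  · intro b hb
    obtain ⟨i, hi', rfl⟩ := List.mem_map.1 hb
    have e := evalW_eq w h (gpt ⟨i, mem_bits24.1 hi'⟩)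
    rw [gidx_gpt] at e
    rw [show (⟨i, mem_bits24.1 hi'⟩ : Fin 24).val = i from rfl] at e
    rw [← e]
    exact lt_trans (Fin.isLt _) (by norm_num)

end Cfsg.Lib.Concrete
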