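import Cfsg.Agent.Lib.Concrete.SixPoints
import Cfsg.Agent.Lib.Concrete.TrioSext

/-!
Maximality of stabilisers in M24 from the lengths of suborbits.
-/

set_option autoImplicit false

namespace Cfsg.Lib.Concrete

theorem lor_eq_or (a b : ℕ) : Nat.lor a b = a ||| b := rfl

open Finset
open scoped Pointwise

theorem isCoatom_stabilizer_of_suborbits {G β : Type*} [Group G] [MulAction G β] [DecidableEq β]
    {X : Finset β} {x : β} (hx : x ∈ X) (hinv : ∀ g : G, ∀ y ∈ X, g • y ∈ X)
    (htr : ∀ y ∈ X, ∃ g : G, g • x = y) {n : ℕ} (hn : X.card = n) (hn1 : 1 < n)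
    (f : β → ℕ) (horb : ∀ y ∈ X, ∀ z ∈ X, f y = f z → ∃ g : G, g • x = x ∧ g • y = z)
    {S : Finset ℕ} (size : ℕ → ℕ) (hS : ∀ y ∈ X, f y ∈ S)
    (hsize : ∀ k ∈ S, (X.filter fun y => f y = k).card = size k) {k0 : ℕ} (hk0 : f x = k0)
    (hnum : ∀ K ∈ S.powerset, k0 ∈ K → (∑ k ∈ K, size k) ∣ n →
      (∑ k ∈ K, size k) = 1 ∨ (∑ k ∈ K, size k) = n) :
    IsCoatom (MulAction.stabilizer G x) := by
  classical
  set H := MulAction.stabilizer G x
  have horbX : MulAction.orbit G x = ↑X := by
    ext y
    constructor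
    · rintro ⟨g, rfl⟩; exact mem_coe.2 (hinv g x hx)
    · intro hy; obtain ⟨g, rfl⟩ := htr y hy; exact MulAction.mem_orbit x g
  have hidx : H.index = n := by
    rw [MulAction.index_stabilizer, horbX, Set.ncard_coe_finset, hn]
  refine ⟨fun h => ?_, fun M hM => ?_⟩
  · rw [h, Subgroup.index_top] at hidx; omega
  set B := X.filter fun y => ∃ g ∈ M, g • x = y with hB
  have horbM : MulAction.orbit M x = ↑B := by
    ext y
    rw [mem_coe, hB, mem_filter]
    constructor
    · rintro ⟨⟨g, hg⟩, rfl⟩; exact ⟨hinv g x hx, g, hg, rfl⟩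
    · rintro ⟨-, g, hg, rfl⟩; exact ⟨⟨g, hg⟩, rfl⟩
  have hBcard : B.card = H.relIndex M := by
    rw [← Set.ncard_coe_finset, ← horbM, ← MulAction.index_stabilizer]
    congr 1
  have hmul : B.card * M.index = n := by rw [hBcard, Subgroup.relIndex_mul_index hM.le, hidx]
  have hBsum : B.card = ∑ k ∈ B.image f, size k := by
    rw [card_eq_sum_card_image f B]
    refine sum_congr rfl fun k hk => ?_
    obtain ⟨y, hy, rfl⟩ := mem_image.1 hk
    rw [← hsize _ (hS y (mem_filter.1 hy).1)]
    congr 1
    ext z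
    simp only [mem_filter, hB]
    refine ⟨fun h => ⟨h.1.1, h.2⟩, fun h => ⟨⟨h.1, ?_⟩, h.2⟩⟩
    obtain ⟨hyX, g, hg, hgy⟩ := mem_filter.1 hy
    obtain ⟨u, hu, huy⟩ := horb y hyX z h.1 h.2.symm
    refine ⟨u * g, mul_mem (hM.le hu) hg, ?_⟩
    rw [mul_smul, hgy, huy]
  have hxB : x ∈ B := mem_filter.2 ⟨hx, 1, one_mem _, one_smul _ _⟩
  rcases hnum (B.image f) (mem_powerset.2 fun k hk => by
      obtain ⟨y, hy, rfl⟩ := mem_image.1 hk; exact hS y (mem_filter.1 hy).1)
    (mem_image.2 ⟨x, hxB, hk0⟩) (hBsum ▸ ⟨M.index, hmul.symm⟩) with h | h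
  · rw [← hBsum, hBcard, Subgroup.relIndex_eq_one] at h
    exact absurd h (not_le_of_gt hM)
  · rw [← hBsum] at h
    rw [h] at hmul
    exact Subgroup.index_eq_one.1 (Nat.eq_of_mul_eq_mul_left (show 0 < n by omega) (hmul.trans (mul_one n).symm))

/-- The masks of three-element sets, in increasing order. -/
def triMasks : List ℕ := bits24.flatMap fun k => (bits24.filter fun j => decide (j < k)).flatMap fun j =>
  (bits24.filter fun i => decide (i < j)).map fun i =>
    Nat.lor (Nat.shiftLeft 1 i) (Nat.lor (Nat.shiftLeft 1 j) (Nat.shiftLeft 1 k))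

/-- A test that a list increases strictly above a bound. -/
def incrOk : List ℕ → ℕ → Bool
  | [], _ => true
  | m :: L, b => Nat.ble b m && incrOk L (Nat.succ m)

theorem incrOk_sound : ∀ (L : List ℕ) (b : ℕ), incrOk L b = true → (∀ m ∈ L, b ≤ m) ∧ L.Nodup
  | [], _, _ => by simp
  | m :: L, b, h => by
    simp only [incrOk, Bool.and_eq_true, Nat.ble_eq] at h
    obtain ⟨h1, h2⟩ := incrOk_sound L _ h.2
    refine ⟨fun x hx => ?_, List.nodup_cons.2 ⟨fun hm => absurd (h1 m hm) (by omega), h2⟩⟩
    rcases List.mem_cons.1 hx with rfl | hx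
    · exact h.1
    · have := h1 x hx; omega

theorem triMasks_check : triMasks.Nodup ∧
    (triMasks.all fun m => Nat.ble (Nat.succ m) 16777216 && Nat.beq (pcnt m) 3) = true :=
  ⟨(incrOk_sound _ 0 (by decide +kernel)).2, by decide +kernel⟩

theorem triMasks_cover : ∀ i j k : Fin 24, i < j → j < k →
    Nat.lor (Nat.shiftLeft 1 i.val) (Nat.lor (Nat.shiftLeft 1 j.val) (Nat.shiftLeft 1 k.val)) ∈ triMasks := by
  intro i j k hij hjk
  simp only [triMasks, List.mem_flatMap, List.mem_map, List.mem_filter, decide_eq_true_eq, mem_bits24]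
  exact ⟨k.val, k.isLt, j.val, ⟨j.isLt, hjk⟩, i.val, ⟨i.isLt, hij⟩, rfl⟩

theorem tri_cands (X : Finset GolayPt) : X.card = 3 ↔ ∃ m ∈ triMasks, X = mset m := by
  constructor
  · intro hX
    refine ⟨fmask X, ?_, (mset_fmask X).symm⟩
    let e : Fin 3 ↪o Fin 24 := (X.image gidx).orderEmbOfFin (by rw [card_image_of_injective _ gidx_injective, hX])
    have he : ∀ p : GolayPt, p ∈ X ↔ gidx p = e 0 ∨ gidx p = e 1 ∨ gidx p = e 2 := by
      intro p
      have h1 : gidx p ∈ X.image gidx ↔ gidx p ∈ Set.range e := by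
        rw [range_orderEmbOfFin, mem_coe]
      rw [gidx_injective.mem_finset_image] at h1
      rw [h1, Set.mem_range]
      constructor
      · rintro ⟨i, hi⟩; fin_cases i <;> simp_all
      · rintro (h | h | h) <;> exact ⟨_, h.symm⟩
    have hmem := triMasks_cover (e 0) (e 1) (e 2) (e.strictMono (by decide)) (e.strictMono (by decide))
    convert hmem using 1
    refine mset_inj (fmask_lt X) (by
      have := List.all_eq_true.1 triMasks_check.2 _ hmem
      simp only [Bool.and_eq_true, Nat.ble_eq] at this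
      omega) ?_
    rw [mset_fmask]
    ext p
    simp only [he, mem_mset, lor_eq_or, Nat.testBit_or, Nat.shiftLeft_eq', Nat.one_shiftLeft,
      Nat.testBit_two_pow, Bool.or_eq_true, decide_eq_true_eq, Fin.ext_iff]
    constructor <;> rintro (h | h | h) <;> simp [h]
  · rintro ⟨m, hm, rfl⟩
    have := List.all_eq_true.1 triMasks_check.2 m hm
    simp only [Bool.and_eq_true, Nat.ble_eq, Nat.beq_eq] at this
    rw [mset_card, mcnt_eq_pcnt, this.2]

theorem triMasks_lt {m : ℕ} (hm : m ∈ triMasks) : m < 2 ^ 24 := by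
  have := List.all_eq_true.1 triMasks_check.2 m hm
  simp only [Bool.and_eq_true, Nat.ble_eq] at this
  omega

/-- The mask of the standard triad. -/
def mTri : ℕ := 7

/-- The octads containing the standard triad. -/
def octTri : List ℕ := [5902343, 3416079, 12656663, 8536111, 45159, 4505735, 11010247, 622863, 1065303, 2183687,
  786999, 140167, 459847, 5279, 6292775, 9471495, 2263063, 1116327, 8657159, 4196943, 551943]

theorem octTri_eq : (octList.filter fun o => Nat.beq (Nat.land o mTri) mTri) = octTri := by decide +kernel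

/-- A test for lying in an octad together with the standard triad. -/
def inOctMask (m : ℕ) : Bool := octTri.any fun o => Nat.beq (Nat.land o m) m

theorem inOctMask_iff {m : ℕ} (hm : m < 2 ^ 24) (h7 : Nat.land m mTri = mTri) :
    inOctMask m = true ↔ InOctad (mset m) := by
  simp only [inOctMask, ← octTri_eq, List.any_eq_true, List.mem_filter, Nat.beq_eq]
  constructor
  · rintro ⟨o, ⟨ho, -⟩, h⟩
    refine ⟨mset o, (mset_mem_octads_iff (octList_lt ho)).2 ho, ?_⟩
    rw [← inter_eq_right, ← mset_and]
    exact congrArg mset h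
  · rintro ⟨o, ho, h⟩
    obtain ⟨o, hom, rfl⟩ := mem_octads_iff.1 ho
    have ho24 := octList_lt hom
    have hom' : o &&& m = m := mset_inj (lt_of_le_of_lt Nat.and_le_left ho24) hm (by
      rw [mset_and, inter_eq_right.2 h])
    refine ⟨o, ⟨hom, ?_⟩, hom'⟩
    show o &&& mTri = mTri
    rw [← show m &&& mTri = mTri from h7, ← Nat.and_assoc, hom']

/-- The invariant of a triad relative to a fixed triad. -/
noncomputable def triadInv (T U : Finset GolayPt) : ℕ := by
  classical exact if (T ∩ U).card = 0 ∧ InOctad (T ∪ U) then 4 else (T ∩ U).card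

/-- The invariant on masks. -/
def triadInvMask (m : ℕ) : ℕ :=
  if Nat.beq (pcnt (Nat.land mTri m)) 0 && inOctMask (Nat.lor mTri m) then 4 else pcnt (Nat.land mTri m)

theorem triad_transitive {T T' : Finset GolayPt} (hT : T.card = 3) (hT' : T'.card = 3) :
    ∃ g ∈ M24, g • T = T' := by
  obtain ⟨g, hg, h, -⟩ := exists_map_pair (x := T) (y := ∅) (x' := T') (y' := ∅) (hT.trans hT'.symm) rfl (by simp)
    (by rw [union_empty, hT]; norm_num) (by rw [union_empty, hT]; norm_num)
  exact ⟨g, hg, h⟩

theorem triad_ncard {T : Finset GolayPt} (hT : T.card = 3) (k : ℕ) :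
    {U : Finset GolayPt | U.card = 3 ∧ triadInv T U = k}.ncard =
      (triMasks.filter fun m => Nat.beq (triadInvMask m) k).length := by
  obtain ⟨g, hg, hgT⟩ := triad_transitive hT (T' := mset mTri) (by decide +kernel)
  refine ncard_std (cfg := [T]) (ms := [mTri]) ⟨g, hg, by simp [hgT]⟩ triMasks_check.1 (fun m hm => triMasks_lt hm)
    (fun X => X.card = 3) (fun X => triadInv T X = k) _ tri_cands (fun g _ X => by rw [card_smul_points])
    fun g hg he X m hm e => ?_
  simp only [List.map_cons, List.map_nil, List.cons.injEq, and_true] at he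
  rw [Nat.beq_eq]
  have hm2 : mTri ||| m < 2 ^ 24 := Nat.or_lt_two_pow (by decide) (triMasks_lt hm)
  have h1 : pcnt (Nat.land mTri m) = (T ∩ X).card := (inter_card_of_smul he e).symm
  have h2 : inOctMask (Nat.lor mTri m) = true ↔ InOctad (T ∪ X) := by
    rw [lor_eq_or, inOctMask_iff hm2 (by
      show (mTri ||| m) &&& mTri = mTri
      apply Nat.eq_of_testBit_eq; intro i
      simp only [Nat.testBit_and, Nat.testBit_or]
      cases mTri.testBit i <;> simp), mset_or, ← he, ← e, ← Finset.smul_finset_union, inOctad_smul_iff hg]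
  have key : triadInv T X = triadInvMask m := by
    classical
    unfold triadInv triadInvMask
    rw [h1]
    by_cases hh : (T ∩ X).card = 0 ∧ InOctad (T ∪ X)
    · rw [if_pos hh, if_pos (by rw [Bool.and_eq_true, Nat.beq_eq]; exact ⟨hh.1, h2.2 hh.2⟩)]
    · rw [if_neg hh, if_neg (by rw [Bool.and_eq_true, Nat.beq_eq]; exact fun hc => hh ⟨hc.1, h2.1 hc.2⟩)]
  rw [key]

theorem triad_orbit {T U U' : Finset GolayPt} (hT : T.card = 3) (hU : U.card = 3) (hU' : U'.card = 3)
    (h : triadInv T U = triadInv T U') : ∃ g ∈ M24, g • T = T ∧ g • U = U' := by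
  classical
  have hle : (T ∩ U).card ≤ 3 := hT ▸ card_le_card inter_subset_left
  have hle' : (T ∩ U').card ≤ 3 := hT ▸ card_le_card inter_subset_left
  have hu := card_union_add_card_inter T U
  have hu' := card_union_add_card_inter T U'
  refine exists_map_pair rfl (hU.trans hU'.symm) ?_ (by omega) ?_
  · unfold triadInv at h
    split at h <;> split at h <;> omega
  · intro h6
    have h0 : (T ∩ U).card = 0 := by omega
    unfold triadInv at h
    by_cases hi : InOctad (T ∪ U) <;> by_cases hi' : InOctad (T ∪ U')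
    · exact iff_of_true hi hi'
    · rw [if_pos ⟨h0, hi⟩, if_neg fun hc => hi' hc.2] at h; omega
    · rw [if_neg fun hc => hi hc.2] at h
      by_cases h0' : (T ∩ U').card = 0
      · rw [if_pos ⟨h0', hi'⟩] at h; omega
      · rw [if_neg fun hc => h0' hc.1] at h; omega
    · exact iff_of_false hi hi'

/-- Orbits of a triad stabiliser on disjoint triads. -/
theorem triad_disjoint_orbits {T : Finset GolayPt} (hT : T.card = 3) :
    {U : Finset GolayPt | U.card = 3 ∧ Disjoint T U ∧ InOctad (T ∪ U)}.ncard = 210 ∧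
    {U : Finset GolayPt | U.card = 3 ∧ Disjoint T U ∧ ¬ InOctad (T ∪ U)}.ncard = 1120 ∧
    ∀ U U' : Finset GolayPt, U.card = 3 → U'.card = 3 → Disjoint T U → Disjoint T U' →
      (InOctad (T ∪ U) ↔ InOctad (T ∪ U')) → ∃ g ∈ M24, g • T = T ∧ g • U = U' := by
  classical
  have hd : ∀ U : Finset GolayPt, Disjoint T U ↔ (T ∩ U).card = 0 := fun U => by
    rw [card_eq_zero, disjoint_iff_inter_eq_empty]
  refine ⟨?_, ?_, fun U U' hU hU' hUd hUd' h => triad_orbit hT hU hU' ?_⟩
  · rw [show {U : Finset GolayPt | U.card = 3 ∧ Disjoint T U ∧ InOctad (T ∪ U)} =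
      {U : Finset GolayPt | U.card = 3 ∧ triadInv T U = 4} from Set.ext fun U => by
        simp only [Set.mem_setOf_eq, hd]
        refine and_congr_right fun hU => ?_
        have hle : (T ∩ U).card ≤ 3 := hT ▸ card_le_card inter_subset_left
        unfold triadInv
        by_cases hh : (T ∩ U).card = 0 ∧ InOctad (T ∪ U)
        · rw [if_pos hh]; exact iff_of_true hh rfl
        · rw [if_neg hh]; exact ⟨fun h => absurd h hh, fun h => by omega⟩, triad_ncard hT]
    decide +kernel
  · rw [show {U : Finset GolayPt | U.card = 3 ∧ Disjoint T U ∧ ¬ InOctad (T ∪ U)} =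
      {U : Finset GolayPt | U.card = 3 ∧ triadInv T U = 0} from Set.ext fun U => by
        simp only [Set.mem_setOf_eq, hd]
        refine and_congr_right fun hU => ?_
        unfold triadInv
        split <;> simp_all, triad_ncard hT]
    decide +kernel
  · unfold triadInv
    rw [(hd U).1 hUd, (hd U').1 hUd']
    by_cases hi : InOctad (T ∪ U)
    · rw [if_pos ⟨rfl, hi⟩, if_pos ⟨rfl, h.1 hi⟩]
    · rw [if_neg fun hc => hi hc.2, if_neg fun hc => hi (h.2 hc.2)]

theorem duad_stabilizer_maximal {s : Finset GolayPt} (hs : s.card = 2) :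
    IsCoatom (MulAction.stabilizer M24 s) := by
  refine isCoatom_stabilizer_of_suborbits (X := univ.powersetCard 2) (n := 276) (k0 := 2) (S := {0, 1, 2})
    (size := fun k => [231, 44, 1].getD k 0) (mem_powersetCard.2 ⟨subset_univ _, hs⟩) ?_ ?_ ?_ (by norm_num)
    (fun y => (s ∩ y).card) ?_ ?_ ?_ (by rw [inter_self, hs]) (by decide)
  · exact fun g y hy => mem_powersetCard.2 ⟨subset_univ _, (card_smul_points g.1 y).trans (mem_powersetCard.1 hy).2⟩
  · intro y hy
    obtain ⟨g, hg, h, -⟩ := exists_map_pair (x := s) (y := ∅) (x' := y) (y' := ∅)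
      (hs.trans (mem_powersetCard.1 hy).2.symm) rfl (by simp) (by rw [union_empty, hs]; norm_num)
      (by rw [union_empty, hs]; norm_num)
    exact ⟨⟨g, hg⟩, h⟩
  · rw [card_powersetCard, card_univ, Fintype.card_option, ZMod.card]; decide
  · intro y hy z hz h
    have hyc := (mem_powersetCard.1 hy).2
    have hzc := (mem_powersetCard.1 hz).2
    have hu := card_union_add_card_inter s y
    obtain ⟨g, hg, h1, h2⟩ := exists_map_pair (x := s) (y := y) (x' := s) (y' := z) rfl (hyc.trans hzc.symm) h
      (by omega) (fun h6 => by omega)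
    exact ⟨⟨g, hg⟩, h1, h2⟩
  · intro y hy
    have : (s ∩ y).card ≤ 2 := hs ▸ card_le_card inter_subset_left
    simp only [mem_insert, mem_singleton]
    omega
  · intro k hk
    obtain ⟨g, hg, h, -⟩ := exists_map_pair (x := s) (y := ∅) (x' := mset 3) (y' := ∅)
      (hs.trans (by decide +kernel)) rfl (by simp) (by rw [union_empty, hs]; norm_num)
      (by rw [union_empty, hs]; norm_num)
    have hset : (↑((univ.powersetCard 2).filter fun y => (s ∩ y).card = k) : Set (Finset GolayPt)) =
        {X | X.card = 2 ∧ (s ∩ X).card = k} := by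
      ext X
      simp [mem_powersetCard]
    rw [← Set.ncard_coe_finset, hset, ncard_std (cfg := [s]) (ms := [3]) ⟨g, hg, by simp [h]⟩ duadMasks_nodup
      duadMasks_lt (fun X => X.card = 2) (fun X => (s ∩ X).card = k) (fun m => Nat.beq (pcnt (Nat.land 3 m)) k)
      duad_cands (fun g _ X => by rw [card_smul_points]) fun g hg he X m hm e => by
        simp only [List.map_cons, List.map_nil, List.cons.injEq, and_true] at he
        rw [Nat.beq_eq, ← inter_card_of_smul he e]]
    simp only [mem_insert, mem_singleton] at hk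
    rcases hk with rfl | rfl | rfl <;> decide +kernel

theorem triad_stabilizer_maximal {s : Finset GolayPt} (hs : s.card = 3) :
    IsCoatom (MulAction.stabilizer M24 s) := by
  classical
  refine isCoatom_stabilizer_of_suborbits (X := univ.powersetCard 3) (n := 2024) (k0 := 3) (S := {0, 1, 2, 3, 4})
    (size := fun k => [1120, 630, 63, 1, 210].getD k 0) (mem_powersetCard.2 ⟨subset_univ _, hs⟩) ?_ ?_ ?_
    (by norm_num) (triadInv s) ?_ ?_ ?_ ?_ (by decide)
  · exact fun g y hy => mem_powersetCard.2 ⟨subset_univ _, (card_smul_points g.1 y).trans (mem_powersetCard.1 hy).2⟩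
  · intro y hy
    obtain ⟨g, hg, h⟩ := triad_transitive hs (mem_powersetCard.1 hy).2
    exact ⟨⟨g, hg⟩, h⟩
  · rw [card_powersetCard, card_univ, Fintype.card_option, ZMod.card]; decide
  · intro y hy z hz h
    obtain ⟨g, hg, h1, h2⟩ := triad_orbit hs (mem_powersetCard.1 hy).2 (mem_powersetCard.1 hz).2 h
    exact ⟨⟨g, hg⟩, h1, h2⟩
  · intro y hy
    have hle : (s ∩ y).card ≤ 3 := hs ▸ card_le_card inter_subset_left
    simp only [mem_insert, mem_singleton]
    unfold triadInv
    split <;> omega
  · intro k hk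
    rw [← Set.ncard_coe_finset, show (↑((univ.powersetCard 3).filter fun y => triadInv s y = k) : Set (Finset GolayPt)) =
      {U | U.card = 3 ∧ triadInv s U = k} from Set.ext fun U => by simp [mem_powersetCard], triad_ncard hs]
    simp only [mem_insert, mem_singleton] at hk
    rcases hk with rfl | rfl | rfl | rfl | rfl <;> decide +kernel
  · unfold triadInv
    rw [inter_self, hs, if_neg (by simp)]

theorem octad_stabilizer_maximal {o : Finset GolayPt} (ho : o ∈ octads) :
    IsCoatom (MulAction.stabilizer M24 o) := by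
  classical
  refine isCoatom_stabilizer_of_suborbits (X := octads.toFinite.toFinset) (n := 759) (k0 := 8) (S := {0, 2, 4, 8})
    (size := fun k => [30, 0, 448, 0, 280, 0, 0, 0, 1].getD k 0) ((Set.Finite.mem_toFinset _).2 ho) ?_ ?_ ?_
    (by norm_num) (fun y => (o ∩ y).card) ?_ ?_ ?_ (by rw [inter_self, ho.2]) (by decide)
  · intro g y hy
    rw [Set.Finite.mem_toFinset] at hy ⊢
    exact smul_octad_mem g.2 hy
  · intro y hy
    obtain ⟨g, hg, h⟩ := M24_octad_transitive ho ((Set.Finite.mem_toFinset _).1 hy)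
    exact ⟨⟨g, hg⟩, h⟩
  · rw [← Set.ncard_eq_toFinset_card _ _, octads_ncard]
  · intro y hy z hz h
    rw [Set.Finite.mem_toFinset] at hy hz
    obtain ⟨g, hg, h1, h2⟩ := octad_rank ho hy hz h
    exact ⟨⟨g, hg⟩, h1, h2⟩
  · intro y hy
    rw [Set.Finite.mem_toFinset] at hy
    obtain ⟨g, hg, hgo⟩ := M24_octad_transitive ho baseOctad_mem
    obtain ⟨m, hm, e⟩ := exists_image_oct hg hy
    simp only [mem_insert, mem_singleton]
    rw [inter_card_of_smul (g := g) (hgo : g • o = mset m24BaseOctad) e]
    have hall : (octList.all fun m => (fun k => k == 0 || k == 2 || k == 4 || k == 8)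
        (pcnt (Nat.land m24BaseOctad m))) = true := by decide +kernel
    have := List.all_eq_true.1 hall m hm
    simpa [or_assoc] using this
  · intro k hk
    rw [← Set.ncard_coe_finset, show (↑(octads.toFinite.toFinset.filter fun y => (o ∩ y).card = k) : Set (Finset GolayPt)) =
      {X | X ∈ octads ∧ (o ∩ X).card = k} from Set.ext fun U => by simp,
      ncard_std (std_octad ho) octList_nodup (fun m hm => octList_lt hm) (fun X => X ∈ octads)
        (fun X => (o ∩ X).card = k) (fun m => Nat.beq (pcnt (Nat.land m24BaseOctad m)) k) oct_cands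
        (fun g hg X => smul_mem_octads_iff hg X) fun g hg he X m hm e => by
          simp only [List.map_cons, List.map_nil, List.cons.injEq, and_true] at he
          rw [Nat.beq_eq, ← inter_card_of_smul he e]]
    simp only [mem_insert, mem_singleton] at hk
    rcases hk with rfl | rfl | rfl | rfl <;> decide +kernel

/-- The pair of a dodecad and its complement. -/
def dPair (d : Finset GolayPt) : Finset (Finset GolayPt) := {d, dᶜ}

theorem smul_compl_points (g : Equiv.Perm GolayPt) (d : Finset GolayPt) : g • dᶜ = (g • d)ᶜ := by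
  rw [compl_eq_univ_sdiff, compl_eq_univ_sdiff, Finset.smul_finset_sdiff, Finset.smul_finset_univ]

theorem compl_dodecad {d : Finset GolayPt} (hd : d ∈ dodecads) : dᶜ ∈ dodecads := by
  have h1 : (univ : Finset GolayPt) ∈ supports (golayCode : Set (GolayPt → ZMod 2)) := by
    rw [← mset_full]; exact (mset_mem_supports_iff (by norm_num)).2 (by decide +kernel)
  refine ⟨?_, by rw [card_compl, hd.2]; rfl⟩
  have := symmDiff_mem_supports h1 hd.1
  rwa [show symmDiff (univ : Finset GolayPt) d = dᶜ by ext a; simp [Finset.mem_symmDiff]] at this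

theorem dodecad_pair_stabilizer_maximal {d : Finset GolayPt} (hd : d ∈ dodecads) :
    IsCoatom (MulAction.stabilizer M24 (dPair d)) := by
  classical
  set DD := dodecads.toFinite.toFinset with hDD
  have hmemD : ∀ e, e ∈ DD ↔ e ∈ dodecads := fun e => Set.Finite.mem_toFinset _
  set X := (DD.filter ((none : GolayPt) ∈ ·)).image dPair with hX
  have hpair : ∀ e, dPair eᶜ = dPair e := fun e => by
    unfold dPair; rw [compl_compl]; exact pair_comm _ _
  have hmem : ∀ e ∈ dodecads, dPair e ∈ X := by
    intro e he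
    by_cases h : (none : GolayPt) ∈ e
    · exact mem_image.2 ⟨e, mem_filter.2 ⟨(hmemD e).2 he, h⟩, rfl⟩
    · exact mem_image.2 ⟨eᶜ, mem_filter.2 ⟨(hmemD _).2 (compl_dodecad he), mem_compl.2 h⟩, hpair e⟩
  have hof : ∀ P ∈ X, ∃ e ∈ dodecads, dPair e = P := fun P hP => by
    obtain ⟨e, he, rfl⟩ := mem_image.1 hP
    exact ⟨e, (hmemD e).1 (mem_filter.1 he).1, rfl⟩
  have hinj : Set.InjOn dPair ↑(DD.filter ((none : GolayPt) ∈ ·)) := by
    intro a ha b hb hab
    have : a ∈ dPair b := by rw [← hab]; exact mem_insert_self _ _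
    rcases mem_insert.1 this with h | h
    · exact h
    · rw [mem_singleton] at h
      have h1 := (mem_filter.1 (mem_coe.1 ha)).2
      rw [h, mem_compl] at h1
      exact absurd (mem_filter.1 (mem_coe.1 hb)).2 h1
  have hsm : ∀ (g : Equiv.Perm GolayPt) e, g • dPair e = dPair (g • e) := fun g e => by
    unfold dPair
    rw [Finset.smul_finset_insert, Finset.smul_finset_singleton, smul_compl_points]
  have hcompl : ∀ e ∈ dodecads, (d ∩ eᶜ).card = 12 - (d ∩ e).card := fun e _ => by
    rw [← sdiff_eq_inter_compl, card_sdiff, inter_comm e d, hd.2]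
  let f : Finset (Finset GolayPt) → ℕ := fun P => P.sup fun e => (d ∩ e).card
  have hf : ∀ e ∈ dodecads, f (dPair e) = max (d ∩ e).card (12 - (d ∩ e).card) := fun e he => by
    simp only [f, dPair, sup_insert, sup_singleton, hcompl e he]
  refine isCoatom_stabilizer_of_suborbits (X := X) (n := 1288) (k0 := 12) (S := {6, 8, 12})
    (size := fun k => if k = 6 then 792 else if k = 8 then 495 else 1) (hmem d hd) ?_ ?_ ?_ (by norm_num) f ?_ ?_ ?_
    (by rw [hf d hd, inter_self, hd.2]; rfl) (by decide)
  · intro g P hP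
    obtain ⟨e, he, rfl⟩ := hof P hP
    show g.1 • dPair e ∈ X
    rw [hsm]; exact hmem _ (smul_dodecad_mem g.2 he)
  · intro P hP
    obtain ⟨e, he, rfl⟩ := hof P hP
    obtain ⟨g, hg, h⟩ := M24_dodecad_transitive hd he
    exact ⟨⟨g, hg⟩, (hsm g d).trans (by rw [h])⟩
  · rw [hX, card_image_of_injOn hinj, ← Set.ncard_coe_finset,
      show (↑(DD.filter ((none : GolayPt) ∈ ·)) : Set (Finset GolayPt)) = {o | o ∈ dodecads ∧ (none : GolayPt) ∈ o} from
        Set.ext fun U => by simp [hDD],
      ncard_dodecads_filter (fun o => (none : GolayPt) ∈ o) (fun m => m.testBit (gidx none).val) fun m _ => mem_mset]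
    decide +kernel
  · intro P hP P' hP' h
    obtain ⟨e, he, rfl⟩ := hof P hP
    obtain ⟨e', he', rfl⟩ := hof P' hP'
    rw [hf e he, hf e' he'] at h
    have hle : (d ∩ e).card ≤ 12 := hd.2 ▸ card_le_card inter_subset_left
    have hle' : (d ∩ e').card ≤ 12 := hd.2 ▸ card_le_card inter_subset_left
    by_cases hc : (d ∩ e).card = (d ∩ e').card
    · obtain ⟨g, hg, h1, h2⟩ := dodecad_rank hd he he' hc
      exact ⟨⟨g, hg⟩, (hsm g d).trans (by rw [h1]), (hsm g e).trans (by rw [h2])⟩
    · obtain ⟨g, hg, h1, h2⟩ := dodecad_rank hd he (compl_dodecad he') (by rw [hcompl e' he']; omega)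
      exact ⟨⟨g, hg⟩, (hsm g d).trans (by rw [h1]), (hsm g e).trans (by rw [h2, hpair])⟩
  · intro P hP
    obtain ⟨e, he, rfl⟩ := hof P hP
    rw [hf e he]
    obtain ⟨g, hg, hgd⟩ := M24_dodecad_transitive hd baseDodecad_mem
    obtain ⟨m, hm, e'⟩ := exists_image_dod hg he
    rw [inter_card_of_smul (g := g) (hgd : g • d = mset mD) e']
    have hall : (dodList.all fun m => (fun k => k == 0 || k == 4 || k == 6 || k == 8 || k == 12)
        (pcnt (Nat.land mD m))) = true := by decide +kernel
    have := List.all_eq_true.1 hall m hm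
    simp only [Bool.or_eq_true, beq_iff_eq] at this
    simp only [mD] at this ⊢
    rcases this with (((h | h) | h) | h) | h <;> rw [h] <;> decide
  · intro k hk
    have hbij : (X.filter fun P => f P = k).card =
        ((DD.filter ((none : GolayPt) ∈ ·)).filter fun e => f (dPair e) = k).card := by
      rw [hX, filter_image, card_image_of_injOn (hinj.mono fun e he => (mem_filter.1 he).1)]
    have hd0 : d = mset mD → ∀ m ∈ dodList,
        ((none : GolayPt) ∈ mset m ∧ f (dPair (mset m)) = k) ↔
          (m.testBit (gidx none).val && Nat.beq (max (pcnt (Nat.land mD m)) (12 - pcnt (Nat.land mD m))) k) = true := by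
      intro hdm m hm
      rw [hf _ ((mset_mem_dodecads_iff (dodList_lt hm)).2 hm), Bool.and_eq_true, Nat.beq_eq, mem_mset, hdm,
        card_mset_inter]
    -- the count is independent of the position of the dodecad
    obtain ⟨g, hg, hgd⟩ := M24_dodecad_transitive hd baseDodecad_mem
    have hmove : ∀ p : GolayPt, {e | e ∈ dodecads ∧ p ∈ e ∧ f (dPair e) = k}.ncard =
        {e | e ∈ dodecads ∧ (g p) ∈ e ∧ max (baseDodecad ∩ e).card (12 - (baseDodecad ∩ e).card) = k}.ncard := by
      intro p
      refine (ncard_eq_of_smul g fun s => ?_).symm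
      simp only [Set.mem_setOf_eq, smul_mem_dodecads_iff hg]
      refine and_congr_right fun hs => ?_
      rw [hf s hs, ← hgd, ← Finset.smul_finset_inter, card_smul_points]
      exact and_congr (Finset.smul_mem_smul_finset_iff g) Iff.rfl
    rw [hbij, filter_filter, ← Set.ncard_coe_finset,
      show (↑(DD.filter fun e => (none : GolayPt) ∈ e ∧ f (dPair e) = k) : Set (Finset GolayPt)) =
        {e | e ∈ dodecads ∧ (none : GolayPt) ∈ e ∧ f (dPair e) = k} from Set.ext fun U => by simp [hDD],
      hmove]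
    have hq : ∀ q : GolayPt, {e | e ∈ dodecads ∧ q ∈ e ∧ max (baseDodecad ∩ e).card (12 - (baseDodecad ∩ e).card) = k}.ncard =
        (dodList.filter fun m => m.testBit (gidx q).val &&
          Nat.beq (max (pcnt (Nat.land mD m)) (12 - pcnt (Nat.land mD m))) k).length := fun q =>
      ncard_dodecads_filter _ _ fun m _ => by
        rw [Bool.and_eq_true, Nat.beq_eq, mem_mset, show baseDodecad = mset mD from rfl, card_mset_inter]
    rw [hq]
    simp only [mem_insert, mem_singleton] at hk
    generalize g none = q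
    rcases hk with rfl | rfl | rfl <;> revert q <;> decide +kernel

end Cfsg.Lib.Concrete
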