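import Cfsg.Agent.Lib.Concrete.MonsterCentral
import Cfsg.Agent.Lib.Concrete.LeechCrossCore
import Cfsg.Prelude.Def_Transfer

/-!
The intersection of the extraspecial subgroups at two commuting central involutions in Monster type, and
the stabiliser of a norm-64 class in `C / Q`.
-/

set_option autoImplicit false

namespace Cfsg.Lib.Concrete

open Cfsg

/-- The monomial subgroup modulo the centre. -/
theorem card_cross_image {K : Type*} [Group K] (κ : Co0 →* K) (hκ : κ.ker = Subgroup.center Co0) :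
    Nat.card (crossStab.map κ) = 2 ^ 21 * 239085 ∧ Nat.card (signSub.map κ) = 2 ^ 11 := by
  have hc : ∀ H : Subgroup Co0, Subgroup.center Co0 ≤ H → 2 * Nat.card (H.map κ) = Nat.card H := by
    intro H hH
    have h := Subgroup.card_mul_index (κ.comp H.subtype).ker
    rw [Subgroup.index_ker, MonoidHom.range_comp, Subgroup.range_subtype] at h
    have hk : Nat.card (κ.comp H.subtype).ker = 2 := by
      rw [show (κ.comp H.subtype).ker = κ.ker.subgroupOf H from rfl,
        Nat.card_congr (Subgroup.subgroupOfEquivOfLe (show κ.ker ≤ H by rw [hκ]; exact hH)).toEquiv, hκ]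
      exact card_center_Co0
    rw [hk] at h
    exact h
  constructor
  · have h := hc crossStab center_le_crossStab
    rw [card_crossStab] at h
    exact Nat.eq_of_mul_eq_mul_left two_pos (h.trans (by norm_num))
  · have h := hc signSub center_le_signSub
    rw [card_signSub] at h
    exact Nat.eq_of_mul_eq_mul_left two_pos (h.trans (by norm_num))

/-- The image of a class stabiliser and of the sign changes, and the size of the intersection. -/
theorem cross_structure {G : Type*} [Group G] [Finite G] {z : G}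
    {Q : Subgroup (Subgroup.centralizer ({z} : Set G))} [Q.Normal]
    (e : (Subgroup.centralizer ({z} : Set G)) ⧸ Q ≃* Spor.Co1) (ψ : leechLattice → Q ⧸ Subgroup.center Q)
    (hψ : IsLeechModTwoIso Q e ψ) (hzQ : ∀ hzC : z ∈ Subgroup.centralizer ({z} : Set G), (⟨z, hzC⟩ : Subgroup.centralizer ({z} : Set G)) ∈ Q)
    (hz : orderOf z = 2) (hZ : Nat.card (Subgroup.center Q) = 2) (hcard : Nat.card Q = 2 ^ 25)
    {gz : G} (s' : Q) (hs : ((s' : Subgroup.centralizer ({z} : Set G)) : G) = gz * z * gz⁻¹)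
    (hne : gz * z * gz⁻¹ ≠ z) (hv : ψ top = QuotientGroup.mk s') :
    ∃ κ : Co0 →* (Subgroup.centralizer ({z} : Set G)) ⧸ Q, κ.ker = Subgroup.center Co0 ∧
      ((Subgroup.centralizer ({gz * z * gz⁻¹} : Set G)).subgroupOf (Subgroup.centralizer ({z} : Set G))).map
        (QuotientGroup.mk' Q) = crossStab.map κ ∧
      (((Q.map (Subgroup.centralizer ({z} : Set G)).subtype).map (MulAut.conj gz).toMonoidHom).subgroupOf
        (Subgroup.centralizer ({z} : Set G))).map (QuotientGroup.mk' Q) = signSub.map κ ∧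
      Nat.card ↥(((Q.map (Subgroup.centralizer ({z} : Set G)).subtype).map (MulAut.conj gz).toMonoidHom).subgroupOf
        (Subgroup.centralizer ({z} : Set G)) ⊓ Q) = 2 ^ 13 := by
  classical
  obtain ⟨hadd, hsurj, hker, hconj⟩ := hψ
  have hab : ∀ x y : Q ⧸ Subgroup.center Q, x * y = y * x := by
    intro x y
    obtain ⟨a, rfl⟩ := hsurj x
    obtain ⟨b, rfl⟩ := hsurj y
    rw [← hadd, ← hadd, add_comm]
  have hzC : z ∈ Subgroup.centralizer ({z} : Set G) := Subgroup.mem_centralizer_iff.2 fun x (hx : x = z) => by rw [hx]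
  set zQ : Q := ⟨⟨z, hzC⟩, hzQ hzC⟩
  have hz1 : z ≠ 1 := fun h => by rw [h, orderOf_one] at hz; omega
  have hzc : zQ ∈ Subgroup.center Q := Subgroup.mem_center_iff.2 fun y => Subtype.ext (Subtype.ext
    (Subgroup.mem_centralizer_iff.1 (y : Subgroup.centralizer ({z} : Set G)).2 z rfl).symm)
  have hzQ1 : zQ ≠ 1 := fun h => hz1 (congrArg (fun a : Q => ((a : Subgroup.centralizer ({z} : Set G)) : G)) h)
  have hcen : ∀ q ∈ Subgroup.center Q, q = 1 ∨ q = zQ := fun q hq =>
    (em (q = 1)).imp_right fun h => center_eq_of_ne_one hZ hq hzc h hzQ1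
  set s := gz * z * gz⁻¹ with hsdef
  have hs1 : s ≠ 1 := fun h => hz1 (conj_eq_one_iff.1 h)
  have hs'c : s' ∉ Subgroup.center Q := fun h => by
    rcases hcen _ h with r | r
    · exact hs1 (by rw [← hs, r]; rfl)
    · exact hne (by rw [← hs, r])
  let κ : Co0 →* (Subgroup.centralizer ({z} : Set G)) ⧸ Q :=
    e.symm.toMonoidHom.comp (QuotientGroup.mk' (Subgroup.center Co0))
  have hκk : κ.ker = Subgroup.center Co0 := by
    ext g
    show e.symm (QuotientGroup.mk g) = 1 ↔ _
    rw [MulEquiv.map_eq_one_iff, QuotientGroup.eq_one_iff]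
  have hcompat : ∀ (h : Subgroup.centralizer ({z} : Set G)) (g : Co0), QuotientGroup.mk' Q h = κ g →
      (QuotientGroup.mk g : Spor.Co1) = e (QuotientGroup.mk h) := fun h g hh => by
    rw [show (QuotientGroup.mk h : (Subgroup.centralizer ({z} : Set G)) ⧸ Q) = κ g from hh]
    exact (e.apply_symm_apply _).symm
  set Hc := (Subgroup.centralizer ({s} : Set G)).subgroupOf (Subgroup.centralizer ({z} : Set G))
  have memHc : ∀ h : Subgroup.centralizer ({z} : Set G), h ∈ Hc ↔ (h : G) * s = s * (h : G) := fun h => by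
    rw [Subgroup.mem_subgroupOf, Subgroup.mem_centralizer_singleton_iff]
  have hclass : ∀ g : Co0, g ∈ crossStab ↔ ψ (g • top) = ψ top := by
    intro g
    rw [mem_crossStab_iff_top, ← cross_top]
    constructor
    · rintro ⟨-, -, w, hw, e1⟩
      have h3 : top = g • top + ((⟨w, hw⟩ : leechLattice) + ⟨w, hw⟩) := Subtype.ext (by
        show ((top : leechLattice) : GolayPt → ℤ) = _ + (w + w)
        rw [← two_nsmul, ← e1]; abel)
      conv_rhs => rw [h3]
      rw [hadd, (hker _).2 ⟨_, rfl⟩, mul_one]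
    · intro he
      refine ⟨(g • top).2, co0_sqNorm g top, ?_⟩
      obtain ⟨w, hw⟩ := (hker (top - g • top)).1 (by
        have h1 := hadd (top - g • top) (g • top)
        rw [sub_add_cancel, he] at h1
        exact right_eq_mul.mp h1)
      exact ⟨_, w.2, by rw [← AddSubgroup.coe_sub, hw, AddSubgroup.coe_add, two_nsmul]⟩
  have hX : Hc.map (QuotientGroup.mk' Q) = crossStab.map κ := by
    ext x
    constructor
    · rintro ⟨h, hh, rfl⟩
      obtain ⟨g, hg⟩ := QuotientGroup.mk_surjective (e (QuotientGroup.mk h))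
      refine ⟨g, (hclass g).2 ?_, ?_⟩
      · rw [hconj h g hg top s' hv, hv]
        refine congrArg QuotientGroup.mk (Subtype.ext (Subtype.ext ?_))
        show (h : G) * ((s' : Subgroup.centralizer ({z} : Set G)) : G) * (h : G)⁻¹ = _
        rw [hs, (memHc h).1 hh, mul_inv_cancel_right]
      · show e.symm (QuotientGroup.mk g) = _
        rw [hg, MulEquiv.symm_apply_apply]; rfl
    · rintro ⟨g, hg, rfl⟩
      obtain ⟨h0, hh0⟩ := QuotientGroup.mk_surjective (κ g)
      have h1 := hconj h0 g (hcompat h0 g hh0) top s' hv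
      rw [(hclass g).1 hg, hv, QuotientGroup.eq] at h1
      have hm : ∀ h : Subgroup.centralizer ({z} : Set G), (MulAut.conjNormal h s' : Q) = s' → h ∈ Hc := fun h hfix =>
        (memHc h).2 (by
          have h2 : (h : G) * ((s' : Subgroup.centralizer ({z} : Set G)) : G) * (h : G)⁻¹ = ((s' : Subgroup.centralizer ({z} : Set G)) : G) :=
            congrArg (fun q : Q => ((q : Subgroup.centralizer ({z} : Set G)) : G)) hfix
          rw [hs] at h2
          exact mul_inv_eq_iff_eq_mul.1 h2)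
      rcases hcen _ h1 with r | r
      · exact ⟨h0, hm h0 (inv_mul_eq_one.1 r).symm, hh0⟩
      · obtain ⟨y, hy⟩ : ∃ y : Q, y * s' ≠ s' * y := by
          by_contra hall
          push Not at hall
          exact hs'c (Subgroup.mem_center_iff.2 hall)
        refine ⟨(y : Subgroup.centralizer ({z} : Set G)) * h0, hm _ ?_, ?_⟩
        · have r' : (MulAut.conjNormal h0 s' : Q) = s' * zQ := by
            rw [← r]; exact (mul_inv_cancel_left _ _).symm
          have hyz : y * s' * y⁻¹ * s'⁻¹ = zQ :=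
            (hcen _ (comm_mem_center hab y s')).resolve_left fun e1 => hy (commutatorElement_eq_one_iff_mul_comm.1 e1)
          have hmul : MulAut.conjNormal ((y : Subgroup.centralizer ({z} : Set G)) * h0) s' = y * (MulAut.conjNormal h0 s') * y⁻¹ := by
            apply Subtype.ext
            simp [mul_assoc]
          rw [hmul, r']
          calc y * (s' * zQ) * y⁻¹ = y * s' * (zQ * y⁻¹) := by group
            _ = y * s' * (y⁻¹ * zQ) := by rw [Subgroup.mem_center_iff.1 hzc y⁻¹]
            _ = (y * s' * y⁻¹ * s'⁻¹) * (s' * zQ) := by group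
            _ = zQ * (zQ * s') := by rw [hyz, Subgroup.mem_center_iff.1 hzc s']
            _ = s' := by rw [← mul_assoc, center_mul_self hZ hzc, one_mul]
        · show (QuotientGroup.mk ((y : Subgroup.centralizer ({z} : Set G)) * h0) : (Subgroup.centralizer ({z} : Set G)) ⧸ Q) = κ g
          rw [QuotientGroup.mk_mul, (QuotientGroup.eq_one_iff _).2 y.2, one_mul, hh0]
  -- the conjugate group
  set Nc := ((Q.map (Subgroup.centralizer ({z} : Set G)).subtype).map (MulAut.conj gz).toMonoidHom).subgroupOf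
    (Subgroup.centralizer ({z} : Set G))
  have memNc : ∀ h : Subgroup.centralizer ({z} : Set G), h ∈ Nc ↔
      ∃ q : Q, gz * ((q : Subgroup.centralizer ({z} : Set G)) : G) * gz⁻¹ = (h : G) := fun h => by
    rw [Subgroup.mem_subgroupOf]
    constructor
    · rintro ⟨_, ⟨q, hq, rfl⟩, hh⟩; exact ⟨⟨q, hq⟩, hh⟩
    · rintro ⟨q, hq⟩; exact ⟨_, ⟨(q : Subgroup.centralizer ({z} : Set G)), q.2, rfl⟩, hq⟩
  have hNcH : Nc ≤ Hc := fun h hh => by
    obtain ⟨q, hq⟩ := (memNc h).1 hh
    have hq' := Subgroup.mem_centralizer_iff.1 (q : Subgroup.centralizer ({z} : Set G)).2 z rfl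
    rw [memHc, ← hq, hsdef]
    calc gz * ((q : Subgroup.centralizer ({z} : Set G)) : G) * gz⁻¹ * (gz * z * gz⁻¹)
        = gz * (((q : Subgroup.centralizer ({z} : Set G)) : G) * z) * gz⁻¹ := by group
      _ = gz * (z * ((q : Subgroup.centralizer ({z} : Set G)) : G)) * gz⁻¹ := by rw [hq']
      _ = _ := by group
  have hback : ∀ h ∈ Hc, gz⁻¹ * (h : G) * gz ∈ Subgroup.centralizer ({z} : Set G) := fun h hh => by
    refine Subgroup.mem_centralizer_iff.2 fun x (hx : x = z) => ?_
    rw [hx]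
    calc z * (gz⁻¹ * (h : G) * gz) = gz⁻¹ * (s * (h : G)) * gz := by rw [hsdef]; group
      _ = gz⁻¹ * ((h : G) * s) * gz := by rw [(memHc h).1 hh]
      _ = _ := by rw [hsdef]; group
  have hNnorm : ∀ h ∈ Hc, ∀ x ∈ Nc, h * x * h⁻¹ ∈ Nc := fun h hh x hx => by
    obtain ⟨q, hq⟩ := (memNc x).1 hx
    refine (memNc _).2 ⟨⟨⟨_, hback h hh⟩ * (q : Subgroup.centralizer ({z} : Set G)) * ⟨_, hback h hh⟩⁻¹,
      (inferInstance : Q.Normal).conj_mem _ q.2 _⟩, ?_⟩
    show gz * (gz⁻¹ * (h : G) * gz * ((q : Subgroup.centralizer ({z} : Set G)) : G) * (gz⁻¹ * (h : G) * gz)⁻¹) * gz⁻¹ = (h : G) * (x : G) * (h : G)⁻¹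
    rw [← hq]; group
  haveI hp2 : Fact (Nat.Prime 2) := ⟨Nat.prime_two⟩
  have hQp : IsPGroup 2 Q := IsPGroup.of_card hcard
  have hNp : IsPGroup 2 Nc :=
    ((hQp.map (Subgroup.centralizer ({z} : Set G)).subtype).map (MulAut.conj gz).toMonoidHom).comap_of_injective
      (Subgroup.centralizer ({z} : Set G)).subtype Subtype.val_injective
  set M : Subgroup Co0 := (Nc.map (QuotientGroup.mk' Q)).comap κ
  have hEX : Nc.map (QuotientGroup.mk' Q) ≤ crossStab.map κ := hX ▸ Subgroup.map_mono hNcH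
  have hMle : M ≤ crossStab := fun g hg => by
    obtain ⟨g', hg', e1⟩ := hEX hg
    have h1 : g'⁻¹ * g ∈ κ.ker := by rw [MonoidHom.mem_ker, map_mul, map_inv, e1, inv_mul_cancel]
    rw [hκk] at h1
    have := mul_mem hg' (center_le_crossStab h1)
    rwa [mul_inv_cancel_left] at this
  have hMnorm : ∀ g ∈ crossStab, ∀ m ∈ M, g * m * g⁻¹ ∈ M := by
    intro g hg m hm
    obtain ⟨h, hh, hfg⟩ : κ g ∈ Hc.map (QuotientGroup.mk' Q) := hX.symm ▸ ⟨g, hg, rfl⟩
    obtain ⟨x, hx, hfx⟩ := hm
    refine ⟨h * x * h⁻¹, hNnorm h hh x hx, ?_⟩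
    rw [map_mul, map_mul, map_inv, hfg, hfx, map_mul, map_mul, map_inv]
  have hM2 : IsPGroup 2 M := fun m => by
    obtain ⟨x, hx, hfx⟩ := m.2
    obtain ⟨k, hk⟩ := hNp ⟨x, hx⟩
    have h1 : (m : Co0) ^ 2 ^ k ∈ Subgroup.center Co0 := by
      rw [← hκk, MonoidHom.mem_ker, map_pow, ← hfx, ← map_pow, show x ^ 2 ^ k = 1 from congrArg Subtype.val hk,
        map_one]
    refine ⟨k + 1, Subtype.ext ?_⟩
    have h2 := congrArg Subtype.val (pow_card_eq_one' (x := (⟨_, h1⟩ : Subgroup.center Co0)))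
    rw [card_center_Co0] at h2
    rw [SubgroupClass.coe_pow, pow_succ, pow_mul]
    exact h2
  have hMS : M ≤ signSub := le_signSub hMle hMnorm hM2
  have hE : Nc.map (QuotientGroup.mk' Q) ≤ signSub.map κ := fun x hx => by
    obtain ⟨g, -, rfl⟩ := hEX hx
    exact ⟨g, hMS hx, rfl⟩
  obtain ⟨hcX, hcE⟩ := card_cross_image κ hκk
  -- the abelian part
  set D := Nc ⊓ Q
  have hDab : ∀ x ∈ D, ∀ y ∈ D, x * y = y * x := by
    intro x hx y hy
    obtain ⟨a, ha⟩ := (memNc x).1 hx.1
    obtain ⟨b, hb⟩ := (memNc y).1 hy.1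
    have h1 := hcen _ (comm_mem_center hab (⟨x, hx.2⟩ : Q) ⟨y, hy.2⟩)
    have h2 := hcen _ (comm_mem_center hab a b)
    rw [← commutatorElement_eq_one_iff_mul_comm]
    apply Subtype.ext
    have eG : gz * (((a * b * a⁻¹ * b⁻¹ : Q) : Subgroup.centralizer ({z} : Set G)) : G) * gz⁻¹ = (x : G) * (y : G) * (x : G)⁻¹ * (y : G)⁻¹ := by
      rw [← ha, ← hb]
      simp only [Subgroup.coe_mul, InvMemClass.coe_inv]
      group
    rcases h1 with r | r
    · exact congrArg (fun q : Q => ((q : Subgroup.centralizer ({z} : Set G)) : G)) r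
    · exfalso
      have r' : (x : G) * (y : G) * (x : G)⁻¹ * (y : G)⁻¹ = z :=
        congrArg (fun q : Q => ((q : Subgroup.centralizer ({z} : Set G)) : G)) r
      rw [r'] at eG
      rcases h2 with r2 | r2 <;> rw [r2] at eG
      · exact hz1 (by simpa using eG.symm)
      · exact hne eG
  have hD13 : Nat.card D ≤ 2 ^ 13 := by
    have h1 := card_abelian_sq_le hZ hab (D.subgroupOf Q) fun x hx y hy => Subtype.ext (hDab _ hx _ hy)
    rw [Nat.card_congr (Subgroup.subgroupOfEquivOfLe (inf_le_right : D ≤ Q)).toEquiv, hcard] at h1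
    by_contra hlt
    push Not at hlt
    have h2 := (Nat.mul_le_mul hlt.le hlt).trans_lt' (Nat.lt_succ_self _)
    nlinarith
  have hNcard : Nat.card Nc = Nat.card D * Nat.card (Nc.map (QuotientGroup.mk' Q)) := by
    have h := Subgroup.card_mul_index ((QuotientGroup.mk' Q).comp Nc.subtype).ker
    rw [Subgroup.index_ker, MonoidHom.range_comp, Subgroup.range_subtype] at h
    rw [← h, show ((QuotientGroup.mk' Q).comp Nc.subtype).ker = D.subgroupOf Nc by
      ext x
      rw [MonoidHom.mem_ker, Subgroup.mem_subgroupOf, MonoidHom.comp_apply]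
      exact (QuotientGroup.eq_one_iff _).trans ⟨fun h => ⟨x.2, h⟩, fun h => h.2⟩,
      Nat.card_congr (Subgroup.subgroupOfEquivOfLe (inf_le_left : D ≤ Nc)).toEquiv]
  -- lower bound
  let φ : Hc →* (Subgroup.centralizer ({z} : Set G)) ⧸ Q := (QuotientGroup.mk' Q).comp Hc.subtype
  have hkerN : 2 ^ 24 ∣ Nat.card φ.ker := by
    have hb : (pairChar hZ hab s').ker.map Q.subtype ≤ φ.ker.map Hc.subtype := by
      rintro _ ⟨q, hq, rfl⟩
      have hq' := (pairChar_apply hZ hab s' q).1 hq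
      have hqH : (q : Subgroup.centralizer ({z} : Set G)) ∈ Hc := (memHc _).2 (by
        rw [← hs]; exact congrArg (fun a : Q => ((a : Subgroup.centralizer ({z} : Set G)) : G)) hq')
      exact ⟨⟨_, hqH⟩, (QuotientGroup.eq_one_iff _).2 q.2, rfl⟩
    have h1 := Subgroup.card_dvd_of_le hb
    rw [Subgroup.card_map_of_injective Q.subtype_injective, Subgroup.card_map_of_injective Hc.subtype_injective] at h1
    refine dvd_trans ?_ h1
    obtain ⟨k, hk⟩ := (hQp.to_subgroup (pairChar hZ hab s').ker).exists_card_eq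
    have h2 := two_mul_card_ker hZ hab s'
    rw [hk, hcard] at h2
    rw [hk]
    refine pow_dvd_pow 2 ?_
    by_contra hlt
    push Not at hlt
    have h3 := h2.trans (Nat.mul_le_mul_left 2 (Nat.pow_le_pow_right two_pos (Nat.le_of_lt_succ hlt : k ≤ 23)))
    norm_num at h3
  have hHc : 2 ^ 45 ∣ Nat.card Hc := by
    rw [← Subgroup.card_mul_index φ.ker, Subgroup.index_ker, MonoidHom.range_comp, Subgroup.range_subtype, hX, hcX,
      show (45 : ℕ) = 24 + 21 from rfl, pow_add]
    exact Nat.mul_dvd_mul hkerN (Dvd.intro _ rfl)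
  let θ : Hc →* Spor.Co1 := (e.toMonoidHom.comp (QuotientGroup.mk' Q)).comp (MonoidHom.codRestrict
    ((MulAut.conj gz⁻¹).toMonoidHom.comp ((Subgroup.centralizer ({z} : Set G)).subtype.comp Hc.subtype))
      (Subgroup.centralizer ({z} : Set G)) fun h => by
      show gz⁻¹ * ((h : Subgroup.centralizer ({z} : Set G)) : G) * gz⁻¹⁻¹ ∈ _
      rw [inv_inv]; exact hback h.1 h.2)
  have hθ : θ.ker ≤ Nc.subgroupOf Hc := fun h hh => by
    rw [Subgroup.mem_subgroupOf, memNc]
    refine ⟨⟨_, (QuotientGroup.eq_one_iff _).1 (e.map_eq_one_iff.1 hh)⟩, ?_⟩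
    show gz * (gz⁻¹ * ((h : Subgroup.centralizer ({z} : Set G)) : G) * gz⁻¹⁻¹) * gz⁻¹ = _
    group
  have h5 : Nat.card θ.ker ∣ Nat.card Nc := by
    rw [← Nat.card_congr (Subgroup.subgroupOfEquivOfLe hNcH).toEquiv]
    exact Subgroup.card_dvd_of_le hθ
  have h6 : 2 ^ 45 ∣ Nat.card Nc * Nat.card Spor.Co1 := by
    refine hHc.trans ?_
    rw [← Subgroup.card_mul_index θ.ker, Subgroup.index_ker]
    exact Nat.mul_dvd_mul h5 (Subgroup.card_subgroup_dvd_card _)
  have h7 : 2 ^ 24 ∣ Nat.card Nc := by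
    rw [card_Co1_eq, ← mul_assoc, mul_comm (Nat.card Nc), mul_assoc, show (45 : ℕ) = 21 + 24 from rfl, pow_add] at h6
    refine Nat.Coprime.dvd_of_dvd_mul_right ?_ (Nat.dvd_of_mul_dvd_mul_left (pow_pos two_pos 21) h6)
    exact (Nat.coprime_pow_left_iff (by norm_num) _ _).2 (Nat.prime_two.coprime_iff_not_dvd.2 (by norm_num))
  have hEle : Nat.card (Nc.map (QuotientGroup.mk' Q)) ≤ 2 ^ 11 := hcE ▸ Subgroup.card_le_of_le hE
  have hlow : 2 ^ 24 ≤ Nat.card D * Nat.card (Nc.map (QuotientGroup.mk' Q)) := hNcard ▸ Nat.le_of_dvd Nat.card_pos h7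
  have hDeq : Nat.card D = 2 ^ 13 := by
    refine le_antisymm hD13 ?_
    refine Nat.le_of_mul_le_mul_right ?_ (show 0 < 2 ^ 11 by norm_num)
    rw [← pow_add]
    exact hlow.trans (Nat.mul_le_mul_left _ hEle)
  have hEeq : 2 ^ 11 ≤ Nat.card (Nc.map (QuotientGroup.mk' Q)) := by
    refine Nat.le_of_mul_le_mul_left ?_ (show 0 < 2 ^ 13 by norm_num)
    rw [← pow_add]
    exact hlow.trans (Nat.mul_le_mul_right _ hD13)
  exact ⟨κ, hκk, hX, Subgroup.eq_of_le_of_card_ge hE (hcE ▸ hEeq), hDeq⟩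

end Cfsg.Lib.Concrete
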