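import Cfsg.Agent.Lib.Concrete.MonsterCross

/-!
The structure attached to a second central involution in the extraspecial subgroup of Monster type.
-/

set_option autoImplicit false

namespace Cfsg.Lib.Concrete

open Cfsg

/-- The module isomorphism can be adapted to send `top` to a given central-involution class. -/
theorem exists_adapted {G : Type*} [Group G] [Finite G] {z : G}
    {Q : Subgroup (Subgroup.centralizer ({z} : Set G))} [Q.Normal] (hM : IsOfMonsterType z Q) (q : Q)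
    (hc : IsConj z ((q : Subgroup.centralizer ({z} : Set G)) : G))
    (hne : ((q : Subgroup.centralizer ({z} : Set G)) : G) ≠ z) :
    ∃ (e : (Subgroup.centralizer ({z} : Set G)) ⧸ Q ≃* Spor.Co1) (ψ : leechLattice → Q ⧸ Subgroup.center Q),
      IsLeechModTwoIso Q e ψ ∧ ψ top = QuotientGroup.mk q := by
  obtain ⟨hset, e, ψ, hψ⟩ := hM
  obtain ⟨v, hv, hvq, -⟩ := exists_rep64 hset hψ q hc hne
  obtain ⟨h0, hh0⟩ := exists_smul_eq_of_moves
    (moves64 top.2 (show sqNorm ((top : leechLattice) : GolayPt → ℤ) = 64 from (stdCross_subset (e8_mem_stdCross none)).2))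
    (moves64 v.2 hv)
  obtain ⟨hadd, hsurj, hker, hconj⟩ := hψ
  refine ⟨e.trans (MulAut.conj (QuotientGroup.mk h0 : Spor.Co1)⁻¹), fun w => ψ (h0 • w),
    ⟨fun a b => by simp only [co0_add, hadd], fun x => ?_, fun w => ?_, fun h g hg w r hw => ?_⟩, ?_⟩
  · obtain ⟨w, hw⟩ := hsurj x
    exact ⟨h0⁻¹ • w, by simp only [smul_inv_smul, hw]⟩
  · rw [hker]
    constructor
    · rintro ⟨u, hu⟩
      exact ⟨h0⁻¹ • u, by rw [← co0_add, ← hu, inv_smul_smul]⟩
    · rintro ⟨u, rfl⟩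
      exact ⟨h0 • u, co0_add h0 u u⟩
  · have h1 : (QuotientGroup.mk (h0 * g * h0⁻¹) : Spor.Co1) = e (QuotientGroup.mk h) := by
      rw [QuotientGroup.mk_mul, QuotientGroup.mk_mul, QuotientGroup.mk_inv, hg, MulEquiv.trans_apply,
        MulAut.conj_apply]
      group
    have h2 := hconj h (h0 * g * h0⁻¹) h1 (h0 • w) r hw
    rwa [mul_smul, mul_smul, inv_smul_smul] at h2
  · show ψ (h0 • top) = _
    rw [hh0, hvq]

theorem setting_facts {G : Type*} [Group G] {z : G} {Q : Subgroup (Subgroup.centralizer ({z} : Set G))} [Q.Normal]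
    (hM : IsOfMonsterType z Q) :
    (∀ hzC : z ∈ Subgroup.centralizer ({z} : Set G), (⟨z, hzC⟩ : Subgroup.centralizer ({z} : Set G)) ∈ Q) ∧
      orderOf z = 2 ∧ Nat.card (Subgroup.center Q) = 2 ∧ Nat.card Q = 2 ^ 25 := by
  obtain ⟨⟨hz, hF, ⟨-, hZ⟩, hcard, -⟩, -⟩ := hM
  refine ⟨fun hzC => ?_, hz, hZ, hcard⟩
  rw [← hF]
  exact (le_sup_right : fittingSubgroup (Subgroup.centralizer ({z} : Set G)) ≤ _)
    (Cfsg.Lib.Core.center_le_fittingSubgroup (Subgroup.mem_center_iff.2 fun y =>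
      Subtype.ext (Subgroup.mem_centralizer_iff.1 y.2 z rfl).symm))

/-- Sign changes and permutations split the image of the monomial group. -/
theorem monomial_split {K : Type*} [Group K] (κ : Co0 →* K) (hκ : κ.ker = Subgroup.center Co0) :
    signSub.map κ ≤ crossStab.map κ ∧ (∀ x ∈ crossStab.map κ, ∀ y ∈ signSub.map κ, x * y * x⁻¹ ∈ signSub.map κ) ∧
      Cfsg.IsElementaryAbelian 2 (signSub.map κ) ∧
      ∃ P : Subgroup K, P ≤ crossStab.map κ ∧ signSub.map κ ⊓ P = ⊥ ∧ signSub.map κ ⊔ P = crossStab.map κ ∧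
        Nonempty (P ≃* M24) := by
  have hker : ∀ (g : Co0) (hg : g ∈ crossStab), g ∈ signSub ↔ crossPerm ⟨g, hg⟩ = 1 := fun g hg =>
    ⟨fun ⟨k, hk, e⟩ => by
      rw [show (⟨g, hg⟩ : crossStab) = k from Subtype.ext e.symm]; exact hk,
      fun h => ⟨⟨g, hg⟩, h, rfl⟩⟩
  have hP : ∀ σ : M24, permHom σ ∈ signSub → σ = 1 := fun σ h => by
    rw [← crossPerm_permHom σ]; exact (hker _ (permHom_mem σ)).1 h
  have hnorm : ∀ g ∈ crossStab, ∀ y ∈ signSub, g * y * g⁻¹ ∈ signSub := by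
    intro g hg y hy
    have hy' := signSub_le hy
    refine (hker _ (mul_mem (mul_mem hg hy') (inv_mem hg))).2 ?_
    show crossPerm (⟨g, hg⟩ * ⟨y, hy'⟩ * ⟨g, hg⟩⁻¹) = 1
    rw [map_mul, map_mul, map_inv, (hker y hy').1 hy, mul_one, mul_inv_cancel]
  refine ⟨Subgroup.map_mono signSub_le, ?_, ⟨⟨⟨?_⟩⟩, ?_⟩, permHom.range.map κ, ?_, ?_, ?_, ?_⟩
  · rintro _ ⟨g, hg, rfl⟩ _ ⟨y, hy, rfl⟩
    exact ⟨g * y * g⁻¹, hnorm g hg y hy, by rw [map_mul, map_mul, map_inv]⟩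
  · rintro ⟨_, a, ha, rfl⟩ ⟨_, b, hb, rfl⟩
    exact Subtype.ext (show κ a * κ b = κ b * κ a by rw [← map_mul, ← map_mul, signSub_comm ha hb])
  · rintro _ ⟨a, ha, rfl⟩
    rw [pow_two, ← map_mul, signSub_sq ha, map_one]
  · rintro _ ⟨_, ⟨σ, rfl⟩, rfl⟩
    exact ⟨_, permHom_mem σ, rfl⟩
  · rw [Subgroup.eq_bot_iff_forall]
    rintro _ ⟨⟨a, ha, rfl⟩, _, ⟨σ, rfl⟩, e⟩
    have h1 : a⁻¹ * permHom σ ∈ κ.ker := by rw [MonoidHom.mem_ker, map_mul, map_inv, e, inv_mul_cancel]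
    rw [hκ] at h1
    have h2 := signSub.mul_mem ha (center_le_signSub h1)
    rw [mul_inv_cancel_left] at h2
    rw [← e, hP σ h2, map_one, map_one]
  · refine le_antisymm (sup_le (Subgroup.map_mono signSub_le) ?_) ?_
    · rintro _ ⟨_, ⟨σ, rfl⟩, rfl⟩
      exact ⟨_, permHom_mem σ, rfl⟩
    · rintro _ ⟨g, hg, rfl⟩
      set σ := crossPerm ⟨g, hg⟩ with hσ
      have h1 : g * (permHom σ)⁻¹ ∈ signSub := by
        refine (hker _ (mul_mem hg (inv_mem (permHom_mem σ)))).2 ?_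
        show crossPerm (⟨g, hg⟩ * ⟨permHom σ, permHom_mem σ⟩⁻¹) = 1
        rw [map_mul, map_inv, crossPerm_permHom, ← hσ, mul_inv_cancel]
      rw [← inv_mul_cancel_right g (permHom σ), map_mul]
      exact Subgroup.mul_mem_sup ⟨_, h1, rfl⟩ ⟨_, ⟨σ, rfl⟩, rfl⟩
  · have hinj : Function.Injective (κ.comp permHom) := by
      rw [injective_iff_map_eq_one]
      intro σ hσ
      refine hP σ (center_le_signSub ?_)
      rw [← hκ]; exact hσ
    rw [← MonoidHom.range_comp]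
    exact ⟨(MonoidHom.ofInjective hinj).symm⟩

end Cfsg.Lib.Concrete
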