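import Cfsg.Agent.Lib.Concrete.MonsterCentral

/-!
Squares and commutators in an extraspecial group identified with the lattice modulo two.
-/

set_option autoImplicit false

namespace Cfsg.Lib.Concrete

open Cfsg
open Cfsg.Agent.S5408 (Good Comm)

/-- Congruent vectors have norms congruent modulo 32. -/
theorem sqNorm_mod_two_mul {x y z : GolayPt → ℤ} (hy : y ∈ leechLattice) (hz : z ∈ leechLattice)
    (he : x - y = 2 • z) : (32 : ℤ) ∣ sqNorm x - sqNorm y := by
  obtain ⟨d, hd⟩ := eight_dvd_dot hy hz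
  obtain ⟨c, hc⟩ := sixteen_dvd_sqNorm (mem_leechLattice_iff.1 hz)
  have e : sqNorm x = sqNorm y + 4 * dotInt y z + 4 * sqNorm z := by
    rw [show x = y + 2 • z by rw [← he]; abel, sqNorm_add]
    simp only [sqNorm, dotInt, Pi.smul_apply, nsmul_eq_mul, Finset.mul_sum, ← Finset.sum_add_distrib]
    exact Finset.sum_congr rfl fun i _ => by push_cast; ring
  exact ⟨d + 2 * c, by omega⟩

section Pairing

variable {Q : Type*} [Group Q] {ψ : leechLattice → Q ⧸ Subgroup.center Q}
  (hadd : ∀ v w : leechLattice, ψ (v + w) = ψ v * ψ w)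
  (hsurj : Function.Surjective ψ)
  (h2 : ∀ w : leechLattice, ψ (w + w) = 1)
  (hZ : Nat.card (Subgroup.center Q) = 2)
  (hinv : ∀ g : Co0, ∃ θ : Q ≃* Q, ∀ v q, ψ v = QuotientGroup.mk q →
    ψ (g • v) = QuotientGroup.mk (θ q))
  (hbig : 2 < Nat.card Q)

include hadd hsurj h2 hZ hinv hbig in
/-- The squaring form is half the customary norm. -/
theorem good_iff_norm (v : leechLattice) : Good ψ v ↔ (32 : ℤ) ∣ sqNorm (v : GolayPt → ℤ) := by
  obtain ⟨y, hy, hn, w, hw, he⟩ := exists_rep_norm v.2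
  have hψ : ψ ⟨y, hy⟩ = ψ v := by
    have e : v = (⟨y, hy⟩ : leechLattice) + (⟨w, hw⟩ + ⟨w, hw⟩) := Subtype.ext (by
      show (v : GolayPt → ℤ) = y + (w + w)
      rw [← two_nsmul, ← he]; abel)
    rw [e, hadd, h2, mul_one]
  have hmod := sqNorm_mod_two_mul hy hw he
  have hG : Good ψ v ↔ Good ψ (⟨y, hy⟩ : leechLattice) := ⟨fun h => h.congr hψ.symm, fun h => h.congr hψ⟩
  rw [hG]
  rcases hn with hn | hn | hn | hn
  · refine iff_of_true (fun q hq => ?_) ?_
    · rw [show (⟨y, hy⟩ : leechLattice) = 0 from Subtype.ext hn, Cfsg.Agent.S5408.map_zero' hadd, eq_comm,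
        QuotientGroup.eq_one_iff] at hq
      exact Cfsg.Agent.S5408.center_sq hZ hq
    · rw [hn] at hmod; simpa [sqNorm] using hmod
  · exact iff_of_true (Cfsg.Agent.S5411.good_of_norm32 hadd hsurj h2 hZ hinv _ hn) (by omega)
  · exact iff_of_false (Cfsg.Agent.S5411.not_good_norm48 hadd hsurj h2 hZ hinv hbig _ hn) (by omega)
  · exact iff_of_true (Cfsg.Agent.S5411.good_of_norm64 hadd hsurj h2 hZ hinv _ hn) (by omega)

include hadd hsurj h2 hZ hinv hbig in
/-- Lifts commute exactly when the inner product is divisible by 16. -/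
theorem commute_iff_dot {v w : leechLattice} {a b : Q} (ha : ψ v = QuotientGroup.mk a)
    (hb : ψ w = QuotientGroup.mk b) :
    a * b = b * a ↔ (16 : ℤ) ∣ dotInt (v : GolayPt → ℤ) (w : GolayPt → ℤ) := by
  classical
  have hsq : ∀ (x : leechLattice) (q : Q), ψ x = QuotientGroup.mk q → q * q ∈ Subgroup.center Q := fun x q hq => by
    rw [← QuotientGroup.eq_one_iff, QuotientGroup.mk_mul, ← hq, ← hadd]; exact h2 x
  have hbit : ∀ (x : leechLattice) (q : Q), ψ x = QuotientGroup.mk q →
      (q * q = 1 ↔ (32 : ℤ) ∣ sqNorm (x : GolayPt → ℤ)) := by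
    intro x q hq
    rw [← good_iff_norm hadd hsurj h2 hZ hinv hbig x]
    refine ⟨fun h p hp => ?_, fun h => h q hq⟩
    obtain ⟨c, hc, rfl⟩ := Cfsg.Agent.S5408.lift_unique hq hp
    rw [mul_assoc, ← mul_assoc c, ← Subgroup.mem_center_iff.1 hc q, mul_assoc q c,
      Cfsg.Agent.S5408.center_sq hZ hc, mul_one, h]
  set c := b * a * b⁻¹ * a⁻¹ with hc
  have hcc : c ∈ Subgroup.center Q := Cfsg.Agent.S5408.comm_central hadd hsurj b a
  have hkey : (a * b) * (a * b) = c * ((a * a) * (b * b)) := by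
    have h1 : b * a = c * (a * b) := by rw [hc]; group
    calc (a * b) * (a * b) = a * (b * a) * b := by group
      _ = a * (c * (a * b)) * b := by rw [h1]
      _ = (a * c) * (a * b) * b := by group
      _ = (c * a) * (a * b) * b := by rw [Subgroup.mem_center_iff.1 hcc a]
      _ = _ := by group
  have hab : a * b = b * a ↔ c = 1 := by
    rw [hc, eq_comm]
    exact commutatorElement_eq_one_iff_mul_comm.symm
  have hN := sqNorm_add (v : GolayPt → ℤ) (w : GolayPt → ℤ)
  rw [← AddSubgroup.coe_add] at hN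
  have e1 := hbit v a ha
  have e2 := hbit w b hb
  have e3 := hbit (v + w) (a * b) (Cfsg.Agent.S5408.lift_mul hadd ha hb)
  rw [hkey] at e3
  obtain ⟨p, hp⟩ := sixteen_dvd_sqNorm (mem_leechLattice_iff.1 v.2)
  obtain ⟨q, hq⟩ := sixteen_dvd_sqNorm (mem_leechLattice_iff.1 w.2)
  obtain ⟨d, hd⟩ := eight_dvd_dot v.2 w.2
  have m1 : ∀ s t : Q, s ∈ Subgroup.center Q → t ∈ Subgroup.center Q → s ≠ 1 → (s * t = 1 ↔ t ≠ 1) := by
    intro s t hs ht hs1
    constructor
    · intro h ht1; rw [ht1, mul_one] at h; exact hs1 h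
    · intro ht1; rw [center_eq_of_ne_one hZ hs ht hs1 ht1, Cfsg.Agent.S5408.center_sq hZ ht]
  rw [hab]
  have hA := hsq v a ha
  have hB := hsq w b hb
  by_cases hc1 : c = 1
  · rw [hc1, one_mul] at e3
    refine iff_of_true hc1 ?_
    by_cases a1 : a * a = 1
    · rw [a1, one_mul] at e3
      by_cases b1 : b * b = 1
      · have := e1.1 a1; have := e2.1 b1; have := e3.1 b1; omega
      · have := e1.1 a1; have := mt e2.2 b1; have := mt e3.2 b1; omega
    · have r := (m1 _ _ hA hB a1).symm.trans e3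
      by_cases b1 : b * b = 1
      · have := mt e1.2 a1; have := e2.1 b1; have := mt r.2 (not_not.2 b1); omega
      · have := mt e1.2 a1; have := mt e2.2 b1; have := r.1 b1; omega
  · have r := (m1 _ _ hcc (mul_mem hA hB) hc1).symm.trans e3
    refine iff_of_false hc1 ?_
    by_cases a1 : a * a = 1
    · rw [a1, one_mul] at r
      by_cases b1 : b * b = 1
      · have := e1.1 a1; have := e2.1 b1; have := mt r.2 (not_not.2 b1); omega
      · have := e1.1 a1; have := mt e2.2 b1; have := r.1 b1; omega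
    · have r' := m1 _ _ hA hB a1
      by_cases b1 : b * b = 1
      · have := mt e1.2 a1; have := e2.1 b1; have := r.1 fun h => r'.1 h b1; omega
      · have := mt e1.2 a1; have := mt e2.2 b1; have := mt r.2 (not_not.2 (r'.2 b1)); omega

end Pairing

end Cfsg.Lib.Concrete
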