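import Cfsg.Agent.Lib.Concrete.MonsterCrossResult
import Cfsg.Agent.Lib.Concrete.MonsterPairing

/-!
In Monster type, some element centralising a noncentral non-conjugate involution of `Q` moves `z` inside `Q`.
-/

set_option autoImplicit false

namespace Cfsg.Lib.Concrete

open Cfsg
open scoped Pointwise

theorem code_meets_octad : (codeList.all fun m => Nat.beq (pcnt m) 0 || Nat.beq (pcnt m) 24 ||
    octList.any fun d => Nat.beq (pcnt (m &&& d)) 2 || Nat.beq (pcnt (m &&& d)) 4) = true := by decide +kernel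

/-- Fours on a set of points. -/
def fourSetMonsterFuse (T : Finset GolayPt) : GolayPt → ℤ := fun p => if p ∈ T then 4 else 0

theorem fourSet_mem {T : Finset GolayPt} (h : Even T.card) : fourSetMonsterFuse T ∈ leechLattice := by
  refine Cfsg.Agent.S5408.mem_of_const _ 0 0 rfl (fun p => ?_) ?_
  · unfold fourSetMonsterFuse; split <;> decide
  · obtain ⟨k, hk⟩ := h
    simp only [fourSetMonsterFuse, Finset.sum_ite_mem, Finset.univ_inter, Finset.sum_const, nsmul_eq_mul, hk]
    rw [Int.modEq_iff_dvd]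
    exact ⟨-k, by push_cast; ring⟩

theorem fourPair_eq_fourSet {i j : GolayPt} (h : i ≠ j) :
    ((Cfsg.Agent.S5408.fourPair i j : leechLattice) : GolayPt → ℤ) = fourSetMonsterFuse {i, j} := funext fun p => by
  simp only [Cfsg.Agent.S5408.fourPair_apply, fourSetMonsterFuse, Finset.mem_insert, Finset.mem_singleton]
  split_ifs <;> simp_all

theorem dot_fourPair (i j : GolayPt) (x : GolayPt → ℤ) :
    dotInt x ((Cfsg.Agent.S5408.fourPair i j : leechLattice) : GolayPt → ℤ) = 4 * (x i + x j) := by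
  simp only [dotInt, Cfsg.Agent.S5408.fourPair_apply, mul_add, mul_ite, mul_zero, Finset.sum_add_distrib,
    Finset.sum_ite_eq', Finset.mem_univ, if_true]
  ring

/-- An invariant self-orthogonal class set through `top` contains every pair of fours. -/
theorem fourPair_mem_of_invariant (M : AddSubgroup leechLattice) (h2 : ∀ w : leechLattice, w + w ∈ M)
    (htop : top ∈ M) (hiso : ∀ v ∈ M, ∀ w ∈ M, (16 : ℤ) ∣ dotInt (v : GolayPt → ℤ) (w : GolayPt → ℤ))
    (hperp : ∀ v : leechLattice, (∀ w ∈ M, (16 : ℤ) ∣ dotInt (w : GolayPt → ℤ) (v : GolayPt → ℤ)) → v ∈ M)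
    (hinv : ∀ g ∈ crossStab, ∀ v ∈ M, g • v ∈ M) (i j : GolayPt) (hij : i ≠ j) :
    Cfsg.Agent.S5408.fourPair i j ∈ M := by
  classical
  haveI := M24_pretransitive_le 2 (by norm_num)
  have h8 : ∀ p, e8 p ∈ M := fun p => by
    obtain ⟨w, hw, e1⟩ := (cross_top ▸ e8_mem_stdCross p : ((e8 p : leechLattice) : GolayPt → ℤ) ∈ cross ((top : leechLattice) : GolayPt → ℤ)).2.2
    have e2 : e8 p = top - ((⟨w, hw⟩ : leechLattice) + ⟨w, hw⟩) := Subtype.ext (by
      show ((e8 p : leechLattice) : GolayPt → ℤ) = _ - (w + w)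
      rw [← two_nsmul, ← e1]; abel)
    rw [e2]; exact sub_mem htop (h2 _)
  have hmod8 : ∀ y : leechLattice, (∀ p, (8 : ℤ) ∣ y.1 p) → y ∈ M := by
    intro y hy
    choose k hk using hy
    have e : y = ∑ p, k p • e8 p := Subtype.ext (funext fun q => by
      rw [hk, AddSubgroup.val_finsetSum, Finset.sum_apply, Finset.sum_eq_single q]
      · simp [e8, mul_comm]
      · intro p _ hp; simp [e8, Ne.symm hp]
      · simp)
    rw [e]; exact sum_mem fun p _ => zsmul_mem (h8 p) _
  have hperm : ∀ (σ : M24) (T : Finset GolayPt) (hT : Even T.card), (⟨_, fourSet_mem hT⟩ : leechLattice) ∈ M →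
      ∀ hT' : Even (σ • T).card, (⟨_, fourSet_mem hT'⟩ : leechLattice) ∈ M := by
    intro σ T hT hm hT'
    have h := hinv _ (permHom_mem σ) _ hm
    convert h using 1
    refine Subtype.ext (funext fun p => ?_)
    show fourSetMonsterFuse (σ • T) p = signedPerm σ.1 ∅ (fourSetMonsterFuse T) p
    simp only [signedPerm, fourSetMonsterFuse, Finset.notMem_empty, if_false]
    refine if_congr ?_ rfl rfl
    rw [← Finset.inv_smul_mem_iff]; rfl
  have hpair : ∀ a b : GolayPt, a ≠ b → Cfsg.Agent.S5408.fourPair a b ∈ M → Cfsg.Agent.S5408.fourPair i j ∈ M := by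
    intro a b hab hm
    obtain ⟨σ, h1, h2⟩ := MulAction.is_two_pretransitive_iff.1 (M24_pretransitive_le 2 (by norm_num)) hab
      (c := i) (d := j) hij
    have h := hinv _ (permHom_mem σ) _ hm
    convert h using 1
    refine Subtype.ext (funext fun p => ?_)
    show _ = signedPerm σ.1 ∅ ((Cfsg.Agent.S5408.fourPair a b : leechLattice) : GolayPt → ℤ) p
    simp only [signedPerm, Cfsg.Agent.S5408.fourPair_apply, Finset.notMem_empty, if_false, Equiv.symm_apply_eq]
    rw [show σ.1 a = i from h1, show σ.1 b = j from h2]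
  by_cases hall : ∀ v ∈ M, ∀ a b : GolayPt, (4 : ℤ) ∣ v.1 a + v.1 b
  · refine hperp _ fun w hw => ?_
    rw [dot_fourPair]
    obtain ⟨k, hk⟩ := hall w hw i j
    exact ⟨k, by rw [hk]; ring⟩
  push Not at hall
  obtain ⟨v, hv, a, b, hab⟩ := hall
  have hev : ∀ p, (2 : ℤ) ∣ v.1 p := fun p => by
    have h1 := hiso v hv top htop
    have hd : dotInt (v : GolayPt → ℤ) ((top : leechLattice) : GolayPt → ℤ) = 8 * v.1 none := by
      rw [dotInt, Finset.sum_eq_single none (fun p _ hp => by simp [top, e8, hp]) (by simp)]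
      simp [top, e8, mul_comm]
    rw [hd] at h1
    obtain ⟨m, h3, -, -⟩ := mem_leechLattice_iff.1 v.2
    have := h3 p
    have := h3 none
    unfold Int.ModEq at *
    omega
  obtain ⟨-, -, -, h3⟩ := mem_leechLattice_iff.1 v.2
  obtain ⟨m, hm, hms⟩ := mem_supports_iff.1 (h3 2)
  have memo : ∀ p, p ∈ mset m ↔ v.1 p % 4 = 2 := fun p => by
    rw [hms, Finset.mem_filter]; exact and_iff_right (Finset.mem_univ p)
  have hm0 : pcnt m ≠ 0 ∧ pcnt m ≠ 24 := by
    have hc : (mset m).card = pcnt m := by rw [mset_card, mcnt_eq_pcnt]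
    constructor <;> intro h <;> rw [h] at hc
    · have := Finset.card_eq_zero.1 hc
      have n1 : a ∉ mset m := by rw [this]; simp
      have n2 : b ∉ mset m := by rw [this]; simp
      rw [memo] at n1 n2
      have := hev a; have := hev b; omega
    · have := Finset.eq_univ_of_card (mset m) (hc.trans rfl)
      have n1 : a ∈ mset m := by rw [this]; simp
      have n2 : b ∈ mset m := by rw [this]; simp
      rw [memo] at n1 n2
      omega
  have hd := List.all_eq_true.1 code_meets_octad m hm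
  simp only [Bool.or_eq_true, Nat.beq_eq, List.any_eq_true] at hd
  obtain ⟨d, hd, hdc⟩ := hd.resolve_left (by tauto)
  have hdS : mset d ∈ octads := (mset_mem_octads_iff (octList_lt hd)).2 hd
  set T := mset m ∩ mset d
  have hTc : T.card = 2 ∨ T.card = 4 := by
    show (mset m ∩ mset d).card = 2 ∨ (mset m ∩ mset d).card = 4
    rw [← mset_and, mset_card, mcnt_eq_pcnt]; exact hdc
  have hTe : Even T.card := by rcases hTc with e | e <;> rw [e] <;> decide
  have hT : (⟨_, fourSet_mem hTe⟩ : leechLattice) ∈ M := by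
    have hg : monoCo0 1 (one_mem M24) (mset d) hdS.1 • v ∈ M :=
      hinv _ (mono_mem_crossStab _ _ _ _) v hv
    set y := v - monoCo0 1 (one_mem M24) (mset d) hdS.1 • v - (⟨_, fourSet_mem hTe⟩ : leechLattice)
    have hy : y ∈ M := hmod8 y fun p => by
      show (8 : ℤ) ∣ v.1 p - signedPerm 1 (mset d) v.1 p - fourSetMonsterFuse T p
      rw [signedPerm_one]
      simp only [fourSetMonsterFuse, T, Finset.mem_inter, memo]
      have := hev p
      by_cases h1 : p ∈ mset d <;> by_cases h2 : v.1 p % 4 = 2 <;> simp [h1, h2] <;> omega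
    have := sub_mem (sub_mem hv hg) hy
    rwa [show v - monoCo0 1 (one_mem M24) (mset d) hdS.1 • v - y = ⟨_, fourSet_mem hTe⟩ from
      sub_sub_cancel _ _] at this
  rcases hTc with hc | hc
  · obtain ⟨x, y, hxy, hT2⟩ := Finset.card_eq_two.1 hc
    refine hpair x y hxy ?_
    convert hT using 1
    exact Subtype.ext (by rw [fourPair_eq_fourSet hxy, ← hT2])
  · obtain ⟨a', b', c', d', n1, n2, n3, n4, n5, n6, hT4⟩ := Finset.card_eq_four.1 hc
    obtain ⟨f, hf⟩ : ∃ f, f ∉ T := by
      by_contra h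
      push Not at h
      have := Finset.card_le_card (show Finset.univ ⊆ T from fun p _ => h p)
      rw [hc, Finset.card_univ, show Fintype.card GolayPt = 24 from rfl] at this
      omega
    simp only [hT4, Finset.mem_insert, Finset.mem_singleton, not_or] at hf
    obtain ⟨σ, hσ, sa, sb, sc, sd⟩ := exists_map_four (a := a') (b := b') (c := c') (d := d') (a' := a') (b' := b')
      (c' := c') (d' := f) (by simp [n1, n2, n3, n4, n5, n6])
      (by simp [n1, n2, n4, Ne.symm hf.1, Ne.symm hf.2.1, Ne.symm hf.2.2.1])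
    have hT' : Even ((⟨σ, hσ⟩ : M24) • T).card := by rwa [Finset.card_smul_finset]
    have hTf : (⟨σ, hσ⟩ : M24) • T = {a', b', c', f} := by
      rw [hT4]
      simp only [Finset.smul_finset_insert, Finset.smul_finset_singleton]
      show ({σ a', σ b', σ c', σ d'} : Finset GolayPt) = _
      rw [sa, sb, sc, sd]
    have hm' := hperm ⟨σ, hσ⟩ T hTe hT hT'
    refine hpair d' f (Ne.symm hf.2.2.2) ?_
    have h8' := hmod8 ((⟨fourSetMonsterFuse T, fourSet_mem hTe⟩ : leechLattice) +
      (⟨fourSetMonsterFuse ((⟨σ, hσ⟩ : M24) • T), fourSet_mem hT'⟩ : leechLattice) - Cfsg.Agent.S5408.fourPair d' f) (fun p => by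
        show (8 : ℤ) ∣ fourSetMonsterFuse T p + fourSetMonsterFuse ((⟨σ, hσ⟩ : M24) • T) p -
          ((Cfsg.Agent.S5408.fourPair d' f : leechLattice) : GolayPt → ℤ) p
        rw [hTf, hT4, Cfsg.Agent.S5408.fourPair_apply]
        obtain ⟨f1, f2, f3, f4⟩ := hf
        simp only [fourSetMonsterFuse, Finset.mem_insert, Finset.mem_singleton]
        by_cases e1 : p = a'
        · subst e1; simp [n3, Ne.symm f1]
        by_cases e2 : p = b'
        · subst e2; simp [n5, Ne.symm f2]
        by_cases e3 : p = c'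
        · subst e3; simp [n6, Ne.symm f3]
        by_cases e4 : p = d'
        · subst e4; simp [Ne.symm n3, Ne.symm n5, Ne.symm n6, Ne.symm f4]
        by_cases e5 : p = f
        · subst e5; simp [f1, f2, f3, f4]
        simp [e1, e2, e3, e4, e5])
    have hsum := sub_mem (add_mem hT hm') h8'
    rwa [sub_sub_cancel] at hsum

/-- The fusion inside the centraliser of a noncentral non-conjugate involution of `Q`. -/
theorem exists_fuse {G : Type*} [Group G] [Finite G] {z : G}
    {Q : Subgroup (Subgroup.centralizer ({z} : Set G))} [Q.Normal] (hM : IsOfMonsterType z Q) :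
    ∃ (a s : Q) (k : G), a * a = 1 ∧ ((a : Subgroup.centralizer ({z} : Set G)) : G) ≠ 1 ∧
      ¬ IsConj z ((a : Subgroup.centralizer ({z} : Set G)) : G) ∧
      k * ((a : Subgroup.centralizer ({z} : Set G)) : G) * k⁻¹ = ((a : Subgroup.centralizer ({z} : Set G)) : G) ∧
      a * s = s * a ∧ ((s : Subgroup.centralizer ({z} : Set G)) : G) ≠ z ∧
      k * z * k⁻¹ = ((s : Subgroup.centralizer ({z} : Set G)) : G) := by
  classical
  have hset := hM.1
  obtain ⟨hzQ, hz, hZ, hcard⟩ := setting_facts hM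
  obtain ⟨-, -, -, -, gz, ⟨hsc, hsQ⟩, hne⟩ := hset
  set s' : Q := ⟨⟨gz * z * gz⁻¹, hsc⟩, hsQ⟩ with hs'
  obtain ⟨e, ψ, hψ, hv⟩ := exists_adapted hM s' (isConj_iff.2 ⟨gz, rfl⟩) hne
  obtain ⟨-, -, -, -, hDcard⟩ := cross_structure e ψ hψ hzQ hz hZ hcard s' rfl hne hv
  have hψ' := hψ
  obtain ⟨hadd, hsurj, hker, hconj⟩ := hψ
  have h2 : ∀ w, ψ (w + w) = 1 := fun w => (hker _).2 ⟨w, rfl⟩
  have hinv : ∀ g : Co0, ∃ θ : Q ≃* Q, ∀ v q, ψ v = QuotientGroup.mk q →
      ψ (g • v) = QuotientGroup.mk (θ q) := fun g => by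
    obtain ⟨h, hh⟩ := QuotientGroup.mk_surjective (e.symm (QuotientGroup.mk g))
    refine ⟨MulAut.conjNormal h, fun v q hq => ?_⟩
    rw [hconj h g (by rw [hh, MulEquiv.apply_symm_apply]) v q hq]
    congr 1
  have hbig : 2 < Nat.card Q := by rw [hcard]; norm_num
  have hab : ∀ x y : Q ⧸ Subgroup.center Q, x * y = y * x := by
    intro x y
    obtain ⟨a, rfl⟩ := hsurj x
    obtain ⟨b, rfl⟩ := hsurj y
    rw [← hadd, ← hadd, add_comm]
  have hzC : z ∈ Subgroup.centralizer ({z} : Set G) := Subgroup.mem_centralizer_iff.2 fun x (hx : x = z) => by rw [hx]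
  set zQ : Q := ⟨⟨z, hzC⟩, hzQ hzC⟩
  have hz1 : z ≠ 1 := fun h => by rw [h, orderOf_one] at hz; omega
  have hzc : zQ ∈ Subgroup.center Q := Subgroup.mem_center_iff.2 fun y => Subtype.ext (Subtype.ext
    (Subgroup.mem_centralizer_iff.1 (y : Subgroup.centralizer ({z} : Set G)).2 z rfl).symm)
  have hzQ1 : zQ ≠ 1 := fun h => hz1 (congrArg (fun q : Q => ((q : Subgroup.centralizer ({z} : Set G)) : G)) h)
  have hcen : ∀ q ∈ Subgroup.center Q, q = 1 ∨ q = zQ := fun q hq =>
    (em (q = 1)).imp_right fun h => center_eq_of_ne_one hZ hq hzc h hzQ1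
  let π : Q → G := fun q => ((q : Subgroup.centralizer ({z} : Set G)) : G)
  -- the intersection
  set D : Subgroup Q := (((Q.map (Subgroup.centralizer ({z} : Set G)).subtype).map (MulAut.conj gz).toMonoidHom).subgroupOf
    (Subgroup.centralizer ({z} : Set G))).subgroupOf Q with hDdef
  have memD : ∀ x : Q, x ∈ D ↔ ∃ q : Q, gz * π q * gz⁻¹ = π x := fun x => by
    rw [hDdef, Subgroup.mem_subgroupOf, Subgroup.mem_subgroupOf]
    constructor
    · rintro ⟨_, ⟨q, hq, rfl⟩, hh⟩; exact ⟨⟨q, hq⟩, hh⟩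
    · rintro ⟨q, hq⟩; exact ⟨_, ⟨(q : Subgroup.centralizer ({z} : Set G)), q.2, rfl⟩, hq⟩
  have hD13 : Nat.card D = 2 ^ 13 := by
    rw [← hDcard, ← Subgroup.card_map_of_injective (K := D) Q.subtype_injective, hDdef, Subgroup.subgroupOf_map_subtype]
  have hDab : ∀ x ∈ D, ∀ y ∈ D, x * y = y * x := by
    intro x hx y hy
    obtain ⟨a, ha⟩ := (memD x).1 hx
    obtain ⟨b, hb⟩ := (memD y).1 hy
    have eG : gz * π (a * b * a⁻¹ * b⁻¹) * gz⁻¹ = π (x * y * x⁻¹ * y⁻¹) := by
      show _ = π x * π y * (π x)⁻¹ * (π y)⁻¹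
      rw [← ha, ← hb]
      show gz * (π a * π b * (π a)⁻¹ * (π b)⁻¹) * gz⁻¹ = _
      group
    rw [← commutatorElement_eq_one_iff_mul_comm]
    rcases hcen _ (comm_mem_center hab x y) with r | r
    · exact r
    · exfalso
      rw [r] at eG
      rcases hcen _ (comm_mem_center hab a b) with r2 | r2 <;> rw [r2] at eG
      · exact hzQ1 (by simpa [π] using eG.symm)
      · exact hne eG
  have hmax : ∀ x : Q, (∀ y ∈ D, x * y = y * x) → x ∈ D := by
    intro x hx
    set A := Subgroup.closure ((D : Set Q) ∪ {x})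
    have hgen : ∀ p ∈ (D : Set Q) ∪ {x}, ∀ q ∈ (D : Set Q) ∪ {x}, p * q = q * p := by
      rintro p (hp | hp) q (hq | hq)
      · exact hDab p hp q hq
      · rw [Set.mem_singleton_iff.1 hq]; exact (hx p hp).symm
      · rw [Set.mem_singleton_iff.1 hp]; exact hx q hq
      · rw [Set.mem_singleton_iff.1 hp, Set.mem_singleton_iff.1 hq]
    haveI := Subgroup.isMulCommutative_closure hgen
    have h1 := card_abelian_sq_le hZ hab A fun p hp q hq =>
      congrArg Subtype.val (mul_comm' (⟨p, hp⟩ : A) ⟨q, hq⟩)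
    rw [hcard] at h1
    have hle : D ≤ A := fun p hp => Subgroup.subset_closure (Or.inl hp)
    have h13 : Nat.card A ≤ Nat.card D := by
      rw [hD13]
      by_contra hlt
      push Not at hlt
      have h2 := (Nat.mul_le_mul hlt.le hlt).trans_lt' (Nat.lt_succ_self _)
      nlinarith
    rw [Subgroup.eq_of_le_of_card_ge hle h13]
    exact Subgroup.subset_closure (Or.inr rfl)
  have hcD : ∀ c ∈ Subgroup.center Q, c ∈ D := fun c hc => hmax c fun y _ => (Subgroup.mem_center_iff.1 hc y).symm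
  have hsD : s' ∈ D := (memD s').2 ⟨zQ, rfl⟩
  -- lattice classes of `D`
  let InD : leechLattice → Prop := fun v => ∀ q : Q, ψ v = QuotientGroup.mk q → q ∈ D
  have inD_iff : ∀ (v : leechLattice) (q : Q), ψ v = QuotientGroup.mk q → (InD v ↔ q ∈ D) := fun v q hq =>
    ⟨fun h => h q hq, fun h p hp => by
      obtain ⟨c, hc, rfl⟩ := Cfsg.Agent.S5408.lift_unique hq hp
      exact mul_mem h (hcD c hc)⟩
  let M : AddSubgroup leechLattice :=
    { carrier := {v | InD v}
      zero_mem' := fun q hq => hcD q (by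
        rwa [Cfsg.Agent.S5408.map_zero' hadd, eq_comm, QuotientGroup.eq_one_iff] at hq)
      add_mem' := fun {v w} hv hw => by
        obtain ⟨a, ha⟩ := QuotientGroup.mk_surjective (ψ v)
        obtain ⟨b, hb⟩ := QuotientGroup.mk_surjective (ψ w)
        exact (inD_iff _ _ (Cfsg.Agent.S5408.lift_mul hadd ha.symm hb.symm)).2
          (mul_mem (hv a ha.symm) (hw b hb.symm))
      neg_mem' := fun {v} hv q hq => hv q (by rwa [Cfsg.Agent.S5408.map_neg' hadd h2] at hq) }
  -- lifts of the cross stabiliser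
  have hlift : ∀ g ∈ crossStab, ∀ (v : leechLattice) (q : Q), ψ v = QuotientGroup.mk q →
      ∃ h : Subgroup.centralizer ({z} : Set G), (h : G) * π s' * (h : G)⁻¹ = π s' ∧
        ψ (g • v) = QuotientGroup.mk (MulAut.conjNormal h q) := by
    intro g hg v q hq
    obtain ⟨h0, hh0⟩ := QuotientGroup.mk_surjective (e.symm (QuotientGroup.mk g))
    have hstd : ∀ h : Subgroup.centralizer ({z} : Set G), QuotientGroup.mk h = e.symm (QuotientGroup.mk g) →
        ∀ (w : leechLattice) (p : Q), ψ w = QuotientGroup.mk p → ψ (g • w) = QuotientGroup.mk (MulAut.conjNormal h p) := by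
      intro h hh w p hp
      rw [hconj h g (by rw [hh, MulEquiv.apply_symm_apply]) w p hp]
      congr 1
    have ht : ψ (g • top) = ψ top := by
      obtain ⟨-, -, w, hw, e1⟩ : ((g • top : leechLattice) : GolayPt → ℤ) ∈ cross ((top : leechLattice) : GolayPt → ℤ) := by
        rw [cross_top]; exact mem_crossStab_iff_top.1 hg
      have e3 : top = g • top + ((⟨w, hw⟩ : leechLattice) + ⟨w, hw⟩) := Subtype.ext (by
        show ((top : leechLattice) : GolayPt → ℤ) = _ + (w + w)
        rw [← two_nsmul, ← e1]; abel)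
      conv_rhs => rw [e3]
      rw [hadd, h2, mul_one]
    have h1 := hstd h0 hh0 top s' hv
    rw [ht, hv, QuotientGroup.eq] at h1
    have hm : ∀ h : Subgroup.centralizer ({z} : Set G), MulAut.conjNormal h s' = s' →
        (h : G) * π s' * (h : G)⁻¹ = π s' := fun h hfix => congrArg π hfix
    rcases hcen _ h1 with r | r
    · exact ⟨h0, hm h0 (inv_mul_eq_one.1 r).symm, hstd h0 hh0 v q hq⟩
    · obtain ⟨y, hy⟩ : ∃ y : Q, y * s' ≠ s' * y := by
        by_contra hall
        push Not at hall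
        rcases hcen _ (Subgroup.mem_center_iff.2 hall) with r2 | r2
        · exact hz1 (conj_eq_one_iff.1 (congrArg π r2))
        · exact hne (congrArg π r2)
      refine ⟨(y : Subgroup.centralizer ({z} : Set G)) * h0, hm _ ?_, hstd _ ?_ v q hq⟩
      · have r' : (MulAut.conjNormal h0 s' : Q) = s' * zQ := by rw [← r]; exact (mul_inv_cancel_left _ _).symm
        have hyz : y * s' * y⁻¹ * s'⁻¹ = zQ :=
          (hcen _ (comm_mem_center hab y s')).resolve_left fun e1 => hy (commutatorElement_eq_one_iff_mul_comm.1 e1)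
        have hmul : MulAut.conjNormal ((y : Subgroup.centralizer ({z} : Set G)) * h0) s' = y * (MulAut.conjNormal h0 s') * y⁻¹ := by
          apply Subtype.ext
          simp [mul_assoc]
        rw [hmul, r']
        calc y * (s' * zQ) * y⁻¹ = y * s' * (zQ * y⁻¹) := by group
          _ = y * s' * (y⁻¹ * zQ) := by rw [Subgroup.mem_center_iff.1 hzc y⁻¹]
          _ = (y * s' * y⁻¹ * s'⁻¹) * (s' * zQ) := by group
          _ = zQ * (zQ * s') := by rw [hyz, Subgroup.mem_center_iff.1 hzc s']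
          _ = s' := by rw [← mul_assoc, center_mul_self hZ hzc, one_mul]
      · rw [QuotientGroup.mk_mul, (QuotientGroup.eq_one_iff _).2 y.2, one_mul, hh0]
  have hconjD : ∀ h : Subgroup.centralizer ({z} : Set G), (h : G) * π s' * (h : G)⁻¹ = π s' → ∀ q ∈ D,
      MulAut.conjNormal h q ∈ D := by
    intro h hh q hq
    obtain ⟨p, hp⟩ := (memD q).1 hq
    have hback : gz⁻¹ * (h : G) * gz ∈ Subgroup.centralizer ({z} : Set G) := by
      refine Subgroup.mem_centralizer_iff.2 fun x (hx : x = z) => ?_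
      subst hx
      have hh' : (h : G) * (gz * x * gz⁻¹) = gz * x * gz⁻¹ * (h : G) := mul_inv_eq_iff_eq_mul.1 hh
      calc x * (gz⁻¹ * (h : G) * gz) = gz⁻¹ * (gz * x * gz⁻¹ * (h : G)) * gz := by group
        _ = gz⁻¹ * ((h : G) * (gz * x * gz⁻¹)) * gz := by rw [hh']
        _ = _ := by group
    refine (memD _).2 ⟨MulAut.conjNormal ⟨_, hback⟩ p, ?_⟩
    show gz * (gz⁻¹ * (h : G) * gz * π p * (gz⁻¹ * (h : G) * gz)⁻¹) * gz⁻¹ = (h : G) * π q * (h : G)⁻¹
    rw [← hp]; group
  have hMinv : ∀ g ∈ crossStab, ∀ v ∈ M, g • v ∈ M := by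
    intro g hg v hv'
    obtain ⟨q, hq⟩ := QuotientGroup.mk_surjective (ψ v)
    obtain ⟨h, h1, h3⟩ := hlift g hg v q hq.symm
    exact (inD_iff _ _ h3).2 (hconjD h h1 q (hv' q hq.symm))
  have hMiso : ∀ v ∈ M, ∀ w ∈ M, (16 : ℤ) ∣ dotInt (v : GolayPt → ℤ) (w : GolayPt → ℤ) := by
    intro v hv' w hw'
    obtain ⟨a, ha⟩ := QuotientGroup.mk_surjective (ψ v)
    obtain ⟨b, hb⟩ := QuotientGroup.mk_surjective (ψ w)
    exact (commute_iff_dot hadd hsurj h2 hZ hinv hbig ha.symm hb.symm).1
      (hDab a (hv' a ha.symm) b (hw' b hb.symm))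
  have hMperp : ∀ v : leechLattice, (∀ w ∈ M, (16 : ℤ) ∣ dotInt (w : GolayPt → ℤ) (v : GolayPt → ℤ)) → v ∈ M := by
    intro v hv' q hq
    refine hmax q fun y hy => ?_
    obtain ⟨w, hw⟩ := hsurj (QuotientGroup.mk y)
    exact ((commute_iff_dot hadd hsurj h2 hZ hinv hbig hw hq).2 (hv' w ((inD_iff w y hw).2 hy))).symm
  have hpairs := fourPair_mem_of_invariant M (fun w q hq => hcD q (by rwa [h2, eq_comm, QuotientGroup.eq_one_iff] at hq))
    ((inD_iff top s' hv).2 hsD) hMiso hMperp hMinv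
  -- the involution
  set i : GolayPt := gpt 0
  set j : GolayPt := gpt 4
  have hij : i ≠ j := by decide
  set vp := Cfsg.Agent.S5408.fourPair i j
  have hvpn : sqNorm (vp : GolayPt → ℤ) = 32 := by
    rw [fourPair_eq_fourSet hij]; decide +kernel
  obtain ⟨a, ha⟩ := QuotientGroup.mk_surjective (ψ vp)
  have ha' := ha.symm
  have haD : a ∈ D := hpairs i j hij a ha'
  have haa : a * a = 1 := Cfsg.Agent.S5411.good_of_norm32 hadd hsurj h2 hZ hinv _ hvpn a ha'
  have hclash : ∀ w : leechLattice, ψ w = ψ vp → sqNorm (w : GolayPt → ℤ) ≤ 64 →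
      sqNorm (w : GolayPt → ℤ) = 32 := by
    intro w hw hle
    obtain ⟨u, hu⟩ := (hker (w - vp)).1 (by
      have h1 := hadd (w - vp) vp
      rw [sub_add_cancel, hw] at h1
      exact right_eq_mul.mp h1)
    rcases close_pair vp.2 w.2 (by omega) hle ⟨_, u.2, by rw [← AddSubgroup.coe_sub, hu, AddSubgroup.coe_add, two_nsmul]⟩
      with r | r | ⟨r, -⟩
    · rw [r, hvpn]
    · rw [r, sqNorm_neg', hvpn]
    · omega
  have hac : a ∉ Subgroup.center Q := fun hc => by
    have := hclash 0 (by rw [Cfsg.Agent.S5408.map_zero' hadd, ha', eq_comm, QuotientGroup.eq_one_iff]; exact hc)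
      (by simp [sqNorm])
    simp [sqNorm] at this
  have hanz : ¬ IsConj z (π a) := fun hc => by
    have hne' : π a ≠ z := fun h => hac ((show a = zQ from Subtype.ext (Subtype.ext h)) ▸ hzc)
    obtain ⟨w, hw, hwa, -⟩ := exists_rep64 hM.1 hψ' a hc hne'
    have := hclash w (hwa.trans ha) (by omega)
    omega
  -- the exchange
  obtain ⟨p0, hp0⟩ := (memD zQ).1 (hcD zQ hzc)
  have hp0c : IsConj z (π p0) := isConj_iff.2 ⟨gz⁻¹, by
    rw [inv_inv]
    calc gz⁻¹ * z * gz = gz⁻¹ * (gz * π p0 * gz⁻¹) * gz := by rw [hp0]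
      _ = π p0 := by group⟩
  have hp0ne : π p0 ≠ z := fun h => hne (by rw [← h]; exact hp0.trans h.symm)
  obtain ⟨v0, hv0, hv0p, -⟩ := exists_rep64 hM.1 hψ' p0 hp0c hp0ne
  obtain ⟨-, hh, hhC, hhe⟩ := conj_of_sixtyfour hM.1 hψ' p0 s' hv0 ((stdCross_subset (e8_mem_stdCross none)).2) hv0p hv
  set k0 := gz * hh⁻¹ with hk0
  have hhz : hh * z = z * hh := (Subgroup.mem_centralizer_iff.1 hhC z rfl).symm
  have hk0z : k0 * z * k0⁻¹ = π s' := by
    show gz * hh⁻¹ * z * (gz * hh⁻¹)⁻¹ = gz * z * gz⁻¹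
    calc gz * hh⁻¹ * z * (gz * hh⁻¹)⁻¹ = gz * hh⁻¹ * (z * hh) * gz⁻¹ := by group
      _ = gz * hh⁻¹ * (hh * z) * gz⁻¹ := by rw [hhz]
      _ = _ := by group
  have hk0s : k0 * π s' * k0⁻¹ = z := by
    have e1 : π s' = hh * π p0 * hh⁻¹ := hhe.symm
    rw [e1, hk0]
    calc gz * hh⁻¹ * (hh * π p0 * hh⁻¹) * (gz * hh⁻¹)⁻¹ = gz * π p0 * gz⁻¹ := by group
      _ = z := hp0
  -- image of the involution
  have hk0gz : k0 * gz ∈ Subgroup.centralizer ({z} : Set G) := by
    refine Subgroup.mem_centralizer_iff.2 fun x (hx : x = z) => ?_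
    subst hx
    have h1 : k0 * (gz * x * gz⁻¹) * k0⁻¹ = x := hk0s
    calc x * (k0 * gz) = (k0 * (gz * x * gz⁻¹) * k0⁻¹) * (k0 * gz) := by rw [h1]
      _ = k0 * gz * x := by group
  obtain ⟨qa, hqa⟩ := (memD a).1 haD
  set a' : Q := MulAut.conjNormal ⟨_, hk0gz⟩ qa with ha'def
  have hπa' : π a' = k0 * π a * k0⁻¹ := by
    show k0 * gz * π qa * (k0 * gz)⁻¹ = _
    rw [← hqa]; group
  have ha'D : a' ∈ D := (memD a').2 ⟨MulAut.conjNormal ⟨hh⁻¹, inv_mem hhC⟩ a, by
    rw [hπa', hk0]
    show gz * (hh⁻¹ * π a * hh⁻¹⁻¹) * gz⁻¹ = _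
    group⟩
  have ha'nz : ¬ IsConj z (π a') := fun hc => hanz (hc.trans (isConj_iff.2 ⟨k0⁻¹, by rw [hπa']; group⟩))
  have ha'c : a' ∉ Subgroup.center Q := fun hc => by
    rcases hcen _ hc with r | r
    · refine hac ?_
      have h1 : k0 * π a * k0⁻¹ = 1 := by rw [← hπa', r]; rfl
      rw [show a = 1 from Subtype.ext (Subtype.ext (conj_eq_one_iff.1 h1))]
      apply one_mem
    · exact ha'nz (by rw [r])
  have ha'2 : a' * a' = 1 := by
    have h1 : π (a * a) = 1 := by rw [haa]; rfl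
    refine Subtype.ext (Subtype.ext ?_)
    show π a' * π a' = 1
    rw [hπa']
    calc k0 * π a * k0⁻¹ * (k0 * π a * k0⁻¹) = k0 * π (a * a) * k0⁻¹ := by
          show _ = k0 * (π a * π a) * k0⁻¹
          group
      _ = 1 := by rw [h1]; group
  obtain ⟨w, hw, hwn⟩ := Cfsg.Agent.S5411.exists_rep hadd hsurj h2 hZ hinv hbig a' ha'2 ha'c
  have hwn32 : sqNorm (w : GolayPt → ℤ) = 32 := hwn.resolve_right fun h64 => by
    obtain ⟨-, h, -, hh'⟩ := conj_of_sixtyfour hM.1 hψ' s' a' ((stdCross_subset (e8_mem_stdCross none)).2) h64 hv hw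
    exact ha'nz (isConj_iff.2 ⟨h * gz, Eq.trans (show _ = h * (gz * z * gz⁻¹) * h⁻¹ by group) hh'⟩)
  have hwM : w ∈ M := (inD_iff w a' hw).2 ha'D
  have hsums : ∀ p q : GolayPt, p ≠ q → (4 : ℤ) ∣ w.1 p + w.1 q := fun p q hpq => by
    have h1 := hMiso w hwM _ (hpairs p q hpq)
    rw [dot_fourPair] at h1
    omega
  have h4all : ∀ p, (4 : ℤ) ∣ w.1 p := by
    intro p
    by_contra hp
    have hbig' : ∀ r, 4 ≤ w.1 r ^ 2 ∨ r = p := fun r => by
      by_cases hr : r = p
      · exact Or.inr hr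
      · left
        have h1 := hsums r p hr
        have : w.1 r ≤ -1 ∨ 1 ≤ w.1 r := by omega
        have h2' : w.1 r ≤ -2 ∨ 2 ≤ w.1 r := by
          obtain ⟨q, hq⟩ : ∃ q, q ∉ ({r, p} : Finset GolayPt) := by
            by_contra h
            push Not at h
            have := Finset.card_le_card (show Finset.univ ⊆ ({r, p} : Finset GolayPt) from fun x _ => h x)
            rw [Finset.card_univ, show Fintype.card GolayPt = 24 from rfl] at this
            have := Finset.card_le_two (a := r) (b := p)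
            omega
          simp only [Finset.mem_insert, Finset.mem_singleton, not_or] at hq
          have := hsums q r hq.1
          have := hsums q p hq.2
          omega
        rcases h2' with u | u <;> nlinarith
    have hsum : (4 : ℤ) * 23 ≤ sqNorm (w : GolayPt → ℤ) := by
      have h1 := Finset.add_sum_erase Finset.univ (fun r => w.1 r ^ 2) (Finset.mem_univ p)
      have h3 : ∑ _r ∈ Finset.univ.erase p, (4 : ℤ) ≤ ∑ r ∈ Finset.univ.erase p, w.1 r ^ 2 :=
        Finset.sum_le_sum fun r hr => (hbig' r).resolve_right (Finset.mem_erase.1 hr).1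
      rw [Finset.sum_const, Finset.card_erase_of_mem (Finset.mem_univ p), Finset.card_univ,
        show Fintype.card GolayPt = 24 from rfl] at h3
      rw [sqNorm, ← h1]
      have := sq_nonneg (w.1 p)
      simp only [nsmul_eq_mul] at h3
      push_cast at h3
      linarith
    omega
  obtain ⟨g, hg, hgw⟩ : ∃ g ∈ crossStab, g • w = vp := by
    obtain ⟨k, hk, hk', hsum, hnorm, hall, hS⟩ := even_shapes w.2 (by have := h4all none; omega) (N := 32) hwn32
      (by norm_num)
    have hz2 : (absSet w.1 2).card = 0 := Finset.card_eq_zero.2 (Finset.eq_empty_of_forall_notMem fun p hp => by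
      rw [mem_absSet] at hp
      have := h4all p
      rcases (abs_eq (by norm_num)).1 hp with r | r <;> rw [r] at this <;> norm_num at this)
    obtain ⟨p, q, hpq, hS4⟩ := Finset.card_eq_two.1 (show (absSet w.1 4).card = 2 by omega)
    obtain ⟨σ, s1, s2⟩ := MulAction.is_two_pretransitive_iff.1 (M24_pretransitive_le 2 (by norm_num)) hpq
      (c := i) (d := j) hij
    have hpm : p ∈ absSet w.1 4 := by rw [hS4]; simp
    have hqm : q ∈ absSet w.1 4 := by rw [hS4]; simp
    rw [mem_absSet] at hpm hqm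
    have hzero : ∀ r, r ≠ p → r ≠ q → w.1 r = 0 := fun r r1 r2 => by
      rcases no_eight hall (by omega) r with u | u | u | u
      · exact abs_eq_zero.1 u
      · exact absurd (mem_absSet.2 u) (by rw [absSet_eq_empty (x := w.1) (v := 2) hz2]; simp)
      · have := mem_absSet.2 u; rw [hS4] at this; simp [r1, r2] at this
      · exact absurd (mem_absSet.2 u) (by rw [absSet_eq_empty (x := w.1) (v := 6) (by omega)]; simp)
    obtain ⟨c, hc, hci, hcj⟩ : ∃ c ∈ codeSets, (i ∈ c ↔ w.1 p < 0) ∧ (j ∈ c ↔ w.1 q < 0) := by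
      obtain ⟨c1, hc1, a1, a2⟩ := exists_code_separating hij
      obtain ⟨c2, hc2, b1, b2⟩ := exists_code_separating hij.symm
      by_cases u : w.1 p < 0 <;> by_cases u' : w.1 q < 0
      · exact ⟨Finset.univ, mem_codeSets_univ, by simp [u], by simp [u']⟩
      · exact ⟨c1, hc1, iff_of_true a1 u, iff_of_false a2 u'⟩
      · exact ⟨c2, hc2, iff_of_false b2 u, iff_of_true b1 u'⟩
      · exact ⟨∅, empty_mem_codeSets, by simp [u], by simp [u']⟩
    refine ⟨monoCo0 σ.1 σ.2 c hc, mono_mem_crossStab _ _ _ _, Subtype.ext (funext fun r => ?_)⟩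
    rw [monoCo0_smul]
    show signedPerm σ.1 c w.1 r = ((Cfsg.Agent.S5408.fourPair i j : leechLattice) : GolayPt → ℤ) r
    rw [Cfsg.Agent.S5408.fourPair_apply]
    simp only [signedPerm]
    have es1 : σ.1.symm i = p := (Equiv.symm_apply_eq σ.1).2 (Eq.symm s1)
    have es2 : σ.1.symm j = q := (Equiv.symm_apply_eq σ.1).2 (Eq.symm s2)
    by_cases r1 : r = i
    · subst r1
      rw [es1, if_pos rfl, if_neg hij]
      rcases (abs_eq (by norm_num)).1 hpm with u | u <;> rw [u] at hci ⊢ <;> simp [hci]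
    by_cases r2 : r = j
    · subst r2
      rw [es2, if_neg hij.symm, if_pos rfl]
      rcases (abs_eq (by norm_num)).1 hqm with u | u <;> rw [u] at hcj ⊢ <;> simp [hcj]
    rw [if_neg r1, if_neg r2, hzero]
    · simp
    · exact fun u => r1 (by rw [← σ.1.apply_symm_apply r, u]; exact s1)
    · exact fun u => r2 (by rw [← σ.1.apply_symm_apply r, u]; exact s2)
  obtain ⟨h, hhs, hhψ⟩ := hlift g hg w a' hw
  rw [hgw, ha', QuotientGroup.eq] at hhψ
  set k1 := (h : G) * k0 with hk1
  have hk1z : k1 * z * k1⁻¹ = π s' := by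
    calc k1 * z * k1⁻¹ = (h : G) * (k0 * z * k0⁻¹) * (h : G)⁻¹ := by rw [hk1]; group
      _ = π s' := by rw [hk0z, hhs]
  have hk1a : k1 * π a * k1⁻¹ = π (MulAut.conjNormal h a') := by
    show _ = (h : G) * π a' * (h : G)⁻¹
    rw [hπa', hk1]; group
  have hasc : a * s' = s' * a := hDab a haD s' hsD
  have ha1 : π a ≠ 1 := fun h => hac ((show a = 1 from Subtype.ext (Subtype.ext h)) ▸ one_mem _)
  rcases hcen _ hhψ with r | r
  · refine ⟨a, s', k1, haa, ha1, hanz, ?_, hasc, hne, hk1z⟩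
    rw [hk1a, ← inv_mul_eq_one.1 r]
  · obtain ⟨hw1, -, -⟩ := step_check.1
    set u : leechLattice := ⟨_, mem_leech_of_inLeech hw1⟩
    obtain ⟨y, hy⟩ := QuotientGroup.mk_surjective (ψ u)
    have hd1 : dotInt (u : GolayPt → ℤ) ((top : leechLattice) : GolayPt → ℤ) = 8 * u.1 none := by
      rw [dotInt, Finset.sum_eq_single none (fun p _ hp => by simp [top, e8, hp]) (by simp)]
      simp [top, e8, mul_comm]
    have hchk : u.1 none % 2 = 0 ∧ (u.1 i + u.1 j) % 4 = 2 :=
      (by decide +kernel : vec 8536111 0 0 0 none % 2 = 0 ∧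
        (vec 8536111 0 0 0 (gpt 0) + vec 8536111 0 0 0 (gpt 4)) % 4 = 2)
    have hys : y * s' = s' * y := (commute_iff_dot hadd hsurj h2 hZ hinv hbig hy.symm hv).2 (by
      rw [hd1]; omega)
    have hya : y * a ≠ a * y := fun hc => by
      have h1 := (commute_iff_dot hadd hsurj h2 hZ hinv hbig hy.symm ha').1 hc
      rw [dot_fourPair] at h1
      omega
    refine ⟨a, s', π y * k1, haa, ha1, hanz, ?_, hasc, hne, ?_⟩
    · have r' : MulAut.conjNormal h a' = a * zQ := by rw [← r]; exact (mul_inv_cancel_left _ _).symm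
      have hyz : y * a * y⁻¹ * a⁻¹ = zQ :=
        (hcen _ (comm_mem_center hab y a)).resolve_left fun e1 => hya (commutatorElement_eq_one_iff_mul_comm.1 e1)
      have hfin : y * (a * zQ) * y⁻¹ = a := by
        calc y * (a * zQ) * y⁻¹ = y * a * (zQ * y⁻¹) := by group
          _ = y * a * (y⁻¹ * zQ) := by rw [Subgroup.mem_center_iff.1 hzc y⁻¹]
          _ = (y * a * y⁻¹ * a⁻¹) * (a * zQ) := by group
          _ = zQ * (zQ * a) := by rw [hyz, Subgroup.mem_center_iff.1 hzc a]
          _ = a := by rw [← mul_assoc, center_mul_self hZ hzc, one_mul]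
      calc π y * k1 * π a * (π y * k1)⁻¹ = π y * (k1 * π a * k1⁻¹) * (π y)⁻¹ := by group
        _ = π (y * (a * zQ) * y⁻¹) := by rw [hk1a, r']; rfl
        _ = π a := by rw [hfin]
    · calc π y * k1 * z * (π y * k1)⁻¹ = π y * (k1 * z * k1⁻¹) * (π y)⁻¹ := by group
        _ = π (y * s' * y⁻¹) := by rw [hk1z]; rfl
        _ = π s' := by rw [hys, mul_inv_cancel_right]

end Cfsg.Lib.Concrete
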