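import Cfsg.Agent.Lib.Concrete.MonsterFuse

/-!
The pairs of fours lie in the intersection of the extraspecial subgroups at two commuting central involutions.
-/

set_option autoImplicit false

namespace Cfsg.Lib.Concrete

open Cfsg

/-- Every lift of a pair of fours lies in the conjugate extraspecial subgroup. -/
theorem fourPair_mem_conj {G : Type*} [Group G] [Finite G] {z : G}
    {Q : Subgroup (Subgroup.centralizer ({z} : Set G))} [Q.Normal] (hM : IsOfMonsterType z Q)
    (e : (Subgroup.centralizer ({z} : Set G)) ⧸ Q ≃* Spor.Co1) (ψ : leechLattice → Q ⧸ Subgroup.center Q)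
    (hψ : IsLeechModTwoIso Q e ψ) {gz : G} (s' : Q)
    (hs : ((s' : Subgroup.centralizer ({z} : Set G)) : G) = gz * z * gz⁻¹) (hne : gz * z * gz⁻¹ ≠ z)
    (hv : ψ top = QuotientGroup.mk s') (i j : GolayPt) (hij : i ≠ j) (x : Q)
    (hx : ψ (Cfsg.Agent.S5408.fourPair i j) = QuotientGroup.mk x) :
    (∃ q : Q, gz * ((q : Subgroup.centralizer ({z} : Set G)) : G) * gz⁻¹ = ((x : Subgroup.centralizer ({z} : Set G)) : G)) ∧
      ∀ y : Q, (∃ q : Q, gz * ((q : Subgroup.centralizer ({z} : Set G)) : G) * gz⁻¹ =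
        ((y : Subgroup.centralizer ({z} : Set G)) : G)) → y * x = x * y := by
  classical
  obtain ⟨hzQ, hz, hZ, hcard⟩ := setting_facts hM
  obtain ⟨-, -, -, -, hDcard⟩ := cross_structure e ψ hψ hzQ hz hZ hcard s' hs hne hv
  obtain ⟨hadd, hsurj, hker, hconj⟩ := hψ
  have h2 : ∀ w, ψ (w + w) = 1 := fun w => (hker _).2 ⟨w, rfl⟩
  have hinv : ∀ g : Co0, ∃ θ : Q ≃* Q, ∀ v q, ψ v = QuotientGroup.mk q →
      ψ (g • v) = QuotientGroup.mk (θ q) := fun g => by
    obtain ⟨h, hh⟩ := QuotientGroup.mk_surjective (e.symm (QuotientGroup.mk g))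
    refine ⟨MulAut.conjNormal h, fun v q hq => ?_⟩
    rw [hconj h g (by rw [hh, MulEquiv.apply_symm_apply]) v q hq]
    congr 1
  have hbig : 2 < Nat.card Q := by rw [hcard]; norm_num
  have hab : ∀ x y : Q ⧸ Subgroup.center Q, x * y = y * x := by
    intro x y
    obtain ⟨a, rfl⟩ := hsurj x
    obtain ⟨b, rfl⟩ := hsurj y
    rw [← hadd, ← hadd, add_comm]
  have hzC : z ∈ Subgroup.centralizer ({z} : Set G) := Subgroup.mem_centralizer_iff.2 fun x (hx : x = z) => by rw [hx]
  set zQ : Q := ⟨⟨z, hzC⟩, hzQ hzC⟩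
  have hz1 : z ≠ 1 := fun h => by rw [h, orderOf_one] at hz; omega
  have hzc : zQ ∈ Subgroup.center Q := Subgroup.mem_center_iff.2 fun y => Subtype.ext (Subtype.ext
    (Subgroup.mem_centralizer_iff.1 (y : Subgroup.centralizer ({z} : Set G)).2 z rfl).symm)
  have hzQ1 : zQ ≠ 1 := fun h => hz1 (congrArg (fun q : Q => ((q : Subgroup.centralizer ({z} : Set G)) : G)) h)
  have hcen : ∀ q ∈ Subgroup.center Q, q = 1 ∨ q = zQ := fun q hq =>
    (em (q = 1)).imp_right fun h => center_eq_of_ne_one hZ hq hzc h hzQ1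
  let π : Q → G := fun q => ((q : Subgroup.centralizer ({z} : Set G)) : G)
  -- the intersection
  set D : Subgroup Q := (((Q.map (Subgroup.centralizer ({z} : Set G)).subtype).map (MulAut.conj gz).toMonoidHom).subgroupOf
    (Subgroup.centralizer ({z} : Set G))).subgroupOf Q with hDdef
  have memD : ∀ x : Q, x ∈ D ↔ ∃ q : Q, gz * π q * gz⁻¹ = π x := fun x => by
    rw [hDdef, Subgroup.mem_subgroupOf, Subgroup.mem_subgroupOf]
    constructor
    · rintro ⟨_, ⟨q, hq, rfl⟩, hh⟩; exact ⟨⟨q, hq⟩, hh⟩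
    · rintro ⟨q, hq⟩; exact ⟨_, ⟨(q : Subgroup.centralizer ({z} : Set G)), q.2, rfl⟩, hq⟩
  have hD13 : Nat.card D = 2 ^ 13 := by
    rw [← hDcard, ← Subgroup.card_map_of_injective (K := D) Q.subtype_injective, hDdef, Subgroup.subgroupOf_map_subtype]
  have hDab : ∀ x ∈ D, ∀ y ∈ D, x * y = y * x := by
    intro x hx y hy
    obtain ⟨a, ha⟩ := (memD x).1 hx
    obtain ⟨b, hb⟩ := (memD y).1 hy
    have eG : gz * π (a * b * a⁻¹ * b⁻¹) * gz⁻¹ = π (x * y * x⁻¹ * y⁻¹) := by
      show _ = π x * π y * (π x)⁻¹ * (π y)⁻¹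
      rw [← ha, ← hb]
      show gz * (π a * π b * (π a)⁻¹ * (π b)⁻¹) * gz⁻¹ = _
      group
    rw [← commutatorElement_eq_one_iff_mul_comm]
    rcases hcen _ (comm_mem_center hab x y) with r | r
    · exact r
    · exfalso
      rw [r] at eG
      rcases hcen _ (comm_mem_center hab a b) with r2 | r2 <;> rw [r2] at eG
      · exact hzQ1 (by simpa [π] using eG.symm)
      · exact hne eG
  have hmax : ∀ x : Q, (∀ y ∈ D, x * y = y * x) → x ∈ D := by
    intro x hx
    set A := Subgroup.closure ((D : Set Q) ∪ {x})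
    have hgen : ∀ p ∈ (D : Set Q) ∪ {x}, ∀ q ∈ (D : Set Q) ∪ {x}, p * q = q * p := by
      rintro p (hp | hp) q (hq | hq)
      · exact hDab p hp q hq
      · rw [Set.mem_singleton_iff.1 hq]; exact (hx p hp).symm
      · rw [Set.mem_singleton_iff.1 hp]; exact hx q hq
      · rw [Set.mem_singleton_iff.1 hp, Set.mem_singleton_iff.1 hq]
    haveI := Subgroup.isMulCommutative_closure hgen
    have h1 := card_abelian_sq_le hZ hab A fun p hp q hq =>
      congrArg Subtype.val (mul_comm' (⟨p, hp⟩ : A) ⟨q, hq⟩)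
    rw [hcard] at h1
    have hle : D ≤ A := fun p hp => Subgroup.subset_closure (Or.inl hp)
    have h13 : Nat.card A ≤ Nat.card D := by
      rw [hD13]
      by_contra hlt
      push Not at hlt
      have h2 := (Nat.mul_le_mul hlt.le hlt).trans_lt' (Nat.lt_succ_self _)
      nlinarith
    rw [Subgroup.eq_of_le_of_card_ge hle h13]
    exact Subgroup.subset_closure (Or.inr rfl)
  have hcD : ∀ c ∈ Subgroup.center Q, c ∈ D := fun c hc => hmax c fun y _ => (Subgroup.mem_center_iff.1 hc y).symm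
  have hsD : s' ∈ D := (memD s').2 ⟨zQ, hs.symm⟩
  -- lattice classes of `D`
  let InD : leechLattice → Prop := fun v => ∀ q : Q, ψ v = QuotientGroup.mk q → q ∈ D
  have inD_iff : ∀ (v : leechLattice) (q : Q), ψ v = QuotientGroup.mk q → (InD v ↔ q ∈ D) := fun v q hq =>
    ⟨fun h => h q hq, fun h p hp => by
      obtain ⟨c, hc, rfl⟩ := Cfsg.Agent.S5408.lift_unique hq hp
      exact mul_mem h (hcD c hc)⟩
  let M : AddSubgroup leechLattice :=
    { carrier := {v | InD v}
      zero_mem' := fun q hq => hcD q (by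
        rwa [Cfsg.Agent.S5408.map_zero' hadd, eq_comm, QuotientGroup.eq_one_iff] at hq)
      add_mem' := fun {v w} hv hw => by
        obtain ⟨a, ha⟩ := QuotientGroup.mk_surjective (ψ v)
        obtain ⟨b, hb⟩ := QuotientGroup.mk_surjective (ψ w)
        exact (inD_iff _ _ (Cfsg.Agent.S5408.lift_mul hadd ha.symm hb.symm)).2
          (mul_mem (hv a ha.symm) (hw b hb.symm))
      neg_mem' := fun {v} hv q hq => hv q (by rwa [Cfsg.Agent.S5408.map_neg' hadd h2] at hq) }
  -- lifts of the cross stabiliser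
  have hlift : ∀ g ∈ crossStab, ∀ (v : leechLattice) (q : Q), ψ v = QuotientGroup.mk q →
      ∃ h : Subgroup.centralizer ({z} : Set G), (h : G) * π s' * (h : G)⁻¹ = π s' ∧
        ψ (g • v) = QuotientGroup.mk (MulAut.conjNormal h q) := by
    intro g hg v q hq
    obtain ⟨h0, hh0⟩ := QuotientGroup.mk_surjective (e.symm (QuotientGroup.mk g))
    have hstd : ∀ h : Subgroup.centralizer ({z} : Set G), QuotientGroup.mk h = e.symm (QuotientGroup.mk g) →
        ∀ (w : leechLattice) (p : Q), ψ w = QuotientGroup.mk p → ψ (g • w) = QuotientGroup.mk (MulAut.conjNormal h p) := by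
      intro h hh w p hp
      rw [hconj h g (by rw [hh, MulEquiv.apply_symm_apply]) w p hp]
      congr 1
    have ht : ψ (g • top) = ψ top := by
      obtain ⟨-, -, w, hw, e1⟩ : ((g • top : leechLattice) : GolayPt → ℤ) ∈ cross ((top : leechLattice) : GolayPt → ℤ) := by
        rw [cross_top]; exact mem_crossStab_iff_top.1 hg
      have e3 : top = g • top + ((⟨w, hw⟩ : leechLattice) + ⟨w, hw⟩) := Subtype.ext (by
        show ((top : leechLattice) : GolayPt → ℤ) = _ + (w + w)
        rw [← two_nsmul, ← e1]; abel)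
      conv_rhs => rw [e3]
      rw [hadd, h2, mul_one]
    have h1 := hstd h0 hh0 top s' hv
    rw [ht, hv, QuotientGroup.eq] at h1
    have hm : ∀ h : Subgroup.centralizer ({z} : Set G), MulAut.conjNormal h s' = s' →
        (h : G) * π s' * (h : G)⁻¹ = π s' := fun h hfix => congrArg π hfix
    rcases hcen _ h1 with r | r
    · exact ⟨h0, hm h0 (inv_mul_eq_one.1 r).symm, hstd h0 hh0 v q hq⟩
    · obtain ⟨y, hy⟩ : ∃ y : Q, y * s' ≠ s' * y := by
        by_contra hall
        push Not at hall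
        rcases hcen _ (Subgroup.mem_center_iff.2 hall) with r2 | r2
        · exact hz1 (conj_eq_one_iff.1 (hs.symm.trans (congrArg π r2)))
        · exact hne (hs.symm.trans (congrArg π r2))
      refine ⟨(y : Subgroup.centralizer ({z} : Set G)) * h0, hm _ ?_, hstd _ ?_ v q hq⟩
      · have r' : (MulAut.conjNormal h0 s' : Q) = s' * zQ := by rw [← r]; exact (mul_inv_cancel_left _ _).symm
        have hyz : y * s' * y⁻¹ * s'⁻¹ = zQ :=
          (hcen _ (comm_mem_center hab y s')).resolve_left fun e1 => hy (commutatorElement_eq_one_iff_mul_comm.1 e1)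
        have hmul : MulAut.conjNormal ((y : Subgroup.centralizer ({z} : Set G)) * h0) s' = y * (MulAut.conjNormal h0 s') * y⁻¹ := by
          apply Subtype.ext
          simp [mul_assoc]
        rw [hmul, r']
        calc y * (s' * zQ) * y⁻¹ = y * s' * (zQ * y⁻¹) := by group
          _ = y * s' * (y⁻¹ * zQ) := by rw [Subgroup.mem_center_iff.1 hzc y⁻¹]
          _ = (y * s' * y⁻¹ * s'⁻¹) * (s' * zQ) := by group
          _ = zQ * (zQ * s') := by rw [hyz, Subgroup.mem_center_iff.1 hzc s']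
          _ = s' := by rw [← mul_assoc, center_mul_self hZ hzc, one_mul]
      · rw [QuotientGroup.mk_mul, (QuotientGroup.eq_one_iff _).2 y.2, one_mul, hh0]
  have hconjD : ∀ h : Subgroup.centralizer ({z} : Set G), (h : G) * π s' * (h : G)⁻¹ = π s' → ∀ q ∈ D,
      MulAut.conjNormal h q ∈ D := by
    intro h hh q hq
    obtain ⟨p, hp⟩ := (memD q).1 hq
    have hback : gz⁻¹ * (h : G) * gz ∈ Subgroup.centralizer ({z} : Set G) := by
      refine Subgroup.mem_centralizer_iff.2 fun w (hw : w = z) => ?_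
      subst hw
      have hh' : (h : G) * (gz * w * gz⁻¹) = gz * w * gz⁻¹ * (h : G) := by
        have h0 := mul_inv_eq_iff_eq_mul.1 hh
        rwa [show π s' = _ from hs] at h0
      calc w * (gz⁻¹ * (h : G) * gz) = gz⁻¹ * (gz * w * gz⁻¹ * (h : G)) * gz := by group
        _ = gz⁻¹ * ((h : G) * (gz * w * gz⁻¹)) * gz := by rw [hh']
        _ = _ := by group
    refine (memD _).2 ⟨MulAut.conjNormal ⟨_, hback⟩ p, ?_⟩
    show gz * (gz⁻¹ * (h : G) * gz * π p * (gz⁻¹ * (h : G) * gz)⁻¹) * gz⁻¹ = (h : G) * π q * (h : G)⁻¹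
    rw [← hp]; group
  have hMinv : ∀ g ∈ crossStab, ∀ v ∈ M, g • v ∈ M := by
    intro g hg v hv'
    obtain ⟨q, hq⟩ := QuotientGroup.mk_surjective (ψ v)
    obtain ⟨h, h1, h3⟩ := hlift g hg v q hq.symm
    exact (inD_iff _ _ h3).2 (hconjD h h1 q (hv' q hq.symm))
  have hMiso : ∀ v ∈ M, ∀ w ∈ M, (16 : ℤ) ∣ dotInt (v : GolayPt → ℤ) (w : GolayPt → ℤ) := by
    intro v hv' w hw'
    obtain ⟨a, ha⟩ := QuotientGroup.mk_surjective (ψ v)
    obtain ⟨b, hb⟩ := QuotientGroup.mk_surjective (ψ w)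
    exact (commute_iff_dot hadd hsurj h2 hZ hinv hbig ha.symm hb.symm).1
      (hDab a (hv' a ha.symm) b (hw' b hb.symm))
  have hMperp : ∀ v : leechLattice, (∀ w ∈ M, (16 : ℤ) ∣ dotInt (w : GolayPt → ℤ) (v : GolayPt → ℤ)) → v ∈ M := by
    intro v hv' q hq
    refine hmax q fun y hy => ?_
    obtain ⟨w, hw⟩ := hsurj (QuotientGroup.mk y)
    exact ((commute_iff_dot hadd hsurj h2 hZ hinv hbig hw hq).2 (hv' w ((inD_iff w y hw).2 hy))).symm
  have hpairs := fourPair_mem_of_invariant M (fun w q hq => hcD q (by rwa [h2, eq_comm, QuotientGroup.eq_one_iff] at hq))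
    ((inD_iff top s' hv).2 hsD) hMiso hMperp hMinv
  have hxD : x ∈ D := hpairs i j hij x hx
  exact ⟨(memD x).1 hxD, fun y hy => hDab y ((memD y).2 hy) x hxD⟩

end Cfsg.Lib.Concrete
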