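import Mathlib

/-!
Projective semilinear groups contain no sharply two-transitive set (the counting argument of Müller and Nagy).
-/

set_option autoImplicit false

namespace Cfsg.Lib.Concrete

open Projectivization
open scoped LinearAlgebra.Projectivization

variable {F : Type*} [Field F] [Finite F] {V : Type*} [AddCommGroup V] [Module F V] [Finite V]

/-- The points of a subspace. -/
def subPts (U : Submodule F V) : Set (ℙ F V) := {x | x.submodule ≤ U}

theorem mk_mem_subPts (U : Submodule F V) (v : V) (hv : v ≠ 0) : Projectivization.mk F v hv ∈ subPts U ↔ v ∈ U := by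
  show (Projectivization.mk F v hv).submodule ≤ U ↔ _
  rw [submodule_mk, Submodule.span_singleton_le_iff_mem]

theorem ncard_subPts (U : Submodule F V) :
    (subPts U).ncard = ∑ i ∈ Finset.range (Module.finrank F U), Nat.card F ^ i := by
  rw [← Projectivization.card_of_finrank F U rfl, ← Nat.card_coe_set_eq]
  refine (Nat.card_eq_of_bijective (fun y : ℙ F U => (⟨Projectivization.map U.subtype U.subtype_injective y, ?_⟩ : subPts U))
    ⟨fun a b h => Projectivization.map_injective U.subtype U.subtype_injective (congrArg Subtype.val h), ?_⟩).symm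
  · induction y using Projectivization.ind with
    | _ v hv => exact (mk_mem_subPts U _ _).2 v.2
  · rintro ⟨x, hx⟩
    induction x using Projectivization.ind with
    | _ v hv =>
      exact ⟨Projectivization.mk F (⟨v, (mk_mem_subPts U v hv).1 hx⟩ : U) (fun h => hv (congrArg Subtype.val h)),
        Subtype.ext (Projectivization.map_mk U.subtype U.subtype_injective _ _)⟩

theorem subPts_modEq_one {p : ℕ} (hp : p ∣ Nat.card F) {U : Submodule F V} (hU : U ≠ ⊥) :
    (subPts U).ncard % p = 1 % p := by
  obtain ⟨n, hn⟩ := Nat.exists_eq_succ_of_ne_zero (fun h => hU (Submodule.finrank_eq_zero.1 h) :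
    Module.finrank F U ≠ 0)
  rw [ncard_subPts, hn, Finset.sum_range_succ', pow_zero, Nat.add_mod,
    Nat.mod_eq_zero_of_dvd (Finset.dvd_sum fun i _ => dvd_pow hp (Nat.succ_ne_zero i)), zero_add, Nat.mod_mod]

theorem no_sharply_two_transitive (hn : 3 ≤ Module.finrank F V) (S : Set (Equiv.Perm (ℙ F V)))
    (hS : ∀ s ∈ S, ∃ (σ : F ≃+* F) (f : V →ₛₗ[(σ : F →+* F)] V) (hf : Function.Injective f),
      ∀ x, s x = Projectivization.map f hf x) :
    ¬ (∀ a b c d : ℙ F V, a ≠ b → c ≠ d → ∃! s, s ∈ S ∧ s a = c ∧ s b = d) := by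
  intro h
  classical
  obtain ⟨p, hp, hpq⟩ := Nat.exists_prime_and_dvd (Finite.one_lt_card : 1 < Nat.card F).ne'
  have hV : Nontrivial V := Module.nontrivial_of_finrank_pos (R := F) (by omega)
  obtain ⟨v, hv⟩ := exists_ne (0 : V)
  set a : ℙ F V := Projectivization.mk F v hv with ha
  obtain ⟨H, hH⟩ := exists_isCompl a.submodule
  have hHr : Module.finrank F H = Module.finrank F V - 1 := by
    have := Submodule.finrank_add_eq_of_isCompl hH
    rw [a.finrank_submodule] at this
    omega
  have haH : a ∉ subPts H := by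
    intro hmem
    have hbot : a.submodule = ⊥ := le_bot_iff.1 (hH.disjoint le_rfl hmem)
    have := a.finrank_submodule
    rw [hbot, finrank_bot] at this
    omega
  let b := Module.finBasis F H
  set W : Submodule F V := Submodule.span F (Set.range fun i : Fin 2 =>
    (b (Fin.castLE (by omega) i) : V)) with hW
  have hW2 : Module.finrank F W = 2 := by
    rw [hW, finrank_span_eq_card]
    · exact Fintype.card_fin 2
    · exact (b.linearIndependent.comp _ (Fin.castLE_injective _)).map' H.subtype H.ker_subtype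
  have hWH : W ≤ H := Submodule.span_le.2 (by rintro _ ⟨i, rfl⟩; exact Submodule.coe_mem _)
  have haW : a ∉ subPts W := fun hm => haH (le_trans (show a.submodule ≤ W from hm) hWH)
  have hWne : W ≠ ⊥ := fun e => by rw [e, finrank_bot] at hW2; omega
  have hHne : H ≠ ⊥ := fun e => by rw [e, finrank_bot] at hHr; omega
  -- the maps fixing the chosen point
  let T : Finset (Equiv.Perm (ℙ F V)) := (Set.toFinite {s | s ∈ S ∧ s a = a}).toFinset
  have := Fintype.ofFinite (ℙ F V)
  let B : Finset (ℙ F V) := Finset.univ.filter (· ∈ subPts W)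
  let C : Finset (ℙ F V) := Finset.univ.filter (· ∈ subPts H)
  have hB : B.card % p = 1 % p := by
    rw [← subPts_modEq_one hpq hWne, ← Set.ncard_coe_finset]
    simp [B]
  have hC : C.card % p = 1 % p := by
    rw [← subPts_modEq_one hpq hHne, ← Set.ncard_coe_finset]
    simp [C]
  have hTmem : ∀ s, s ∈ T ↔ s ∈ S ∧ s a = a := fun s => Set.Finite.mem_toFinset _
  have hcount : ∑ s ∈ T, (B.filter fun x => s x ∈ C).card = B.card * C.card := by
    rw [← Finset.card_sigma, ← Finset.card_product]
    refine Finset.card_bij (fun z _ => (z.2, z.1 z.2)) ?_ ?_ ?_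
    · intro z hz
      simp only [Finset.mem_sigma, Finset.mem_filter] at hz
      exact Finset.mem_product.2 ⟨hz.2.1, hz.2.2⟩
    · rintro ⟨s, x⟩ hz ⟨t, y⟩ hw he
      simp only [Finset.mem_sigma, Finset.mem_filter, hTmem, Prod.mk.injEq] at hz hw he
      obtain ⟨rfl, he⟩ := he
      have hxa : a ≠ x := fun e => haW (e.symm ▸ (Finset.mem_filter.1 hz.2.1).2)
      have hca : a ≠ s x := fun e => haH (e.symm ▸ (Finset.mem_filter.1 hz.2.2).2)
      obtain rfl := (h a x a (s x) hxa hca).unique ⟨hz.1.1, hz.1.2, rfl⟩ ⟨hw.1.1, hw.1.2, he.symm⟩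
      rfl
    · rintro ⟨x, c⟩ hz
      obtain ⟨hx, hc⟩ := Finset.mem_product.1 hz
      obtain ⟨s, ⟨hs, hsa, hsx⟩, -⟩ := h a x a c (fun e => haW (e.symm ▸ (Finset.mem_filter.1 hx).2))
        (fun e => haH (e.symm ▸ (Finset.mem_filter.1 hc).2))
      refine ⟨⟨s, x⟩, ?_, by rw [hsx]⟩
      simp only [Finset.mem_sigma, Finset.mem_filter, hTmem]
      exact ⟨⟨hs, hsa⟩, hx, by rw [hsx]; exact hc⟩
  have hterm : ∀ s ∈ T, (B.filter fun x => s x ∈ C).card % p = 1 % p := by
    intro s hs
    obtain ⟨σ, f, hf, hsf⟩ := hS s ((hTmem s).1 hs).1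
    have : RingHomSurjective (σ : F →+* F) := ⟨σ.surjective⟩
    have hW' : Module.finrank F (W.map f) = 2 := by
      have e1 : Nat.card (W.map f) = Nat.card W :=
        (Nat.card_congr (Equiv.Set.image f (W : Set V) hf)).symm
      rw [Module.natCard_eq_pow_finrank (K := F) (V := W.map f), Module.natCard_eq_pow_finrank (K := F) (V := W), hW2] at e1
      exact Nat.pow_right_injective (Finite.one_lt_card : 1 < Nat.card F) e1
    have hne : W.map f ⊓ H ≠ ⊥ := by
      intro e
      have h1 := Submodule.finrank_sup_add_finrank_inf_eq (W.map f) H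
      have h2 := Submodule.finrank_le (W.map f ⊔ H)
      rw [e, finrank_bot, hW', hHr] at h1
      omega
    rw [← subPts_modEq_one hpq hne, ← Finset.card_image_of_injective _ s.injective, ← Set.ncard_coe_finset]
    congr 2
    ext y
    simp only [Finset.coe_image, Set.mem_image, Finset.mem_coe, Finset.mem_filter, B, C, Finset.mem_univ, true_and]
    constructor
    · rintro ⟨x, ⟨hx, hsx⟩, rfl⟩
      have hsx' : (s x).submodule ≤ H := hsx
      refine le_inf ?_ hsx'
      induction x using Projectivization.ind with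
      | _ w hw =>
        rw [hsf, map_mk, submodule_mk, Submodule.span_singleton_le_iff_mem]
        exact ⟨w, (mk_mem_subPts W w hw).1 hx, rfl⟩
    · intro hy
      have hy1 : y.submodule ≤ W.map f := le_trans hy inf_le_left
      have hy2 : y.submodule ≤ H := le_trans hy inf_le_right
      induction y using Projectivization.ind with
      | _ w hw =>
        rw [submodule_mk, Submodule.span_singleton_le_iff_mem] at hy1
        obtain ⟨u, hu, rfl⟩ := hy1
        have hu0 : u ≠ 0 := fun e => hw (by rw [e, map_zero])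
        refine ⟨Projectivization.mk F u hu0, ⟨(mk_mem_subPts W u hu0).2 hu, ?_⟩, ?_⟩
        · rw [hsf, map_mk]; exact hy2
        · rw [hsf, map_mk]
  -- the number of maps fixing the point
  obtain ⟨x₀, hx₀⟩ : (subPts H).Nonempty := by
    by_contra hh
    rw [Set.not_nonempty_iff_eq_empty] at hh
    have := subPts_modEq_one (p := p) hpq hHne
    rw [hh, Set.ncard_empty, Nat.zero_mod, Nat.mod_eq_of_lt hp.one_lt] at this
    omega
  have hxa : a ≠ x₀ := fun e => haH (e.symm ▸ hx₀)
  have hT : T.card + 1 = Fintype.card (ℙ F V) := by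
    rw [← Finset.card_univ, ← Finset.card_erase_add_one (Finset.mem_univ a)]
    congr 1
    refine Finset.card_bij (fun s _ => s x₀) ?_ ?_ ?_
    · intro s hs
      refine Finset.mem_erase.2 ⟨fun e => hxa (s.injective ?_), Finset.mem_univ _⟩
      rw [e, ((hTmem s).1 hs).2]
    · intro s hs t ht he
      have hca : a ≠ s x₀ := fun e => hxa (s.injective (by rw [← e, ((hTmem s).1 hs).2]))
      exact (h a x₀ a (s x₀) hxa hca).unique
        ⟨((hTmem s).1 hs).1, ((hTmem s).1 hs).2, rfl⟩ ⟨((hTmem t).1 ht).1, ((hTmem t).1 ht).2, he.symm⟩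
    · intro c hc
      obtain ⟨s, ⟨hs, hsa, hsx⟩, -⟩ := h a x₀ a c hxa (Finset.mem_erase.1 hc).1.symm
      exact ⟨s, (hTmem s).2 ⟨hs, hsa⟩, hsx⟩
  have hN : Fintype.card (ℙ F V) % p = 1 % p := by
    rw [← subPts_modEq_one (V := V) hpq (U := ⊤) top_ne_bot, ← Nat.card_eq_fintype_card, ← Set.ncard_univ]
    congr 2
    ext y
    simp [subPts]
  have h0 : T.card % p = 0 := by
    have h1 : (T.card + 1) % p = 1 % p := hT.symm ▸ hN
    exact Nat.mod_eq_zero_of_dvd ((Nat.modEq_iff_dvd' (by omega)).1 h1.symm |>.trans (by simp))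
  have h1 : (∑ s ∈ T, (B.filter fun x => s x ∈ C).card) % p = 0 := by
    rw [Finset.sum_nat_mod, Finset.sum_congr rfl hterm, Finset.sum_const, smul_eq_mul,
      Nat.mul_mod, h0, zero_mul, Nat.zero_mod]
  rw [hcount, Nat.mul_mod, hB, hC, Nat.mod_eq_of_lt hp.one_lt, Nat.mod_eq_of_lt hp.one_lt] at h1
  omega

end Cfsg.Lib.Concrete
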