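import Cfsg.Agent.Lib.Concrete.OctadStab

/-!
Two octads meeting in two points; trios through an octad; a base of M24.
-/

set_option autoImplicit false

namespace Cfsg.Lib.Concrete

open Finset
open scoped Pointwise
open MulAction (stabilizer orbit)

theorem duo_stabilizer_sym {o o' : Finset GolayPt} (ho : o ∈ octads) (ho' : o' ∈ octads) (h2 : (o ∩ o').card = 2) :
    Nonempty (↥(stabilizer M24 o ⊓ stabilizer M24 o') ≃* Equiv.Perm (Fin 6)) := by
  set J := stabilizer M24 o ⊓ stabilizer M24 o'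
  set D := o \ o'
  have hD : D.card = 6 := by
    have := card_sdiff_add_card_inter o o'
    rw [h2, ho.2] at this
    show (o \ o').card = 6
    omega
  have hst : ∀ (g : J) (x : GolayPt), g.1.1 x ∈ D ↔ x ∈ D := fun g x => by
    simp only [D, mem_sdiff]
    rw [stab_mem_iff ⟨g.1, g.2.1⟩, stab_mem_iff ⟨g.1, g.2.2⟩]
  let f : J →* Equiv.Perm ↥D :=
    { toFun := fun g => g.1.1.subtypePerm (hst g)
      map_one' := Equiv.ext fun _ => rfl
      map_mul' := fun _ _ => Equiv.ext fun _ => rfl }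
  have hinj : Function.Injective f := by
    rw [injective_iff_map_eq_one]
    intro g hg
    have hfix := fix_six_octad g.1.2 ho hD sdiff_subset fun a ha =>
      congrArg Subtype.val (Equiv.congr_fun hg ⟨a, ha⟩)
    exact Subtype.ext (Subtype.ext (fixSet_octad_moves_duo ho ho' h2 (mem_fixSet.2 ⟨g.1.2, hfix⟩) g.2.2))
  have hcard : Nat.card J = Nat.card (Equiv.Perm ↥D) := by
    rw [(two_octad_card ho ho').2.2 h2, Nat.card_perm, Nat.card_eq_fintype_card (α := ↥D), Fintype.card_coe, hD]
    rfl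
  have hbij : Function.Bijective f := (Nat.bijective_iff_injective_and_card f).2 ⟨hinj, hcard⟩
  exact ⟨(MulEquiv.ofBijective f hbij).trans (D.equivFinOfCardEq hD).permCongrHom⟩

/-- The trio on two disjoint octads. -/
def trioOf (o a : Finset GolayPt) : Finset (Finset GolayPt) := {o, a, (o ∪ a)ᶜ}

theorem octad_ne_of_disjoint {o a : Finset GolayPt} (ho : o ∈ octads) (h : Disjoint o a) : o ≠ a := by
  rintro rfl
  have := ho.2
  rw [disjoint_self] at h
  rw [h] at this
  exact absurd this (by simp)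

theorem trioOf_mem {o a : Finset GolayPt} (ho : o ∈ octads) (ha : a ∈ octads) (h : Disjoint o a) :
    trioOf o a ∈ trios := by
  have h4 := compl_union_octad ho ha h
  have d1 : Disjoint o (o ∪ a)ᶜ := disjoint_compl_right.mono_left subset_union_left
  have d2 : Disjoint a (o ∪ a)ᶜ := disjoint_compl_right.mono_left subset_union_right
  refine ⟨card_eq_three.2 ⟨_, _, _, octad_ne_of_disjoint ho h, octad_ne_of_disjoint ho d1,
    octad_ne_of_disjoint ha d2, rfl⟩, ?_, ?_⟩
  · intro x hx
    simp only [trioOf, mem_insert, mem_singleton] at hx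
    rcases hx with rfl | rfl | rfl <;> assumption
  · intro x hx y hy hne
    simp only [trioOf, mem_insert, mem_singleton] at hx hy
    rcases hx with rfl | rfl | rfl <;> rcases hy with rfl | rfl | rfl <;>
      first | exact absurd rfl hne | assumption | exact h.symm | exact d1.symm | exact d2.symm

theorem trio_eq_trioOf {T : Finset (Finset GolayPt)} (hT : T ∈ trios) {o a : Finset GolayPt} (ho : o ∈ T)
    (ha : a ∈ T) (hne : o ≠ a) : T = trioOf o a := by
  obtain ⟨c, hc, hc1, hc2⟩ : ∃ c ∈ T, c ≠ o ∧ c ≠ a := by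
    by_contra hcon
    push Not at hcon
    have : T ⊆ {o, a} := fun x hx => by
      by_cases hx1 : x = o
      · simp [hx1]
      · simp [hcon x hx hx1]
    have := (card_le_card this).trans card_le_two
    rw [hT.1] at this
    omega
  have hce := trio_union hT ho ha hc hne hc1.symm hc2.symm
  refine (eq_of_subset_of_card_le ?_ ?_).symm
  · intro x hx
    simp only [trioOf, mem_insert, mem_singleton] at hx
    rcases hx with rfl | rfl | rfl
    exacts [ho, ha, hce ▸ hc]
  · rw [hT.1, (trioOf_mem (hT.2.1 o ho) (hT.2.1 a ha) (hT.2.2 o ho a ha hne)).1]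

theorem trios_through {o : Finset GolayPt} (ho : o ∈ octads) :
    {T : Finset (Finset GolayPt) | T ∈ trios ∧ o ∈ T}.ncard = 15 := by
  classical
  set A := (blocksFinset octads).filter (Disjoint o ·) with hA
  have hA30 : A.card = 30 := by rw [← ncard_sep_blocks, card_disjoint_octads ho]
  set TT := ({T : Finset (Finset GolayPt) | T ∈ trios ∧ o ∈ T} : Set _).toFinite.toFinset
  have hmem : ∀ T, T ∈ TT ↔ T ∈ trios ∧ o ∈ T := fun T => Set.Finite.mem_toFinset _
  have hmaps : ∀ a ∈ A, trioOf o a ∈ TT := fun a ha => by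
    obtain ⟨ha, hd⟩ := mem_filter.1 ha
    exact (hmem _).2 ⟨trioOf_mem ho (mem_blocksFinset.1 ha) hd, mem_insert_self _ _⟩
  have hfib : ∀ T ∈ TT, (A.filter fun a => trioOf o a = T).card = 2 := by
    intro T hT
    obtain ⟨hT, hoT⟩ := (hmem T).1 hT
    rw [show A.filter (fun a => trioOf o a = T) = T.erase o from ?_, card_erase_of_mem hoT, hT.1]
    ext a
    rw [mem_filter, mem_erase, hA, mem_filter, mem_blocksFinset]
    constructor
    · rintro ⟨⟨-, hd⟩, rfl⟩
      exact ⟨(octad_ne_of_disjoint ho hd).symm, by simp [trioOf]⟩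
    · rintro ⟨hne, haT⟩
      exact ⟨⟨hT.2.1 a haT, hT.2.2 o hoT a haT (Ne.symm hne)⟩, (trio_eq_trioOf hT hoT haT (Ne.symm hne)).symm⟩
  have h := card_eq_sum_card_fiberwise hmaps
  rw [sum_const_nat hfib, hA30] at h
  rw [Set.ncard_eq_toFinset_card _ (Set.toFinite _)]
  show TT.card = 15
  omega

/-- An octad disjoint from the base octad. -/
def mA : ℕ := 6889680

theorem std_two_octads {o a : Finset GolayPt} (ho : o ∈ octads) (ha : a ∈ octads) (h : Disjoint o a) :
    Std [o, a] [m24BaseOctad, mA] := by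
  obtain ⟨g, hg, hgo⟩ := M24_octad_transitive ho baseOctad_mem
  have hA : mset mA ∈ octads := (mset_mem_octads_iff (by decide)).2 (by decide +kernel)
  have h0 : (baseOctad ∩ g • a).card = (baseOctad ∩ mset mA).card := by
    conv_lhs => rw [← hgo]
    rw [← Finset.smul_finset_inter, card_smul_points, disjoint_iff_inter_eq_empty.1 h, card_empty]
    exact (show (baseOctad ∩ mset mA).card = 0 by decide +kernel).symm
  obtain ⟨k, hk, hkb, hka⟩ := octad_rank baseOctad_mem (smul_octad_mem hg ha) hA h0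
  refine ⟨k * g, mul_mem hk hg, ?_⟩
  simp only [List.map_cons, List.map_nil, mul_smul, hgo, hkb, hka]
  rfl

theorem disjoint_cands {g : Equiv.Perm GolayPt} (hg : g ∈ M24) {o X : Finset GolayPt}
    (hgo : g • o = mset m24BaseOctad) (hX : X ∈ octads) (hd : Disjoint o X) :
    ∃ m ∈ octList.filter (fun m => Nat.beq (pcnt (Nat.land m24BaseOctad m)) 0), g • X = mset m := by
  obtain ⟨m, hm, e⟩ := exists_image_oct hg hX
  refine ⟨m, List.mem_filter.2 ⟨hm, ?_⟩, e⟩
  rw [Nat.beq_eq, ← inter_card_of_smul hgo e, disjoint_iff_inter_eq_empty.1 hd, card_empty]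

theorem disjoint_pair_values {o a b : Finset GolayPt} (ho : o ∈ octads) (ha : a ∈ octads) (hb : b ∈ octads)
    (hda : Disjoint o a) (hdb : Disjoint o b) :
    (a ∩ b).card = 0 ∨ (a ∩ b).card = 4 ∨ (a ∩ b).card = 8 := by
  obtain ⟨g, hg, he⟩ := std_two_octads ho ha hda
  simp only [List.map_cons, List.map_nil, List.cons.injEq, and_true] at he
  obtain ⟨m, hm, e⟩ := disjoint_cands hg he.1 hb hdb
  rw [inter_card_of_smul he.2 e]
  have hall : ((octList.filter fun m => Nat.beq (pcnt (Nat.land m24BaseOctad m)) 0).all fun m =>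
      (fun k => k == 0 || k == 4 || k == 8) (pcnt (Nat.land mA m))) = true := by decide +kernel
  have := List.all_eq_true.1 hall m hm
  simpa [or_assoc] using this

theorem trios_two_transitive {o : Finset GolayPt} (ho : o ∈ octads) {T₁ T₂ T₁' T₂' : Finset (Finset GolayPt)}
    (h1 : T₁ ∈ trios) (h2 : T₂ ∈ trios) (h1' : T₁' ∈ trios) (h2' : T₂' ∈ trios) (o1 : o ∈ T₁) (o2 : o ∈ T₂)
    (o1' : o ∈ T₁') (o2' : o ∈ T₂') (hne : T₁ ≠ T₂) (hne' : T₁' ≠ T₂') :
    ∃ g ∈ M24, g • o = o ∧ g • T₁ = T₁' ∧ g • T₂ = T₂' := by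
  have pick : ∀ T, T ∈ trios → o ∈ T → ∃ a ∈ octads, Disjoint o a ∧ T = trioOf o a := fun T hT hoT => by
    obtain ⟨a, ha⟩ := card_pos.1 (show 0 < (T.erase o).card by rw [card_erase_of_mem hoT, hT.1]; norm_num)
    obtain ⟨hao, haT⟩ := mem_erase.1 ha
    exact ⟨a, hT.2.1 a haT, hT.2.2 o hoT a haT hao.symm, trio_eq_trioOf hT hoT haT hao.symm⟩
  obtain ⟨a, ha, hda, rfl⟩ := pick T₁ h1 o1
  obtain ⟨b, hb, hdb, rfl⟩ := pick T₂ h2 o2
  obtain ⟨a', ha', hda', rfl⟩ := pick T₁' h1' o1'
  obtain ⟨b', hb', hdb', rfl⟩ := pick T₂' h2' o2'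
  have four : ∀ {a b : Finset GolayPt}, a ∈ octads → b ∈ octads → Disjoint o a → Disjoint o b →
      trioOf o a ≠ trioOf o b → (a ∩ b).card = 4 := by
    intro a b ha hb hda hdb hne
    rcases disjoint_pair_values ho ha hb hda hdb with h | h | h
    · refine absurd ?_ hne
      refine (trio_eq_trioOf (trioOf_mem ho hb hdb) (mem_insert_self _ _) ?_ (octad_ne_of_disjoint ho hda)).symm
      have : a = (o ∪ b)ᶜ := by
        refine eq_of_subset_of_card_le (fun x hx => mem_compl.2 fun hu => ?_)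
          (by rw [card_compl, card_union_of_disjoint hdb, ho.2, hb.2, ha.2]; rfl)
        rcases mem_union.1 hu with hu | hu
        · exact disjoint_left.1 hda hu hx
        · exact disjoint_left.1 (disjoint_iff_inter_eq_empty.2 (card_eq_zero.1 h)) hx hu
      rw [this]; simp [trioOf]
    · exact h
    · refine absurd ?_ hne
      have e1 : a ∩ b = a := eq_of_subset_of_card_le inter_subset_left (by rw [h, ha.2])
      have e2 : a ∩ b = b := eq_of_subset_of_card_le inter_subset_right (by rw [h, hb.2])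
      rw [show a = b from e1.symm.trans e2]
  obtain ⟨c, hc, hce⟩ := std_two_octads ho ha hda
  obtain ⟨c', hc', hce'⟩ := std_two_octads ho ha' hda'
  set g0 := c'⁻¹ * c
  have hg0 : g0 ∈ M24 := mul_mem (inv_mem hc') hc
  simp only [List.map_cons, List.map_nil, List.cons.injEq, and_true] at hce hce'
  have h0o : g0 • o = o := by rw [mul_smul, hce.1, ← hce'.1, inv_smul_smul]
  have h0a : g0 • a = a' := by rw [mul_smul, hce.2, ← hce'.2, inv_smul_smul]
  have hdb0 : Disjoint o (g0 • b) := by
    rw [disjoint_iff_inter_eq_empty, ← card_eq_zero]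
    conv_lhs => rw [← h0o]
    rw [← Finset.smul_finset_inter, card_smul_points, disjoint_iff_inter_eq_empty.1 hdb, card_empty]
  have h4 : (a' ∩ g0 • b).card = 4 := by
    rw [← h0a, ← Finset.smul_finset_inter, card_smul_points, four ha hb hda hdb hne]
  have h4' := four ha' hb' hda' hdb' hne'
  obtain ⟨k, hk, hfix, hkb⟩ := (std_two_octads ho ha' hda').rank (X := g0 • b) (Y := b') (inv := invs [mA])
    (gens := oOAOctGens) (os := oOAOct) (idx := oOAOctIx)
    (cands := octList.filter fun m => Nat.beq (pcnt (Nat.land m24BaseOctad m)) 0)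
    (by decide +kernel) (by decide +kernel) fun g hg he => by
      simp only [List.map_cons, List.map_nil, List.cons.injEq, and_true] at he
      obtain ⟨m, hm, e⟩ := disjoint_cands hg he.1 (smul_octad_mem hg0 hb) hdb0
      obtain ⟨m', hm', e'⟩ := disjoint_cands hg he.1 hb' hdb'
      refine ⟨m, hm, m', hm', e, e', ?_⟩
      simp only [invs, ← inter_card_of_smul he.2 e, ← inter_card_of_smul he.2 e', h4, h4']
  have hko : k • o = o := hfix o (by simp)
  have hka : k • a' = a' := hfix a' (by simp)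
  refine ⟨k * g0, mul_mem hk hg0, by rw [mul_smul, h0o, hko], ?_, ?_⟩
  · simp only [trioOf, Finset.smul_finset_insert, Finset.smul_finset_singleton, compl_eq_univ_sdiff,
      Finset.smul_finset_sdiff, Finset.smul_finset_univ, Finset.smul_finset_union, mul_smul, h0o, h0a, hko, hka]
  · simp only [trioOf, Finset.smul_finset_insert, Finset.smul_finset_singleton, compl_eq_univ_sdiff,
      Finset.smul_finset_sdiff, Finset.smul_finset_univ, Finset.smul_finset_union, mul_smul, h0o, hko, hkb]

theorem pointwise_fixes_trio {o : Finset GolayPt} (ho : o ∈ octads) {g : Equiv.Perm GolayPt} (hg : g ∈ fixSet o)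
    {T : Finset (Finset GolayPt)} (hT : T ∈ trios) (hoT : o ∈ T) : g • T = T := by
  obtain ⟨hgM, hfix⟩ := mem_fixSet.1 hg
  have hgo := smul_eq_self_of_fix hfix
  obtain ⟨a, ha⟩ := card_pos.1 (show 0 < (T.erase o).card by rw [card_erase_of_mem hoT, hT.1]; norm_num)
  obtain ⟨hao, haT⟩ := mem_erase.1 ha
  have hda := hT.2.2 o hoT a haT hao.symm
  have haO := hT.2.1 a haT
  rw [trio_eq_trioOf hT hoT haT hao.symm]
  obtain ⟨c, hc, hco⟩ := exists_octad_std ho
  have hh : ∀ x ∈ baseOctad, (c⁻¹ * g * c) x = x := fun x hx => by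
    simp only [Equiv.Perm.mul_apply]
    rw [hfix (c x) (hco ▸ Finset.smul_mem_smul_finset hx)]
    simp
  obtain ⟨pq, hpq, hm, -⟩ := pointwise_base (mul_mem (mul_mem (inv_mem hc) hgM) hc) hh
  have hco' : c⁻¹ • o = mset m24BaseOctad := by rw [← hco, inv_smul_smul]; rfl
  obtain ⟨m, hml, hme⟩ := disjoint_cands (inv_mem hc) hco' haO hda
  have key := List.all_eq_true.1 (List.all_eq_true.1 trio_check pq hpq) m hml
  rw [Bool.or_eq_true, Nat.beq_eq, Nat.beq_eq] at key
  have hga : g • a = c • mset (pimg pq.1 (pimg pq.2 m)) := by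
    rw [← hm, ← hme, mul_smul, mul_smul, smul_inv_smul, smul_inv_smul]
  have hcomp : c • mset (Nat.xor (Nat.xor 16777215 m24BaseOctad) m) = (o ∪ a)ᶜ := by
    have hd' : Disjoint (mset m24BaseOctad) (mset m) := by
      rw [disjoint_iff_inter_eq_empty, ← card_eq_zero, card_mset_inter]
      exact Nat.beq_eq.mp (List.mem_filter.1 hml).2
    rw [eq_comm, compl_eq_univ_sdiff, ← inv_smul_eq_iff, Finset.smul_finset_sdiff, Finset.smul_finset_univ,
      Finset.smul_finset_union, hco', hme]
    show univ \ (mset m24BaseOctad ∪ mset m) = mset ((16777215 ^^^ m24BaseOctad) ^^^ m)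
    rw [mset_xor, mset_xor, mset_full]
    ext x
    have := fun h : x ∈ mset m24BaseOctad => disjoint_left.1 hd' h
    simp only [mem_sdiff, mem_univ, true_and, mem_union, Finset.mem_symmDiff, not_true_eq_false, and_false, or_false]
    tauto
  have hrest : g • (o ∪ a)ᶜ = (o ∪ g • a)ᶜ := by
    rw [compl_eq_univ_sdiff, Finset.smul_finset_sdiff, Finset.smul_finset_univ, Finset.smul_finset_union, hgo,
      ← compl_eq_univ_sdiff]
  rw [trioOf, Finset.smul_finset_insert, Finset.smul_finset_insert, Finset.smul_finset_singleton, hgo, hrest]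
  rcases key with key | key
  · rw [hga, key, ← hme, smul_inv_smul]
  · rw [hga, key, hcomp]
    have : (o ∪ (o ∪ a)ᶜ)ᶜ = a := by
      ext x
      have := fun h : x ∈ o => disjoint_left.1 hda h
      simp only [mem_compl, mem_union]
      tauto
    rw [this, pair_comm]

theorem fixes_trios_pointwise {o : Finset GolayPt} (ho : o ∈ octads) {g : Equiv.Perm GolayPt} (hgM : g ∈ M24)
    (hgo : g • o = o) (hall : ∀ T ∈ trios, o ∈ T → g • T = T) : ∀ p ∈ o, g p = p := by
  by_contra hne
  -- the kernel on trios, and its image on the octad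
  let N : Subgroup (stabilizer M24 o) :=
    { carrier := {x | ∀ T ∈ trios, o ∈ T → x.1.1 • T = T}
      one_mem' := fun T _ _ => one_smul _ _
      mul_mem' := fun {x y} hx hy T hT hoT => by
        show (x.1.1 * y.1.1) • T = T
        rw [mul_smul, hy T hT hoT, hx T hT hoT]
      inv_mem' := fun {x} hx T hT hoT => by
        show (x.1.1)⁻¹ • T = T
        rw [inv_smul_eq_iff, hx T hT hoT] }
  have hN : N.Normal := ⟨fun x hx y T hT hoT => by
    have hy : (y⁻¹).1.1 • o = o := (y⁻¹).2
    have hoT' : o ∈ (y⁻¹).1.1 • T := by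
      have := Finset.smul_mem_smul_finset (a := (y⁻¹).1.1) hoT
      rwa [hy] at this
    have := hx _ (smul_mem_trios (y⁻¹).1.2 hT) hoT'
    show (y.1.1 * x.1.1 * (y.1.1)⁻¹) • T = T
    rw [mul_smul, mul_smul]
    show y.1.1 • x.1.1 • (y⁻¹).1.1 • T = T
    rw [this]
    exact smul_inv_smul _ _⟩
  have hr := range_toOctadPerm ho
  haveI : IsSimpleGroup (alternatingGroup ↥o) := alternatingGroup.isSimpleGroup (by
    rw [Nat.card_eq_fintype_card, Fintype.card_coe, ho.2]; norm_num)
  haveI : IsSimpleGroup (toOctadPerm o).range := (MulEquiv.subgroupCongr hr).isSimpleGroup_congr.2 inferInstance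
  set N' := N.map (toOctadPerm o).rangeRestrict
  have hN' : N'.Normal := hN.map _ (toOctadPerm o).rangeRestrict_surjective
  have hg : (⟨⟨g, hgM⟩, hgo⟩ : stabilizer M24 o) ∈ N := hall
  rcases hN'.eq_bot_or_eq_top with h | h
  · apply hne
    have : (toOctadPerm o).rangeRestrict ⟨⟨g, hgM⟩, hgo⟩ ∈ N' := Subgroup.mem_map_of_mem _ hg
    rw [h, Subgroup.mem_bot] at this
    exact (toOctadPerm_eq_one _).1 (congrArg Subtype.val this)
  · -- then everything fixes every trio
    have htop : ∀ x : stabilizer M24 o, x ∈ N := by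
      intro x
      obtain ⟨n, hn, he⟩ : (toOctadPerm o).rangeRestrict x ∈ N' := h ▸ Subgroup.mem_top _
      have hk : ∀ p ∈ o, ((n⁻¹ * x : stabilizer M24 o)).1.1 p = p := (toOctadPerm_eq_one _).1 (by
        rw [map_mul, map_inv, show toOctadPerm o x = toOctadPerm o n from congrArg Subtype.val he.symm,
          inv_mul_cancel])
      have hkN : n⁻¹ * x ∈ N := fun T hT hoT =>
        pointwise_fixes_trio ho (mem_fixSet.2 ⟨(n⁻¹ * x).1.2, hk⟩) hT hoT
      have := N.mul_mem hn hkN
      rwa [mul_inv_cancel_left] at this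
    have h15 := trios_through ho
    obtain ⟨T₁, T₂, hT₁, hT₂, hne12⟩ := (Set.one_lt_ncard_iff (Set.toFinite _)).1
      (show 1 < {T : Finset (Finset GolayPt) | T ∈ trios ∧ o ∈ T}.ncard by omega)
    obtain ⟨k, hk, hko, hk1, -⟩ := trios_two_transitive ho hT₁.1 hT₂.1 hT₂.1 hT₁.1 hT₁.2 hT₂.2 hT₂.2 hT₁.2
      hne12 hne12.symm
    exact hne12 ((htop ⟨⟨k, hk⟩, hko⟩ T₁ hT₁.1 hT₁.2).symm.trans hk1)

theorem base_seven :
    (∀ B : Finset GolayPt, B.card ≤ 6 → ∃ g ∈ M24, g ≠ 1 ∧ ∀ b ∈ B, g b = b) ∧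
    (∃ B : Finset GolayPt, B.card = 7 ∧ ∀ g ∈ M24, (∀ b ∈ B, g b = b) → g = 1) := by
  constructor
  · intro B hB
    obtain ⟨E, hBE, hE⟩ := Finset.exists_superset_card_eq hB (by rw [Fintype.card_option, ZMod.card]; norm_num)
    have h1 : 1 < Nat.card (fixSet E) := by
      obtain ⟨hi, hn⟩ := card_fixSet_six hE
      by_cases h : InOctad E
      · rw [hi h]; norm_num
      · rw [hn h]; norm_num
    haveI : Nontrivial (fixSet E) := Finite.one_lt_card_iff_nontrivial.1 h1
    obtain ⟨g, hg⟩ := exists_ne (1 : fixSet E)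
    exact ⟨g.1, (mem_fixSet.1 g.2).1, fun h => hg (Subtype.ext h), fun b hb => (mem_fixSet.1 g.2).2 b (hBE hb)⟩
  · refine ⟨(Finset.range 7).image bp, by decide +kernel, fun g hg hfix => ?_⟩
    have : g ∈ fixB 7 := ⟨hg, fun j hj => hfix _ (mem_image_of_mem _ (mem_range.2 hj))⟩
    rwa [fixB_seven, Subgroup.mem_bot] at this

end Cfsg.Lib.Concrete
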