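import Cfsg.Agent.Lib.Concrete.SteinerCode
import Cfsg.Agent.Lib.Concrete.Mathieu

/-!
The Steiner systems S(5, 8, 24), S(4, 7, 23) and S(3, 6, 22) sit inside the code of length 24.
-/

set_option autoImplicit false

namespace Cfsg.Lib.Concrete

open Finset
open scoped symmDiff Pointwise

variable {α : Type*} [Fintype α] [DecidableEq α] {t k : ℕ} {B : Set (Finset α)}

/-- Blocks containing a given set, from a table. -/
theorem blocks_count (hB : IsSteinerSystem t k B) (l : ℕ → ℕ)
    (hl : ∀ i ≤ t, l i * (k - i).choose (t - i) = (Fintype.card α - i).choose (t - i) ∧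
      0 < (k - i).choose (t - i))
    {s : Finset α} (hs : s.card ≤ t) : ((blocksFinset B).filter (s ⊆ ·)).card = l s.card :=
  Nat.eq_of_mul_eq_mul_right (hl _ hs).2 ((steiner_card_containing hB hs).trans (hl _ hs).1.symm)

theorem blocks_ncard (hB : IsSteinerSystem t k B) (l : ℕ → ℕ)
    (hl : ∀ i ≤ t, l i * (k - i).choose (t - i) = (Fintype.card α - i).choose (t - i) ∧
      0 < (k - i).choose (t - i))
    {s : Finset α} (hs : s.card ≤ t) : {b | b ∈ B ∧ s ⊆ b}.ncard = l s.card := by
  rw [ncard_sep_blocks B (s ⊆ ·), blocks_count hB l hl hs]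

/-- A block meeting a set in exactly a given small subset, when the blocks through larger sets are too few. -/
theorem exists_block_inter_eq (hB : IsSteinerSystem t k B) (l : ℕ → ℕ)
    (hl : ∀ i ≤ t, l i * (k - i).choose (t - i) = (Fintype.card α - i).choose (t - i) ∧
      0 < (k - i).choose (t - i))
    {S T : Finset α} (hTS : T ⊆ S) {j : ℕ} (hj : T.card = j) (hjt : j < t)
    (h : (S.card - j) * l (j + 1) < l j) : ∃ b ∈ B, S ∩ b = T := by
  by_contra hne
  push Not at hne
  have hsub : (blocksFinset B).filter (T ⊆ ·) ⊆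
      (S \ T).biUnion fun u => (blocksFinset B).filter (insert u T ⊆ ·) := by
    intro b hb
    obtain ⟨hbB, hTb⟩ := mem_filter.1 hb
    obtain ⟨u, hu, huT⟩ := Finset.not_subset.1 (fun hs => hne b (mem_blocksFinset.1 hbB)
      (Finset.Subset.antisymm hs (subset_inter hTS hTb)))
    obtain ⟨huS, hub⟩ := mem_inter.1 hu
    exact mem_biUnion.2 ⟨u, mem_sdiff.2 ⟨huS, huT⟩, mem_filter.2 ⟨hbB, insert_subset hub hTb⟩⟩
  have hle := (card_le_card hsub).trans card_biUnion_le
  rw [blocks_count hB l hl (by omega), hj, sum_const_nat (m := l (j + 1)) fun u hu => by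
    rw [blocks_count hB l hl (by rw [card_insert_of_notMem (mem_sdiff.1 hu).2]; omega),
      card_insert_of_notMem (mem_sdiff.1 hu).2, hj], card_sdiff_of_subset hTS, hj] at hle
  omega

/-- The form used below: only the parity of the intersection is retained. -/
theorem exists_block_parity (hB : IsSteinerSystem t k B) (l : ℕ → ℕ)
    (hl : ∀ i ≤ t, l i * (k - i).choose (t - i) = (Fintype.card α - i).choose (t - i) ∧
      0 < (k - i).choose (t - i))
    {S : Finset α} (j : ℕ) (hjS : j ≤ S.card) (hjt : j < t) (h : (S.card - j) * l (j + 1) < l j) :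
    ∃ b ∈ B, (S ∩ b).card = j := by
  obtain ⟨T, hT, hTc⟩ := exists_subset_card_eq hjS
  obtain ⟨b, hb, he⟩ := exists_block_inter_eq hB l hl hT hTc hjt h
  exact ⟨b, hb, he.symm ▸ hTc⟩

/-! ### S(5, 8, 24) -/

/-- Block counts of S(5, 8, 24). -/
def l824 (i : ℕ) : ℕ := [759, 253, 77, 21, 5, 1].getD i 0

theorem l824_spec : ∀ i ≤ 5, l824 i * (8 - i).choose (5 - i) = (24 - i).choose (5 - i) ∧
    0 < (8 - i).choose (5 - i) := by decide

theorem octads_count {s : Finset GolayPt} (hs : s.card ≤ 5) : {o | o ∈ octads ∧ s ⊆ o}.ncard = l824 s.card :=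
  blocks_ncard octads_steiner l824 (by rw [card_golayPt]; exact l824_spec) hs

theorem separatesSmall_824 (hα : Fintype.card α = 24) (hB : IsSteinerSystem 5 8 B) : SeparatesSmall B := by
  intro S hne hS
  have hl : ∀ i ≤ 5, l824 i * (8 - i).choose (5 - i) = (Fintype.card α - i).choose (5 - i) ∧
    0 < (8 - i).choose (5 - i) := by rw [hα]; exact l824_spec
  have h1 := card_pos.2 hne
  rcases le_or_gt 3 S.card with h | h
  · obtain ⟨b, hb, hc⟩ := exists_block_parity hB l824 hl 3 h (by norm_num)
      (by simp [l824]; omega)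
    exact ⟨b, hb, by rw [hc]; decide⟩
  · obtain ⟨b, hb, hc⟩ := exists_block_parity hB l824 hl 1 h1 (by norm_num)
      (by simp [l824]; omega)
    exact ⟨b, hb, by rw [hc]; decide⟩

theorem even_inter_824 (hα : Fintype.card α = 24) (hB : IsSteinerSystem 5 8 B) :
    ∀ b ∈ B, ∀ c ∈ B, Even (b ∩ c).card := by
  intro b hb c hc
  rcases eq_or_ne c b with rfl | hne
  · rw [inter_self, hB.1 c hc]; decide
  have h := steiner_inter_card hB (fun j => [30, 0, 16, 0, 4].getD j 0) (fun i => [759, 253, 77, 21, 5].getD i 0)
    (by rw [hα]; decide) (by decide) (by decide) hb hc hne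
  have hle : (b ∩ c).card ≤ 8 := hB.1 b hb ▸ card_le_card inter_subset_left
  interval_cases hn : (b ∩ c).card <;> simp_all <;> decide

/-- Every S(5, 8, 24) is isomorphic to the system of octads. -/
theorem steiner_824_octads (hα : Fintype.card α = 24) (hB : IsSteinerSystem 5 8 B) :
    ∃ e : α ≃ GolayPt, (fun b => b.image e) '' B = octads := by
  obtain ⟨e, he⟩ := exists_golay hα (even_inter_824 hα hB) (separatesSmall_824 hα hB)
  refine ⟨e, Set.eq_of_subset_of_ncard_le ?_ ?_ (Set.toFinite _)⟩
  · rintro _ ⟨b, hb, rfl⟩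
    exact ⟨he b hb, by rw [card_image_of_injective _ e.injective, hB.1 b hb]⟩
  · rw [Set.ncard_image_of_injective _ (image_injective e.injective)]
    have h1 := blocks_ncard hB l824 (by rw [hα]; exact l824_spec) (s := ∅) (by simp)
    have h2 := octads_count (s := ∅) (by simp)
    simp only [empty_subset, and_true] at h1 h2
    exact (h2.trans h1.symm).le

/-! ### S(4, 7, 23) -/

/-- Block counts of S(4, 7, 23). -/
def l723 (i : ℕ) : ℕ := [253, 77, 21, 5, 1].getD i 0

theorem l723_spec : ∀ i ≤ 4, l723 i * (7 - i).choose (4 - i) = (23 - i).choose (4 - i) ∧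
    0 < (7 - i).choose (4 - i) := by decide

theorem card_inter_insertNone {γ : Type*} [DecidableEq γ] (S : Finset (Option γ)) (b : Finset γ) :
    (S ∩ insertNone b).card = (eraseNone S ∩ b).card + if none ∈ S then 1 else 0 := by
  by_cases h : none ∈ S
  · rw [if_pos h, ← card_insertNone]
    congr 1
    ext x
    cases x <;> simp [h]
  · rw [if_neg h, add_zero, ← card_map Function.Embedding.some (s := eraseNone S ∩ b)]
    congr 1
    ext x
    cases x <;> simp [h]

theorem card_eraseNone_add {γ : Type*} [DecidableEq γ] (S : Finset (Option γ)) :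
    (eraseNone S).card + (if none ∈ S then 1 else 0) = S.card := by
  by_cases h : none ∈ S
  · rw [if_pos h, ← card_insertNone, insertNone_eraseNone, insert_eq_self.2 h]
  · rw [if_neg h, add_zero, ← card_map Function.Embedding.some, map_some_eraseNone, erase_eq_of_notMem h]

theorem even_inter_723 (hα : Fintype.card α = 23) (hB : IsSteinerSystem 4 7 B) :
    ∀ b ∈ B, ∀ c ∈ B, Odd (b ∩ c).card := by
  intro b hb c hc
  rcases eq_or_ne c b with rfl | hne
  · rw [inter_self, hB.1 c hc]; decide
  have h := steiner_inter_card hB (fun j => [0, 16, 0, 4].getD j 0) (fun i => [253, 77, 21, 5].getD i 0)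
    (by rw [hα]; decide) (by decide) (by decide) hb hc hne
  have hle : (b ∩ c).card ≤ 7 := hB.1 b hb ▸ card_le_card inter_subset_left
  interval_cases hn : (b ∩ c).card <;> simp_all <;> decide

/-- Every parity is violated by some block, for a small set. -/
theorem parity_723 (hα : Fintype.card α = 23) (hB : IsSteinerSystem 4 7 B) {S : Finset α} (a : ℕ) (ha : a < 2)
    (hS : S.card + a ≤ 7) (hne : 0 < S.card + a) : ∃ b ∈ B, ((S ∩ b).card + a) % 2 = 1 := by
  have hl : ∀ i ≤ 4, l723 i * (7 - i).choose (4 - i) = (Fintype.card α - i).choose (4 - i) ∧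
    0 < (7 - i).choose (4 - i) := by rw [hα]; exact l723_spec
  interval_cases a
  · rcases le_or_gt 3 S.card with h | h
    · obtain ⟨b, hb, hc⟩ := exists_block_parity hB l723 hl 3 h (by norm_num) (by simp [l723]; omega)
      exact ⟨b, hb, by rw [hc]⟩
    · obtain ⟨b, hb, hc⟩ := exists_block_parity hB l723 hl 1 (S := S) (by omega) (by norm_num) (by simp [l723]; omega)
      exact ⟨b, hb, by rw [hc]⟩
  · rcases le_or_gt 4 S.card with h | h
    · obtain ⟨b, hb, hc⟩ := exists_block_parity hB l723 hl 2 (S := S) (by omega) (by norm_num) (by simp [l723]; omega)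
      exact ⟨b, hb, by rw [hc]⟩
    · obtain ⟨b, hb, hc⟩ := exists_block_parity hB l723 hl 0 (S := S) (by omega) (by norm_num) (by simp [l723]; omega)
      exact ⟨b, hb, by rw [hc]⟩

theorem separatesSmall_723 (hα : Fintype.card α = 23) (hB : IsSteinerSystem 4 7 B) :
    SeparatesSmall ((fun b => insertNone b) '' B) := by
  intro S hne hS
  have hc := card_eraseNone_add S
  have h0 := card_pos.2 hne
  obtain ⟨b, hb, hodd⟩ := parity_723 hα hB (S := eraseNone S) (if none ∈ S then 1 else 0) (by split <;> omega)
    (by omega) (by omega)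
  exact ⟨_, ⟨b, hb, rfl⟩, by rw [Nat.odd_iff, card_inter_insertNone]; exact hodd⟩

theorem insertNone_inter {γ : Type*} [DecidableEq γ] (b c : Finset γ) :
    insertNone b ∩ insertNone c = insertNone (b ∩ c) := by
  ext x; cases x <;> simp

/-- Every S(4, 7, 23) is derived from the system of octads. -/
theorem steiner_723_octads (hα : Fintype.card α = 23) (hB : IsSteinerSystem 4 7 B) :
    ∃ e : Option α ≃ GolayPt,
      (fun b => (insertNone b).image e) '' B = {o | o ∈ octads ∧ e none ∈ o} := by
  have heven : ∀ g ∈ (fun b => insertNone b) '' B, ∀ h ∈ (fun b => insertNone b) '' B, Even (g ∩ h).card := by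
    rintro _ ⟨b, hb, rfl⟩ _ ⟨c, hc, rfl⟩
    rw [insertNone_inter, card_insertNone]
    exact (even_inter_723 hα hB b hb c hc).add_one
  obtain ⟨e, he⟩ := exists_golay (α := Option α) (by rw [Fintype.card_option, hα]) heven
    (separatesSmall_723 hα hB)
  refine ⟨e, Set.eq_of_subset_of_ncard_le ?_ ?_ (Set.toFinite _)⟩
  · rintro _ ⟨b, hb, rfl⟩
    exact ⟨⟨he _ ⟨b, hb, rfl⟩, by rw [card_image_of_injective _ e.injective, card_insertNone, hB.1 b hb]⟩,
      mem_image.2 ⟨none, none_mem_insertNone, rfl⟩⟩
  · rw [Set.ncard_image_of_injective B (f := fun b => (insertNone b).image e)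
      fun a b h => insertNone.injective (image_injective e.injective h)]
    have h1 := blocks_ncard hB l723 (by rw [hα]; exact l723_spec) (s := ∅) (by simp)
    have h2 := octads_count (s := {e none}) (by simp)
    simp only [empty_subset, and_true, singleton_subset_iff] at h1 h2
    exact (h2.trans (by simpa [l824, l723] using h1.symm)).le

/-! ### S(3, 6, 22) -/

/-- Block counts of S(3, 6, 22). -/
def l622 (i : ℕ) : ℕ := [77, 21, 5, 1].getD i 0

theorem l622_spec : ∀ i ≤ 3, l622 i * (6 - i).choose (3 - i) = (22 - i).choose (3 - i) ∧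
    0 < (6 - i).choose (3 - i) := by decide

theorem even_inter_622 (hα : Fintype.card α = 22) (hB : IsSteinerSystem 3 6 B) :
    ∀ b ∈ B, ∀ c ∈ B, Even (b ∩ c).card := by
  intro b hb c hc
  rcases eq_or_ne c b with rfl | hne
  · rw [inter_self, hB.1 c hc]; decide
  have h := steiner_inter_card hB (fun j => [16, 0, 4].getD j 0) (fun i => [77, 21, 5].getD i 0)
    (by rw [hα]; decide) (by decide) (by decide) hb hc hne
  have hle : (b ∩ c).card ≤ 6 := hB.1 b hb ▸ card_le_card inter_subset_left
  interval_cases hn : (b ∩ c).card <;> simp_all <;> decide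

/-- Moments of the intersection numbers of the blocks through a point with the rest of a set. -/
theorem moments_622 (hα : Fintype.card α = 22) (hB : IsSteinerSystem 3 6 B) {S : Finset α} {p : α} (hp : p ∈ S) :
    ∑ b ∈ (blocksFinset B).filter ({p} ⊆ ·), ((S.erase p) ∩ b).card = 5 * (S.card - 1) ∧
    ∑ b ∈ (blocksFinset B).filter ({p} ⊆ ·), ((S.erase p) ∩ b).card.choose 2 = (S.card - 1).choose 2 := by
  have hl : ∀ i ≤ 3, l622 i * (6 - i).choose (3 - i) = (Fintype.card α - i).choose (3 - i) ∧
    0 < (6 - i).choose (3 - i) := by rw [hα]; exact l622_spec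
  have key : ∀ m ≤ 2, ∑ b ∈ (blocksFinset B).filter ({p} ⊆ ·), ((S.erase p) ∩ b).card.choose m =
      l622 (m + 1) * (S.card - 1).choose m := by
    intro m hm
    calc ∑ b ∈ (blocksFinset B).filter ({p} ⊆ ·), ((S.erase p) ∩ b).card.choose m
        = ∑ b ∈ (blocksFinset B).filter ({p} ⊆ ·), (((S.erase p).powersetCard m).filter (· ⊆ b)).card := by
          refine sum_congr rfl fun b _ => ?_
          rw [← card_powersetCard]
          congr 1
          ext u
          simp only [mem_powersetCard, mem_filter, subset_inter_iff]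
          tauto
      _ = ∑ u ∈ (S.erase p).powersetCard m, (((blocksFinset B).filter ({p} ⊆ ·)).filter (u ⊆ ·)).card :=
          by simp only [card_filter]; rw [sum_comm]
      _ = l622 (m + 1) * (S.card - 1).choose m := by
          rw [sum_const_nat (m := l622 (m + 1)) fun u hu => ?_, card_powersetCard, card_erase_of_mem hp, mul_comm]
          obtain ⟨hus, huc⟩ := mem_powersetCard.1 hu
          have hpu : p ∉ u := fun h => (mem_erase.1 (hus h)).1 rfl
          rw [filter_filter, filter_congr (q := (insert p u ⊆ ·)) (fun b _ => by simp [insert_subset_iff]),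
            blocks_count hB l622 hl (by rw [card_insert_of_notMem hpu]; omega), card_insert_of_notMem hpu, huc]
  exact ⟨by simpa [Nat.choose_one_right, l622] using key 1 (by norm_num),
    by simpa [l622] using key 2 le_rfl⟩

/-- A six-set meeting all blocks evenly is a block, and no seven-set does so. -/
theorem six_seven_622 (hα : Fintype.card α = 22) (hB : IsSteinerSystem 3 6 B) {S : Finset α}
    (hS : S.card = 6 ∨ S.card = 7) (heven : ∀ b ∈ B, Even (S ∩ b).card) : S.card = 6 ∧ S ∈ B := by
  obtain ⟨p, hp⟩ : S.Nonempty := card_pos.1 (by omega)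
  obtain ⟨h1, h2⟩ := moments_622 hα hB hp
  have hn : ((blocksFinset B).filter ({p} ⊆ ·)).card = 21 :=
    blocks_count hB l622 (by rw [hα]; exact l622_spec) (by simp)
  have hodd : ∀ b ∈ (blocksFinset B).filter ({p} ⊆ ·),
      ((S.erase p) ∩ b).card = 1 ∨ ((S.erase p) ∩ b).card = 3 ∨ ((S.erase p) ∩ b).card = 5 := by
    intro b hb
    obtain ⟨hbB, hpb⟩ := mem_filter.1 hb
    rw [singleton_subset_iff] at hpb
    rw [mem_blocksFinset] at hbB
    have he : (S.erase p) ∩ b = (S ∩ b).erase p := by ext x; simp only [mem_inter, mem_erase]; tauto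
    have hle : (S ∩ b).card ≤ 6 := hB.1 b hbB ▸ card_le_card inter_subset_right
    have hpos : 0 < (S ∩ b).card := card_pos.2 ⟨p, mem_inter.2 ⟨hp, hpb⟩⟩
    have h2' := Nat.even_iff.1 (heven b hbB)
    rw [he, card_erase_of_mem (mem_inter.2 ⟨hp, hpb⟩)]
    omega
  set P := (blocksFinset B).filter ({p} ⊆ ·) with hP
  set n : Finset α → ℕ := fun b => ((S.erase p) ∩ b).card
  have hsplit : ∀ f : ℕ → ℕ, ∑ b ∈ P, f (n b) =
      (P.filter fun b => n b = 1).card * f 1 + (P.filter fun b => n b = 3).card * f 3 +
        (P.filter fun b => n b = 5).card * f 5 := by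
    intro f
    have h : ∀ b ∈ P, f (n b) = (if n b = 1 then f 1 else 0) + (if n b = 3 then f 3 else 0) +
        (if n b = 5 then f 5 else 0) := fun b hb => by
      have h' : ∀ x, (x = 1 ∨ x = 3 ∨ x = 5) → f x = (if x = 1 then f 1 else 0) + (if x = 3 then f 3 else 0) +
          (if x = 5 then f 5 else 0) := by rintro x (rfl | rfl | rfl) <;> simp
      exact h' _ (hodd b hb)
    rw [sum_congr rfl h, sum_add_distrib, sum_add_distrib, ← sum_filter, ← sum_filter, ← sum_filter]
    simp [sum_const, smul_eq_mul]
  have e0 := hsplit fun _ => 1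
  have e1 := hsplit fun x => x
  have e2 := hsplit fun x => x.choose 2
  rw [sum_const, smul_eq_mul, mul_one, hn] at e0
  simp only [n] at e0 e1 e2
  rw [h1] at e1
  rw [h2] at e2
  simp only [show Nat.choose 1 2 = 0 by decide, show Nat.choose 3 2 = 3 by decide,
    show Nat.choose 5 2 = 10 by decide] at e2
  simp only [mul_zero, zero_add, mul_one] at e0 e1 e2
  rcases hS with hS | hS <;> rw [hS] at e1 e2 <;>
    simp only [show Nat.choose (6 - 1) 2 = 10 by decide, show Nat.choose (7 - 1) 2 = 15 by decide] at e2
  · obtain ⟨b, hb⟩ : (P.filter fun b => ((S.erase p) ∩ b).card = 5).Nonempty := card_pos.1 (by omega)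
    obtain ⟨hbP, hb5⟩ := mem_filter.1 hb
    obtain ⟨hbB, hpb⟩ := mem_filter.1 hbP
    refine ⟨hS, ?_⟩
    have hsub : S ⊆ b := by
      have hle : (S.erase p) ∩ b = S.erase p :=
        eq_of_subset_of_card_le inter_subset_left (by rw [hb5, card_erase_of_mem hp, hS])
      intro x hx
      rcases eq_or_ne x p with rfl | hxp
      · exact singleton_subset_iff.1 hpb
      · exact inter_eq_left.1 hle (mem_erase.2 ⟨hxp, hx⟩)
    rw [eq_of_subset_of_card_le hsub (by rw [hS, hB.1 b (mem_blocksFinset.1 hbB)])]
    exact mem_blocksFinset.1 hbB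
  · omega

/-- A word outside the span of some words is detected by a set meeting all of them evenly. -/
theorem exists_even_of_notMem {β : Type*} [Fintype β] [DecidableEq β] {G : Set (Finset β)} {d : Finset β}
    (hd : indWord d ∉ Submodule.span (ZMod 2) (indWord '' G)) :
    ∃ X : Finset β, (∀ g ∈ G, Even (X ∩ g).card) ∧ Odd (X ∩ d).card := by
  classical
  obtain ⟨φ, hφd, hφ⟩ := Submodule.exists_dual_map_eq_bot_of_notMem hd inferInstance
  have hval : ∀ g : Finset β, φ (indWord g) = (((univ.filter fun i => φ (Pi.single i 1) ≠ 0) ∩ g).card : ZMod 2) := by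
    intro g
    rw [← sum_indWord]
    conv_lhs => rw [pi_eq_sum_univ' (indWord g)]
    rw [map_sum]
    refine sum_congr rfl fun i _ => ?_
    rw [map_smul, smul_eq_mul, mul_comm (indWord g i)]
    congr 1
    simp only [indWord, mem_filter, mem_univ, true_and]
    generalize φ (Pi.single i 1) = a
    revert a; decide
  refine ⟨univ.filter fun i => φ (Pi.single i 1) ≠ 0, fun g hg => ?_, ?_⟩
  · rw [← ZMod.natCast_eq_zero_iff_even, ← hval]
    have : φ (indWord g) ∈ Submodule.map φ (Submodule.span (ZMod 2) (indWord '' G)) :=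
      Submodule.mem_map_of_mem (Submodule.subset_span ⟨g, hg, rfl⟩)
    rw [hφ] at this
    exact (Submodule.mem_bot (ZMod 2)).1 this
  · rw [← ZMod.natCast_eq_one_iff_odd, ← hval]
    exact (show ∀ a : ZMod 2, a ≠ 0 → a = 1 by decide) _ hφd

/-- Spans of doubly even, pairwise orthogonal words are doubly even. -/
theorem weight_dvd_span {β : Type*} [Fintype β] [DecidableEq β] {G : Set (Finset β)}
    (h4 : ∀ g ∈ G, 4 ∣ g.card) (heven : ∀ g ∈ G, ∀ h ∈ G, Even (g ∩ h).card) {s : Finset β}
    (hs : indWord s ∈ Submodule.span (ZMod 2) (indWord '' G)) : 4 ∣ s.card := by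
  classical
  have horth : ∀ s : Finset β, indWord s ∈ Submodule.span (ZMod 2) (indWord '' G) → ∀ g ∈ G, Even (s ∩ g).card := by
    intro s hs g hg
    have hle : Submodule.span (ZMod 2) (indWord '' G) ≤ LinearMap.ker (dotPair (indWord g)) := Submodule.span_le.2 (by
      rintro _ ⟨h, hh, rfl⟩
      rw [SetLike.mem_coe, LinearMap.mem_ker, dotPair_apply, sum_indWord]
      exact ZMod.natCast_eq_zero_iff_even.2 (heven g hg h hh))
    have := LinearMap.mem_ker.1 (hle hs)
    rw [dotPair_apply, sum_indWord, ZMod.natCast_eq_zero_iff_even, inter_comm] at this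
    exact this
  have key : ∀ w ∈ Submodule.span (ZMod 2) (indWord '' G), ∃ s : Finset β, indWord s = w ∧ 4 ∣ s.card := by
    intro w hw
    induction hw using Submodule.span_induction with
    | mem x hx => obtain ⟨g, hg, rfl⟩ := hx; exact ⟨g, rfl, h4 g hg⟩
    | zero => exact ⟨∅, funext fun _ => by simp [indWord], by simp⟩
    | add x y hxm hym hx hy =>
      obtain ⟨s, rfl, hs⟩ := hx
      obtain ⟨t, rfl, ht⟩ := hy
      refine ⟨s ∆ t, funext fun i => ?_, ?_⟩
      · simp only [indWord, Pi.add_apply, Finset.mem_symmDiff]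
        by_cases h1 : i ∈ s <;> by_cases h2 : i ∈ t <;> simp [h1, h2, CharTwo.add_self_eq_zero]
      have hst : Even (s ∩ t).card := by
        have hle : Submodule.span (ZMod 2) (indWord '' G) ≤ LinearMap.ker (dotPair (indWord s)) := Submodule.span_le.2 (by
          rintro _ ⟨h, hh, rfl⟩
          rw [SetLike.mem_coe, LinearMap.mem_ker, dotPair_apply, sum_indWord]
          exact ZMod.natCast_eq_zero_iff_even.2 (horth s hxm h hh))
        have := LinearMap.mem_ker.1 (hle hym)
        rw [dotPair_apply, sum_indWord, ZMod.natCast_eq_zero_iff_even] at this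
        exact this
      rw [symmDiff_def, sup_eq_union, card_union_of_disjoint disjoint_sdiff_sdiff]
      have e1 := card_sdiff_add_card_inter s t
      have e2 := card_sdiff_add_card_inter t s
      rw [inter_comm t s] at e2
      rw [Nat.even_iff] at hst
      omega
    | smul c x _ hx =>
      obtain ⟨s, rfl, hs⟩ := hx
      rcases (show ∀ a : ZMod 2, a = 0 ∨ a = 1 by decide) c with rfl | rfl
      · exact ⟨∅, funext fun _ => by simp [indWord], by simp⟩
      · exact ⟨s, by rw [one_smul], hs⟩
  obtain ⟨u, hu, h⟩ := key _ hs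
  have : u = s := by
    ext i
    have := congrFun hu i
    simp only [indWord] at this
    by_cases h1 : i ∈ u <;> by_cases h2 : i ∈ s <;> simp_all
  exact this ▸ h

/-- A block of S(3, 6, 22) with the two points adjoined. -/
def ins2 {γ : Type*} (b : Finset γ) : Finset (Option (Option γ)) := insertNone (insertNone b)

theorem card_inter_ins2 {γ : Type*} [DecidableEq γ] (S : Finset (Option (Option γ))) (b : Finset γ) :
    (S ∩ ins2 b).card = (eraseNone (eraseNone S) ∩ b).card + (if none ∈ S then 1 else 0) +
      (if some none ∈ S then 1 else 0) := by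
  rw [ins2, card_inter_insertNone, card_inter_insertNone]
  simp only [mem_eraseNone]
  omega

/-- The data of an S(3, 6, 22) inside the code. -/
theorem steiner_622_octads (hα : Fintype.card α = 22) (hB : IsSteinerSystem 3 6 B) :
    ∃ (e : Option (Option α) ≃ GolayPt) (X : Finset GolayPt),
      (fun b => (ins2 b).image e) '' B = {o | o ∈ octads ∧ e none ∈ o ∧ e (some none) ∈ o} ∧
      X ∈ supports (golayCode : Set (GolayPt → ZMod 2)) ∧ Odd (X ∩ {e none, e (some none)}).card ∧
      SeparatesSmall ((fun b => (ins2 b).image e) '' B ∪ {X}) := by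
  classical
  set G0 : Set (Finset (Option (Option α))) := ins2 '' B with hG0
  have hinter : ∀ b c : Finset α, (ins2 b ∩ ins2 c).card = (b ∩ c).card + 2 := fun b c => by
    rw [ins2, ins2, insertNone_inter, insertNone_inter, card_insertNone, card_insertNone]
  have heven0 : ∀ g ∈ G0, ∀ h ∈ G0, Even (g ∩ h).card := by
    rintro _ ⟨b, hb, rfl⟩ _ ⟨c, hc, rfl⟩
    rw [hinter]
    exact (even_inter_622 hα hB b hb c hc).add even_two
  have h80 : ∀ b ∈ B, (ins2 b).card = 8 := fun b hb => by
    rw [ins2, card_insertNone, card_insertNone, hB.1 b hb]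
  have hd : indWord ({none, some none} : Finset (Option (Option α))) ∉ Submodule.span (ZMod 2) (indWord '' G0) := by
    intro h
    have := weight_dvd_span (fun g hg => by obtain ⟨b, hb, rfl⟩ := hg; rw [h80 b hb]; norm_num) heven0 h
    rw [card_pair (by simp)] at this
    norm_num at this
  obtain ⟨X, hX, hXd⟩ := exists_even_of_notMem hd
  have hXone : ((none : Option (Option α)) ∈ X ↔ some none ∉ X) := by
    by_cases h1 : (none : Option (Option α)) ∈ X <;> by_cases h2 : some none ∈ X
    · rw [inter_eq_right.2 (by simp [insert_subset_iff, h1, h2]), card_pair (by simp)] at hXd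
      exact absurd hXd (by decide)
    · simp [h1, h2]
    · simp [h1, h2]
    · rw [show X ∩ {none, some none} = ∅ by ext x; simp; rintro hx; constructor <;> rintro rfl <;> contradiction] at hXd
      simp at hXd
  set X2 := eraseNone (eraseNone X) with hX2
  have hXc : X.card = X2.card + 1 := by
    have h1 := card_eraseNone_add X
    have h2 := card_eraseNone_add (eraseNone X)
    simp only [mem_eraseNone] at h2
    by_cases h : (none : Option (Option α)) ∈ X <;> simp [h, hXone.1, (not_congr hXone).1] at h1 h2 <;> rw [hX2] <;> simp_all <;> omega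
  have hX2odd : ∀ b ∈ B, Odd (X2 ∩ b).card := by
    intro b hb
    have := hX _ ⟨b, hb, rfl⟩
    rw [card_inter_ins2, Nat.even_iff] at this
    rw [Nat.odd_iff]
    by_cases h : (none : Option (Option α)) ∈ X
    · rw [if_pos h, if_neg (hXone.1 h), ← hX2] at this; omega
    · rw [if_neg h, if_pos (not_not.1 fun hn => h (hXone.2 hn)), ← hX2] at this; omega
  have hXX : Even X.card := by
    rw [hXc, Nat.even_add_one, Nat.not_even_iff_odd]
    have hl : ∀ i ≤ 3, l622 i * (6 - i).choose (3 - i) = (Fintype.card α - i).choose (3 - i) ∧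
      0 < (6 - i).choose (3 - i) := by rw [hα]; exact l622_spec
    have hsum : ∑ b ∈ blocksFinset B, (X2 ∩ b).card = 21 * X2.card := by
      calc ∑ b ∈ blocksFinset B, (X2 ∩ b).card
          = ∑ b ∈ blocksFinset B, (X2.filter (· ∈ b)).card := by
            refine sum_congr rfl fun b _ => ?_
            rw [filter_mem_eq_inter]
        _ = ∑ a ∈ X2, ((blocksFinset B).filter (a ∈ ·)).card :=
            sum_card_bipartiteAbove_eq_sum_card_bipartiteBelow (fun b a => a ∈ b)
        _ = 21 * X2.card := by
            rw [sum_const_nat (m := 21) fun a _ => ?_, mul_comm]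
            rw [filter_congr (q := ({a} ⊆ ·)) (fun b _ => singleton_subset_iff.symm), blocks_count hB l622 hl (by simp)]
            rfl
    have h77 : (blocksFinset B).card = 77 := by
      have := blocks_count hB l622 hl (s := ∅) (by simp)
      simpa [l622] using this
    have hmod : (∑ b ∈ blocksFinset B, (X2 ∩ b).card) % 2 = 77 % 2 := by
      rw [sum_nat_mod, sum_const_nat (m := 1) fun b hb => Nat.odd_iff.1 (hX2odd b (mem_blocksFinset.1 hb)), h77]
    rw [hsum] at hmod
    rw [Nat.odd_iff]
    omega
  have heven : ∀ g ∈ G0 ∪ {X}, ∀ h ∈ G0 ∪ {X}, Even (g ∩ h).card := by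
    rintro g (hg | rfl) h (hh | rfl)
    · exact heven0 g hg h hh
    · rw [inter_comm]; exact hX g hg
    · exact hX h hh
    · rwa [inter_self]
  have hl : ∀ i ≤ 3, l622 i * (6 - i).choose (3 - i) = (Fintype.card α - i).choose (3 - i) ∧
    0 < (6 - i).choose (3 - i) := by rw [hα]; exact l622_spec
  have hsep : SeparatesSmall (G0 ∪ {X}) := by
    intro S hne hS
    by_contra hall
    push Not at hall
    have hpar : ∀ b ∈ B, ((eraseNone (eraseNone S) ∩ b).card + (if none ∈ S then 1 else 0) +
      (if some none ∈ S then 1 else 0)) % 2 = 0 := fun b hb => by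
      rw [← card_inter_ins2, ← Nat.even_iff, ← Nat.not_odd_iff_even]
      exact hall _ (Or.inl ⟨b, hb, rfl⟩)
    have hXS : (S ∩ X).card % 2 = 0 := by
      rw [← Nat.even_iff, ← Nat.not_odd_iff_even]; exact hall X (Or.inr rfl)
    set T := eraseNone (eraseNone S) with hT
    have c1 := card_eraseNone_add S
    have c2 := card_eraseNone_add (eraseNone S)
    simp only [mem_eraseNone] at c2
    rw [← hT] at c2
    have h0 := card_pos.2 hne
    by_cases hab : (none ∈ S ↔ some none ∈ S)
    · have hpar0 : ∀ b ∈ B, Even (T ∩ b).card := fun b hb => by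
        have := hpar b hb
        rw [Nat.even_iff]
        by_cases h : (none : Option (Option α)) ∈ S
        · rw [if_pos h, if_pos (hab.1 h)] at this; omega
        · rw [if_neg h, if_neg (fun hh => h (hab.2 hh))] at this; omega
      by_cases hT5 : 1 ≤ T.card ∧ T.card ≤ 5
      · obtain ⟨b, hb, hc⟩ := exists_block_parity hB l622 hl 1 (S := T) hT5.1 (by norm_num) (by simp [l622]; omega)
        have := hpar0 b hb
        rw [hc] at this
        exact absurd this (by decide)
      by_cases h : (none : Option (Option α)) ∈ S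
      · have h' := hab.1 h
        simp [h, h'] at c1 c2
        have hT0 : T.card = 0 := by omega
        have hS2 : S = {none, some none} := (eq_of_subset_of_card_le (by simp [insert_subset_iff, h, h'])
          (by rw [card_pair (by simp)]; omega)).symm
        rw [hS2, inter_comm] at hXS
        rw [Nat.odd_iff] at hXd
        omega
      · have h' : some none ∉ S := fun hh => h (hab.2 hh)
        simp [h, h'] at c1 c2
        obtain ⟨h6, hTB⟩ := six_seven_622 hα hB (S := T) (by omega) hpar0
        have hS' : S = ins2 T \ {none, some none} := by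
          ext x
          rcases x with _ | _ | a <;> simp [ins2, hT, h, h']
        have hev := Nat.even_iff.1 (hX _ ⟨T, hTB, rfl⟩)
        have hd' : X ∩ {none, some none} = X ∩ ins2 T ∩ {none, some none} := by
          ext x
          rcases x with _ | _ | a <;> simp [ins2]
        have hs' := card_sdiff_add_card_inter (X ∩ ins2 T) {none, some none}
        rw [← hd', inter_sdiff_assoc, ← hS', inter_comm X S] at hs'
        rw [Nat.odd_iff] at hXd
        omega
    · have hone : (if none ∈ S then 1 else 0) + (if some none ∈ S then 1 else 0) = 1 := by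
        by_cases h : (none : Option (Option α)) ∈ S <;> by_cases h' : some none ∈ S <;> simp [h, h'] at hab ⊢
      have hT6 : T.card ≤ 6 := by omega
      rcases le_or_gt 4 T.card with h | h
      · obtain ⟨b, hb, hc⟩ := exists_block_parity hB l622 hl 2 (S := T) (by omega) (by norm_num) (by simp [l622]; omega)
        have := hpar b hb; omega
      · obtain ⟨b, hb, hc⟩ := exists_block_parity hB l622 hl 0 (S := T) (by omega) (by norm_num) (by simp [l622]; omega)
        have := hpar b hb; omega
  obtain ⟨e, he⟩ := exists_golay (α := Option (Option α)) (by rw [Fintype.card_option, Fintype.card_option, hα]) heven hsep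
  refine ⟨e, X.image e, Set.eq_of_subset_of_ncard_le ?_ ?_ (Set.toFinite _), he X (Or.inr rfl), ?_, ?_⟩
  · rintro _ ⟨b, hb, rfl⟩
    exact ⟨⟨he _ (Or.inl ⟨b, hb, rfl⟩), by rw [card_image_of_injective _ e.injective, h80 b hb]⟩,
      mem_image.2 ⟨none, by simp [ins2], rfl⟩, mem_image.2 ⟨some none, by simp [ins2], rfl⟩⟩
  · rw [Set.ncard_image_of_injective B (f := fun b => (ins2 b).image e)
      fun a b h => insertNone.injective (insertNone.injective (image_injective e.injective h))]
    have h1 := blocks_ncard hB l622 (by rw [hα]; exact l622_spec) (s := ∅) (by simp)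
    have h2 := octads_count (s := {e none, e (some none)}) (by rw [card_pair (by simp)]; norm_num)
    rw [card_pair (by simp)] at h2
    simp only [empty_subset, and_true, insert_subset_iff, singleton_subset_iff] at h1 h2
    exact (h2.trans (by simpa [l824, l622] using h1.symm)).le
  · rwa [show ({e none, e (some none)} : Finset GolayPt) = ({none, some none} : Finset _).image e by simp,
      ← image_inter _ _ e.injective, card_image_of_injective _ e.injective]
  · have := separatesSmall_image hsep e
    rwa [Set.image_union, Set.image_singleton, hG0, Set.image_image] at this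

end Cfsg.Lib.Concrete
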