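import Cfsg.Agent.Lib.Concrete.PlaneFourData
import Cfsg.Agent.Lib.Concrete.SteinerExtend

/-!
Uniqueness of the projective plane of order four: every S(2, 5, 21) is coordinatised by three
mutually orthogonal Latin squares of order four, and these are unique.
-/

set_option autoImplicit false

namespace Cfsg.Lib.Concrete

open Finset

/-- Entry of a coordinate table. -/
def tab5 (k x y : ℕ) : ℕ := ((tabs5.getD k []).getD x []).getD y 0

/-- A square is Latin. -/
def latinB (A : List (List ℕ)) : Bool :=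
  (List.range 4).all fun y => (List.range 4).all fun x => (List.range 4).all fun x' =>
    Nat.beq x x' || !Nat.beq ((A.getD x []).getD y 0) ((A.getD x' []).getD y 0)

/-- Two squares are orthogonal. -/
def orthB (A B : List (List ℕ)) : Bool :=
  (List.range 4).all fun x => (List.range 4).all fun y => (List.range 4).all fun x' => (List.range 4).all fun y' =>
    (Nat.beq x x' && Nat.beq y y') || !(Nat.beq ((A.getD x []).getD y 0) ((A.getD x' []).getD y' 0) &&
      Nat.beq ((B.getD x []).getD y 0) ((B.getD x' []).getD y' 0))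

/-- The first column is in natural order. -/
def colIdB (A : List (List ℕ)) : Bool :=
  (List.range 4).all fun x => Nat.beq ((A.getD x []).getD 0 0) x

theorem sq24_complete : (perms4.all fun a => perms4.all fun b => perms4.all fun c =>
    !latinB [[0, 1, 2, 3], a, b, c] || decide ([[0, 1, 2, 3], a, b, c] ∈ sq24)) = true := by
  decide +kernel

theorem perms4_complete : ∀ f : Fin 4 → Fin 4, Function.Injective f →
    [(f 0).val, (f 1).val, (f 2).val, (f 3).val] ∈ perms4 := by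
  unfold Function.Injective
  decide +kernel

theorem mols_unique : (sq24.all fun A => !colIdB A || sq24.all fun B => !orthB A B || sq24.all fun C =>
    !(orthB A C && orthB B C) || decide (A = tabs5.getD 2 [] ∧
      ((B = tabs5.getD 3 [] ∧ C = tabs5.getD 4 []) ∨ (B = tabs5.getD 4 [] ∧ C = tabs5.getD 3 [])))) = true := by
  decide +kernel

/-- The square of a function. -/
def sqList (f : Fin 4 → Fin 4 → Fin 4) : List (List ℕ) :=
  [[(f 0 0).val, (f 0 1).val, (f 0 2).val, (f 0 3).val], [(f 1 0).val, (f 1 1).val, (f 1 2).val, (f 1 3).val],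
   [(f 2 0).val, (f 2 1).val, (f 2 2).val, (f 2 3).val], [(f 3 0).val, (f 3 1).val, (f 3 2).val, (f 3 3).val]]

theorem sqList_getD (f : Fin 4 → Fin 4 → Fin 4) (x y : Fin 4) :
    ((sqList f).getD x.val []).getD y.val 0 = (f x y).val := by
  fin_cases x <;> fin_cases y <;> rfl

theorem sqList_mem {f : Fin 4 → Fin 4 → Fin 4} (h0 : ∀ y, f 0 y = y) (hr : ∀ x, Function.Injective (f x))
    (hc : ∀ y, Function.Injective fun x => f x y) : sqList f ∈ sq24 := by
  have h := List.all_eq_true.1 (List.all_eq_true.1 (List.all_eq_true.1 sq24_complete _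
    (perms4_complete _ (hr 1))) _ (perms4_complete _ (hr 2))) _ (perms4_complete _ (hr 3))
  have he : sqList f = [[0, 1, 2, 3], [(f 1 0).val, (f 1 1).val, (f 1 2).val, (f 1 3).val],
      [(f 2 0).val, (f 2 1).val, (f 2 2).val, (f 2 3).val],
      [(f 3 0).val, (f 3 1).val, (f 3 2).val, (f 3 3).val]] := by
    rw [sqList, h0, h0, h0, h0]; rfl
  rw [← he, Bool.or_eq_true, decide_eq_true_eq] at h
  refine h.resolve_left fun hl => ?_
  have : latinB (sqList f) = true := by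
    simp only [latinB, List.all_eq_true, List.mem_range, Bool.or_eq_true, Bool.not_eq_true']
    intro y hy x hx x' hx'
    by_cases hxx : x = x'
    · left; rw [hxx]; exact Nat.beq_refl _
    right
    rw [← Bool.not_eq_true, Nat.beq_eq, sqList_getD f ⟨x, hx⟩ ⟨y, hy⟩, sqList_getD f ⟨x', hx'⟩ ⟨y, hy⟩, Fin.val_inj]
    intro h
    exact hxx (congrArg Fin.val (hc ⟨y, hy⟩ h))
  rw [Bool.not_eq_true', this] at hl
  exact Bool.noConfusion hl

theorem orthB_sqList {f g : Fin 4 → Fin 4 → Fin 4}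
    (h : ∀ x y x' y', f x y = f x' y' → g x y = g x' y' → x = x' ∧ y = y') : orthB (sqList f) (sqList g) = true := by
  simp only [orthB, List.all_eq_true, List.mem_range, Bool.or_eq_true, Bool.and_eq_true, Bool.not_eq_true',
    Nat.beq_eq]
  intro x hx y hy x' hx' y' hy'
  rw [sqList_getD f ⟨x, hx⟩ ⟨y, hy⟩, sqList_getD f ⟨x', hx'⟩ ⟨y', hy'⟩,
    sqList_getD g ⟨x, hx⟩ ⟨y, hy⟩, sqList_getD g ⟨x', hx'⟩ ⟨y', hy'⟩]
  by_cases hh : x = x' ∧ y = y'
  · exact Or.inl hh
  right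
  rw [← Bool.not_eq_true, Bool.and_eq_true, Nat.beq_eq, Nat.beq_eq, Fin.val_inj, Fin.val_inj]
  rintro ⟨h1, h2⟩
  obtain ⟨e1, e2⟩ := h _ _ _ _ h1 h2
  exact hh ⟨congrArg Fin.val e1, congrArg Fin.val e2⟩

/-- A mask of 21 places as a set of points of the plane. -/
def lset21 (m : ℕ) : Finset (Fin 21) := univ.filter fun i => m.testBit i.val

theorem mem_lset21 {m : ℕ} {i : Fin 21} : i ∈ lset21 m ↔ m.testBit i.val = true := by simp [lset21]

/-- The plane of order four. -/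
def plane21 : Set (Finset (Fin 21)) := lset21 '' {m | m ∈ lines21}

theorem lines21_bits : ∀ k : Fin 5, ∀ v : Fin 4, ∀ i : Fin 21,
    ((lines21.getD (1 + 4 * k.val + v.val) 0).testBit i.val = true ↔
      i.val = 16 + k.val ∨ (i.val < 16 ∧ tab5 k.val (i.val / 4) (i.val % 4) = v.val)) := by
  decide +kernel

theorem lines21_inf : ∀ i : Fin 21, ((lines21.getD 0 0).testBit i.val = true ↔ 16 ≤ i.val) := by
  decide +kernel

theorem lines21_facts : lines21.Nodup ∧ lines21.length = 21 ∧ (∀ m ∈ lines21, m < 2 ^ 21) ∧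
    ∀ m ∈ lines21, (lset21 m).card = 5 := by
  refine ⟨by decide +kernel, rfl, by decide +kernel, by decide +kernel⟩

theorem lset21_inj {a b : ℕ} (ha : a < 2 ^ 21) (hb : b < 2 ^ 21) (h : lset21 a = lset21 b) : a = b := by
  apply Nat.eq_of_testBit_eq
  intro i
  by_cases hi : i < 21
  · have := Finset.ext_iff.1 h ⟨i, hi⟩
    simp only [mem_lset21] at this
    exact Bool.eq_iff_iff.2 this
  · have hle : 2 ^ 21 ≤ 2 ^ i := Nat.pow_le_pow_right (by norm_num) (by omega)
    rw [Nat.testBit_lt_two_pow (lt_of_lt_of_le ha hle), Nat.testBit_lt_two_pow (lt_of_lt_of_le hb hle)]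

theorem plane21_ncard : plane21.ncard = 21 := by
  have h : plane21 = (lines21.toFinset.image lset21 : Finset (Finset (Fin 21))) := by
    ext s; simp [plane21]
  rw [h, Set.ncard_coe_finset, card_image_of_injOn, List.toFinset_card_of_nodup lines21_facts.1,
    lines21_facts.2.1]
  intro a ha b hb
  exact lset21_inj (lines21_facts.2.2.1 a (by simpa using ha)) (lines21_facts.2.2.1 b (by simpa using hb))

variable {α : Type*} [Fintype α] [DecidableEq α]

/-- Every S(2, 5, 21) is the tabulated plane. -/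
theorem plane_model (hα : Fintype.card α = 21) {L : Set (Finset α)} (hL : IsSteinerSystem 2 5 L) :
    ∃ e : α ≃ Fin 21, (fun b => b.image e) '' L = plane21 := by
  classical
  have hl : ∀ i ≤ 2, (fun i => [21, 5, 1].getD i 0) i * (5 - i).choose (2 - i) =
      (Fintype.card α - i).choose (2 - i) ∧ 0 < (5 - i).choose (2 - i) := by
    rw [hα]; decide
  -- joins
  have hj : ∀ p q : α, ∃ l : Finset α, p ≠ q → l ∈ L ∧ p ∈ l ∧ q ∈ l ∧
      ∀ l' ∈ L, p ∈ l' → q ∈ l' → l' = l := by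
    intro p q
    by_cases h : p = q
    · exact ⟨∅, fun h' => absurd h h'⟩
    obtain ⟨l, ⟨hlL, hs⟩, hu⟩ := hL.2 {p, q} (card_pair h)
    rw [insert_subset_iff, singleton_subset_iff] at hs
    exact ⟨l, fun _ => ⟨hlL, hs.1, hs.2, fun l' h1 h2 h3 => hu l' ⟨h1, by
      rw [insert_subset_iff, singleton_subset_iff]; exact ⟨h2, h3⟩⟩⟩⟩
  choose join hjoin using hj
  -- meets
  have hα0 : 0 < Fintype.card α := by omega
  obtain ⟨a₀⟩ := Fintype.card_pos_iff.1 hα0
  have hm : ∀ l l' : Finset α, ∃ r : α, l ∈ L → l' ∈ L → l ≠ l' → r ∈ l ∧ r ∈ l' ∧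
      ∀ r', r' ∈ l → r' ∈ l' → r' = r := by
    intro l l'
    by_cases h : l ∈ L ∧ l' ∈ L ∧ l ≠ l'
    · have hx := steiner_inter_card hL (fun j => [0, 4].getD j 0) (fun i => [21, 5].getD i 0)
        (by rw [hα]; decide) (by decide) (by decide) h.1 h.2.1 h.2.2.symm
      have hc : (l ∩ l').card = 1 := by
        have hle : (l ∩ l').card ≤ 5 := hL.1 l h.1 ▸ card_le_card inter_subset_left
        interval_cases hn : (l ∩ l').card <;> simp_all
      obtain ⟨r, hr⟩ := card_eq_one.1 hc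
      refine ⟨r, fun _ _ _ => ⟨(mem_inter.1 (hr ▸ mem_singleton_self r)).1, (mem_inter.1 (hr ▸ mem_singleton_self r)).2,
        fun r' h1 h2 => mem_singleton.1 (hr ▸ mem_inter.2 ⟨h1, h2⟩)⟩⟩
    · exact ⟨a₀, fun h1 h2 h3 => absurd ⟨h1, h2, h3⟩ h⟩
  choose meet hmeet using hm
  -- the line at infinity and its points
  obtain ⟨b₀, hb₀⟩ : ∃ b, b ≠ a₀ := Fintype.exists_ne_of_one_lt_card (by omega) a₀
  obtain ⟨hℓ, -, -, -⟩ := hjoin b₀ a₀ hb₀
  set ℓ := join b₀ a₀
  have hℓ5 : ℓ.card = 5 := hL.1 ℓ hℓ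
  let i : Fin 5 ≃ ↥ℓ := ((Fintype.equivFin ↥ℓ).trans (finCongr (by simp [hℓ5]))).symm
  have hi : ∀ k j, (i k : α) = i j → k = j := fun k j h => i.injective (Subtype.ext h)
  obtain ⟨q₀, hq₀⟩ : ∃ q, q ∉ ℓ := by
    by_contra h
    push Not at h
    have := card_le_card (fun x _ => h x : (univ : Finset α) ⊆ ℓ)
    rw [card_univ] at this; omega
  -- the line through a point at infinity and an affine point
  set m : Fin 5 → α → Finset α := fun k p => join (i k) p with hmdef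
  have hne : ∀ k p, p ∉ ℓ → (i k : α) ≠ p := fun k p hp h => hp (h ▸ (i k).2)
  have M1 : ∀ k p, p ∉ ℓ → m k p ∈ L ∧ (i k : α) ∈ m k p ∧ p ∈ m k p ∧ m k p ≠ ℓ := fun k p hp => by
    obtain ⟨h1, h2, h3, -⟩ := hjoin _ _ (hne k p hp)
    exact ⟨h1, h2, h3, fun h => hp (h ▸ h3)⟩
  have M2 : ∀ k p p', p ∉ ℓ → p' ∉ ℓ → p' ∈ m k p → m k p' = m k p := fun k p p' hp hp' h =>
    ((hjoin _ _ (hne k p' hp')).2.2.2 _ (M1 k p hp).1 (M1 k p hp).2.1 h).symm
  have M4 : ∀ k p, p ∉ ℓ → ∀ j, (i j : α) ∈ m k p → j = k := fun k p hp j hjm => by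
    obtain ⟨h1, h2, h3, h4⟩ := M1 k p hp
    have hu := (hmeet _ _ h1 hℓ h4).2.2
    exact hi _ _ ((hu _ hjm (i j).2).trans (hu _ h2 (i k).2).symm)
  have M3 : ∀ k j p p', k ≠ j → p ∉ ℓ → p' ∉ ℓ → m k p ≠ m j p' := fun k j p p' hkj hp hp' h =>
    hkj (M4 j p' hp' k (h ▸ (M1 k p hp).2.1))
  set R : Fin 5 → Fin 5 → α → α → α := fun k j p p' => meet (m k p) (m j p') with hRdef
  have hR : ∀ k j p p', k ≠ j → p ∉ ℓ → p' ∉ ℓ →
      R k j p p' ∉ ℓ ∧ m k (R k j p p') = m k p ∧ m j (R k j p p') = m j p' ∧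
      ∀ r, r ∉ ℓ → m k r = m k p → m j r = m j p' → r = R k j p p' := by
    intro k j p p' hkj hp hp'
    obtain ⟨h1, h2, h3⟩ := hmeet _ _ (M1 k p hp).1 (M1 j p' hp').1 (M3 k j p p' hkj hp hp')
    have hnl : R k j p p' ∉ ℓ := fun h => by
      obtain ⟨c, hc⟩ := i.surjective ⟨_, h⟩
      have hc' : (i c : α) = R k j p p' := congrArg Subtype.val hc
      exact hkj ((M4 k p hp c (hc'.symm ▸ h1)).symm.trans (M4 j p' hp' c (hc'.symm ▸ h2)))
    exact ⟨hnl, M2 k p _ hp hnl h1, M2 j p' _ hp' hnl h2,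
      fun r hr hr1 hr2 => h3 r (hr1 ▸ (M1 k r hr).2.2.1) (hr2 ▸ (M1 j r hr).2.2.1)⟩
  have hpair : ∀ k j p p', k ≠ j → p ∉ ℓ → p' ∉ ℓ → m k p = m k p' → m j p = m j p' → p = p' :=
    fun k j p p' hkj hp hp' h1 h2 => ((hR k j p' p' hkj hp' hp').2.2.2 p hp h1 h2).trans
      ((hR k j p' p' hkj hp' hp').2.2.2 p' hp' rfl rfl).symm
  -- labels on the first affine line
  set C0 := (m 0 q₀).erase (i 0 : α) with hC0
  have hC0c : C0.card = 4 := by
    rw [hC0, card_erase_of_mem (M1 0 q₀ hq₀).2.1, hL.1 _ (M1 0 q₀ hq₀).1]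
  have hq₀C : q₀ ∈ C0 := mem_erase.2 ⟨(hne 0 q₀ hq₀).symm, (M1 0 q₀ hq₀).2.2.1⟩
  let y₁ : ↥C0 ≃ Fin 4 := (Fintype.equivFin ↥C0).trans (finCongr (by simp [hC0c]))
  set y₀ : α → Fin 4 := fun p => if h : p ∈ C0 then Equiv.swap (y₁ ⟨q₀, hq₀C⟩) 0 (y₁ ⟨p, h⟩) else 0 with hy₀def
  have hy₀q : y₀ q₀ = 0 := by simp [hy₀def, hq₀C, Equiv.swap_apply_left]
  have hy₀ : ∀ p p', p ∈ C0 → p' ∈ C0 → y₀ p = y₀ p' → p = p' := fun p p' hp hp' h => by
    simp only [hy₀def, hp, hp', dite_true] at h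
    exact congrArg Subtype.val (y₁.injective ((Equiv.swap _ _).injective h))
  set d : Fin 5 → α → Fin 4 := fun k p => y₀ (R k 0 p q₀) with hddef
  have hRC : ∀ k p, k ≠ 0 → p ∉ ℓ → R k 0 p q₀ ∈ C0 := fun k p hk hp => by
    obtain ⟨h1, -, h3, -⟩ := hR k 0 p q₀ hk hp hq₀
    exact mem_erase.2 ⟨(hne 0 _ h1).symm, h3 ▸ (M1 0 _ h1).2.2.1⟩
  have hd : ∀ k p p', k ≠ 0 → p ∉ ℓ → p' ∉ ℓ → (d k p = d k p' ↔ m k p = m k p') := fun k p p' hk hp hp' => by
    obtain ⟨a1, a2, -, -⟩ := hR k 0 p q₀ hk hp hq₀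
    obtain ⟨b1, b2, -, -⟩ := hR k 0 p' q₀ hk hp' hq₀
    constructor
    · intro h
      rw [← a2, hy₀ _ _ (hRC k p hk hp) (hRC k p' hk hp') h, b2]
    · intro h
      simp only [hddef, hRdef, h]
  have hdcol : ∀ k p, k ≠ 0 → p ∉ ℓ → m 0 p = m 0 q₀ → d k p = y₀ p := fun k p hk hp h => by
    simp only [hddef]
    rw [← (hR k 0 p q₀ hk hp hq₀).2.2.2 p hp rfl h]
  have h21 : (2 : Fin 5) ≠ 1 := by decide
  have h20 : (2 : Fin 5) ≠ 0 := by decide
  have h10 : (1 : Fin 5) ≠ 0 := by decide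
  set D : Fin 5 → α → Fin 4 := fun k p => if k = 0 then d 2 (R 0 1 p q₀) else d k p with hDdef
  have hD : ∀ k p p', p ∉ ℓ → p' ∉ ℓ → (D k p = D k p' ↔ m k p = m k p') := fun k p p' hp hp' => by
    by_cases hk : k = 0
    · subst hk
      simp only [hDdef, if_true]
      obtain ⟨a1, a2, a3, -⟩ := hR 0 1 p q₀ h10.symm hp hq₀
      obtain ⟨b1, b2, b3, -⟩ := hR 0 1 p' q₀ h10.symm hp' hq₀
      constructor
      · intro h
        have h2 := (hd 2 _ _ h20 a1 b1).1 h
        rw [← a2, hpair 2 1 _ _ h21 a1 b1 h2 (a3.trans b3.symm), b2]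
      · intro h
        simp only [hRdef, h]
    · simp only [hDdef, if_neg hk]
      exact hd k p p' hk hp hp'
  have hDq : D 0 q₀ = 0 := by
    simp only [hDdef, if_true]
    rw [← (hR 0 1 q₀ q₀ h10.symm hq₀ hq₀).2.2.2 q₀ hq₀ rfl rfl, hdcol 2 q₀ h20 hq₀ rfl, hy₀q]
  have hD1q : D 1 q₀ = 0 := by
    simp only [hDdef, if_neg h10]
    rw [hdcol 1 q₀ h10 hq₀ rfl, hy₀q]
  -- affine coordinates
  have hA : Fintype.card {p // p ∉ ℓ} = 16 := by
    rw [Fintype.card_subtype_compl, hα, Fintype.card_coe, hℓ5]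
  let ψ : {p // p ∉ ℓ} ≃ Fin 4 × Fin 4 := Equiv.ofBijective (fun p => (D 0 p, D 1 p))
    ((Fintype.bijective_iff_injective_and_card _).2 ⟨fun p p' h => Subtype.ext (hpair 0 1 p p' h10.symm p.2 p'.2
      ((hD 0 p p' p.2 p'.2).1 (congrArg Prod.fst h)) ((hD 1 p p' p.2 p'.2).1 (congrArg Prod.snd h))), by simp [hA]⟩)
  have hψ : ∀ p : {p // p ∉ ℓ}, ψ p = (D 0 p, D 1 p) := fun _ => rfl
  set P : Fin 4 → Fin 4 → α := fun x y => (ψ.symm (x, y) : α) with hPdef
  have hP : ∀ x y, P x y ∉ ℓ ∧ D 0 (P x y) = x ∧ D 1 (P x y) = y := fun x y =>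
    ⟨(ψ.symm (x, y)).2, congrArg Prod.fst ((hψ _).symm.trans (ψ.apply_symm_apply (x, y))),
      congrArg Prod.snd ((hψ _).symm.trans (ψ.apply_symm_apply (x, y)))⟩
  set f : Fin 5 → Fin 4 → Fin 4 → Fin 4 := fun k x y => D k (P x y) with hfdef
  have hinj : ∀ k j, k ≠ j → ∀ x y x' y', f k x y = f k x' y' → f j x y = f j x' y' → x = x' ∧ y = y' := by
    intro k j hkj x y x' y' h1 h2
    have := hpair k j _ _ hkj (hP x y).1 (hP x' y').1 ((hD k _ _ (hP x y).1 (hP x' y').1).1 h1)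
      ((hD j _ _ (hP x y).1 (hP x' y').1).1 h2)
    exact ⟨(hP x y).2.1.symm.trans ((congrArg (D 0) this).trans (hP x' y').2.1),
      (hP x y).2.2.symm.trans ((congrArg (D 1) this).trans (hP x' y').2.2)⟩
  have hsq : ∀ k, k ≠ 0 → k ≠ 1 → sqList (f k) ∈ sq24 := fun k hk0 hk1 => by
    refine sqList_mem (fun y => ?_) (fun x y y' h => ?_) (fun y x x' h => ?_)
    · have h0 : m 0 (P 0 y) = m 0 q₀ := (hD 0 _ _ (hP 0 y).1 hq₀).1 ((hP 0 y).2.1.trans hDq.symm)
      have e1 := (hP 0 y).2.2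
      simp only [hDdef, if_neg h10] at e1
      rw [hdcol 1 _ h10 (hP 0 y).1 h0] at e1
      simp only [hfdef, hDdef, if_neg hk0]
      rw [hdcol k _ hk0 (hP 0 y).1 h0, e1]
    · exact (hinj k 0 hk0 x y x y' h ((hP x y).2.1.trans (hP x y').2.1.symm)).2
    · exact (hinj k 1 hk1 x y x' y h ((hP x y).2.2.trans (hP x' y).2.2.symm)).1
  have hcol : colIdB (sqList (f 2)) = true := by
    simp only [colIdB, List.all_eq_true, List.mem_range, Nat.beq_eq]
    intro x hx
    rw [show ((sqList (f 2)).getD x []).getD 0 0 = (f 2 ⟨x, hx⟩ 0).val from sqList_getD (f 2) ⟨x, hx⟩ 0]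
    obtain ⟨hp, h0, h1⟩ := hP ⟨x, hx⟩ 0
    have hm1 : m 1 (P ⟨x, hx⟩ 0) = m 1 q₀ := (hD 1 _ _ hp hq₀).1 (h1.trans hD1q.symm)
    simp only [hDdef, if_true] at h0
    rw [← (hR 0 1 _ q₀ h10.symm hp hq₀).2.2.2 _ hp rfl hm1] at h0
    simp only [hfdef, hDdef, if_neg h20]
    rw [h0]
  have key := List.all_eq_true.1 mols_unique _ (hsq 2 h20 h21)
  rw [hcol, Bool.not_true, Bool.false_or, List.all_eq_true] at key
  replace key := key _ (hsq 3 (by decide) (by decide))
  rw [orthB_sqList (hinj 2 3 (by decide)), Bool.not_true, Bool.false_or, List.all_eq_true] at key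
  replace key := key _ (hsq 4 (by decide) (by decide))
  rw [orthB_sqList (hinj 2 4 (by decide)), orthB_sqList (hinj 3 4 (by decide)), Bool.and_self, Bool.not_true,
    Bool.false_or, decide_eq_true_eq] at key
  obtain ⟨π, hπ⟩ : ∃ π : Equiv.Perm (Fin 5), ∀ k x y, tab5 (π k).val x.val y.val = (f k x y).val := by
    have b0 : ∀ x y : Fin 4, tab5 0 x.val y.val = x.val ∧ tab5 1 x.val y.val = y.val := by decide +kernel
    obtain ⟨e2, ⟨e3, e4⟩ | ⟨e3, e4⟩⟩ := key
    · refine ⟨1, fun k x y => ?_⟩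
      fin_cases k
      · exact (b0 x y).1.trans (congrArg Fin.val (hP x y).2.1.symm)
      · exact (b0 x y).2.trans (congrArg Fin.val (hP x y).2.2.symm)
      · exact (congrArg (fun A : List (List ℕ) => (A.getD x.val []).getD y.val 0) e2).symm.trans
          (sqList_getD (f 2) x y)
      · exact (congrArg (fun A : List (List ℕ) => (A.getD x.val []).getD y.val 0) e3).symm.trans
          (sqList_getD (f 3) x y)
      · exact (congrArg (fun A : List (List ℕ) => (A.getD x.val []).getD y.val 0) e4).symm.trans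
          (sqList_getD (f 4) x y)
    · refine ⟨Equiv.swap 3 4, fun k x y => ?_⟩
      fin_cases k
      · exact (b0 x y).1.trans (congrArg Fin.val (hP x y).2.1.symm)
      · exact (b0 x y).2.trans (congrArg Fin.val (hP x y).2.2.symm)
      · exact (congrArg (fun A : List (List ℕ) => (A.getD x.val []).getD y.val 0) e2).symm.trans
          (sqList_getD (f 2) x y)
      · exact (congrArg (fun A : List (List ℕ) => (A.getD x.val []).getD y.val 0) e3).symm.trans
          (sqList_getD (f 3) x y)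
      · exact (congrArg (fun A : List (List ℕ) => (A.getD x.val []).getD y.val 0) e4).symm.trans
          (sqList_getD (f 4) x y)
  -- the bijection
  set code : α → Fin 21 := fun p => if h : p ∈ ℓ then ⟨16 + (π (i.symm ⟨p, h⟩)).val, by omega⟩
    else ⟨4 * (D 0 p).val + (D 1 p).val, by omega⟩ with hcode
  have hcinj : Function.Injective code := by
    intro p p' h
    by_cases hp : p ∈ ℓ <;> by_cases hp' : p' ∈ ℓ <;>
      simp only [hcode, hp, hp', dite_true, dite_false, Fin.mk.injEq] at h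
    · have := π.injective (Fin.ext (by omega : (π (i.symm ⟨p, hp⟩)).val = (π (i.symm ⟨p', hp'⟩)).val))
      exact congrArg Subtype.val (i.symm.injective this)
    · omega
    · omega
    · exact congrArg Subtype.val (ψ.injective (a₁ := ⟨p, hp⟩) (a₂ := ⟨p', hp'⟩)
        (Prod.ext (Fin.ext (by simp only [hψ]; omega)) (Fin.ext (by simp only [hψ]; omega))))
  let e : α ≃ Fin 21 := Equiv.ofBijective code
    ((Fintype.bijective_iff_injective_and_card _).2 ⟨hcinj, by simp [hα]⟩)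
  refine ⟨e, Set.eq_of_subset_of_ncard_le ?_ ?_ (Set.toFinite _)⟩
  · rintro _ ⟨l, hlL, rfl⟩
    suffices h : ∃ j < 21, ∀ p ∈ l, (lines21.getD j 0).testBit (code p).val = true by
      obtain ⟨j, hj, hsub⟩ := h
      have hmem : lines21.getD j 0 ∈ lines21 := by
        rw [List.getD_eq_getElem _ _ (by rw [lines21_facts.2.1]; exact hj)]; exact List.getElem_mem _
      refine ⟨_, hmem, (eq_of_subset_of_card_le ?_ ?_).symm⟩
      · intro z hz
        obtain ⟨p, hp, rfl⟩ := mem_image.1 hz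
        exact mem_lset21.2 (hsub p hp)
      · rw [lines21_facts.2.2.2 _ hmem, card_image_of_injective _ e.injective, hL.1 l hlL]
    by_cases hlℓ : l = ℓ
    · refine ⟨0, by norm_num, fun p hp => (lines21_inf _).2 ?_⟩
      simp only [hcode, hlℓ ▸ hp, dite_true]
      omega
    obtain ⟨hr1, hr2, hr3⟩ := hmeet l ℓ hlL hℓ hlℓ
    obtain ⟨k, hk⟩ := i.surjective ⟨_, hr2⟩
    have hk' : (i k : α) = meet l ℓ := congrArg Subtype.val hk
    obtain ⟨p₁, hp₁, hp₁k⟩ : ∃ p ∈ l, p ≠ meet l ℓ := exists_mem_ne (by rw [hL.1 l hlL]; norm_num) _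
    have hp₁ℓ : p₁ ∉ ℓ := fun h => hp₁k (hr3 p₁ hp₁ h)
    have hlm : l = m k p₁ := (hjoin _ _ (hne k p₁ hp₁ℓ)).2.2.2 l hlL (hk'.symm ▸ hr1) hp₁
    refine ⟨1 + 4 * (π k).val + (D k p₁).val, by omega, fun p hp => (lines21_bits (π k) (D k p₁) (code p)).2 ?_⟩
    by_cases hpℓ : p ∈ ℓ
    · left
      obtain ⟨c, hc⟩ := i.surjective ⟨p, hpℓ⟩
      have hck : c = k := M4 k p₁ hp₁ℓ c (by rw [← hlm, congrArg Subtype.val hc]; exact hp)
      simp only [hcode, hpℓ, dite_true, ← hc, Equiv.symm_apply_apply, hck]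
    · right
      simp only [hcode, hpℓ, dite_false]
      refine ⟨by omega, ?_⟩
      rw [show (4 * (D 0 p).val + (D 1 p).val) / 4 = (D 0 p).val by omega,
        show (4 * (D 0 p).val + (D 1 p).val) % 4 = (D 1 p).val by omega, hπ]
      have hPp : P (D 0 p) (D 1 p) = p := congrArg Subtype.val (ψ.symm_apply_apply ⟨p, hpℓ⟩)
      simp only [hfdef, hPp]
      exact congrArg Fin.val ((hD k p p₁ hpℓ hp₁ℓ).2 (M2 k p₁ p hp₁ℓ hpℓ (hlm ▸ hp)))
  · rw [Set.ncard_image_of_injective L (image_injective e.injective), plane21_ncard]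
    have := blocks_ncard hL _ hl (s := ∅) (by simp)
    simpa using this.ge

/-- Uniqueness of S(2, 5, 21). -/
theorem plane_iso {β : Type*} [Fintype β] [DecidableEq β] (hα : Fintype.card α = 21) (hβ : Fintype.card β = 21)
    {L : Set (Finset α)} {L' : Set (Finset β)} (hL : IsSteinerSystem 2 5 L) (hL' : IsSteinerSystem 2 5 L') :
    SetSystemIso L L' := by
  obtain ⟨e, he⟩ := plane_model hα hL
  obtain ⟨e', he'⟩ := plane_model hβ hL'
  refine ⟨e.trans e'.symm, (image_injective e'.injective).image_injective ?_⟩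
  rw [Set.image_image, he', ← he]
  refine Set.image_congr fun b _ => ?_
  rw [image_image]
  exact image_congr fun a _ => by simp

end Cfsg.Lib.Concrete
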