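import Cfsg.Agent.Lib.Concrete.PlaneFour
import Cfsg.Agent.Lib.Concrete.SteinerAut

/-!
The 4-arcs and hyperovals of the plane of order four, and extension of the permutations of a
hyperoval to automorphisms of the plane.
-/

set_option autoImplicit false

namespace Cfsg.Lib.Concrete

open Finset
open scoped Pointwise

/-- Number of places below `n` in a mask. -/
def cntBelow (n m : ℕ) : ℕ := (List.range n).countP fun i => m.testBit i

/-- The masks below `2 ^ n` with `k` places, `k` first. -/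
def combs : ℕ → ℕ → List ℕ
  | 0, 0 => [0]
  | 0, _ + 1 => []
  | n + 1, 0 => combs n 0
  | n + 1, k + 1 => combs n (k + 1) ++ (combs n k).map (2 ^ n + ·)

theorem cntBelow_succ (n m : ℕ) : cntBelow (n + 1) m = cntBelow n m + if m.testBit n then 1 else 0 := by
  simp [cntBelow, List.range_succ, List.countP_append, List.countP_cons]

theorem mem_combs : ∀ (n k m : ℕ), m ∈ combs n k ↔ m < 2 ^ n ∧ cntBelow n m = k := by
  intro n
  induction n with
  | zero =>
    intro k m
    cases k <;> simp [combs, cntBelow]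
  | succ n ih =>
    intro k m
    have hlow : m < 2 ^ n → cntBelow (n + 1) m = cntBelow n m := fun h => by
      rw [cntBelow_succ, Nat.testBit_lt_two_pow h]; simp
    have hhigh : ∀ a, a < 2 ^ n → cntBelow (n + 1) (2 ^ n + a) = cntBelow n a + 1 := fun a ha => by
      rw [cntBelow_succ, Nat.testBit_two_pow_add_eq, Nat.testBit_lt_two_pow ha]
      simp only [Bool.not_false, if_true, add_left_inj]
      refine List.countP_congr fun i hi => ?_
      rw [Nat.testBit_two_pow_add_gt (List.mem_range.1 hi)]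
    cases k with
    | zero =>
      rw [combs, ih]
      constructor
      · rintro ⟨h1, h2⟩
        exact ⟨by rw [pow_succ]; omega, by rw [hlow h1, h2]⟩
      · rintro ⟨h1, h2⟩
        rcases Nat.lt_or_ge m (2 ^ n) with h | h
        · exact ⟨h, by rw [← hlow h, h2]⟩
        · obtain ⟨a, rfl⟩ := Nat.exists_eq_add_of_le h
          rw [hhigh a (by rw [pow_succ] at h1; omega)] at h2
          omega
    | succ k =>
      rw [combs, List.mem_append, ih, List.mem_map]
      constructor
      · rintro (⟨h1, h2⟩ | ⟨a, ha, rfl⟩)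
        · exact ⟨by rw [pow_succ]; omega, by rw [hlow h1, h2]⟩
        · obtain ⟨h1, h2⟩ := (ih k a).1 ha
          exact ⟨by rw [pow_succ]; omega, by rw [hhigh a h1, h2]⟩
      · rintro ⟨h1, h2⟩
        rcases Nat.lt_or_ge m (2 ^ n) with h | h
        · exact Or.inl ⟨h, by rw [← hlow h, h2]⟩
        · obtain ⟨a, rfl⟩ := Nat.exists_eq_add_of_le h
          have ha : a < 2 ^ n := by rw [pow_succ] at h1; omega
          rw [hhigh a ha] at h2
          exact Or.inr ⟨a, (ih k a).2 ⟨ha, by omega⟩, rfl⟩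

theorem combs_nodup : ∀ n k : ℕ, (combs n k).Nodup := by
  intro n
  induction n with
  | zero => intro k; cases k <;> simp [combs]
  | succ n ih =>
    intro k
    cases k with
    | zero => exact ih 0
    | succ k =>
      rw [combs, List.nodup_append]
      refine ⟨ih _, (ih k).map fun a b h => Nat.add_left_cancel h, fun a ha b hb he => ?_⟩
      obtain ⟨c, _, rfl⟩ := List.mem_map.1 hb
      have := ((mem_combs n (k + 1) a).1 ha).1
      omega

theorem cnt21_eq_pcnt {m : ℕ} (hm : m < 2 ^ 21) : cntBelow 21 m = pcnt m := by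
  rw [← mcnt_eq_pcnt, mcnt, show bits24 = List.range 21 ++ [21, 22, 23] from rfl, List.countP_append]
  have h : ∀ i ∈ [21, 22, 23], m.testBit i = false := fun i hi =>
    Nat.testBit_lt_two_pow (hm.trans_le (Nat.pow_le_pow_right (by norm_num)
      (by revert i; decide)))
  have h0 : ([21, 22, 23] : List ℕ).countP (fun i => m.testBit i) = 0 :=
    List.countP_eq_zero.2 fun i hi => by simp [h i hi]
  rw [h0, add_zero]
  rfl

theorem card_lset21 {m : ℕ} (hm : m < 2 ^ 21) : (lset21 m).card = pcnt m := by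
  rw [← cnt21_eq_pcnt hm, cntBelow, List.countP_eq_length_filter,
    ← List.toFinset_card_of_nodup (List.nodup_range.filter _)]
  refine card_bij (fun i _ => i.val) (fun i hi => ?_) (fun a _ b _ h => Fin.ext h) fun i hi => ?_
  · simp only [List.mem_toFinset, List.mem_filter, List.mem_range]
    exact ⟨i.isLt, mem_lset21.1 hi⟩
  · simp only [List.mem_toFinset, List.mem_filter, List.mem_range] at hi
    exact ⟨⟨i, hi.1⟩, mem_lset21.2 (by simpa using hi.2), rfl⟩

/-- A mask of the points of a set. -/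
def lmask (S : Finset (Fin 21)) : ℕ := orMask bits24 (fun i => decide (i < 21 ∧ Fin.ofNat 21 i ∈ S)) id

theorem lmask_lt (S : Finset (Fin 21)) : lmask S < 2 ^ 21 := by
  apply orMask_lt
  intro i _ hi
  exact (of_decide_eq_true hi).1

theorem lset21_lmask (S : Finset (Fin 21)) : lset21 (lmask S) = S := by
  ext i
  rw [mem_lset21, lmask, testBit_orMask]
  constructor
  · rintro ⟨j, _, hj, rfl⟩
    obtain ⟨hlt, hj⟩ := of_decide_eq_true hj
    convert hj using 1
    exact Fin.ext (by simp)
  · intro hi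
    exact ⟨i.val, mem_bits24.2 (by omega), decide_eq_true ⟨i.isLt, by convert hi using 1; exact Fin.ext (by simp)⟩, rfl⟩

theorem mem_combs_card {S : Finset (Fin 21)} {k : ℕ} (h : S.card = k) : lmask S ∈ combs 21 k :=
  (mem_combs 21 k _).2 ⟨lmask_lt S, by rw [cnt21_eq_pcnt (lmask_lt S), ← card_lset21 (lmask_lt S), lset21_lmask, h]⟩

/-- The arc condition on a mask. -/
def arcB (m : ℕ) : Bool := lines21.all fun l => Nat.ble (pcnt (Nat.land l m)) 2

/-- Arcs: no three points on a line. -/
def IsArcIn {γ : Type*} [DecidableEq γ] (L : Set (Finset γ)) (S : Finset γ) : Prop := ∀ l ∈ L, (l ∩ S).card ≤ 2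

theorem lset21_and (a b : ℕ) : lset21 (Nat.land a b) = lset21 a ∩ lset21 b := by
  ext i
  rw [mem_inter, mem_lset21, mem_lset21, mem_lset21, show Nat.land a b = a &&& b from rfl, Nat.testBit_and,
    Bool.and_eq_true]

theorem card_line_inter {l : ℕ} (hl : l ∈ lines21) (m : ℕ) : (lset21 l ∩ lset21 m).card = pcnt (Nat.land l m) := by
  rw [← lset21_and, card_lset21]
  exact lt_of_le_of_lt (show l &&& m ≤ l from Nat.and_le_left) (lines21_facts.2.2.1 l hl)

theorem arcB_iff (m : ℕ) : arcB m = true ↔ IsArcIn plane21 (lset21 m) := by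
  constructor
  · rintro h _ ⟨l, hl, rfl⟩
    rw [card_line_inter hl]
    exact Nat.le_of_ble_eq_true (List.all_eq_true.1 h l hl)
  · intro h
    refine List.all_eq_true.2 fun l hl => Nat.ble_eq_true_of_le ?_
    rw [← card_line_inter hl]
    exact h _ ⟨l, hl, rfl⟩

/-- The 4-arcs as masks. -/
def arcs4 : List ℕ := (combs 21 4).filter arcB

/-- The points on the secants of a set. -/
def secMask (m : ℕ) : ℕ := lines21.foldl (fun acc l => if Nat.beq (pcnt (Nat.land l m)) 2 then Nat.lor acc l else acc) 0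

/-- Completion of a 4-arc. -/
def hcomp (m : ℕ) : ℕ := Nat.lor m (Nat.xor 2097151 (secMask m))

theorem arcs4_check : arcs4.length = 2520 ∧ arcs4.Nodup ∧
    (arcs4.all fun m => decide (hcomp m ∈ hov168)) = true := by
  refine ⟨by decide +kernel, ?_, by decide +kernel⟩
  exact (combs_nodup 21 4).filter _

theorem hov168_check : hov168.Nodup ∧ hov168.length = 168 ∧
    (hov168.all fun m => decide (m < 2097152) && arcB m && Nat.beq (pcnt m) 6) = true := by
  refine ⟨by decide +kernel, rfl, by decide +kernel⟩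

theorem hov168_mem {m : ℕ} (h : m ∈ hov168) :
    m < 2 ^ 21 ∧ (lset21 m).card = 6 ∧ IsArcIn plane21 (lset21 m) := by
  have := List.all_eq_true.1 hov168_check.2.2 m h
  simp only [Bool.and_eq_true, decide_eq_true_eq, Nat.beq_eq] at this
  exact ⟨this.1.1, by rw [card_lset21 this.1.1, this.2], (arcB_iff m).1 this.1.2⟩

theorem secMask_bit (m i : ℕ) : (secMask m).testBit i = true ↔
    ∃ l ∈ lines21, pcnt (Nat.land l m) = 2 ∧ l.testBit i = true := by
  have key : ∀ (L : List ℕ) (acc : ℕ),
      (L.foldl (fun acc l => if Nat.beq (pcnt (Nat.land l m)) 2 then Nat.lor acc l else acc) acc).testBit i = true ↔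
        acc.testBit i = true ∨ ∃ l ∈ L, pcnt (Nat.land l m) = 2 ∧ l.testBit i = true := by
    intro L
    induction L with
    | nil => simp
    | cons a L ih =>
      intro acc
      rw [List.foldl_cons, ih]
      by_cases h : pcnt (Nat.land a m) = 2
      · rw [if_pos (Nat.beq_eq ▸ h)]
        simp [show Nat.lor acc a = acc ||| a from rfl, show pcnt (a &&& m) = 2 from h, or_assoc]
      · rw [if_neg (by simpa using h)]
        simp [show ¬ pcnt (a &&& m) = 2 from h]
  rw [secMask, key]
  simp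

/-- Every hyperoval through a 4-arc is its completion. -/
theorem hoval_eq {S : Finset (Fin 21)} (hS : S.card = 4) {H : Finset (Fin 21)} (hH : H.card = 6)
    (hHa : IsArcIn plane21 H) (hSH : S ⊆ H) :
    H = lset21 (hcomp (lmask S)) ∧ hcomp (lmask S) ∈ hov168 := by
  have harc : arcB (lmask S) = true := (arcB_iff _).2 fun l hl => by
    rw [lset21_lmask]
    exact (card_le_card (inter_subset_inter_left hSH)).trans (hHa l hl)
  have hmem : hcomp (lmask S) ∈ hov168 :=
    of_decide_eq_true (List.all_eq_true.1 arcs4_check.2.2 _ (List.mem_filter.2 ⟨mem_combs_card hS, harc⟩))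
  refine ⟨eq_of_subset_of_card_le (fun p hp => ?_) (by rw [(hov168_mem hmem).2.1, hH]), hmem⟩
  rw [mem_lset21, hcomp, show Nat.lor (lmask S) (Nat.xor 2097151 (secMask (lmask S))) =
    lmask S ||| (2097151 ^^^ secMask (lmask S)) from rfl, Nat.testBit_lor, Nat.testBit_xor]
  by_cases hpS : p ∈ S
  · have : (lmask S).testBit p.val = true := by rw [← mem_lset21, lset21_lmask]; exact hpS
    simp [this]
  have h1 : (2097151 : ℕ).testBit p.val = true := by
    rw [show (2097151 : ℕ) = 2 ^ 21 - 1 from rfl, Nat.testBit_two_pow_sub_one]; simp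
  have h2 : (secMask (lmask S)).testBit p.val = false := by
    rw [← Bool.not_eq_true, secMask_bit]
    rintro ⟨l, hl, hl2, hlp⟩
    have hsub : insert p (lset21 l ∩ lset21 (lmask S)) ⊆ lset21 l ∩ H := by
      rw [lset21_lmask]
      exact insert_subset (mem_inter.2 ⟨mem_lset21.2 hlp, hp⟩) (inter_subset_inter_left hSH)
    have := (card_le_card hsub).trans (hHa _ ⟨l, hl, rfl⟩)
    rw [card_insert_of_notMem (fun h => hpS (by rw [lset21_lmask] at h; exact (mem_inter.1 h).2)),
      card_line_inter hl, hl2] at this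
    omega
  simp [h1, h2]

theorem hoval_iff (H : Finset (Fin 21)) :
    (H.card = 6 ∧ IsArcIn plane21 H) ↔ ∃ m ∈ hov168, lset21 m = H := by
  constructor
  · rintro ⟨h6, ha⟩
    obtain ⟨S, hSH, hS⟩ := exists_subset_card_eq (show 4 ≤ H.card by omega)
    obtain ⟨e, hm⟩ := hoval_eq hS h6 ha hSH
    exact ⟨_, hm, e.symm⟩
  · rintro ⟨m, hm, rfl⟩
    exact (hov168_mem hm).2

theorem ncard_lset21_image {L : List ℕ} (hL : L.Nodup) (hlt : ∀ m ∈ L, m < 2 ^ 21) {s : Set (Finset (Fin 21))}
    (h : ∀ S, S ∈ s ↔ ∃ m ∈ L, lset21 m = S) : s.ncard = L.length := by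
  have : s = (L.toFinset.image lset21 : Finset (Finset (Fin 21))) := by ext S; simp [h]
  rw [this, Set.ncard_coe_finset, card_image_of_injOn, List.toFinset_card_of_nodup hL]
  intro a ha b hb
  exact lset21_inj (hlt a (by simpa using ha)) (hlt b (by simpa using hb))

/-- The counts in the tabulated plane. -/
theorem plane21_arcs :
    {S : Finset (Fin 21) | S.card = 4 ∧ IsArcIn plane21 S}.ncard = 2520 ∧
    {H : Finset (Fin 21) | H.card = 6 ∧ IsArcIn plane21 H}.ncard = 168 ∧
    ∀ S : Finset (Fin 21), (S.card = 4 ∧ IsArcIn plane21 S) →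
      ∃! H : Finset (Fin 21), (H.card = 6 ∧ IsArcIn plane21 H) ∧ S ⊆ H := by
  have hlt : ∀ m ∈ arcs4, m < 2 ^ 21 := fun m hm => ((mem_combs 21 4 m).1 (List.mem_filter.1 hm).1).1
  refine ⟨?_, ?_, ?_⟩
  · rw [ncard_lset21_image arcs4_check.2.1 hlt, arcs4_check.1]
    intro S
    constructor
    · rintro ⟨h4, ha⟩
      exact ⟨lmask S, List.mem_filter.2 ⟨mem_combs_card h4, (arcB_iff _).2 (by rwa [lset21_lmask])⟩, lset21_lmask S⟩
    · rintro ⟨m, hm, rfl⟩
      obtain ⟨h1, h2⟩ := List.mem_filter.1 hm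
      obtain ⟨h3, h4⟩ := (mem_combs 21 4 m).1 h1
      exact ⟨by rw [card_lset21 h3, ← cnt21_eq_pcnt h3, h4], (arcB_iff m).1 h2⟩
  · exact (ncard_lset21_image hov168_check.1 (fun m hm => (hov168_mem hm).1) hoval_iff).trans hov168_check.2.1
  · rintro S ⟨h4, ha⟩
    have hmem : hcomp (lmask S) ∈ hov168 := of_decide_eq_true (List.all_eq_true.1 arcs4_check.2.2 _
      (List.mem_filter.2 ⟨mem_combs_card h4, (arcB_iff _).2 (by rwa [lset21_lmask])⟩))
    refine ⟨_, ⟨(hov168_mem hmem).2, fun p hp => mem_lset21.2 ?_⟩, fun H hH => (hoval_eq h4 hH.1.1 hH.1.2 hH.2).1⟩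
    have : (lmask S).testBit p.val = true := by rw [← mem_lset21, lset21_lmask]; exact hp
    rw [hcomp, show Nat.lor (lmask S) (Nat.xor 2097151 (secMask (lmask S))) =
      lmask S ||| (2097151 ^^^ secMask (lmask S)) from rfl, Nat.testBit_lor, this, Bool.true_or]

/-- The image of a mask under a table of points. -/
def imgMask (g : List ℕ) (m : ℕ) : ℕ := orMask bits24 (fun i => Nat.ble i 20 && m.testBit i) (fun i => g.getD i 0)

/-- A table is an automorphism mapping the points of a hyperoval by a given table of indices. -/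
def extB (H : ℕ) (g tau : List ℕ) : Bool :=
  ((List.range 21).map fun i => g.getD i 0).Nodup && (g.all fun j => Nat.ble j 20) &&
    Nat.beq g.length 21 && (lines21.all fun l => decide (imgMask g l ∈ lines21)) &&
    (let hs := (List.range 21).filter fun i => H.testBit i
     (List.range 6).all fun i => Nat.beq (g.getD (hs.getD i 0) 0) (hs.getD (tau.getD i 0) 0))

theorem ext_check : ((List.range 168).all fun j =>
    extB (hov168.getD j 0) (extSwap.getD j []) [1, 0, 2, 3, 4, 5] &&
      extB (hov168.getD j 0) (extCycle.getD j []) [1, 2, 3, 4, 5, 0]) = true := by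
  decide +kernel

theorem exterior_check : (hov168.all fun H => (List.range 21).all fun p => H.testBit p ||
    Nat.ble 2 (lines21.filter fun l => l.testBit p && Nat.beq (pcnt (Nat.land l H)) 2).length) = true := by
  decide +kernel

theorem exists_aut_of_extB {H : ℕ} {g tau : List ℕ} (hc : extB H g tau = true) :
    ∃ σ ∈ setSystemAut plane21, ∀ i < 6,
      (σ (Fin.ofNat 21 (((List.range 21).filter fun i => H.testBit i).getD i 0))).val =
        ((List.range 21).filter fun i => H.testBit i).getD (tau.getD i 0) 0 := by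
  simp only [extB, Bool.and_eq_true, decide_eq_true_eq, List.all_eq_true, Nat.ble_eq, Nat.beq_eq,
    List.mem_range] at hc
  obtain ⟨⟨⟨⟨hnd, hle⟩, hlen⟩, hlines⟩, htau⟩ := hc
  have hlt : ∀ i : Fin 21, g.getD i.val 0 < 21 := fun i => by
    rw [List.getD_eq_getElem _ _ (hlen.symm ▸ i.isLt)]
    exact Nat.lt_succ_of_le (hle _ (List.getElem_mem _))
  have hinj : Function.Injective fun i : Fin 21 => (⟨g.getD i.val 0, hlt i⟩ : Fin 21) := fun a b h => by
    exact Fin.ext (List.inj_on_of_nodup_map hnd (List.mem_range.2 a.isLt) (List.mem_range.2 b.isLt)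
      (congrArg Fin.val h))
  let σ : Equiv.Perm (Fin 21) := Equiv.ofBijective _ hinj.bijective_of_finite
  have hσ : ∀ i, (σ i).val = g.getD i.val 0 := fun _ => rfl
  have himg : ∀ m, σ • lset21 m = lset21 (imgMask g m) := fun m => by
    ext y
    rw [mem_lset21, imgMask, testBit_orMask, Finset.smul_finset_def, mem_image]
    simp only [Bool.and_eq_true, Nat.ble_eq, mem_lset21]
    constructor
    · rintro ⟨a, ha, rfl⟩
      exact ⟨a.val, mem_bits24.2 (by omega), ⟨by omega, ha⟩, rfl⟩
    · rintro ⟨i, -, ⟨hi, hm⟩, hy⟩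
      exact ⟨⟨i, by omega⟩, hm, Fin.ext hy⟩
  refine ⟨σ, mem_setSystemAut_of_subset ?_, fun i hi => ?_⟩
  · rintro _ ⟨l, hl, rfl⟩
    rw [himg]
    exact ⟨_, hlines l hl, rfl⟩
  · have hmem : ((List.range 21).filter fun i => H.testBit i).getD i 0 < 21 := by
      by_cases h : i < ((List.range 21).filter fun i => H.testBit i).length
      · rw [List.getD_eq_getElem _ _ h]
        exact List.mem_range.1 (List.mem_filter.1 (List.getElem_mem h)).1
      · rw [List.getD_eq_default _ _ (by omega)]; norm_num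
    rw [hσ, show (Fin.ofNat 21 (((List.range 21).filter fun i => H.testBit i).getD i 0)).val =
      ((List.range 21).filter fun i => H.testBit i).getD i 0 from Nat.mod_eq_of_lt hmem, htau i hi]

/-- Permutations of a hyperoval extend uniquely in the tabulated plane. -/
theorem plane21_extend {H : Finset (Fin 21)} (h6 : H.card = 6) (ha : IsArcIn plane21 H) (τ : Equiv.Perm ↥H) :
    ∃! g : Equiv.Perm (Fin 21), g ∈ setSystemAut plane21 ∧ ∀ p : ↥H, g p = τ p := by
  obtain ⟨m, hm, rfl⟩ := (hoval_iff H).1 ⟨h6, ha⟩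
  obtain ⟨hmlt, -, -⟩ := hov168_mem hm
  -- the points in order
  set hs := (List.range 21).filter fun i => m.testBit i with hhs
  have hlen : hs.length = 6 := by
    rw [hhs, ← List.countP_eq_length_filter]
    show cntBelow 21 m = 6
    rw [cnt21_eq_pcnt hmlt, ← card_lset21 hmlt, h6]
  have hmemhs : ∀ i : Fin 6, hs.getD i.val 0 < 21 ∧ m.testBit (hs.getD i.val 0) = true := fun i => by
    rw [List.getD_eq_getElem _ _ (hlen.symm ▸ i.isLt)]
    obtain ⟨h1, h2⟩ := List.mem_filter.1 (List.getElem_mem (hlen.symm ▸ i.isLt : i.val < hs.length))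
    exact ⟨List.mem_range.1 h1, h2⟩
  have hval : ∀ i : Fin 6, (Fin.ofNat 21 (hs.getD i.val 0)).val = hs.getD i.val 0 := fun i =>
    Nat.mod_eq_of_lt (hmemhs i).1
  let ε : Fin 6 → ↥(lset21 m) := fun i =>
    ⟨Fin.ofNat 21 (hs.getD i.val 0), mem_lset21.2 (by rw [hval]; exact (hmemhs i).2)⟩
  have hεinj : Function.Injective ε := fun a b h => by
    have h' := congrArg (fun x : ↥(lset21 m) => x.1.val) h
    simp only [ε, hval] at h'
    rw [List.getD_eq_getElem _ _ (hlen.symm ▸ a.isLt), List.getD_eq_getElem _ _ (hlen.symm ▸ b.isLt)] at h'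
    exact Fin.ext ((List.nodup_range.filter _).getElem_inj_iff.1 h')
  let E : Fin 6 ≃ ↥(lset21 m) :=
    Equiv.ofBijective ε ((Fintype.bijective_iff_injective_and_card _).2 ⟨hεinj, by simp [h6]⟩)
  let K : Subgroup (Equiv.Perm (Fin 6)) :=
    { carrier := {π | ∃ g ∈ setSystemAut plane21, ∀ i, g (E i).1 = (E (π i)).1}
      one_mem' := ⟨1, one_mem _, fun _ => rfl⟩
      mul_mem' := by
        rintro a b ⟨g, hg, hga⟩ ⟨g', hg', hgb⟩
        exact ⟨g * g', mul_mem hg hg', fun i => by rw [Equiv.Perm.mul_apply, hgb, hga, Equiv.Perm.mul_apply]⟩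
      inv_mem' := by
        rintro a ⟨g, hg, hga⟩
        refine ⟨g⁻¹, inv_mem hg, fun i => ?_⟩
        rw [Equiv.Perm.inv_eq_iff_eq, hga, Equiv.Perm.inv_def, Equiv.apply_symm_apply] }
  have hK : K = ⊤ := by
    rw [eq_top_iff, ← Equiv.Perm.closure_cycle_adjacent_swap (isCycle_finRotate (n := 4)) support_finRotate 0,
      Subgroup.closure_le]
    obtain ⟨j, hj, hjm⟩ := List.getElem_of_mem hm
    have hc := List.all_eq_true.1 ext_check j (List.mem_range.2 (hov168_check.2.1 ▸ hj))
    rw [List.getD_eq_getElem _ _ hj, hjm, Bool.and_eq_true] at hc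
    rintro π (rfl | rfl)
    · obtain ⟨σ, hσ, h⟩ := exists_aut_of_extB hc.2
      refine ⟨σ, hσ, fun i => Fin.ext ?_⟩
      rw [show (E i).1 = Fin.ofNat 21 (hs.getD i.val 0) from rfl, h i.val i.isLt,
        show (E (finRotate (4 + 2) i)).1 = Fin.ofNat 21 (hs.getD (finRotate (4 + 2) i).val 0) from rfl, hval]
      fin_cases i <;> rfl
    · obtain ⟨σ, hσ, h⟩ := exists_aut_of_extB hc.1
      refine ⟨σ, hσ, fun i => Fin.ext ?_⟩
      rw [show (E i).1 = Fin.ofNat 21 (hs.getD i.val 0) from rfl, h i.val i.isLt,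
        show (E (Equiv.swap (0 : Fin (4 + 2)) (finRotate (4 + 2) 0) i)).1 =
          Fin.ofNat 21 (hs.getD (Equiv.swap (0 : Fin (4 + 2)) (finRotate (4 + 2) 0) i).val 0) from rfl, hval]
      fin_cases i <;> rfl
  obtain ⟨g, hg, hgτ⟩ : (E.trans τ).trans E.symm ∈ K := hK ▸ Subgroup.mem_top _
  have hgp : ∀ p : ↥(lset21 m), g p = τ p := fun p => by
    have := hgτ (E.symm p)
    simpa using this
  refine ⟨g, ⟨hg, hgp⟩, fun g' hg' => ?_⟩
  have hmem : g⁻¹ * g' ∈ setSystemAut plane21 := mul_mem (inv_mem hg) hg'.1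
  have hfix : ∀ p ∈ lset21 m, (g⁻¹ * g') p = p := fun p hp => by
    rw [Equiv.Perm.mul_apply, hg'.2 ⟨p, hp⟩, ← hgp ⟨p, hp⟩, Equiv.Perm.inv_def,
      Equiv.symm_apply_apply]
  suffices h : g⁻¹ * g' = 1 by rw [← inv_mul_eq_one.1 h]
  set u := g⁻¹ * g'
  have hsec : ∀ l ∈ lines21, pcnt (Nat.land l m) = 2 → u • lset21 l = lset21 l := by
    intro l hl h2
    rw [← card_line_inter hl] at h2
    obtain ⟨a, b, hab, he⟩ := card_eq_two.1 h2
    have haI : a ∈ lset21 l ∩ lset21 m := by simp [he]
    have hbI : b ∈ lset21 l ∩ lset21 m := by simp [he]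
    obtain ⟨l', hl', hl'e⟩ := smul_mem_of_setSystemAut hmem ⟨l, hl, rfl⟩
    obtain ⟨haU, hbU⟩ : a ∈ u • lset21 l ∧ b ∈ u • lset21 l :=
      ⟨mem_image.2 ⟨a, (mem_inter.1 haI).1, hfix a (mem_inter.1 haI).2⟩,
        mem_image.2 ⟨b, (mem_inter.1 hbI).1, hfix b (mem_inter.1 hbI).2⟩⟩
    rw [← hl'e] at haU hbU ⊢
    by_contra hne
    have h2' : 2 ≤ (lset21 l' ∩ lset21 l).card := by
      rw [← card_pair hab]
      exact card_le_card (by simp [insert_subset_iff, haU, hbU, (mem_inter.1 haI).1, (mem_inter.1 hbI).1])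
    have hone : ∀ a ∈ lines21, ∀ b ∈ lines21, a = b ∨ pcnt (Nat.land a b) = 1 := by decide +kernel
    rcases hone l' hl' l hl with rfl | h1
    · exact hne rfl
    · rw [card_line_inter hl', h1] at h2'; omega
  refine Equiv.ext fun p => ?_
  by_cases hp : p ∈ lset21 m
  · exact hfix p hp
  have hx := List.all_eq_true.1 (List.all_eq_true.1 exterior_check m hm) p.val (List.mem_range.2 p.isLt)
  rw [Bool.or_eq_true, Nat.ble_eq] at hx
  replace hx := hx.resolve_left fun h => hp (mem_lset21.2 h)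
  set F := lines21.filter fun l => l.testBit p.val && Nat.beq (pcnt (Nat.land l m)) 2
  have hF : F.Nodup := lines21_facts.1.filter _
  obtain ⟨a, ha, b, hb, hab⟩ : ∃ a ∈ F, ∃ b ∈ F, a ≠ b :=
    ⟨F[0], List.getElem_mem _, F[1], List.getElem_mem _, fun h => absurd (hF.getElem_inj_iff.1 h) (by norm_num)⟩
  simp only [F, List.mem_filter, Bool.and_eq_true, Nat.beq_eq] at ha hb
  have hone : ∀ a ∈ lines21, ∀ b ∈ lines21, a = b ∨ pcnt (Nat.land a b) = 1 := by decide +kernel
  have h1 : (lset21 a ∩ lset21 b).card = 1 := by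
    rw [card_line_inter ha.1]
    exact (hone a ha.1 b hb.1).resolve_left hab
  refine card_le_one.1 h1.le (u p) ?_ p (mem_inter.2 ⟨mem_lset21.2 ha.2.1, mem_lset21.2 hb.2.1⟩)
  rw [mem_inter, ← hsec a ha.1 ha.2.2, ← hsec b hb.1 hb.2.2]
  exact ⟨mem_image.2 ⟨p, mem_lset21.2 ha.2.1, rfl⟩, mem_image.2 ⟨p, mem_lset21.2 hb.2.1, rfl⟩⟩

variable {α : Type*} [Fintype α] [DecidableEq α]

theorem isArcIn_image {β : Type*} [DecidableEq β] (e : α ≃ β) {L : Set (Finset α)} {L' : Set (Finset β)}
    (he : (fun b => b.image e) '' L = L') (S : Finset α) : IsArcIn L' (S.image e) ↔ IsArcIn L S := by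
  subst he
  simp only [IsArcIn, Set.forall_mem_image, ← image_inter _ _ e.injective, card_image_of_injective _ e.injective]

/-- Arcs and hyperovals of an S(2, 5, 21). -/
theorem plane_arcs (hα : Fintype.card α = 21) {L : Set (Finset α)} (hL : IsSteinerSystem 2 5 L) :
    {S : Finset α | S.card = 4 ∧ IsArcIn L S}.ncard = 2520 ∧
    {H : Finset α | H.card = 6 ∧ IsArcIn L H}.ncard = 168 ∧
    ∀ S : Finset α, (S.card = 4 ∧ IsArcIn L S) →
      ∃! H : Finset α, (H.card = 6 ∧ IsArcIn L H) ∧ S ⊆ H := by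
  obtain ⟨e, he⟩ := plane_model hα hL
  have hiff : ∀ k (S : Finset α), ((S.image e).card = k ∧ IsArcIn plane21 (S.image e)) ↔ (S.card = k ∧ IsArcIn L S) :=
    fun k S => by rw [card_image_of_injective _ e.injective, isArcIn_image e he]
  have hsurj : ∀ T : Finset (Fin 21), (T.image e.symm).image e = T := fun T => by
    rw [image_image]; simp [Function.comp_def]
  have hn : ∀ k, {S : Finset α | S.card = k ∧ IsArcIn L S}.ncard =
      {T : Finset (Fin 21) | T.card = k ∧ IsArcIn plane21 T}.ncard := fun k => by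
    rw [← Set.ncard_image_of_injective _ (image_injective e.injective)]
    congr 1
    ext T
    constructor
    · rintro ⟨S, hS, rfl⟩; exact (hiff k S).2 hS
    · intro hT
      exact ⟨T.image e.symm, (hiff k _).1 (by rwa [hsurj]), hsurj T⟩
  refine ⟨(hn 4).trans plane21_arcs.1, (hn 6).trans plane21_arcs.2.1, fun S hS => ?_⟩
  obtain ⟨T, ⟨hT, hST⟩, hu⟩ := plane21_arcs.2.2 _ ((hiff 4 S).2 hS)
  refine ⟨T.image e.symm, ⟨(hiff 6 _).1 (by rwa [hsurj]), ?_⟩, fun H hH => ?_⟩
  · rw [← image_subset_image_iff e.injective, hsurj]; exact hST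
  · apply image_injective e.injective
    rw [hsurj]
    exact hu _ ⟨(hiff 6 H).2 hH.1, image_subset_image hH.2⟩

/-- Permutations of a hyperoval extend uniquely. -/
theorem plane_extend (hα : Fintype.card α = 21) {L : Set (Finset α)} (hL : IsSteinerSystem 2 5 L)
    {H : Finset α} (h6 : H.card = 6) (ha : IsArcIn L H) (τ : Equiv.Perm ↥H) :
    ∃! g : Equiv.Perm α, g ∈ setSystemAut L ∧ ∀ p : ↥H, g p = τ p := by
  obtain ⟨e, he⟩ := plane_model hα hL
  let f : ↥H ≃ ↥(H.image e) := Equiv.ofBijective (fun p => ⟨e p, mem_image_of_mem _ p.2⟩)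
    ⟨fun p q h => Subtype.ext (e.injective (congrArg Subtype.val h)), fun q => by
      obtain ⟨p, hp, hpq⟩ := mem_image.1 q.2
      exact ⟨⟨p, hp⟩, Subtype.ext hpq⟩⟩
  have hf : ∀ p, (f p).1 = e p := fun _ => rfl
  obtain ⟨g, ⟨hg, hgf⟩, hu⟩ := plane21_extend (H := H.image e) (by rw [card_image_of_injective _ e.injective, h6])
    ((isArcIn_image e he H).2 ha) (f.permCongr τ)
  refine ⟨e.symm.permCongr g, ⟨?_, fun p => ?_⟩, fun g' hg' => ?_⟩
  · rw [mem_setSystemAut_congr e he]
    convert hg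
    exact Equiv.ext fun x => by simp
  · have := hgf (f p)
    simp only [Equiv.permCongr_apply, Equiv.symm_apply_apply, hf] at this
    simp [this]
  · have := hu (e.permCongr g') ⟨(mem_setSystemAut_congr e he g').1 hg'.1, fun q => ?_⟩
    · rw [← this]; exact Equiv.ext fun x => by simp
    · obtain ⟨p, rfl⟩ := f.surjective q
      simp [Equiv.permCongr_apply, hf, hg'.2 p]

end Cfsg.Lib.Concrete
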