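import Mathlib

/-!
A simplicity criterion from a simple subgroup containing the normaliser of a subgroup of large prime order.
-/

set_option autoImplicit false

namespace Cfsg.Lib.Concrete

open scoped Pointwise

/-- An invariant integer function sums to a multiple of `p` over the moved points of a permutation of order `p`. -/
theorem dvd_sum_moved {α : Type*} [Fintype α] [DecidableEq α] {p : ℕ} [Fact p.Prime] (x : Equiv.Perm α)
    (hx : x ^ p = 1) (s : Finset α) (hs : ∀ i, i ∈ s ↔ x i ≠ i) (f : α → ℤ) (hf : ∀ i, f (x i) = f i) :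
    (p : ℤ) ∣ ∑ i ∈ s, f i := by
  rw [Finset.sum_comp (fun c => c) f]
  refine Finset.dvd_sum fun c _ => ?_
  rw [nsmul_eq_mul]
  refine Dvd.dvd.mul_right (Int.natCast_dvd_natCast.2 ?_) _
  set t := s.filter fun i => f i = c
  have ht : ∀ i, x i ∈ t ↔ i ∈ t := fun i => by
    simp only [t, Finset.mem_filter, hs, hf, ne_eq, EmbeddingLike.apply_eq_iff_eq]
  set σ : Equiv.Perm {i // i ∈ t} := x.subtypePerm ht
  have hσ : σ ^ p ^ 1 = 1 := by
    rw [pow_one, show σ ^ p = (x ^ p).subtypePerm fun i => by rw [hx]; rfl from Equiv.Perm.subtypePerm_pow ..]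
    refine Equiv.ext fun i => Subtype.ext ?_
    show (x ^ p) i.1 = i.1
    rw [hx]; rfl
  have h := Equiv.Perm.card_compl_support_modEq hσ
  have he : σ.supportᶜ = ∅ := Finset.eq_empty_of_forall_notMem fun i hi => by
    rw [Finset.mem_compl, Equiv.Perm.mem_support, not_not] at hi
    exact (hs i.1).1 (Finset.mem_filter.1 i.2).1 (congrArg Subtype.val hi)
  rw [he, Finset.card_empty, Fintype.card_coe] at h
  exact (Nat.modEq_zero_iff_dvd).1 h.symm

/-- A bound on exponents of prime powers dividing a product. -/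
theorem exp_le_of_dvd {q k M c : ℕ} (h : q ^ k ∣ M) (hc : ¬ q ^ (c + 1) ∣ M) : k ≤ c := by
  by_contra hlt
  exact hc ((pow_dvd_pow q (by omega : c + 1 ≤ k)).trans h)

/-- If a simple subgroup contains the normaliser of a subgroup of order `p`, with `p²` not dividing the group
order, a proper normal subgroup has order dividing the index with every Sylow order congruent to one modulo `p`. -/
theorem normal_dichotomy {G : Type*} [Group G] [Finite G] (K : Subgroup G) [IsSimpleGroup K] {p : ℕ}
    [hp : Fact p.Prime] (x : G) (hx : orderOf x = p) (hp2 : ¬ p ^ 2 ∣ Nat.card G)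
    (hN : ∀ g : G, g * x * g⁻¹ ∈ Subgroup.zpowers x → g ∈ K) (N : Subgroup G) [hNn : N.Normal] :
    N = ⊤ ∨ Nat.card N ∣ K.index ∧ ∀ q : ℕ, q.Prime → ∀ P : Sylow q N, Nat.card (P : Subgroup N) % p = 1 := by
  have hxK : x ∈ K := hN x (by rw [mul_inv_cancel_right]; exact Subgroup.mem_zpowers x)
  have hzc : Nat.card (Subgroup.zpowers x) = p := by rw [Nat.card_zpowers, hx]
  have hinf : N ⊓ K = ⊥ ∨ K ≤ N := by
    haveI : (N.subgroupOf K).Normal := hNn.subgroupOf K
    rcases (inferInstance : (N.subgroupOf K).Normal).eq_bot_or_eq_top with h | h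
    · left; rwa [Subgroup.subgroupOf_eq_bot, disjoint_iff] at h
    · right; rwa [Subgroup.subgroupOf_eq_top] at h
  rcases hinf with hb | hKN
  · right
    have hnd : ¬ p ∣ Nat.card N := fun hd => by
      obtain ⟨y, hy⟩ := exists_prime_orderOf_dvd_card' p hd
      have hyG : orderOf (y : G) = p := by rw [Subgroup.orderOf_coe, hy]
      have hsy : ∀ a : G, orderOf a = p → ∃ P : Sylow p G, (P : Subgroup G) = Subgroup.zpowers a := fun a ha =>
        ⟨Sylow.ofCard (Subgroup.zpowers a) (by
          rw [Nat.card_zpowers, ha]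
          have h1 : p ∣ Nat.card G := ha ▸ orderOf_dvd_natCard a
          have hf : (Nat.card G).factorization p = 1 := by
            have hne : Nat.card G ≠ 0 := Nat.card_pos.ne'
            have l1 := (hp.out.pow_dvd_iff_le_factorization hne (k := 1)).1 (by simpa using h1)
            have l2 := mt (hp.out.pow_dvd_iff_le_factorization hne (k := 2)).2 hp2
            omega
          rw [hf, pow_one]), rfl⟩
      obtain ⟨P, hP⟩ := hsy x hx
      obtain ⟨P', hP'⟩ := hsy y hyG
      obtain ⟨g, hg⟩ := MulAction.exists_smul_eq G P' P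
      have hx' : x ∈ ((g • P' : Sylow p G) : Subgroup G) := by rw [hg, hP]; exact Subgroup.mem_zpowers x
      rw [Sylow.coe_subgroup_smul, hP', Subgroup.mem_pointwise_smul_iff_inv_smul_mem] at hx'
      obtain ⟨k, hk⟩ := hx'
      have hk' : (y : G) ^ k = g⁻¹ * x * g := by simpa [MulAut.smul_def] using hk
      have : x ∈ N := by
        have := hNn.conj_mem _ (N.zpow_mem y.2 k) g
        rwa [hk', show g * (g⁻¹ * x * g) * g⁻¹ = x by group] at this
      have hx1 : x ∈ N ⊓ K := ⟨this, hxK⟩
      rw [hb, Subgroup.mem_bot] at hx1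
      rw [hx1, orderOf_one] at hx
      exact hp.out.one_lt.ne hx
    refine ⟨?_, fun q hq P => ?_⟩
    · have h1 : Nat.card (↑(N ⊔ K) : Set G) = Nat.card N * Nat.card K := by
        rw [Subgroup.normal_mul]
        exact (Nat.card_congr (Equiv.ofBijective
          (fun a : N × K => (⟨(a.1 : G) * a.2, Set.mul_mem_mul a.1.2 a.2.2⟩ : ((N : Set G) * (K : Set G) : Set G)))
          ⟨fun a b e => Subgroup.mul_injective_of_disjoint (disjoint_iff.2 hb) (congrArg Subtype.val e),
            fun ⟨_, n, hn, k, hk, e⟩ => ⟨(⟨n, hn⟩, ⟨k, hk⟩), Subtype.ext e⟩⟩)).symm.trans (Nat.card_prod _ _)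
      have h2 : Nat.card N * Nat.card K ∣ Nat.card G := h1 ▸ Subgroup.card_subgroup_dvd_card (N ⊔ K)
      rw [← Subgroup.card_mul_index K, mul_comm (Nat.card N)] at h2
      exact Nat.dvd_of_mul_dvd_mul_left Nat.card_pos h2
    · haveI : Fact q.Prime := ⟨hq⟩
      letI act : MulDistribMulAction (Subgroup.zpowers x) N :=
        MulDistribMulAction.compHom N ((MulAut.conjNormal : G →* MulAut N).comp (Subgroup.zpowers x).subtype)
      have hpx : IsPGroup p (Subgroup.zpowers x) := IsPGroup.of_card (n := 1) (by rw [hzc, pow_one])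
      have hcount : ¬ p ∣ Nat.card (Sylow q N) := fun h => hnd (h.trans (Sylow.card_dvd_index (default : Sylow q N) |>.trans
        (Subgroup.index_dvd_card _)))
      obtain ⟨P₀, hP₀⟩ := hpx.nonempty_fixed_point_of_prime_not_dvd_card (Sylow q N) hcount
      rw [Nat.card_congr (P.equiv P₀).toEquiv]
      have hstab : ∀ (a : Subgroup.zpowers x) (n : N), n ∈ P₀ → a • n ∈ P₀ := fun a n hn => by
        have := Subgroup.smul_mem_pointwise_smul n a (P₀ : Subgroup N) hn
        rwa [← Sylow.pointwise_smul_def, hP₀ a] at this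
      letI : MulAction (Subgroup.zpowers x) (P₀ : Subgroup N) :=
        { smul := fun a n => ⟨a • n.1, hstab a n.1 n.2⟩
          one_smul := fun n => Subtype.ext (one_smul _ n.1)
          mul_smul := fun a b n => Subtype.ext (mul_smul a b n.1) }
      have h := hpx.card_modEq_card_fixedPoints (P₀ : Subgroup N)
      have hfix : MulAction.fixedPoints (Subgroup.zpowers x) (P₀ : Subgroup N) = {1} := by
        ext n
        refine ⟨fun hn => ?_, ?_⟩
        · have h1 : x * ((n : N) : G) * x⁻¹ = ((n : N) : G) :=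
            congrArg (fun m : (P₀ : Subgroup N) => ((m : N) : G)) (hn ⟨x, Subgroup.mem_zpowers x⟩)
          have h2 : ((n : N) : G) * x * ((n : N) : G)⁻¹ ∈ Subgroup.zpowers x := by
            have e : ((n : N) : G) * x = x * ((n : N) : G) := (mul_inv_eq_iff_eq_mul.1 h1).symm
            rw [e, mul_inv_cancel_right]; exact Subgroup.mem_zpowers x
          have h3 : ((n : N) : G) ∈ N ⊓ K := ⟨(n : N).2, hN _ h2⟩
          rw [hb, Subgroup.mem_bot] at h3
          exact Subtype.ext (Subtype.ext h3)
        · rintro rfl a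
          exact Subtype.ext (smul_one a)
      rw [hfix, Nat.card_coe_set_eq, Set.ncard_singleton] at h
      rw [Nat.ModEq, Nat.one_mod_eq_one.2 hp.out.one_lt.ne'] at h
      exact h
  · left
    refine eq_top_iff.2 fun g _ => ?_
    have hxN := hKN hxK
    set y : N := ⟨g * x * g⁻¹, hNn.conj_mem x hxN g⟩
    have hfac : (Nat.card N).factorization p = 1 := by
      have hne : Nat.card N ≠ 0 := Nat.card_pos.ne'
      have h1 : p ∣ Nat.card N := hx ▸ Subgroup.orderOf_mk (H := N) x hxN ▸ orderOf_dvd_natCard (⟨x, hxN⟩ : N)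
      have l1 := (hp.out.pow_dvd_iff_le_factorization hne (k := 1)).1 (by simpa using h1)
      have l2 := mt (hp.out.pow_dvd_iff_le_factorization hne (k := 2)).2
        fun h => hp2 (h.trans (Subgroup.card_subgroup_dvd_card N))
      omega
    have hy : orderOf y = p := by
      rw [← Subgroup.orderOf_coe, show (y : G) = MulAut.conj g x from rfl, MulEquiv.orderOf_eq, hx]
    have hx' : orderOf (⟨x, hxN⟩ : N) = p := by rw [Subgroup.orderOf_mk, hx]
    obtain ⟨n, hn⟩ := MulAction.exists_smul_eq N (Sylow.ofCard (Subgroup.zpowers y) (by rw [Nat.card_zpowers, hy, hfac, pow_one]))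
      (Sylow.ofCard (Subgroup.zpowers (⟨x, hxN⟩ : N)) (by rw [Nat.card_zpowers, hx', hfac, pow_one]))
    have hm : n * y * n⁻¹ ∈ Subgroup.zpowers (⟨x, hxN⟩ : N) := by
      have h1 := congrArg (fun P : Sylow p N => (P : Subgroup N)) hn
      simp only [Sylow.coe_subgroup_smul, Sylow.coe_ofCard] at h1
      rw [← h1, Subgroup.mem_pointwise_smul_iff_inv_smul_mem]
      convert Subgroup.mem_zpowers y using 1
      simp [MulAut.smul_def, mul_assoc]
    obtain ⟨k, hk⟩ := hm
    have h3 : ((n : G) * g) * x * ((n : G) * g)⁻¹ ∈ Subgroup.zpowers x := by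
      refine ⟨k, ?_⟩
      have := congrArg Subtype.val hk
      simp only [Subgroup.coe_zpow, Subgroup.coe_mul, InvMemClass.coe_inv, y] at this
      rw [show ((n : G) * g) * x * ((n : G) * g)⁻¹ = (n : G) * (g * x * g⁻¹) * (n : G)⁻¹ by group]
      exact this
    have := mul_mem (inv_mem n.2) (hKN (hN _ h3))
    rwa [inv_mul_cancel_left] at this

end Cfsg.Lib.Concrete
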