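import Cfsg.Agent.Lib.Concrete.Mathieu

/-!
The subgroups 23:11 of M23 and L2(23) of M24: orders and maximality.
-/

set_option autoImplicit false
set_option maxRecDepth 20000

namespace Cfsg.Lib.Concrete

open scoped Pointwise
open MulAction

instance factPrime23 : Fact (Nat.Prime 23) := ⟨by norm_num⟩

/-- The generators of 23:11. -/
def borelGens : Set (Equiv.Perm GolayPt) :=
  {Equiv.optionCongr (Equiv.addRight (1 : ZMod 23))} ∪
    {g : Equiv.Perm GolayPt | ∃ u : (ZMod 23)ˣ, IsSquare u ∧ g = Equiv.optionCongr (Units.mulLeft u)}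

/-- The generators of L2(23). -/
def lineGens : Set (Equiv.Perm GolayPt) :=
  {Equiv.optionCongr (Equiv.addRight (1 : ZMod 23)), projInv} ∪
    {g : Equiv.Perm GolayPt | ∃ u : (ZMod 23)ˣ, IsSquare u ∧ g = Equiv.optionCongr (Units.mulLeft u)}

/-- The affine map `x ↦ u x + c`. -/
def aff (u : (ZMod 23)ˣ) (c : ZMod 23) : Equiv.Perm GolayPt :=
  Equiv.optionCongr ((Units.mulLeft u).trans (Equiv.addRight c))

theorem aff_none (u : (ZMod 23)ˣ) (c : ZMod 23) : aff u c none = none := rfl

theorem aff_some (u : (ZMod 23)ˣ) (c x : ZMod 23) : aff u c (some x) = some ((u : ZMod 23) * x + c) := rfl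

theorem aff_mul (u v : (ZMod 23)ˣ) (c d : ZMod 23) : aff u c * aff v d = aff (u * v) ((u : ZMod 23) * d + c) := by
  refine Equiv.ext fun x => ?_
  rcases x with _ | x
  · rfl
  · rw [Equiv.Perm.mul_apply, aff_some, aff_some, aff_some, Units.val_mul]
    congr 1
    ring

theorem aff_one : aff 1 0 = 1 := by
  refine Equiv.ext fun x => ?_
  rcases x with _ | x
  · rfl
  · rw [aff_some]; simp

theorem aff_inj {u v : (ZMod 23)ˣ} {c d : ZMod 23} (h : aff u c = aff v d) : u = v ∧ c = d := by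
  have h0 := Equiv.congr_fun h (some 0)
  have h1 := Equiv.congr_fun h (some 1)
  simp only [aff_some, Option.some.injEq, mul_zero, zero_add, mul_one] at h0 h1
  exact ⟨Units.ext (add_right_cancel (h0 ▸ h1)), h0⟩

/-- The group 23:11 as the affine maps with square multiplier. -/
def borel23 : Subgroup (Equiv.Perm GolayPt) where
  carrier := {g | ∃ u c, IsSquare u ∧ g = aff u c}
  one_mem' := ⟨1, 0, IsSquare.one, aff_one.symm⟩
  mul_mem' := by
    rintro _ _ ⟨u, c, hu, rfl⟩ ⟨v, d, hv, rfl⟩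
    exact ⟨u * v, _, hu.mul hv, aff_mul u v c d⟩
  inv_mem' := by
    rintro _ ⟨u, c, hu, rfl⟩
    refine ⟨u⁻¹, -(((u⁻¹ : (ZMod 23)ˣ) : ZMod 23) * c), hu.inv, inv_eq_of_mul_eq_one_right ?_⟩
    rw [aff_mul, mul_inv_cancel, show (u : ZMod 23) * -((((u⁻¹ : (ZMod 23)ˣ) : ZMod 23)) * c) + c = 0 by
      rw [mul_neg, ← mul_assoc, Units.mul_inv, one_mul, neg_add_cancel], aff_one]

theorem mem_borel23 {g : Equiv.Perm GolayPt} : g ∈ borel23 ↔ ∃ u c, IsSquare u ∧ g = aff u c := Iff.rfl

theorem shift_eq_aff (c : ZMod 23) : Equiv.optionCongr (Equiv.addRight c) = aff 1 c := by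
  refine Equiv.ext fun x => ?_
  rcases x with _ | x
  · rfl
  · rw [aff_some]; simp

theorem mul_eq_aff (u : (ZMod 23)ˣ) : Equiv.optionCongr (Units.mulLeft u) = aff u 0 := by
  refine Equiv.ext fun x => ?_
  rcases x with _ | x
  · rfl
  · rw [aff_some]; simp

theorem aff_shift (c : ZMod 23) : ∀ n : ℕ, aff 1 c ^ n = aff 1 ((n : ZMod 23) * c) := by
  intro n
  induction n with
  | zero => rw [pow_zero, Nat.cast_zero, zero_mul, aff_one]
  | succ n ih =>
    rw [pow_succ, ih, aff_mul, one_mul, Units.val_one, one_mul]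
    congr 1
    push_cast
    ring

theorem closure_borelGens : Subgroup.closure borelGens = borel23 := by
  refine le_antisymm ((Subgroup.closure_le _).2 ?_) fun g hg => ?_
  · rintro g (rfl | ⟨u, hu, rfl⟩)
    · exact ⟨1, 1, IsSquare.one, shift_eq_aff 1⟩
    · exact ⟨u, 0, hu, mul_eq_aff u⟩
  · obtain ⟨u, c, hu, rfl⟩ := mem_borel23.1 hg
    rw [show aff u c = aff 1 1 ^ c.val * aff u 0 by
      rw [aff_shift, aff_mul, one_mul, Units.val_one, ZMod.natCast_zmod_val, mul_zero, mul_one, zero_add]]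
    exact mul_mem (pow_mem (Subgroup.subset_closure (k := borelGens) (Or.inl (shift_eq_aff 1).symm)) _)
      (Subgroup.subset_closure (Or.inr ⟨u, hu, (mul_eq_aff u).symm⟩))

theorem square_units : Nat.card {u : (ZMod 23)ˣ // IsSquare u} = 11 := by
  rw [Nat.card_congr (Equiv.subtypeEquivRight fun u : (ZMod 23)ˣ => (Iff.rfl : IsSquare u ↔ ∃ r, u = r * r))]
  rw [Nat.card_eq_fintype_card]
  decide +kernel

theorem card_borel23 : Nat.card borel23 = 253 := by
  let f : {u : (ZMod 23)ˣ // IsSquare u} × ZMod 23 → borel23 := fun p => ⟨aff p.1.1 p.2, p.1.1, p.2, p.1.2, rfl⟩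
  rw [← Nat.card_eq_of_bijective f ⟨fun p q h => ?_, fun g => ?_⟩, Nat.card_prod, square_units, Nat.card_zmod]
  · obtain ⟨h1, h2⟩ := aff_inj (congrArg Subtype.val h)
    exact Prod.ext (Subtype.ext h1) h2
  · obtain ⟨u, c, hu, he⟩ := mem_borel23.1 g.2
    exact ⟨(⟨u, hu⟩, c), Subtype.ext he.symm⟩

/-- Two, as a unit modulo 23. -/
def twoUnit : (ZMod 23)ˣ := ⟨2, 12, by decide, by decide⟩

theorem square_pow_two : ∀ u : (ZMod 23)ˣ, (∃ r, u = r * r) → ∃ j : Fin 11, u = twoUnit ^ j.val := by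
  decide +kernel

/-- The packed doubling map. -/
def twoPack : ℕ := (List.range 24).foldl (fun a i => a + (if i = 23 then 23 else 2 * i % 23) <<< (5 * i)) 0

theorem aff_two_mem : aff twoUnit 0 ∈ M24 :=
  rep_mem_M24 (p := twoPack) (by unfold Rep; decide +kernel) (by decide +kernel)

theorem aff_pow (u : (ZMod 23)ˣ) : ∀ n : ℕ, aff u 0 ^ n = aff (u ^ n) 0 := by
  intro n
  induction n with
  | zero => rw [pow_zero, pow_zero, aff_one]
  | succ n ih => rw [pow_succ, ih, aff_mul, mul_zero, add_zero, pow_succ]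

theorem borel23_le : borel23 ≤ M24 := by
  rw [← closure_borelGens, Subgroup.closure_le]
  rintro g (rfl | ⟨u, hu, rfl⟩)
  · exact mShift_mem
  · obtain ⟨j, rfl⟩ := square_pow_two u hu
    rw [mul_eq_aff, ← aff_pow]
    exact pow_mem aff_two_mem _

theorem borel23_fix {g : Equiv.Perm GolayPt} (hg : g ∈ borel23) : g none = none := by
  obtain ⟨u, c, -, rfl⟩ := mem_borel23.1 hg
  rfl

theorem inv_pow_21 : ∀ x : ZMod 23, x ≠ 0 → x * x ^ 21 = 1 := by decide +kernel

theorem projInv_some {x : ZMod 23} (hx : x ≠ 0) : projInv (some x) = some (-x⁻¹) := by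
  have h : x ^ 21 = x⁻¹ := by
    have : Fact (Nat.Prime 23) := ⟨by norm_num⟩
    exact eq_inv_of_mul_eq_one_right (inv_pow_21 x hx)
  show projInvFun (some x) = _
  rw [projInvFun, if_neg hx, h]

theorem projInv_zero : projInv (some 0) = none := rfl

theorem projInv_none : projInv none = some 0 := rfl

theorem projInv_sq : projInv * projInv = 1 := Equiv.ext fun x => projInv.left_inv x

theorem aff_projInv {u : (ZMod 23)ˣ} (k c : ZMod 23) :
    aff u c * (aff 1 k * projInv) = aff 1 ((u : ZMod 23) * k + c) * projInv * aff u⁻¹ 0 := by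
  have : Fact (Nat.Prime 23) := ⟨by norm_num⟩
  refine Equiv.ext fun x => ?_
  rcases x with _ | x
  · simp only [Equiv.Perm.mul_apply, aff_none, projInv_none, aff_some, Units.val_one, one_mul, zero_add]
  rcases eq_or_ne x 0 with rfl | hx
  · simp only [Equiv.Perm.mul_apply, aff_some, projInv_zero, aff_none, mul_zero, add_zero]
  · have hu : ((u⁻¹ : (ZMod 23)ˣ) : ZMod 23) * x ≠ 0 := mul_ne_zero (Units.ne_zero _) hx
    simp only [Equiv.Perm.mul_apply, aff_some, projInv_some hx, add_zero, projInv_some hu, Units.val_one, one_mul]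
    rw [mul_inv, Units.val_inv_eq_inv_val, inv_inv]
    congr 1
    ring

theorem projInv_shift_projInv {k : ZMod 23} (hk : k ≠ 0) :
    projInv * (aff 1 k * projInv) = aff 1 (-k⁻¹) * projInv * aff (Units.mk0 (k * k) (mul_self_ne_zero.2 hk)) (-k) := by
  have : Fact (Nat.Prime 23) := ⟨by norm_num⟩
  refine Equiv.ext fun x => ?_
  rcases x with _ | x
  · simp [Equiv.Perm.mul_apply, aff_none, aff_some, projInv_none, projInv_some hk]
  rcases eq_or_ne x 0 with rfl | hx
  · have hnk : -k ≠ 0 := neg_ne_zero.2 hk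
    simp [Equiv.Perm.mul_apply, aff_some, projInv_zero, aff_none, projInv_none, projInv_some hnk, inv_neg]
  · simp only [Equiv.Perm.mul_apply, aff_some, projInv_some hx, Units.val_one, one_mul, Units.val_mk0]
    rcases eq_or_ne (k * x) 1 with h1 | h1
    · rw [show -x⁻¹ + k = 0 by rw [inv_eq_of_mul_eq_one_left h1]; ring,
        show k * k * x + -k = 0 by rw [mul_assoc, h1]; ring, projInv_zero, aff_none]
    · have e1 : -x⁻¹ + k ≠ 0 := fun h => h1 (by
        rw [show k = x⁻¹ by linear_combination h, inv_mul_cancel₀ hx])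
      have e2 : k * k * x + -k ≠ 0 := fun h => h1 (mul_left_cancel₀ hk (by linear_combination h))
      rw [projInv_some e1, projInv_some e2, aff_some, Units.val_one, one_mul]
      congr 1
      rw [show k * k * x + -k = k * x * (-x⁻¹ + k) by
        linear_combination -k * (inv_mul_cancel₀ hx) * (-1 : ZMod 23)]
      generalize hd : -x⁻¹ + k = d at e1
      field_simp
      rw [← hd]
      field_simp
      ring

theorem closure_lineGens_sub : ∀ g ∈ Subgroup.closure lineGens,
    g ∈ borel23 ∨ ∃ k, ∃ b ∈ borel23, g = aff 1 k * projInv * b := by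
  have hleft : ∀ s ∈ borel23, ∀ g, (g ∈ borel23 ∨ ∃ k, ∃ b ∈ borel23, g = aff 1 k * projInv * b) →
      (s * g ∈ borel23 ∨ ∃ k, ∃ b ∈ borel23, s * g = aff 1 k * projInv * b) := by
    rintro s hs g (hg | ⟨k, b, hb, rfl⟩)
    · exact Or.inl (mul_mem hs hg)
    · obtain ⟨u, c, hu, rfl⟩ := mem_borel23.1 hs
      refine Or.inr ⟨(u : ZMod 23) * k + c, aff u⁻¹ 0 * b, mul_mem ⟨u⁻¹, 0, hu.inv, rfl⟩ hb, ?_⟩
      rw [← mul_assoc (aff u c), aff_projInv, mul_assoc]
  have hw : ∀ g, (g ∈ borel23 ∨ ∃ k, ∃ b ∈ borel23, g = aff 1 k * projInv * b) →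
      (projInv * g ∈ borel23 ∨ ∃ k, ∃ b ∈ borel23, projInv * g = aff 1 k * projInv * b) := by
    rintro g (hg | ⟨k, b, hb, rfl⟩)
    · exact Or.inr ⟨0, g, hg, by rw [aff_one, one_mul]⟩
    rcases eq_or_ne k 0 with rfl | hk
    · refine Or.inl ?_
      rw [aff_one, one_mul, ← mul_assoc, projInv_sq, one_mul]
      exact hb
    · refine Or.inr ⟨-k⁻¹, aff (Units.mk0 (k * k) (mul_self_ne_zero.2 hk)) (-k) * b,
        mul_mem ⟨_, _, ⟨Units.mk0 k hk, by ext; simp⟩, rfl⟩ hb, ?_⟩
      rw [← mul_assoc projInv, projInv_shift_projInv hk, mul_assoc]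
  have hgen : ∀ s ∈ lineGens, s ∈ borel23 ∨ s = projInv := by
    rintro s ((rfl | rfl) | ⟨u, hu, rfl⟩)
    · exact Or.inl ⟨1, 1, IsSquare.one, shift_eq_aff 1⟩
    · exact Or.inr rfl
    · exact Or.inl ⟨u, 0, hu, mul_eq_aff u⟩
  intro g hg
  induction hg using Subgroup.closure_induction_left with
  | one => exact Or.inl (one_mem _)
  | mul_left s hs g _ ih =>
    rcases hgen s hs with h | rfl
    · exact hleft s h g ih
    · exact hw g ih
  | inv_mul_cancel s hs g _ ih =>
    rcases hgen s hs with h | rfl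
    · exact hleft _ (inv_mem h) g ih
    · rw [inv_eq_of_mul_eq_one_right projInv_sq]; exact hw g ih

theorem borel23_le_line : borel23 ≤ Subgroup.closure lineGens := by
  rw [← closure_borelGens]
  refine Subgroup.closure_mono ?_
  rintro g (rfl | h)
  · exact Or.inl (Or.inl rfl)
  · exact Or.inr h

theorem line_le_M24 : Subgroup.closure lineGens ≤ M24 := by
  rw [Subgroup.closure_le]
  rintro g ((rfl | rfl) | h)
  · exact mShift_mem
  · exact projInv_mem
  · exact borel23_le (closure_borelGens ▸ Subgroup.subset_closure (Or.inr h))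

theorem line_stab_eq {g : Equiv.Perm GolayPt} (hg : g ∈ Subgroup.closure lineGens) (h : g none = none) :
    g ∈ borel23 := by
  rcases closure_lineGens_sub g hg with hb | ⟨k, b, hb, rfl⟩
  · exact hb
  · rw [Equiv.Perm.mul_apply, Equiv.Perm.mul_apply, borel23_fix hb, projInv_none, aff_some] at h
    exact absurd h (Option.some_ne_none _)

theorem line_transitive (p : GolayPt) : ∃ g ∈ Subgroup.closure lineGens, g none = p := by
  rcases p with _ | x
  · exact ⟨1, one_mem _, rfl⟩
  · refine ⟨aff 1 x * projInv, mul_mem (borel23_le_line ⟨1, x, IsSquare.one, rfl⟩)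
      (Subgroup.subset_closure (Or.inl (Or.inr rfl))), ?_⟩
    simp [Equiv.Perm.mul_apply, projInv_none, aff_some]

/-- A transitive group is 24 times as large as a point stabiliser. -/
theorem card_transitive (H : Subgroup (Equiv.Perm GolayPt)) (ht : ∀ p, ∃ g ∈ H, g none = p) :
    Nat.card H = 24 * Nat.card ↥(H ⊓ stabilizer (Equiv.Perm GolayPt) (none : GolayPt)) := by
  have horb : orbit H (none : GolayPt) = Set.univ := Set.eq_univ_of_forall fun p => by
    obtain ⟨g, hg, he⟩ := ht p
    exact ⟨⟨g, hg⟩, he⟩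
  have h1 : (stabilizer H (none : GolayPt)).index = 24 := by
    rw [MulAction.index_stabilizer, horb, Set.ncard_univ, nat_card_golayPt]
  rw [← Subgroup.card_mul_index (stabilizer H (none : GolayPt)), h1, mul_comm]
  congr 1
  exact Nat.card_congr ⟨fun g => ⟨g.1.1, g.1.2, g.2⟩, fun g => ⟨⟨g.1, g.2.1⟩, g.2.2⟩, fun _ => rfl, fun _ => rfl⟩

theorem line_inf_stab : Subgroup.closure lineGens ⊓ stabilizer (Equiv.Perm GolayPt) (none : GolayPt) = borel23 :=
  le_antisymm (fun _ hg => line_stab_eq hg.1 hg.2) fun _ hg => ⟨borel23_le_line hg, borel23_fix hg⟩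

theorem card_line : Nat.card ↥(Subgroup.closure lineGens) = 6072 := by
  rw [card_transitive _ line_transitive, line_inf_stab, card_borel23]

/-- The packed negation map. -/
def negPack : ℕ := (List.range 24).foldl (fun a i => a + (if i = 23 then 23 else (23 - i) % 23) <<< (5 * i)) 0

theorem aff_neg_notMem : aff (-1) 0 ∉ M24 := by
  intro h
  have hr : Rep (aff (-1) 0) negPack := by unfold Rep; decide +kernel
  obtain ⟨b, hb, hno⟩ : ∃ b ∈ basisMasks, isCode (pimg negPack b) = false ∧ pimg negPack b < 2 ^ 24 ∧ isCode b = true ∧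
      b < 2 ^ 24 := by decide +kernel
  have hs := mem_M24_iff.1 h (mset b) ((mset_mem_supports_iff hno.2.2.2).2 hno.2.2.1)
  rw [hr.smul_mset, mset_mem_supports_iff hno.2.1, hno.1] at hs
  exact Bool.noConfusion hs

theorem unit_square_or_neg : ∀ u : (ZMod 23)ˣ, (∃ r, u = r * r) ∨ ∃ r, -u = r * r := by decide +kernel

/-- An element of M24 normalising the shifts and fixing the extra point lies in 23:11. -/
theorem normalizer_shift {g : Equiv.Perm GolayPt} (hg : g ∈ M24) (h0 : g none = none)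
    (hn : ∀ n : ℕ, ∃ m : ℕ, g * aff 1 1 ^ n * g⁻¹ = aff 1 1 ^ m) : g ∈ borel23 := by
  obtain ⟨m, hm⟩ := hn 1
  rw [pow_one, aff_shift, mul_one, mul_inv_eq_iff_eq_mul] at hm
  have hstep : ∀ x : ZMod 23, g (some (x + 1)) = aff 1 (m : ZMod 23) (g (some x)) := fun x => by
    have := Equiv.congr_fun hm (some x)
    simpa [Equiv.Perm.mul_apply, aff_some] using this
  obtain ⟨c, hc⟩ : ∃ c, g (some 0) = some c := Option.ne_none_iff_exists'.1 fun h =>
    Option.some_ne_none _ (g.injective (h.trans h0.symm))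
  have hlin : ∀ n : ℕ, g (some (n : ZMod 23)) = some ((m : ZMod 23) * n + c) := by
    intro n
    induction n with
    | zero => simpa using hc
    | succ n ih =>
      rw [Nat.cast_succ, hstep, ih, aff_some, Units.val_one, one_mul]
      congr 1
      ring
  have hm0 : (m : ZMod 23) ≠ 0 := fun h => by
    have h1 := hlin 1
    have h2 := hlin 0
    rw [h, zero_mul] at h1 h2
    have := g.injective (h1.trans h2.symm)
    simp at this
  have : Fact (Nat.Prime 23) := ⟨by norm_num⟩
  have hga : g = aff (Units.mk0 _ hm0) c := by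
    refine Equiv.ext fun x => ?_
    rcases x with _ | x
    · exact h0
    · rw [aff_some, Units.val_mk0, ← ZMod.natCast_zmod_val x, hlin]
  rcases unit_square_or_neg (Units.mk0 _ hm0) with h | h
  · exact ⟨_, c, h, hga⟩
  · exfalso
    apply aff_neg_notMem
    have hb : aff (-Units.mk0 _ hm0) (-c) ∈ M24 := borel23_le ⟨_, _, h, rfl⟩
    have hprod := mul_mem hg (inv_mem hb)
    have hb' : (aff (-Units.mk0 _ hm0) (-c))⁻¹ = aff (-Units.mk0 _ hm0)⁻¹ (-((((-Units.mk0 _ hm0)⁻¹ : (ZMod 23)ˣ) : ZMod 23) * -c)) := by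
      refine inv_eq_of_mul_eq_one_right ?_
      rw [aff_mul, mul_inv_cancel, mul_neg, ← mul_assoc, Units.mul_inv, one_mul, neg_add_cancel, aff_one]
    rw [hb', hga, aff_mul] at hprod
    convert hprod using 2
    · rw [inv_neg, mul_neg, mul_inv_cancel]
    · simp only [inv_neg, Units.val_neg, neg_mul, mul_neg, neg_neg, ← mul_assoc, Units.mul_inv, one_mul]
      ring

end Cfsg.Lib.Concrete
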