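import Cfsg.Agent.Lib.Concrete.ProjLine23

/-!
23:11 is maximal in M23 and L2(23) is maximal in M24.
-/

set_option autoImplicit false
set_option maxRecDepth 20000

namespace Cfsg.Lib.Concrete

open scoped Pointwise
open MulAction

/-- M23 inside the symmetric group. -/
abbrev m23Sub : Subgroup (Equiv.Perm GolayPt) := M24 ⊓ stabilizer (Equiv.Perm GolayPt) (none : GolayPt)

theorem twoUnit_square : IsSquare twoUnit := ⟨⟨5, 14, by decide, by decide⟩, by decide⟩

theorem card_m23Sub : Nat.card m23Sub = 10200960 := by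
  rw [← card_M24_stabilizer none]
  exact (Nat.card_congr ⟨fun g => ⟨g.1.1, g.1.2, g.2⟩, fun g => ⟨⟨g.1, g.2.1⟩, g.2.2⟩, fun _ => rfl, fun _ => rfl⟩).symm

theorem borel23_le_m23 : borel23 ≤ m23Sub := fun _ hg => ⟨borel23_le hg, borel23_fix hg⟩

theorem orderOf_shift : orderOf (aff 1 1) = 23 := by
  refine orderOf_eq_prime ?_ fun h => ?_
  · rw [aff_shift, show ((23 : ℕ) : ZMod 23) = 0 from rfl, zero_mul, aff_one]
  · rw [← aff_one] at h
    exact absurd (aff_inj h).2 (by decide)

theorem orderOf_double : orderOf (aff twoUnit 0) = 11 := by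
  have : Fact (Nat.Prime 11) := ⟨by norm_num⟩
  refine orderOf_eq_prime ?_ fun h => ?_
  · rw [aff_pow, show twoUnit ^ 11 = 1 by decide, aff_one]
  · rw [← aff_one] at h
    exact absurd (aff_inj h).1 (by decide)

/-- The packed map with `1 ↦ a`, `5 ↦ b`, commuting with doubling up to the factor `e`. -/
def candPack (e a b : ℕ) : ℕ :=
  (List.range 11).foldl (fun acc j => acc + (a * e ^ j % 23) <<< (5 * (2 ^ j % 23)) +
    (b * e ^ j % 23) <<< (5 * (5 * 2 ^ j % 23))) (23 <<< 115)

theorem cand_check : ([2, 12].all fun e => (List.range 23).all fun a => Nat.beq a 0 || (List.range 23).all fun b =>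
    Nat.beq b 0 || !(bits24.all fun i => Nat.beq (pget (candPack e a b) (pget (candPack e a b) i)) i) ||
      (bits24.all fun i => Nat.beq (pget (candPack e a b) i) i) ||
      basisMasks.any fun m => isCode m && Nat.ble m 16777215 && Nat.ble (pimg (candPack e a b) m) 16777215 &&
        !isCode (pimg (candPack e a b) m)) = true := by
  decide +kernel

theorem split_twenty_two : ∀ x : ZMod 23, x ≠ 0 → ∃ j : Fin 11, x = (2 : ZMod 23) ^ j.val ∨ x = 5 * (2 : ZMod 23) ^ j.val := by
  decide +kernel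

theorem candPack_get : ∀ e : Fin 23, (e.val = 2 ∨ e.val = 12) → ∀ a b : Fin 23,
    pget (candPack e.val a.val b.val) 23 = 23 ∧ pget (candPack e.val a.val b.val) 0 = 0 ∧ ∀ j : Fin 11,
      pget (candPack e.val a.val b.val) (2 ^ j.val % 23) = a.val * e.val ^ j.val % 23 ∧
      pget (candPack e.val a.val b.val) (5 * 2 ^ j.val % 23) = b.val * e.val ^ j.val % 23 := by
  decide +kernel

/-- No involution of M23 normalises the doubling map. -/
theorem no_involution_normalizer {t : Equiv.Perm GolayPt} (ht : t ∈ m23Sub) (h2 : t * t = 1) (h1 : t ≠ 1)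
    {k : ℕ} (hk : t * aff twoUnit 0 * t⁻¹ = aff twoUnit 0 ^ k) : False := by
  set y := aff twoUnit 0 with hy
  have htn : t none = none := ht.2
  have hsq : (k * k) % 11 = 1 := by
    have hinv : t⁻¹ = t := inv_eq_of_mul_eq_one_right h2
    have h : y = y ^ (k * k) := calc
      y = t * (t * y * t⁻¹) * t⁻¹ := by rw [hinv, ← mul_assoc, ← mul_assoc, h2, one_mul, mul_assoc, h2, mul_one]
      _ = (t * y * t⁻¹) ^ k := by rw [conj_pow, hk]
      _ = y ^ (k * k) := by rw [hk, ← pow_mul]
    have h' : y ^ 1 = y ^ (k * k) := by rw [pow_one]; exact h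
    rw [pow_eq_pow_iff_modEq, hy, orderOf_double] at h'
    exact h'.symm
  have hk2 : k % 11 = 1 ∨ k % 11 = 10 := by
    rw [Nat.mul_mod] at hsq
    have := Nat.mod_lt k (show 11 > 0 by norm_num)
    interval_cases hm : k % 11 <;> omega
  obtain ⟨e, he, hey⟩ : ∃ e : Fin 23, (e.val = 2 ∨ e.val = 12) ∧ ∀ x : ZMod 23, (y ^ k) (some x) = some ((e.val : ZMod 23) * x) := by
    rw [← Nat.mod_add_div k 11, pow_add, pow_mul, hy, show aff twoUnit 0 ^ 11 = 1 by
      rw [← orderOf_double]; exact pow_orderOf_eq_one _, one_pow, mul_one]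
    rcases hk2 with h | h <;> rw [h]
    · exact ⟨2, Or.inl rfl, fun x => by rw [pow_one, aff_some, add_zero]; rfl⟩
    · refine ⟨12, Or.inr rfl, fun x => ?_⟩
      rw [aff_pow, aff_some, add_zero, show twoUnit ^ 10 = twoUnit⁻¹ by decide]
      rfl
  have hstep : ∀ x : ZMod 23, t (some (2 * x)) = (y ^ k) (t (some x)) := fun x => by
    rw [← hk, Equiv.Perm.mul_apply, Equiv.Perm.mul_apply, Equiv.Perm.inv_def, Equiv.symm_apply_apply, hy, aff_some,
      add_zero]
    rfl
  have hsome : ∀ x : ZMod 23, ∃ z, t (some x) = some z := fun x => Option.ne_none_iff_exists'.1 fun h =>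
    Option.some_ne_none _ (t.injective (h.trans htn.symm))
  have h0 : t (some 0) = some 0 := by
    obtain ⟨z, hz⟩ := hsome 0
    have h := hstep 0
    rw [mul_zero, hz, hey, Option.some.injEq] at h
    have hez : ((e.val : ZMod 23) - 1) * z = 0 := by linear_combination -h
    rcases mul_eq_zero.1 hez with h' | h'
    · rcases he with he | he <;> rw [he] at h' <;> exact absurd h' (by decide)
    · rw [hz, h']
  have hpow : ∀ (x z : ZMod 23), t (some x) = some z → ∀ j : ℕ,
      t (some (2 ^ j * x)) = some (z * (e.val : ZMod 23) ^ j) := fun x z hz j => by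
    induction j with
    | zero => simpa using hz
    | succ j ih =>
      rw [show (2 : ZMod 23) ^ (j + 1) * x = 2 * (2 ^ j * x) by ring, hstep, ih, hey]
      congr 1
      ring
  obtain ⟨a, ha⟩ := hsome 1
  obtain ⟨b, hb⟩ := hsome 5
  have ha0 : a.val ≠ 0 := fun h => by
    rw [(ZMod.val_eq_zero a).1 h, ← h0] at ha
    simpa using t.injective ha
  have hb0 : b.val ≠ 0 := fun h => by
    rw [(ZMod.val_eq_zero b).1 h, ← h0] at hb
    exact absurd (Option.some_injective _ (t.injective hb)) (by decide)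
  obtain ⟨hg23, hg0, hgj⟩ := candPack_get e he ⟨a.val, ZMod.val_lt a⟩ ⟨b.val, ZMod.val_lt b⟩
  set p := candPack e.val a.val b.val
  have hval : ∀ (z : ZMod 23) (j : ℕ), (z * (e.val : ZMod 23) ^ j).val = z.val * e.val ^ j % 23 := fun z j => by
    rw [← ZMod.val_natCast, Nat.cast_mul, Nat.cast_pow, ZMod.natCast_zmod_val]
  have hr : Rep t p := by
    intro x
    rcases x with _ | x
    · rw [htn]; exact hg23.symm
    rcases eq_or_ne x 0 with rfl | hx
    · rw [h0]; exact hg0.symm
    · obtain ⟨j, hj | hj⟩ := split_twenty_two x hx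
      · rw [show x = 2 ^ j.val * 1 by rw [mul_one, hj], hpow 1 a ha]
        show (a * (e.val : ZMod 23) ^ j.val).val = _
        rw [hval, ← (hgj j).1]
        congr 1
        show _ = ((2 : ZMod 23) ^ j.val * 1).val
        rw [mul_one, ← ZMod.val_natCast, Nat.cast_pow]
        rfl
      · rw [show x = 2 ^ j.val * 5 by rw [hj, mul_comm], hpow 5 b hb]
        show (b * (e.val : ZMod 23) ^ j.val).val = _
        rw [hval, ← (hgj j).2]
        congr 1
        show _ = ((2 : ZMod 23) ^ j.val * 5).val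
        rw [mul_comm, ← ZMod.val_natCast, Nat.cast_mul, Nat.cast_pow]
        rfl
  have hc := List.all_eq_true.1 (List.all_eq_true.1 cand_check e.val (by
    rcases he with h | h <;> simp [h])) a.val (List.mem_range.2 (ZMod.val_lt a))
  rw [Bool.or_eq_true, Nat.beq_eq] at hc
  have hc' := List.all_eq_true.1 (hc.resolve_left ha0) b.val (List.mem_range.2 (ZMod.val_lt b))
  simp only [Bool.or_eq_true, Nat.beq_eq, Bool.not_eq_true', List.any_eq_true, Bool.and_eq_true,
    List.all_eq_true] at hc'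
  rcases hc' with ((h | h) | h) | ⟨m, -, ⟨⟨hm, hml⟩, hmi⟩, hno⟩
  · exact hb0 h
  · have : (bits24.all fun i => Nat.beq (pget p (pget p i)) i) = true := by
      simp only [List.all_eq_true, Nat.beq_eq]
      intro i hi
      have hlt := mem_bits24.1 hi
      have hti : (gidx (t (t (gpt ⟨i, hlt⟩)))).val = i := by
        rw [← Equiv.Perm.mul_apply, h2, Equiv.Perm.one_apply, gidx_gpt]
      rwa [hr, hr, gidx_gpt] at hti
    rw [this] at h
    exact Bool.noConfusion h
  · exact h1 (Equiv.ext fun x => gidx_injective (Fin.ext (by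
      rw [hr, Equiv.Perm.one_apply, h _ (mem_bits24.2 (gidx x).isLt)])))
  · have hm' : m < 2 ^ 24 := Nat.lt_succ_of_le (Nat.le_of_ble_eq_true hml)
    have hs := mem_M24_iff.1 ht.1 (mset m) ((mset_mem_supports_iff hm').2 hm)
    rw [hr.smul_mset, mset_mem_supports_iff (Nat.lt_succ_of_le (Nat.le_of_ble_eq_true hmi)), hno] at hs
    exact Bool.noConfusion hs

theorem divisor_check : (((List.range 8).all fun a => (List.range 316).all fun y => !Nat.beq (315 % y) 0 ||
    !Nat.beq (2 ^ a * y % 23) 1 || decide (2 ^ a * y ∈ [1, 24, 70, 576, 1680, 40320])) &&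
    ([(8, 3), (2, 35), (64, 9), (16, 105)].all fun vo => (List.range (vo.2 + 1)).all fun x =>
      !Nat.beq (vo.2 % x) 0 || [1, 11, 23, 253].all fun z => !Nat.beq (vo.1 * x * z % 11) 1)) = true := by
  decide +kernel

theorem no_odd_quotient {n m q v o : ℕ} (hvo : (v, o) ∈ [(8, 3), (2, 35), (64, 9), (16, 105)]) (hn : n = v * o)
    (hm : ¬ 2 ∣ m) (hmq : m * q = 253 * n) (hq : q % 11 = 1) : False := by
  have hv : ∃ i, v = 2 ^ i := by
    simp only [List.mem_cons, Prod.mk.injEq, List.not_mem_nil, or_false] at hvo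
    rcases hvo with ⟨rfl, -⟩ | ⟨rfl, -⟩ | ⟨rfl, -⟩ | ⟨rfl, -⟩
    exacts [⟨3, rfl⟩, ⟨1, rfl⟩, ⟨6, rfl⟩, ⟨4, rfl⟩]
  obtain ⟨i, hi⟩ := hv
  have hvq : v ∣ q := by
    rw [hi]
    refine (Nat.Coprime.pow_left i ((Nat.prime_two.coprime_iff_not_dvd).2 hm)).dvd_of_dvd_mul_left ?_
    rw [hmq, hn, hi]
    exact Dvd.dvd.mul_left (dvd_mul_right _ _) _
  obtain ⟨d, rfl⟩ := hvq
  have hd : d ∣ o * 253 := ⟨m, mul_left_cancel₀ (show v ≠ 0 by rw [hi]; positivity)
    (by rw [hn] at hmq; linarith [hmq])⟩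
  obtain ⟨x, z, hx, hz, rfl⟩ := Nat.dvd_mul.1 hd
  have ho : 0 < o := by
    simp only [List.mem_cons, Prod.mk.injEq, List.not_mem_nil, or_false] at hvo
    omega
  have hz' : z ∈ [1, 11, 23, 253] := by
    obtain ⟨z1, z2, h1, h2, rfl⟩ := Nat.dvd_mul.1 (show z ∣ 11 * 23 from hz)
    rcases (Nat.dvd_prime (by norm_num)).1 h1 with rfl | rfl <;>
      rcases (Nat.dvd_prime (by norm_num)).1 h2 with rfl | rfl <;> decide
  have h := divisor_check
  simp only [Bool.and_eq_true, List.all_eq_true, List.mem_range, Bool.or_eq_true, Bool.not_eq_true'] at h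
  rcases h.2 (v, o) hvo x (Nat.lt_succ_of_le (Nat.le_of_dvd ho hx)) with h' | h'
  · rw [Nat.dvd_iff_mod_eq_zero] at hx
    rw [show Nat.beq ((v, o).2 % x) 0 = true from Nat.beq_eq ▸ hx] at h'
    exact Bool.noConfusion h'
  · have := h' z hz'
    rw [← mul_assoc] at hq
    rw [show Nat.beq ((v, o).1 * x * z % 11) 1 = true from Nat.beq_eq ▸ hq] at this
    exact Bool.noConfusion this

theorem card_dvd_m23 {H : Subgroup (Equiv.Perm GolayPt)} (hH : H ≤ m23Sub) : Nat.card H ∣ 10200960 :=
  card_m23Sub ▸ Subgroup.card_dvd_of_le hH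

/-- 23:11 is maximal in M23. -/
theorem borel23_maximal {H : Subgroup (Equiv.Perm GolayPt)} (hB : borel23 ≤ H) (hH : H ≤ m23Sub) :
    H = borel23 ∨ H = m23Sub := by
  classical
  set s : H := ⟨aff 1 1, hB ⟨1, 1, IsSquare.one, rfl⟩⟩ with hs
  have hso : orderOf s = 23 := by rw [← orderOf_injective H.subtype H.subtype_injective, hs]; exact orderOf_shift
  have hdvd := card_dvd_m23 hH
  have hnot : ∀ p : ℕ, p.Prime → ¬ p ^ 2 ∣ 10200960 → ∀ g : H, orderOf g = p →
      Nat.card (Subgroup.zpowers g) = p ^ (Nat.card H).factorization p := fun p hp hp2 g hg => by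
    rw [Nat.card_zpowers, hg]
    have hpos : 0 < Nat.card H := Nat.card_pos
    have h1 : 1 ≤ (Nat.card H).factorization p :=
      (hp.dvd_iff_one_le_factorization hpos.ne').1 (hg ▸ orderOf_dvd_natCard g)
    have h2 : (Nat.card H).factorization p ≤ 1 := by
      by_contra hcon
      exact hp2 ((pow_dvd_pow p (by omega)).trans ((Nat.ordProj_dvd _ _).trans hdvd))
    rw [show (Nat.card H).factorization p = 1 by omega, pow_one]
  have h23 : Fact (Nat.Prime 23) := factPrime23
  let P : Sylow 23 H := Sylow.ofCard _ (hnot 23 (by norm_num) (by norm_num) s hso)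
  have hconj : ∀ g (hg : g ∈ borel23), ∀ h ∈ (P : Subgroup H), ⟨g, hB hg⟩ * h * (⟨g, hB hg⟩ : H)⁻¹ ∈ (P : Subgroup H) := by
    intro g hg h hh
    obtain ⟨u, c, hu, he⟩ := mem_borel23.1 hg
    obtain ⟨m, rfl⟩ := mem_powers_iff_mem_zpowers.2 hh
    refine mem_powers_iff_mem_zpowers.1 ⟨((u : ZMod 23) * (m : ZMod 23)).val, Subtype.ext ?_⟩
    show aff 1 1 ^ _ = g * aff 1 1 ^ m * g⁻¹
    rw [eq_mul_inv_iff_mul_eq, he, aff_shift, aff_shift, aff_mul, aff_mul, ZMod.natCast_zmod_val]
    simp only [mul_one, one_mul, Units.val_one]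
    congr 1
    ring
  have hN : Nat.card (Subgroup.normalizer (P : Set H)) = 253 := by
    rw [← card_borel23]
    refine Nat.card_congr ⟨fun g => ⟨g.1.1, normalizer_shift (hH g.1.2).1 (hH g.1.2).2 fun n => ?_⟩,
      fun g => ⟨⟨g.1, hB g.2⟩, ?_⟩, fun _ => rfl, fun _ => rfl⟩
    · have hmem := (Subgroup.mem_normalizer_iff.1 g.2 (s ^ n)).1 (Subgroup.npow_mem_zpowers s n)
      obtain ⟨m, hm⟩ := mem_powers_iff_mem_zpowers.2 hmem
      exact ⟨m, (congrArg Subtype.val hm).symm⟩
    · refine Subgroup.mem_normalizer_iff.2 fun h => ⟨fun hh => hconj _ g.2 h hh, fun hh => ?_⟩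
      have := hconj _ (inv_mem g.2) _ hh
      convert this using 1
      refine Subtype.ext ?_
      simp [mul_assoc]
  set n := Nat.card (Sylow 23 H) with hn
  have hcard : Nat.card H = 253 * n := by
    rw [hn, Sylow.card_eq_index_normalizer P, ← hN, Subgroup.card_mul_index]
  have hn23 : n % 23 = 1 := card_sylow_modEq_one 23 H
  have hnd : n ∣ 40320 := Nat.dvd_of_mul_dvd_mul_left (by norm_num : 0 < 253) (by rw [← hcard]; exact hdvd)
  have hn6 : n ∈ [1, 24, 70, 576, 1680, 40320] := by
    obtain ⟨x, y, hx, hy, hxy⟩ := Nat.dvd_mul.1 (show n ∣ 2 ^ 7 * 315 from hnd)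
    rw [← hxy] at hn23 ⊢
    obtain ⟨a, ha, rfl⟩ := (Nat.dvd_prime_pow Nat.prime_two).1 hx
    have h := divisor_check
    simp only [Bool.and_eq_true, List.all_eq_true, List.mem_range, Bool.or_eq_true, Bool.not_eq_true',
      decide_eq_true_eq] at h
    rcases h.1 a (by omega) y (Nat.lt_succ_of_le (Nat.le_of_dvd (by norm_num) hy)) with (h' | h') | h'
    · rw [Nat.dvd_iff_mod_eq_zero] at hy
      rw [show Nat.beq (315 % y) 0 = true from Nat.beq_eq ▸ hy] at h'
      exact Bool.noConfusion h'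
    · rw [show Nat.beq (2 ^ a * y % 23) 1 = true from Nat.beq_eq ▸ hn23] at h'
      exact Bool.noConfusion h'
    · exact h'
  -- the doubling element
  set y : H := ⟨aff twoUnit 0, hB ⟨twoUnit, 0, twoUnit_square, rfl⟩⟩ with hy
  have hyo : orderOf y = 11 := by rw [← orderOf_injective H.subtype H.subtype_injective, hy]; exact orderOf_double
  have h11 : Fact (Nat.Prime 11) := ⟨by norm_num⟩
  let Q : Sylow 11 H := Sylow.ofCard _ (hnot 11 (by norm_num) (by norm_num) y hyo)
  have hodd : ¬ 2 ∣ Nat.card (Subgroup.normalizer (Q : Set H)) := by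
    intro h
    have : Fact (Nat.Prime 2) := ⟨Nat.prime_two⟩
    obtain ⟨t, ht⟩ := exists_prime_orderOf_dvd_card' 2 h
    have ht' : orderOf t.1 = 2 := (orderOf_injective (Subgroup.normalizer (Q : Set H)).subtype
      Subtype.val_injective t).trans ht
    obtain ⟨k, hk⟩ := mem_powers_iff_mem_zpowers.2
      ((Subgroup.mem_normalizer_iff.1 t.2 y).1 (Subgroup.mem_zpowers y))
    refine no_involution_normalizer (t := t.1.1) (k := k) (hH t.1.2) ?_ ?_ (congrArg Subtype.val hk).symm
    · have := congrArg Subtype.val (ht' ▸ pow_orderOf_eq_one t.1)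
      simpa [pow_two] using this
    · intro h1
      rw [show t.1 = 1 from Subtype.ext h1, orderOf_one] at ht'
      norm_num at ht'
  have hq : Nat.card (Sylow 11 H) % 11 = 1 := card_sylow_modEq_one 11 H
  have hmq : Nat.card (Subgroup.normalizer (Q : Set H)) * Nat.card (Sylow 11 H) = 253 * n := by
    rw [Sylow.card_eq_index_normalizer Q, Subgroup.card_mul_index, hcard]
  simp only [List.mem_cons, List.not_mem_nil, or_false] at hn6
  rcases hn6 with h | h | h | h | h | h
  · left
    exact (Subgroup.eq_of_le_of_card_ge hB (by rw [hcard, h, card_borel23])).symm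
  · exact (no_odd_quotient (v := 8) (o := 3) (by simp) h hodd hmq hq).elim
  · exact (no_odd_quotient (v := 2) (o := 35) (by simp) h hodd hmq hq).elim
  · exact (no_odd_quotient (v := 64) (o := 9) (by simp) h hodd hmq hq).elim
  · exact (no_odd_quotient (v := 16) (o := 105) (by simp) h hodd hmq hq).elim
  · right
    exact Subgroup.eq_of_le_of_card_ge hH (by rw [hcard, h, card_m23Sub])

/-- L2(23) is maximal in M24. -/
theorem line_maximal {H : Subgroup (Equiv.Perm GolayPt)} (hL : Subgroup.closure lineGens ≤ H) (hH : H ≤ M24) :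
    H = Subgroup.closure lineGens ∨ H = M24 := by
  have ht : ∀ p, ∃ g ∈ H, g none = p := fun p => by
    obtain ⟨g, hg, he⟩ := line_transitive p
    exact ⟨g, hL hg, he⟩
  have hc := card_transitive H ht
  rcases borel23_maximal (H := H ⊓ stabilizer (Equiv.Perm GolayPt) (none : GolayPt))
    (le_inf (borel23_le_line.trans hL) fun _ hg => borel23_fix hg) (inf_le_inf hH le_rfl) with h | h
  · left
    exact (Subgroup.eq_of_le_of_card_ge hL (by rw [hc, h, card_line, card_borel23])).symm
  · right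
    exact Subgroup.eq_of_le_of_card_ge hH (by rw [hc, h, card_m23Sub, card_M24])

theorem isCoatom_subgroupOf {G : Type*} [Group G] {K A : Subgroup G} (hKA : K ≤ A) (hne : K ≠ A)
    (h : ∀ H : Subgroup G, K ≤ H → H ≤ A → H = K ∨ H = A) : IsCoatom (K.subgroupOf A) := by
  refine ⟨fun ht => hne (le_antisymm hKA (Subgroup.subgroupOf_eq_top.1 ht)), fun J hJ => ?_⟩
  rcases h (J.map A.subtype) (fun x hx => ⟨⟨x, hKA hx⟩, hJ.le hx, rfl⟩) (Subgroup.map_subtype_le J) with h' | h'
  · refine absurd (SetLike.ext fun x => ?_) hJ.ne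
    rw [Subgroup.mem_subgroupOf, ← h']
    exact Subgroup.mem_map_iff_mem A.subtype_injective
  · exact eq_top_iff.2 fun x _ => (Subgroup.mem_map_iff_mem A.subtype_injective).1 (h'.symm ▸ x.2)

theorem line_isCoatom : IsCoatom ((Subgroup.closure lineGens).subgroupOf M24) :=
  isCoatom_subgroupOf line_le_M24 (fun h => by
    have := congrArg (fun K : Subgroup (Equiv.Perm GolayPt) => Nat.card K) h
    simp only [card_line, card_M24] at this
    norm_num at this) fun _ h1 h2 => line_maximal h1 h2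

theorem borel23_isCoatom :
    IsCoatom ((borel23.subgroupOf M24).subgroupOf (stabilizer M24 (none : GolayPt))) := by
  refine isCoatom_subgroupOf (fun g hg => borel23_fix hg) (fun h => ?_) fun J h1 h2 => ?_
  · have := congrArg (fun K : Subgroup M24 => Nat.card K) h
    simp only [card_M24_stabilizer, Nat.card_congr (Subgroup.subgroupOfEquivOfLe borel23_le).toEquiv, card_borel23] at this
    norm_num at this
  · have hJ := borel23_maximal (H := J.map M24.subtype)
      (fun x hx => ⟨⟨x, borel23_le hx⟩, h1 hx, rfl⟩)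
      (by rintro _ ⟨x, hx, rfl⟩; exact ⟨x.2, h2 hx⟩)
    rcases hJ with h | h
    · left
      ext x
      rw [Subgroup.mem_subgroupOf, ← h]
      exact (Subgroup.mem_map_iff_mem M24.subtype_injective).symm
    · right
      refine le_antisymm h2 fun x hx => (Subgroup.mem_map_iff_mem M24.subtype_injective).1 ?_
      rw [h]
      exact ⟨x.2, hx⟩

end Cfsg.Lib.Concrete
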