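import Cfsg.Agent.Lib.Concrete.MTwelve
import Cfsg.Agent.Lib.Concrete.Quartets
import Cfsg.Agent.Lib.Concrete.QuartetStabData

/-!
The stabiliser of a quartet in the stabiliser of its dodecad: order, structure and orbits.
-/

set_option autoImplicit false

namespace Cfsg.Lib.Concrete.QuartetStab

open MulAction Finset
open scoped Pointwise

/-! ### Permutations as tables -/

/-- The table of a permutation. -/
def tableOf (π : Equiv.Perm (Fin 12)) : List ℕ := List.ofFn fun i => (π i).val

theorem tableOf_getD (π : Equiv.Perm (Fin 12)) (i : Fin 12) : (tableOf π).getD i.val 0 = (π i).val := by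
  rw [List.getD_eq_getElem _ _ (by simp [tableOf])]
  simp only [tableOf, List.getElem_ofFn]

theorem tableOf_injective : Function.Injective tableOf := fun π τ h =>
  Equiv.ext fun i => Fin.ext (by rw [← tableOf_getD, ← tableOf_getD, h])

/-- The composite of two tables. -/
def tmul (a b : List ℕ) : List ℕ := (List.range 12).map fun i => a.getD (b.getD i 0) 0

theorem tableOf_mul (π τ : Equiv.Perm (Fin 12)) : tableOf (π * τ) = tmul (tableOf π) (tableOf τ) := by
  refine List.ext_getElem (by simp [tableOf, tmul]) fun i h1 h2 => ?_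
  have hi : i < 12 := by simpa [tableOf] using h1
  simp only [tmul, List.getElem_map, List.getElem_range]
  have e1 := tableOf_getD τ ⟨i, hi⟩
  simp only at e1
  rw [e1, tableOf_getD π (τ ⟨i, hi⟩)]
  simp only [tableOf, List.getElem_ofFn, Equiv.Perm.mul_apply]

theorem tableOf_one : tableOf 1 = List.range 12 := by decide

theorem image_set12 {g : List ℕ} {π : Equiv.Perm (Fin 12)} (hg : ∀ i : Fin 12, (π i).val = g.getD i.val 0) (m : ℕ) :
    π • set12 m = set12 (img12 g m) := by
  ext y
  rw [Finset.smul_finset_def, mem_image, mem_set12, img12, testBit_orMask]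
  simp only [Bool.and_eq_true, Nat.blt_eq, mem_set12, Equiv.Perm.smul_def]
  constructor
  · rintro ⟨a, ha, rfl⟩
    exact ⟨a.val, mem_bits24.2 (by omega), ⟨a.isLt, ha⟩, (hg a).symm⟩
  · rintro ⟨i, -, ⟨hi, hm⟩, hy⟩
    exact ⟨⟨i, hi⟩, hm, Fin.ext ((hg ⟨i, hi⟩).trans hy)⟩

theorem img12_lt {g : List ℕ} {π : Equiv.Perm (Fin 12)} (hg : ∀ i : Fin 12, (π i).val = g.getD i.val 0) (m : ℕ) :
    img12 g m < 4096 := by
  refine (orMask_lt _ _ _ fun k _ hk => ?_ : img12 g m < 2 ^ 12)
  rw [Bool.and_eq_true, Nat.blt_eq] at hk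
  rw [← hg ⟨k, hk.1⟩]
  exact (π _).isLt

/-! ### The model -/

/-- A list of masks as a family of sets of labels. -/
def qset (l : List ℕ) : Finset (Finset (Fin 12)) := (l.map set12).toFinset

theorem smul_qset {g : List ℕ} {π : Equiv.Perm (Fin 12)} (hg : ∀ i : Fin 12, (π i).val = g.getD i.val 0) (l : List ℕ) :
    π • qset l = qset (l.map (img12 g)) := by
  ext s
  simp only [qset, Finset.mem_smul_finset, List.mem_toFinset, List.mem_map, exists_exists_and_eq_and]
  exact ⟨fun ⟨m, hm, e⟩ => ⟨m, hm, by rw [← e, image_set12 hg]⟩, fun ⟨m, hm, e⟩ => ⟨m, hm, by rw [← e, image_set12 hg]⟩⟩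

/-- Equality of two lists as sets. -/
def sameQ (a b : List ℕ) : Bool := (a.all fun x => b.any (Nat.beq x)) && b.all fun x => a.any (Nat.beq x)

theorem sameQ_sound {a b : List ℕ} (h : sameQ a b = true) : qset a = qset b := by
  simp only [sameQ, Bool.and_eq_true, List.all_eq_true, List.any_eq_true, Nat.beq_eq] at h
  refine Finset.Subset.antisymm (fun s hs => ?_) fun s hs => ?_ <;>
    obtain ⟨m, hm, rfl⟩ := List.mem_map.1 (List.mem_toFinset.1 hs)
  · obtain ⟨x, hx, rfl⟩ := h.1 m hm
    exact List.mem_toFinset.2 (List.mem_map.2 ⟨_, hx, rfl⟩)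
  · obtain ⟨x, hx, rfl⟩ := h.2 m hm
    exact List.mem_toFinset.2 (List.mem_map.2 ⟨_, hx, rfl⟩)

/-- The chosen quartet. -/
def qStd : Finset (Finset (Fin 12)) := qset q12

/-- Its stabiliser in the automorphism group. -/
def HStd : Subgroup (Equiv.Perm (Fin 12)) := setSystemAut hexStd ⊓ stabilizer (Equiv.Perm (Fin 12)) qStd

/-- The test for the tables of elements of the stabiliser. -/
def goodTab (g : List ℕ) : Bool :=
  (List.range 12).all (fun i => Nat.blt (g.getD i 0) 12 &&
    (List.range 12).all fun j => Nat.beq i j || !(Nat.beq (g.getD i 0) (g.getD j 0))) &&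
  Nat.beq g.length 12 && hex132.all (fun b => hex132.any (Nat.beq (img12 g b))) &&
  sameQ (q12.map (img12 g)) q12

theorem exists_elem {g : List ℕ} (h : goodTab g = true) : ∃ π : HStd, tableOf π.1 = g := by
  simp only [goodTab, Bool.and_eq_true, List.all_eq_true, List.mem_range, Nat.blt_eq, Bool.or_eq_true,
    Nat.beq_eq, Bool.not_eq_true'] at h
  obtain ⟨⟨⟨hlt, hlen⟩, hhex⟩, hq⟩ := h
  have hinj : Function.Injective (tabFun g) := fun i j hij => by
    have := congrArg Fin.val hij
    simp only [tabFun, Fin.val_ofNat, Nat.mod_eq_of_lt (hlt i i.isLt).1, Nat.mod_eq_of_lt (hlt j j.isLt).1] at this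
    rcases (hlt i i.isLt).2 j j.isLt with e | e
    · exact Fin.ext e
    · rw [this] at e; simp at e
  let π : Equiv.Perm (Fin 12) := Equiv.ofBijective (tabFun g) hinj.bijective_of_finite
  have hπ : ∀ i : Fin 12, (π i).val = g.getD i.val 0 := fun i => Nat.mod_eq_of_lt (hlt i i.isLt).1
  refine ⟨⟨π, mem_setSystemAut_of_subset ?_, ?_⟩, ?_⟩
  · rintro _ ⟨m, hm, rfl⟩
    obtain ⟨x, hx, e⟩ := List.any_eq_true.1 (hhex m hm)
    exact ⟨x, hx, by rw [image_set12 hπ, Nat.eq_of_beq_eq_true e]⟩
  · show π • qset q12 = qset q12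
    rw [smul_qset hπ, sameQ_sound hq]
  · refine List.ext_getElem (by simp [tableOf, hlen]) fun i h1 h2 => ?_
    rw [← List.getD_eq_getElem g 0 h2]
    simp only [tableOf, List.getElem_ofFn]
    exact hπ ⟨i, by simpa [tableOf] using h1⟩

theorem tables_good : (kList ++ nList ++ qGens).all goodTab = true := by decide +kernel

theorem exists_listed {g : List ℕ} (h : g ∈ kList ++ nList ++ qGens) : ∃ π : HStd, tableOf π.1 = g :=
  exists_elem (List.all_eq_true.1 tables_good g h)

/-! ### The elements fixing each triple -/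

/-- Lists with entries from the given choices, avoiding the used values. -/
def selSeqs : List (List ℕ) → List ℕ → List (List ℕ)
  | [], _ => [[]]
  | c :: cs, used => c.flatMap fun a =>
      bif used.any (Nat.beq a) then [] else (selSeqs cs (a :: used)).map (a :: ·)

theorem mem_selSeqs : ∀ (cs : List (List ℕ)) (l used : List ℕ), List.Forall₂ (fun a c => a ∈ c) l cs →
    l.Nodup → (∀ a ∈ l, a ∉ used) → l ∈ selSeqs cs used := by
  intro cs
  induction cs with
  | nil =>
    intro l used h _ _
    cases h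
    simp [selSeqs]
  | cons c cs ih =>
    intro l used h hnd hu
    cases h with
    | cons ha ht =>
      rename_i a l
      rw [selSeqs, List.mem_flatMap]
      refine ⟨a, ha, ?_⟩
      have : used.any (Nat.beq a) = false := by
        rw [← Bool.not_eq_true, List.any_eq_true]
        rintro ⟨x, hx, e⟩
        exact hu a List.mem_cons_self ((Nat.eq_of_beq_eq_true e).symm ▸ hx)
      rw [this, cond_false, List.mem_map]
      refine ⟨l, ih l (a :: used) ht (List.nodup_cons.1 hnd).2 fun x hx hm => ?_, rfl⟩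
      rcases List.mem_cons.1 hm with rfl | hm
      · exact (List.nodup_cons.1 hnd).1 hx
      · exact hu x (List.mem_cons_of_mem _ hx) hm

/-- The values allowed at each label. -/
def choices : List (List ℕ) :=
  (List.range 12).map fun i => (List.range 12).filter fun j => q12.any fun t => t.testBit i && t.testBit j

theorem fix_check :
    ((selSeqs choices []).all fun l => kList.any (fun k => k == l) ||
      hex132.any fun b => !hex132.any (Nat.beq (img12 l b))) = true ∧
    kList.all (fun k => q12.all fun t => Nat.beq (img12 k t) t) = true ∧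
    nList.all (fun n => kList.any (fun k => k == n) && tmul n (tmul n n) == List.range 12) = true ∧
    kList.all (fun k => !(tmul k (tmul k k) == List.range 12) || nList.any fun n => n == k) = true ∧
    kList.all (fun k => nList.any (fun n => !(tmul k n == tmul n k)) || nList.any fun n => n == k) = true ∧
    q12.all (fun t => t.log2 < 12 && nList.any fun n =>
      (List.range 12).all fun i => Nat.beq (n.getD i 0) i == t.testBit i) = true ∧
    (∀ a b : Fin 3, ∀ c d : Fin 3, tmul (nList.getD (3 * a.val + b.val) []) (nList.getD (3 * c.val + d.val) []) =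
      nList.getD (3 * (a + c).val + (b + d).val) []) ∧
    nList.Nodup ∧ nList.length = 9 ∧ nList.getD 0 [] = List.range 12 := by
  refine ⟨by decide +kernel, by decide +kernel, by decide +kernel, by decide +kernel, by decide +kernel,
    by decide +kernel, by decide +kernel, by decide +kernel, rfl, by decide +kernel⟩

theorem q12_cover : ∀ i : Fin 12, q12.any (fun t => t.testBit i.val) = true := by decide

theorem fixes_iff {π : Equiv.Perm (Fin 12)} (hπ : π ∈ setSystemAut hexStd) :
    (∀ t ∈ q12, π • set12 t = set12 t) ↔ tableOf π ∈ kList := by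
  constructor
  · intro hfix
    have hmem : tableOf π ∈ selSeqs choices [] := by
      refine mem_selSeqs _ _ _ ?_ (List.nodup_ofFn.2 fun i j h => π.injective (Fin.ext h)) (by simp)
      rw [List.forall₂_iff_get]
      refine ⟨by simp [tableOf, choices], fun i h1 h2 => ?_⟩
      have hi : i < 12 := by simpa [tableOf] using h1
      simp only [choices, tableOf, List.get_eq_getElem, List.getElem_ofFn, List.getElem_map, List.getElem_range,
        List.mem_filter, List.mem_range, List.any_eq_true, Bool.and_eq_true]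
      obtain ⟨t, ht, hti⟩ := List.any_eq_true.1 (q12_cover ⟨i, hi⟩)
      refine ⟨(π _).isLt, t, ht, hti, mem_set12.1 ?_⟩
      rw [← hfix t ht]
      exact Finset.smul_mem_smul_finset (mem_set12.2 hti)
    have h := List.all_eq_true.1 fix_check.1 _ hmem
    simp only [Bool.or_eq_true, List.any_eq_true, beq_iff_eq, exists_eq_right, Bool.not_eq_true'] at h
    refine h.resolve_right ?_
    rintro ⟨b, hb, hno⟩
    obtain ⟨m, hm, hme⟩ := smul_mem_of_setSystemAut hπ (⟨b, hb, rfl⟩ : set12 b ∈ hexStd)
    rw [image_set12 (fun i => (tableOf_getD π i).symm)] at hme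
    have hm4 := List.all_eq_true.1 hex132_check.2.2 m hm
    simp only [Bool.and_eq_true, decide_eq_true_eq] at hm4
    have he := set12_inj hm4.1 (img12_lt (fun i => (tableOf_getD π i).symm) b) hme
    rw [← Bool.not_eq_true, List.any_eq_true] at hno
    exact hno ⟨m, hm, by rw [Nat.beq_eq, he]⟩
  · intro hk t ht
    have h := List.all_eq_true.1 (List.all_eq_true.1 fix_check.2.1 _ hk) t ht
    rw [image_set12 (fun i => (tableOf_getD π i).symm), Nat.eq_of_beq_eq_true h]

theorem mem_nList_iff {π : Equiv.Perm (Fin 12)} (hπ : π ∈ setSystemAut hexStd) :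
    tableOf π ∈ nList ↔ (∀ t ∈ q12, π • set12 t = set12 t) ∧ π ^ 3 = 1 := by
  have hcube : π ^ 3 = 1 ↔ tmul (tableOf π) (tmul (tableOf π) (tableOf π)) = List.range 12 := by
    rw [← tableOf_mul, ← tableOf_mul, ← tableOf_one, tableOf_injective.eq_iff, pow_succ', pow_two]
  rw [hcube, fixes_iff hπ]
  constructor
  · intro h
    have := List.all_eq_true.1 fix_check.2.2.1 _ h
    simpa only [Bool.and_eq_true, List.any_eq_true, beq_iff_eq, exists_eq_right] using this
  · rintro ⟨hk, hc⟩
    have := List.all_eq_true.1 fix_check.2.2.2.1 _ hk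
    simpa only [Bool.or_eq_true, Bool.not_eq_true', beq_eq_false_iff_ne, ne_eq, hc, not_true_eq_false, false_or,
      List.any_eq_true, beq_iff_eq, exists_eq_right] using this

theorem nList_mem (a b : Fin 3) : nList.getD (3 * a.val + b.val) [] ∈ nList := by
  have h : 3 * a.val + b.val < nList.length := by rw [fix_check.2.2.2.2.2.2.2.2.1]; omega
  rw [List.getD_eq_getElem _ _ h]
  exact List.getElem_mem h

theorem nList_index {g : List ℕ} (h : g ∈ nList) : ∃ a b : Fin 3, nList.getD (3 * a.val + b.val) [] = g := by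
  obtain ⟨i, hi, rfl⟩ := List.getElem_of_mem h
  have h9 : i < 9 := hi
  refine ⟨⟨i / 3, by omega⟩, ⟨i % 3, Nat.mod_lt _ (by norm_num)⟩, ?_⟩
  rw [Nat.div_add_mod, List.getD_eq_getElem]

/-- The elementary abelian subgroup of order nine. -/
noncomputable def NStd : Subgroup HStd where
  carrier := {σ | tableOf σ.1 ∈ nList}
  mul_mem' := by
    intro σ τ hσ hτ
    obtain ⟨a, b, ha⟩ := nList_index hσ
    obtain ⟨c, d, hc⟩ := nList_index hτ
    show tableOf (σ.1 * τ.1) ∈ nList
    rw [tableOf_mul, ← ha, ← hc, fix_check.2.2.2.2.2.2.1]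
    exact nList_mem _ _
  one_mem' := by
    show tableOf 1 ∈ nList
    rw [tableOf_one, ← fix_check.2.2.2.2.2.2.2.2.2]
    exact nList_mem 0 0
  inv_mem' := by
    intro σ hσ
    show tableOf σ.1⁻¹ ∈ nList
    rw [mem_nList_iff (inv_mem σ.2.1)]
    obtain ⟨h1, h2⟩ := (mem_nList_iff σ.2.1).1 hσ
    exact ⟨fun t ht => by rw [inv_smul_eq_iff, h1 t ht], by rw [inv_pow, h2, inv_one]⟩

theorem smul_triple (σ : HStd) {t : ℕ} (ht : t ∈ q12) : ∃ u ∈ q12, σ.1 • set12 t = set12 u := by
  have h : σ.1 • set12 t ∈ σ.1 • qStd := Finset.smul_mem_smul_finset (List.mem_toFinset.2 (List.mem_map.2 ⟨t, ht, rfl⟩))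
  rw [show σ.1 • qStd = qStd from σ.2.2] at h
  obtain ⟨u, hu, e⟩ := List.mem_map.1 (List.mem_toFinset.1 h)
  exact ⟨u, hu, e.symm⟩

theorem NStd_normal : NStd.Normal := ⟨fun n hn σ => by
  show tableOf (σ.1 * n.1 * σ.1⁻¹) ∈ nList
  obtain ⟨h1, h2⟩ := (mem_nList_iff n.2.1).1 hn
  rw [mem_nList_iff (mul_mem (mul_mem σ.2.1 n.2.1) (inv_mem σ.2.1))]
  refine ⟨fun t ht => ?_, by rw [conj_pow, h2, mul_one, mul_inv_cancel]⟩
  obtain ⟨u, hu, he⟩ := smul_triple σ⁻¹ ht
  have he' : σ.1⁻¹ • set12 t = set12 u := he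
  rw [mul_smul, mul_smul, he', h1 u hu, ← he', smul_inv_smul]⟩

/-- The element of the subgroup with the given coordinates. -/
noncomputable def nElem (v : Fin 2 → ZMod 3) : NStd :=
  ⟨(exists_listed (g := nList.getD (3 * (v 0).val + (v 1).val) [])
      (List.mem_append_left _ (List.mem_append_right _ (nList_mem _ _)))).choose, by
    show tableOf _ ∈ nList
    rw [(exists_listed (g := nList.getD (3 * (v 0).val + (v 1).val) [])
      (List.mem_append_left _ (List.mem_append_right _ (nList_mem _ _)))).choose_spec]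
    exact nList_mem _ _⟩

theorem nElem_table (v : Fin 2 → ZMod 3) : tableOf (nElem v).1.1 = nList.getD (3 * (v 0).val + (v 1).val) [] :=
  (exists_listed (g := nList.getD (3 * (v 0).val + (v 1).val) [])
      (List.mem_append_left _ (List.mem_append_right _ (nList_mem _ _)))).choose_spec

theorem nElem_bijective : Function.Bijective nElem := by
  constructor
  · intro v w h
    have := congrArg (fun n : NStd => tableOf n.1.1) h
    simp only [nElem_table] at this
    have hinj : ∀ a b c d : Fin 3,
        nList.getD (3 * a.val + b.val) [] = nList.getD (3 * c.val + d.val) [] → a = c ∧ b = d := by decide +kernel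
    obtain ⟨h0, h1⟩ := hinj (v 0) (v 1) (w 0) (w 1) this
    funext i; fin_cases i
    · exact h0
    · exact h1
  · intro n
    obtain ⟨a, b, h⟩ := nList_index n.2
    exact ⟨![a, b], Subtype.ext (Subtype.ext (tableOf_injective (by rw [nElem_table]; exact h)))⟩

/-- The subgroup as the plane over three elements. -/
noncomputable def nEquiv : Multiplicative (Fin 2 → ZMod 3) ≃* NStd :=
  MulEquiv.ofBijective
    (MonoidHom.mk' (fun v => nElem (Multiplicative.toAdd v)) fun v w => Subtype.ext (Subtype.ext (tableOf_injective (by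
      show tableOf (nElem _).1.1 = tableOf ((nElem _).1.1 * (nElem _).1.1)
      rw [tableOf_mul, nElem_table, nElem_table, nElem_table]
      exact (fix_check.2.2.2.2.2.2.1 _ _ _ _).symm))))
    (nElem_bijective.comp Multiplicative.toAdd.bijective)

theorem card_NStd : Nat.card NStd = 9 := by
  rw [← Nat.card_congr nEquiv.toEquiv]
  simp

theorem eq_mem_of_commute (σ : HStd) (h : ∀ n ∈ NStd, n * σ = σ * n) : σ ∈ NStd := by
  have hfix : ∀ t ∈ q12, σ.1 • set12 t = set12 t := by
    intro t ht
    have hc := List.all_eq_true.1 fix_check.2.2.2.2.2.1 t ht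
    simp only [Bool.and_eq_true, List.any_eq_true, List.all_eq_true, List.mem_range, beq_iff_eq] at hc
    obtain ⟨-, g, hg, hgf⟩ := hc
    obtain ⟨n, hn⟩ := exists_listed (List.mem_append_left _ (List.mem_append_right _ hg))
    have hnN : n ∈ NStd := by show tableOf n.1 ∈ nList; rw [hn]; exact hg
    have hiff : ∀ i : Fin 12, i ∈ set12 t ↔ n.1 i = i := fun i => by
      rw [mem_set12, ← hgf i i.isLt, Nat.beq_eq, ← hn, tableOf_getD]
      exact ⟨Fin.ext, congrArg Fin.val⟩
    have hcomm : ∀ i, n.1 (σ.1 i) = σ.1 (n.1 i) := fun i =>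
      congrArg (fun x : HStd => x.1 i) (h n hnN)
    ext i
    rw [Finset.mem_smul_finset]
    constructor
    · rintro ⟨j, hj, rfl⟩
      rw [hiff] at hj ⊢
      exact (hcomm j).trans (congrArg σ.1 hj)
    · intro hi
      refine ⟨σ.1.symm i, (hiff _).2 (σ.1.injective ?_), σ.1.apply_symm_apply i⟩
      rw [← hcomm, Equiv.apply_symm_apply, (hiff i).1 hi]
  have hk := (fixes_iff σ.2.1).1 hfix
  have hc := List.all_eq_true.1 fix_check.2.2.2.2.1 _ hk
  simp only [Bool.or_eq_true, List.any_eq_true, Bool.not_eq_true', beq_eq_false_iff_ne, beq_iff_eq,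
    exists_eq_right] at hc
  refine hc.resolve_left ?_
  rintro ⟨g, hg, hne⟩
  obtain ⟨n, hn⟩ := exists_listed (List.mem_append_left _ (List.mem_append_right _ hg))
  refine hne ?_
  rw [← hn, ← tableOf_mul, ← tableOf_mul]
  exact congrArg (fun x : HStd => tableOf x.1) (h n (by show tableOf n.1 ∈ nList; rw [hn]; exact hg)).symm

/-- Automorphisms of the plane as matrices. -/
noncomputable def planeAutEquiv : MulAut (Multiplicative (Fin 2 → ZMod 3)) ≃* GL (Fin 2) (ZMod 3) :=
  let e : MulAut (Multiplicative (Fin 2 → ZMod 3)) ≃* ((Fin 2 → ZMod 3) ≃ₗ[ZMod 3] (Fin 2 → ZMod 3)) :=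
    { toFun := fun f =>
        LinearEquiv.ofLinear
          ((AddMonoidHom.toMultiplicative.symm f.toMonoidHom).toZModLinearMap 3)
          ((AddMonoidHom.toMultiplicative.symm f.symm.toMonoidHom).toZModLinearMap 3)
          (LinearMap.ext fun x => congrArg Multiplicative.toAdd (f.apply_symm_apply (Multiplicative.ofAdd x)))
          (LinearMap.ext fun x => congrArg Multiplicative.toAdd (f.symm_apply_apply (Multiplicative.ofAdd x)))
      invFun := fun f => AddEquiv.toMultiplicative f.toAddEquiv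
      left_inv := fun f => rfl
      right_inv := fun f => rfl
      map_mul' := fun f g => rfl }
  e.trans ((LinearMap.GeneralLinearGroup.generalLinearEquiv (ZMod 3) (Fin 2 → ZMod 3)).symm.trans
    Matrix.GeneralLinearGroup.toLin.symm)

/-- The automorphisms of the subgroup as matrices. -/
noncomputable def nAutEquiv : MulAut NStd ≃* GL (Fin 2) (ZMod 3) :=
  (MulAut.congr nEquiv.symm).trans planeAutEquiv

theorem card_GL23 : Nat.card (GL (Fin 2) (ZMod 3)) = 48 := by
  rw [Matrix.card_GL_field]
  simp [Fin.prod_univ_two]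

/-- The quotient is the linear group of the plane. -/
theorem exists_normal_nine (hcard : Nat.card HStd = 432) :
    ∃ (N : Subgroup HStd) (_ : N.Normal), Nat.card N = 9 ∧ Nonempty (HStd ⧸ N ≃* GL (Fin 2) (ZMod 3)) := by
  have := NStd_normal
  let θ : HStd →* GL (Fin 2) (ZMod 3) := nAutEquiv.toMonoidHom.comp (MulAut.conjNormal (H := NStd))
  have hker : θ.ker = NStd := by
    ext σ
    rw [MonoidHom.mem_ker]
    constructor
    · intro h
      refine eq_mem_of_commute σ fun n hn => ?_
      have h' : MulAut.conjNormal σ = (1 : MulAut NStd) := nAutEquiv.injective (h.trans (map_one _).symm)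
      have := congrArg (fun f : MulAut NStd => (f ⟨n, hn⟩ : HStd)) h'
      simp only [MulAut.conjNormal_apply, MulAut.one_apply, mul_inv_eq_iff_eq_mul] at this
      exact this.symm
    · intro hσ
      have h' : MulAut.conjNormal σ = (1 : MulAut NStd) := by
        refine MulEquiv.ext fun n => Subtype.ext ?_
        rw [MulAut.conjNormal_apply, MulAut.one_apply, mul_inv_eq_iff_eq_mul]
        obtain ⟨v, hv⟩ := nEquiv.surjective ⟨σ, hσ⟩
        obtain ⟨w, hw⟩ := nEquiv.surjective n
        have hh : (⟨σ, hσ⟩ : NStd) * n = n * ⟨σ, hσ⟩ := by rw [← hv, ← hw, ← map_mul, ← map_mul, mul_comm]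
        exact congrArg Subtype.val hh
      show nAutEquiv (MulAut.conjNormal σ) = 1
      rw [h', map_one]
  have hsurj : Function.Surjective θ := by
    rw [← MonoidHom.range_eq_top]
    refine Subgroup.eq_top_of_card_eq _ ?_
    rw [← Subgroup.index_ker, hker, card_GL23]
    have h := NStd.card_mul_index
    rw [card_NStd, hcard] at h
    omega
  exact ⟨NStd, NStd_normal, card_NStd,
    ⟨(QuotientGroup.quotientMulEquivOfEq hker.symm).trans (QuotientGroup.quotientKerEquivOfSurjective θ hsurj)⟩⟩

/-! ### Orbits -/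

/-- The orbit built from a derivation by the generators. -/
def buildOrbit {β : Type} (act : List ℕ → β → β) (dflt r : β) : List (ℕ × ℕ) → List β :=
  fun der => der.foldl (fun L e => L ++ [act (qGens.getD e.2 []) (L.getD e.1 dflt)]) [r]

theorem buildOrbit_sound {β γ : Type} [MulAction (Equiv.Perm (Fin 12)) γ] (act : List ℕ → β → β) (dflt r : β)
    (sem : β → γ) (der : List (ℕ × ℕ))
    (hact : ∀ (π : Equiv.Perm (Fin 12)) (g : List ℕ), (∀ i : Fin 12, (π i).val = g.getD i.val 0) →
      ∀ x, π • sem x = sem (act g x))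
    (hgen : ∀ e ∈ der, e.2 < qGens.length) (hidx : ∀ (k : ℕ) (e : ℕ × ℕ), der[k]? = some e → e.1 ≤ k) :
    ∀ x ∈ buildOrbit act dflt r der, ∃ σ : HStd, σ.1 • sem r = sem x := by
  induction der using List.reverseRecOn with
  | nil =>
    intro x hx
    obtain rfl := List.mem_singleton.1 (show x ∈ [r] from hx)
    exact ⟨1, one_smul _ _⟩
  | append_singleton der e ih =>
    have hlen : ∀ D : List (ℕ × ℕ), (buildOrbit act dflt r D).length = D.length + 1 := by
      intro D
      induction D using List.reverseRecOn with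
      | nil => rfl
      | append_singleton D e ih => simp [buildOrbit, List.foldl_append] at ih ⊢; exact ih
    have ih' := ih (fun e' he => hgen e' (List.mem_append_left _ he)) fun k e' he' => hidx k e' (by
      rw [List.getElem?_append_left (List.getElem?_eq_some_iff.1 he').choose]
      exact he')
    intro x hx
    rw [buildOrbit, List.foldl_append, List.foldl_cons, List.foldl_nil, List.mem_append, List.mem_singleton] at hx
    rcases hx with hx | rfl
    · exact ih' x hx
    · have he1 : e.1 < (buildOrbit act dflt r der).length := by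
        rw [hlen]
        exact Nat.lt_succ_of_le (hidx der.length e (by simp))
      obtain ⟨σ, hσ⟩ := ih' ((buildOrbit act dflt r der).getD e.1 dflt)
        (by rw [List.getD_eq_getElem _ _ he1]; exact List.getElem_mem he1)
      have hg : qGens.getD e.2 [] ∈ qGens := by
        have h2 := hgen e (by simp)
        rw [List.getD_eq_getElem _ _ h2]
        exact List.getElem_mem h2
      obtain ⟨τ, hτ⟩ := exists_listed (List.mem_append_right _ hg)
      refine ⟨τ * σ, ?_⟩
      rw [Subgroup.coe_mul, mul_smul, hσ]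
      exact hact τ.1 _ (fun i => by rw [← hτ, tableOf_getD]) _

/-- The points reached. -/
def ptOrbit : List ℕ := buildOrbit (fun g x => g.getD x 0) 0 0 ptDeriv

theorem derivs_check :
    ((List.range 12).all fun j => ptOrbit.any (Nat.beq j)) = true ∧
    [ptDeriv, deriv0, deriv1, deriv2, deriv3].all (fun D => D.all fun e => Nat.blt e.2 qGens.length) = true ∧
    [ptDeriv, deriv0, deriv1, deriv2, deriv3].all
      (fun D => (List.range D.length).all fun k => Nat.ble (D.getD k (0, 0)).1 k) = true := by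
  refine ⟨by decide +kernel, by decide +kernel, by decide +kernel⟩

theorem deriv_props {D : List (ℕ × ℕ)} (hD : D ∈ [ptDeriv, deriv0, deriv1, deriv2, deriv3]) :
    (∀ e ∈ D, e.2 < qGens.length) ∧ ∀ (k : ℕ) (e : ℕ × ℕ), D[k]? = some e → e.1 ≤ k := by
  constructor
  · intro e he
    simpa [Nat.blt_eq] using List.all_eq_true.1 (List.all_eq_true.1 derivs_check.2.1 D hD) e he
  · intro k e he
    obtain ⟨hk, hke⟩ := List.getElem?_eq_some_iff.1 he
    have := List.all_eq_true.1 (List.all_eq_true.1 derivs_check.2.2 D hD) k (List.mem_range.2 hk)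
    rw [List.getD_eq_getElem _ _ hk, hke, Nat.ble_eq] at this
    exact this

theorem HStd_transitive (i j : Fin 12) : ∃ σ : HStd, σ.1 i = j := by
  suffices key : ∀ j : Fin 12, ∃ σ : HStd, σ.1 0 = j by
    obtain ⟨a, ha⟩ := key i
    obtain ⟨b, hb⟩ := key j
    exact ⟨b * a⁻¹, by
      show b.1 (a.1⁻¹ i) = j
      rw [Equiv.Perm.inv_eq_iff_eq.2 ha.symm, hb]⟩
  intro j
  obtain ⟨x, hx, he⟩ := List.any_eq_true.1 (List.all_eq_true.1 derivs_check.1 j.val (List.mem_range.2 j.isLt))
  obtain rfl := Nat.eq_of_beq_eq_true he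
  let sem : ℕ → Finset (Fin 12) := fun x => set12 (2 ^ x)
  have hd := deriv_props (D := ptDeriv) (by simp)
  have hsem : ∀ x : Fin 12, sem x.val = {x} := fun x => by
    ext i
    simp only [sem, mem_set12, Nat.testBit_two_pow, decide_eq_true_eq, Finset.mem_singleton]
    exact ⟨fun h => Fin.ext h.symm, fun h => by rw [h]⟩
  obtain ⟨σ, hσ⟩ := buildOrbit_sound (γ := Finset (Fin 12)) (fun g x => bif Nat.blt x 12 then g.getD x 0 else x) 0 0 sem ptDeriv
    (fun π g hg x => by
      by_cases h : x < 12
      · rw [show Nat.blt x 12 = true from Nat.blt_eq.mpr h, cond_true, ← hg ⟨x, h⟩, hsem, hsem ⟨x, h⟩,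
          Finset.smul_finset_singleton]
        rfl
      · rw [show Nat.blt x 12 = false by rw [← Bool.not_eq_true, Nat.blt_eq]; exact h, cond_false]
        have : sem x = ∅ := by
          ext i
          simp only [sem, mem_set12, Nat.testBit_two_pow, decide_eq_true_eq, Finset.notMem_empty, iff_false]
          omega
        rw [this, Finset.smul_finset_empty])
    hd.1 hd.2 j.val (by
      have : buildOrbit (fun g x => bif Nat.blt x 12 then g.getD x 0 else x) 0 0 ptDeriv = ptOrbit := by decide +kernel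
      rw [this]; exact hx)
  refine ⟨σ, ?_⟩
  rw [show sem 0 = {(0 : Fin 12)} from hsem 0, hsem, Finset.smul_finset_singleton, Finset.singleton_inj] at hσ
  exact hσ

/-- Labelled quartets. -/
def quartSet : Set (Finset (Finset (Fin 12))) := qset '' {l | l ∈ quartList}

/-- The intersection pattern with the chosen quartet, as a number. -/
def weight (X : Finset (Finset (Fin 12))) : ℕ := ∑ t ∈ qStd, ∑ u ∈ X, 3 ^ (t ∩ u).card

theorem weight_smul (σ : HStd) (X : Finset (Finset (Fin 12))) : weight (σ.1 • X) = weight X := by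
  unfold weight
  conv_lhs => rw [← show σ.1 • qStd = qStd from σ.2.2]
  rw [Finset.smul_finset_def, Finset.sum_image fun a _ b _ h => MulAction.injective σ.1 h]
  refine Finset.sum_congr rfl fun t _ => ?_
  rw [Finset.smul_finset_def, Finset.sum_image fun a _ b _ h => MulAction.injective σ.1 h]
  refine Finset.sum_congr rfl fun u _ => ?_
  rw [← Finset.smul_finset_inter, Finset.card_smul_finset]

/-- The intersection pattern of a list. -/
def weightB (l : List ℕ) : ℕ := (q12.map fun t => (l.map fun u => 3 ^ pcnt (Nat.land t u)).sum).sum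

theorem quartList_check :
    quartList.all (fun l => decide l.Nodup && l.all fun m => decide (m < 4096)) = true ∧
    (decide q12.Nodup && q12.all fun m => decide (m < 4096)) = true := by
  refine ⟨by decide +kernel, by decide +kernel⟩

theorem weight_qset {l : List ℕ} (hl : l ∈ quartList) : weight (qset l) = weightB l := by
  have h := List.all_eq_true.1 quartList_check.1 l hl
  have h0 := quartList_check.2
  simp only [Bool.and_eq_true, decide_eq_true_eq, List.all_eq_true] at h h0
  have hnd : ∀ {l : List ℕ}, l.Nodup → (∀ m ∈ l, m < 4096) → (l.map set12).Nodup := fun h1 h2 =>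
    List.Nodup.map_on (fun a ha b hb e => set12_inj (h2 a ha) (h2 b hb) e) h1
  rw [weight, weightB, qStd, qset, List.sum_toFinset _ (hnd h0.1 h0.2), List.map_map]
  refine congrArg List.sum (List.map_congr_left fun t ht => ?_)
  rw [Function.comp_apply, qset, List.sum_toFinset _ (hnd h.1 h.2), List.map_map]
  refine congrArg List.sum (List.map_congr_left fun u _ => ?_)
  rw [Function.comp_apply, show Nat.land t u = t &&& u from rfl, ← set12_and,
    card_set12 (lt_of_le_of_lt Nat.and_le_left (h0.2 t ht))]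

/-- The orbit of a representative. -/
def qOrb (r : List ℕ) (D : List (ℕ × ℕ)) : List (List ℕ) := buildOrbit (fun g l => l.map (img12 g)) [] r D

/-- The quartets in a class. -/
def classOk (r : List ℕ) (D : List (ℕ × ℕ)) (w : ℕ) : Bool :=
  quartList.all fun l => !(Nat.beq (weightB l) w) || (qOrb r D).any (sameQ l)

theorem orbits_check :
    classOk rep0 deriv0 60 = true ∧ classOk rep1 deriv1 56 = true ∧ classOk rep2 deriv2 52 = true ∧
    classOk rep3 deriv3 44 = true ∧
    quartList.all (fun l => sameQ l q12 || [60, 56, 52, 44].any (Nat.beq (weightB l))) = true ∧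
    quartList.any (fun l => sameQ l q12) = true ∧
    [(rep0, 60), (rep1, 56), (rep2, 52), (rep3, 44)].all (fun p =>
      quartList.any (fun l => Nat.beq (weightB l) p.2 && sameQ l p.1)) = true ∧
    [60, 56, 52, 44].map (fun w => (quartList.filter fun l => Nat.beq (weightB l) w).length) = [12, 27, 72, 108] ∧
    List.Pairwise (fun a b => sameQ a b = false) quartList := by
  refine ⟨by decide +kernel, by decide +kernel, by decide +kernel, by decide +kernel, by decide +kernel,
    by decide +kernel, by decide +kernel, by decide +kernel, by decide +kernel⟩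

theorem qset_injOn {a b : List ℕ} (ha : a ∈ quartList) (hb : b ∈ quartList) (h : qset a = qset b) : sameQ a b = true := by
  have h1 := List.all_eq_true.1 quartList_check.1 a ha
  have h2 := List.all_eq_true.1 quartList_check.1 b hb
  simp only [Bool.and_eq_true, decide_eq_true_eq, List.all_eq_true] at h1 h2
  simp only [sameQ, Bool.and_eq_true, List.all_eq_true, List.any_eq_true, Nat.beq_eq]
  constructor
  · intro x hx
    have : set12 x ∈ qset b := h ▸ List.mem_toFinset.2 (List.mem_map.2 ⟨x, hx, rfl⟩)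
    obtain ⟨y, hy, e⟩ := List.mem_map.1 (List.mem_toFinset.1 this)
    exact ⟨y, hy, (set12_inj (h2.2 y hy) (h1.2 x hx) e).symm⟩
  · intro x hx
    have : set12 x ∈ qset a := h.symm ▸ List.mem_toFinset.2 (List.mem_map.2 ⟨x, hx, rfl⟩)
    obtain ⟨y, hy, e⟩ := List.mem_map.1 (List.mem_toFinset.1 this)
    exact ⟨y, hy, (set12_inj (h1.2 y hy) (h2.2 x hx) e).symm⟩

/-- A class of the given weight is one orbit. -/
theorem orbit_eq_class {r : List ℕ} {D : List (ℕ × ℕ)} {w : ℕ} (hD : D ∈ [ptDeriv, deriv0, deriv1, deriv2, deriv3])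
    (hc : classOk r D w = true) (hr : quartList.any (fun l => Nat.beq (weightB l) w && sameQ l r) = true)
    (hinv : ∀ σ : HStd, ∀ X ∈ quartSet, σ.1 • X ∈ quartSet) :
    qset r ∈ quartSet ∧ orbit HStd (qset r) = {X ∈ quartSet | weight X = w} ∧
      {X ∈ quartSet | weight X = w}.ncard = (quartList.filter fun l => Nat.beq (weightB l) w).length := by
  classical
  obtain ⟨l₀, hl₀, h⟩ := List.any_eq_true.1 hr
  rw [Bool.and_eq_true, Nat.beq_eq] at h
  have he : qset l₀ = qset r := sameQ_sound h.2
  have hw : weight (qset r) = w := by rw [← he, weight_qset hl₀, h.1]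
  have hmem : qset r ∈ quartSet := ⟨l₀, hl₀, he⟩
  refine ⟨hmem, Set.Subset.antisymm ?_ ?_, ?_⟩
  · rintro _ ⟨σ, rfl⟩
    exact ⟨hinv σ _ hmem, (weight_smul σ _).trans hw⟩
  · rintro _ ⟨⟨l, hl, rfl⟩, hwl⟩
    have := List.all_eq_true.1 hc l hl
    rw [weight_qset hl] at hwl
    simp only [Bool.or_eq_true, Bool.not_eq_true', hwl, List.any_eq_true] at this
    obtain ⟨x, hx, hs⟩ := this.resolve_left (by simp)
    obtain ⟨σ, hσ⟩ := buildOrbit_sound (β := List ℕ) (fun g l => List.map (img12 g) l) [] r qset D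
      (fun π g hg l => smul_qset hg l) (deriv_props hD).1 (deriv_props hD).2 x hx
    exact ⟨σ, hσ.trans (sameQ_sound hs).symm⟩
  · have heq : {X ∈ quartSet | weight X = w} = ↑((quartList.filter fun l => Nat.beq (weightB l) w).map qset).toFinset := by
      ext X
      simp only [Set.mem_setOf_eq, List.coe_toFinset, List.mem_map, List.mem_filter, quartSet, Set.mem_image, Nat.beq_eq]
      constructor
      · rintro ⟨⟨l, hl, rfl⟩, hX⟩
        exact ⟨l, ⟨hl, by rw [← weight_qset hl, hX]⟩, rfl⟩
      · rintro ⟨l, ⟨hl, hwl⟩, rfl⟩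
        exact ⟨⟨l, hl, rfl⟩, by rw [weight_qset hl, hwl]⟩
    rw [heq, Set.ncard_coe_finset, List.toFinset_card_of_nodup, List.length_map]
    rw [List.Nodup, List.pairwise_map]
    refine (orbits_check.2.2.2.2.2.2.2.2.filter _).imp_of_mem ?_
    intro a b ha hb hab e
    rw [qset_injOn (List.mem_filter.1 ha).1 (List.mem_filter.1 hb).1 e] at hab
    exact Bool.noConfusion hab

/-! ### The bridge to the code -/

theorem image_set12_dod {m : ℕ} (_ : m < 4096) : (set12 m).image dodPt = mset (img12 dodLab m) := by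
  ext y
  rw [mem_image, mem_mset, img12, testBit_orMask]
  simp only [Bool.and_eq_true, Nat.blt_eq, mem_set12]
  constructor
  · rintro ⟨i, hi, rfl⟩
    exact ⟨i.val, mem_bits24.2 (by omega), ⟨i.isLt, hi⟩, (dodLab_lt i).2.symm⟩
  · rintro ⟨k, -, ⟨hk, hks⟩, hky⟩
    exact ⟨⟨k, hk⟩, hks, gidx_injective (Fin.ext ((dodLab_lt ⟨k, hk⟩).2.trans hky))⟩

/-- A family of sets of labels, on the points of the code. -/
def lift12 (X : Finset (Finset (Fin 12))) : Finset (Finset GolayPt) := X.image fun s => s.image dodPt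

theorem lift12_injective : Function.Injective lift12 :=
  Finset.image_injective (Finset.image_injective dodPt_check.1)

theorem lift12_qset {l : List ℕ} (h : ∀ m ∈ l, m < 4096) : lift12 (qset l) = lset (l.map (img12 dodLab)) := by
  ext s
  simp only [lift12, qset, lset, Finset.mem_image, List.mem_toFinset, List.mem_map, exists_exists_and_eq_and]
  exact ⟨fun ⟨m, hm, e⟩ => ⟨m, hm, by rw [← e, image_set12_dod (h m hm)]⟩,
    fun ⟨m, hm, e⟩ => ⟨m, hm, by rw [← e, image_set12_dod (h m hm)]⟩⟩

theorem quartList_map : quartList.map (fun l => l.map (img12 dodLab)) = qList := by decide +kernel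

theorem quartets_eq_lift : quartets baseDodecad = lift12 '' quartSet := by
  rw [quartets_base_eq, quartSet, Set.image_image]
  ext Q
  rw [Finset.mem_coe, mem_famSet, ← quartList_map]
  simp only [List.mem_map, exists_exists_and_eq_and, Set.mem_image, Set.mem_setOf_eq]
  have hlt : ∀ l ∈ quartList, ∀ m ∈ l, m < 4096 := fun l hl m hm => by
    have h := List.all_eq_true.1 quartList_check.1 l hl
    simp only [Bool.and_eq_true, decide_eq_true_eq, List.all_eq_true] at h
    exact h.2 m hm
  exact ⟨fun ⟨l, hl, e⟩ => ⟨l, hl, (lift12_qset (hlt l hl)).trans e.symm⟩,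
    fun ⟨l, hl, e⟩ => ⟨l, hl, e.symm.trans (lift12_qset (hlt l hl))⟩⟩

theorem lift12_smul (x : stabilizer M24 baseDodecad) (X : Finset (Finset (Fin 12))) :
    x.1.1 • lift12 X = lift12 (dodToStd x • X) := by
  simp only [lift12, Finset.smul_finset_def, Finset.image_image]
  refine Finset.image_congr fun s _ => ?_
  simp only [Function.comp_apply, Finset.smul_finset_def, Finset.image_image]
  exact Finset.image_congr fun i _ => (dodToStd_spec x i).symm

theorem exists_lift (σ : setSystemAut hexStd) : ∃ x : stabilizer M24 baseDodecad, dodToStd x = σ.1 := by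
  obtain ⟨x, hx⟩ := dodStdEquiv.surjective σ
  exact ⟨x, congrArg Subtype.val hx⟩

theorem quartSet_invariant (σ : HStd) {X : Finset (Finset (Fin 12))} (hX : X ∈ quartSet) : σ.1 • X ∈ quartSet := by
  obtain ⟨x, hx⟩ := exists_lift ⟨σ.1, σ.2.1⟩
  have h : x.1.1 • lift12 X ∈ quartets baseDodecad := by
    have := smul_mem_quartets (d := baseDodecad) x.1.2 (quartets_eq_lift ▸ Set.mem_image_of_mem _ hX : lift12 X ∈ quartets baseDodecad)
    rwa [show x.1.1 • baseDodecad = baseDodecad from x.2] at this
  rw [lift12_smul, hx, quartets_eq_lift] at h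
  obtain ⟨Y, hY, e⟩ := h
  rwa [← lift12_injective e]

theorem qStd_mem : qStd ∈ quartSet := by
  obtain ⟨l, hl, h⟩ := List.any_eq_true.1 orbits_check.2.2.2.2.2.1
  exact ⟨l, hl, sameQ_sound h⟩

/-- The chosen quartet of the base dodecad. -/
def baseQuartet : Finset (Finset GolayPt) := lift12 qStd

theorem baseQuartet_mem : baseQuartet ∈ quartets baseDodecad :=
  quartets_eq_lift ▸ Set.mem_image_of_mem _ qStd_mem

/-- The stabiliser in the group of the code. -/
def HCode : Subgroup M24 := stabilizer M24 baseDodecad ⊓ stabilizer M24 baseQuartet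

/-- The comparison with the model. -/
noncomputable def toModel : HCode →* HStd where
  toFun x := ⟨dodToStd ⟨x.1, x.2.1⟩, dodToStd_mem _, mem_stabilizer_iff.2 (lift12_injective (by
    rw [← lift12_smul]
    exact x.2.2))⟩
  map_one' := Subtype.ext (map_one dodToStd)
  map_mul' a b := Subtype.ext (map_mul dodToStd ⟨a.1, a.2.1⟩ ⟨b.1, b.2.1⟩)

theorem toModel_bijective : Function.Bijective toModel := by
  refine ⟨fun a b h => ?_, fun σ => ?_⟩
  · have := dodToStd_injective (congrArg Subtype.val h)
    exact Subtype.ext (congrArg (fun y : stabilizer M24 baseDodecad => y.1) this)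
  · obtain ⟨x, hx⟩ := exists_lift ⟨σ.1, σ.2.1⟩
    refine ⟨⟨x.1, x.2, ?_⟩, Subtype.ext hx⟩
    show x.1.1 • lift12 qStd = lift12 qStd
    rw [lift12_smul, hx]
    exact congrArg lift12 σ.2.2

theorem card_HCode : Nat.card HCode = 432 := by
  have hd : Nat.card (stabilizer M24 baseDodecad) = 95040 := by
    rw [Nat.card_congr dodStdEquiv.toEquiv, card_hex_aut (Fintype.card_fin 12) hexStd_steiner]
  have horb : orbit (stabilizer M24 baseDodecad) baseQuartet = quartets baseDodecad := by
    ext Q
    constructor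
    · rintro ⟨x, rfl⟩
      have := smul_mem_quartets (d := baseDodecad) x.1.2 baseQuartet_mem
      rwa [show x.1.1 • baseDodecad = baseDodecad from x.2] at this
    · intro hQ
      obtain ⟨g, hg, hgd, hgQ⟩ := quartets_transitive baseDodecad_mem baseQuartet_mem hQ
      exact ⟨⟨⟨g, hg⟩, hgd⟩, hgQ⟩
  have h := Subgroup.card_mul_index (stabilizer (stabilizer M24 baseDodecad) baseQuartet)
  rw [MulAction.index_stabilizer, horb, quartets_ncard baseDodecad_mem, hd] at h
  have he : Nat.card (stabilizer (stabilizer M24 baseDodecad) baseQuartet) = Nat.card HCode :=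
    Nat.card_congr ⟨fun x => ⟨x.1.1, x.1.2, x.2⟩, fun x => ⟨⟨x.1, x.2.1⟩, x.2.2⟩, fun x => rfl, fun x => rfl⟩
  omega

theorem card_HStd : Nat.card HStd = 432 := by
  rw [← Nat.card_congr (MulEquiv.ofBijective toModel toModel_bijective).toEquiv, card_HCode]

theorem exists_transport {d : Finset GolayPt} (hd : d ∈ dodecads) {Q : Finset (Finset GolayPt)} (hQ : Q ∈ quartets d) :
    ∃ g : M24, g.1 • baseDodecad = d ∧ g.1 • baseQuartet = Q ∧
      quartets d = (fun X => g.1 • lift12 X) '' quartSet := by
  obtain ⟨k, hk, rfl, -⟩ := quartets_transfer hd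
  have hkQ : k • baseQuartet ∈ quartets (k • baseDodecad) := smul_mem_quartets hk baseQuartet_mem
  obtain ⟨m, hm, hmd, hmQ⟩ := quartets_transitive hd hkQ hQ
  refine ⟨⟨m * k, mul_mem hm hk⟩, by rw [mul_smul, hmd], by rw [mul_smul, hmQ], ?_⟩
  have hd' : (m * k) • baseDodecad = k • baseDodecad := by rw [mul_smul, hmd]
  rw [← Set.image_image (fun Y => (m * k) • Y) lift12, ← quartets_eq_lift]
  ext Y
  refine ⟨fun hY => ⟨(m * k)⁻¹ • Y, ?_, smul_inv_smul _ _⟩, ?_⟩
  · have := smul_mem_quartets (inv_mem (mul_mem hm hk)) hY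
    rwa [← hd', inv_smul_smul] at this
  · rintro ⟨Z, hZ, rfl⟩
    have := smul_mem_quartets (mul_mem hm hk) hZ
    rwa [hd'] at this

theorem transport_equiv {d : Finset GolayPt} {Q : Finset (Finset GolayPt)} (g : M24) (hgd : g.1 • baseDodecad = d)
    (hgQ : g.1 • baseQuartet = Q) :
    ∃ e : HStd ≃* ↥(stabilizer M24 d ⊓ stabilizer M24 Q), ∀ σ X, (e σ).1.1 • g.1 • lift12 X = g.1 • lift12 (σ.1 • X) := by
  let m := MulEquiv.ofBijective toModel toModel_bijective
  have h0 : ∀ (x : HCode) X, x.1.1 • lift12 X = lift12 ((m x).1 • X) := fun x X => lift12_smul ⟨x.1, x.2.1⟩ X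
  have hmem : ∀ x : M24, x ∈ HCode ↔ g * x * g⁻¹ ∈ stabilizer M24 d ⊓ stabilizer M24 Q := by
    intro x
    have key : ∀ {β : Type} [MulAction (Equiv.Perm GolayPt) β] (a b : β), g.1 • a = b →
        (x.1 • a = a ↔ (g * x * g⁻¹ : M24).1 • b = b) := fun a b hab => by
      show _ ↔ (g.1 * x.1 * g.1⁻¹) • b = b
      rw [← hab, mul_smul, mul_smul, inv_smul_smul]
      exact ⟨fun h => by rw [h], fun h => MulAction.injective g.1 h⟩
    exact and_congr (key _ _ hgd) (key _ _ hgQ)
  let c : HCode ≃* ↥(stabilizer M24 d ⊓ stabilizer M24 Q) :=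
    { toFun := fun x => ⟨g * x.1 * g⁻¹, (hmem _).1 x.2⟩
      invFun := fun y => ⟨g⁻¹ * y.1 * g, (hmem _).2 (by simpa [mul_assoc] using y.2)⟩
      left_inv := fun x => Subtype.ext (by simp [mul_assoc])
      right_inv := fun y => Subtype.ext (by simp [mul_assoc])
      map_mul' := fun a b => Subtype.ext (by simp [mul_assoc]) }
  refine ⟨m.symm.trans c, fun σ X => ?_⟩
  have := h0 (m.symm σ) X
  rw [MulEquiv.apply_symm_apply] at this
  rw [← this]
  show (g.1 * (m.symm σ).1.1 * g.1⁻¹) • g.1 • lift12 X = _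
  rw [mul_smul, mul_smul, inv_smul_smul]

theorem structure_main {d : Finset GolayPt} (hd : d ∈ dodecads) {Q : Finset (Finset GolayPt)} (hQ : Q ∈ quartets d) :
    Nat.card ↥(stabilizer M24 d ⊓ stabilizer M24 Q) = 432 ∧
    (∃ (N : Subgroup ↥(stabilizer M24 d ⊓ stabilizer M24 Q)) (_ : N.Normal), Nat.card N = 9 ∧
      Nonempty (↥(stabilizer M24 d ⊓ stabilizer M24 Q) ⧸ N ≃* GL (Fin 2) (ZMod 3))) ∧
    ∀ p ∈ d, ∀ q ∈ d, ∃ g ∈ stabilizer M24 d ⊓ stabilizer M24 Q, ((g : ↥M24) : Equiv.Perm GolayPt) p = q := by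
  obtain ⟨g, hgd, hgQ, -⟩ := exists_transport hd hQ
  obtain ⟨e, he⟩ := transport_equiv g hgd hgQ
  refine ⟨by rw [← Nat.card_congr e.toEquiv, card_HStd], ?_, ?_⟩
  · obtain ⟨N, hN, hc, ⟨f⟩⟩ := exists_normal_nine card_HStd
    refine ⟨N.map e.toMonoidHom, hN.map _ e.surjective, by rw [Subgroup.card_map_of_injective e.injective, hc], ?_⟩
    haveI := hN.map e.toMonoidHom e.surjective
    haveI : (Subgroup.map (e : HStd →* ↥(stabilizer M24 d ⊓ stabilizer M24 Q)) N).Normal := this
    exact ⟨(QuotientGroup.congr N _ e rfl).symm.trans f⟩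
  · intro p hp q hq
    have hpre : ∀ p ∈ d, ∃ i : Fin 12, g.1 (dodPt i) = p := by
      intro p hp
      rw [← hgd] at hp
      obtain ⟨y, hy, rfl⟩ := Finset.mem_smul_finset.1 hp
      obtain ⟨i, hi⟩ := dodEquiv.surjective ⟨y, hy⟩
      exact ⟨i, congrArg g.1 (congrArg Subtype.val hi)⟩
    obtain ⟨i, rfl⟩ := hpre p hp
    obtain ⟨j, rfl⟩ := hpre q hq
    obtain ⟨σ, hσ⟩ := HStd_transitive i j
    refine ⟨_, (e σ).2, ?_⟩
    have h := he σ {{i}}
    simp only [lift12, Finset.smul_finset_singleton, Finset.image_singleton, Finset.singleton_inj] at h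
    rw [show (σ.1 • i) = σ.1 i from rfl, hσ] at h
    exact h

theorem orbits_main {d : Finset GolayPt} (hd : d ∈ dodecads) {Q : Finset (Finset GolayPt)} (hQ : Q ∈ quartets d) :
    ∃ X₁ ∈ quartets d, ∃ X₂ ∈ quartets d, ∃ X₃ ∈ quartets d, ∃ X₄ ∈ quartets d,
      (orbit ↥(stabilizer M24 d ⊓ stabilizer M24 Q) X₁).ncard = 12 ∧
      (orbit ↥(stabilizer M24 d ⊓ stabilizer M24 Q) X₂).ncard = 27 ∧
      (orbit ↥(stabilizer M24 d ⊓ stabilizer M24 Q) X₃).ncard = 72 ∧
      (orbit ↥(stabilizer M24 d ⊓ stabilizer M24 Q) X₄).ncard = 108 ∧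
      quartets d = {Q} ∪ orbit ↥(stabilizer M24 d ⊓ stabilizer M24 Q) X₁ ∪ orbit ↥(stabilizer M24 d ⊓ stabilizer M24 Q) X₂ ∪
        orbit ↥(stabilizer M24 d ⊓ stabilizer M24 Q) X₃ ∪ orbit ↥(stabilizer M24 d ⊓ stabilizer M24 Q) X₄ := by
  obtain ⟨g, hgd, hgQ, hquart⟩ := exists_transport hd hQ
  obtain ⟨e, he⟩ := transport_equiv g hgd hgQ
  set F : Finset (Finset (Fin 12)) → Finset (Finset GolayPt) := fun X => g.1 • lift12 X with hF
  have hFinj : Function.Injective F := (MulAction.injective g.1).comp lift12_injective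
  have horb : ∀ X, orbit ↥(stabilizer M24 d ⊓ stabilizer M24 Q) (F X) = F '' orbit HStd X := by
    intro X
    ext Y
    constructor
    · rintro ⟨y, rfl⟩
      obtain ⟨σ, rfl⟩ := e.surjective y
      exact ⟨_, mem_orbit X σ, (he σ X).symm⟩
    · rintro ⟨_, ⟨σ, rfl⟩, rfl⟩
      exact ⟨e σ, he σ X⟩
  have hchk := orbits_check
  have hall := List.all_eq_true.1 hchk.2.2.2.2.2.2.1
  have hlen := hchk.2.2.2.2.2.2.2.1
  simp only [List.map_cons, List.map_nil, List.cons.injEq, and_true] at hlen
  obtain ⟨m1, o1, c1⟩ := orbit_eq_class (D := deriv0) (by simp) hchk.1 (hall (rep0, 60) (by simp)) fun σ X => quartSet_invariant σ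
  obtain ⟨m2, o2, c2⟩ := orbit_eq_class (D := deriv1) (by simp) hchk.2.1 (hall (rep1, 56) (by simp)) fun σ X => quartSet_invariant σ
  obtain ⟨m3, o3, c3⟩ := orbit_eq_class (D := deriv2) (by simp) hchk.2.2.1 (hall (rep2, 52) (by simp)) fun σ X => quartSet_invariant σ
  obtain ⟨m4, o4, c4⟩ := orbit_eq_class (D := deriv3) (by simp) hchk.2.2.2.1 (hall (rep3, 44) (by simp)) fun σ X => quartSet_invariant σ
  rw [hlen.1] at c1; rw [hlen.2.1] at c2; rw [hlen.2.2.1] at c3; rw [hlen.2.2.2] at c4
  have hmem : ∀ X ∈ quartSet, F X ∈ quartets d := fun X hX => hquart ▸ Set.mem_image_of_mem _ hX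
  refine ⟨_, hmem _ m1, _, hmem _ m2, _, hmem _ m3, _, hmem _ m4,
    by rw [horb, Set.ncard_image_of_injective _ hFinj, o1, c1], by rw [horb, Set.ncard_image_of_injective _ hFinj, o2, c2],
    by rw [horb, Set.ncard_image_of_injective _ hFinj, o3, c3], by rw [horb, Set.ncard_image_of_injective _ hFinj, o4, c4], ?_⟩
  rw [horb, horb, horb, horb, ← hgQ, hquart]
  change F '' quartSet = {F qStd} ∪ _ ∪ _ ∪ _ ∪ _
  simp only [← Set.image_singleton, ← Set.image_union, o1, o2, o3, o4]
  congr 1
  ext X
  simp only [Set.mem_union, Set.mem_singleton_iff, Set.mem_setOf_eq]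
  constructor
  · intro hX
    obtain ⟨l, hl, rfl⟩ := id hX
    have h := List.all_eq_true.1 hchk.2.2.2.2.1 l hl
    simp only [Bool.or_eq_true, List.any_eq_true, List.mem_cons, List.not_mem_nil, or_false, Nat.beq_eq] at h
    rcases h with h | ⟨w, hw, hwe⟩
    · exact Or.inl (Or.inl (Or.inl (Or.inl (sameQ_sound h))))
    · rw [← weight_qset hl] at hwe
      rcases hw with rfl | rfl | rfl | rfl
      · exact Or.inl (Or.inl (Or.inl (Or.inr ⟨hX, hwe⟩)))
      · exact Or.inl (Or.inl (Or.inr ⟨hX, hwe⟩))
      · exact Or.inl (Or.inr ⟨hX, hwe⟩)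
      · exact Or.inr ⟨hX, hwe⟩
  · rintro ((((rfl | h) | h) | h) | h)
    exacts [qStd_mem, h.1, h.1, h.1, h.1]

end Cfsg.Lib.Concrete.QuartetStab
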