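import Cfsg.Agent.Lib.Linear.SLBasic

/-!
Unipotent elements of `GL₂` and `SL₂`.
-/

set_option autoImplicit false

namespace Cfsg.Lib.Concrete

open Matrix

variable {F : Type*} [Field F]

theorem sq_eq_zero_of_pow_eq_zero {N : Matrix (Fin 2) (Fin 2) F} {k : ℕ} (h : N ^ k = 0) : N * N = 0 := by
  have hdet : N.det = 0 := by
    have h1 : N.det ^ k = 0 := by rw [← Matrix.det_pow, h, Matrix.det_zero]
    exact eq_zero_of_pow_eq_zero h1
  have hCH : N * N = N.trace • N := by
    rw [Matrix.det_fin_two] at hdet
    ext i j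
    fin_cases i <;> fin_cases j <;>
      simp [Matrix.mul_apply, Fin.sum_univ_two, Matrix.trace_fin_two] <;>
      first | linear_combination hdet | linear_combination -hdet | ring1
  rcases eq_or_ne N.trace 0 with ht | ht
  · rw [hCH, ht, zero_smul]
  have hpow : ∀ n : ℕ, N ^ (n + 1) = N.trace ^ n • N := fun n => by
    induction n with
    | zero => simp
    | succ n ih => rw [pow_succ, ih, Matrix.smul_mul, hCH, smul_smul, ← pow_succ]
  cases k with
  | zero => rw [pow_zero] at h; exact absurd h one_ne_zero
  | succ n =>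
    rw [hpow, smul_eq_zero] at h
    rcases h with h | h
    · exact absurd (eq_zero_of_pow_eq_zero h) ht
    · rw [h, mul_zero]

/-- A non-trivial unipotent `g` equals `P u P⁻¹` for the standard `u`, with `P` scalable. -/
theorem exists_conj_std {g : Matrix (Fin 2) (Fin 2) F} (h2 : (g - 1) * (g - 1) = 0) (h1 : g ≠ 1) :
    ∃ P : Matrix (Fin 2) (Fin 2) F, P.det ≠ 0 ∧ g * P = P * !![1, 1; 0, 1] := by
  set N := g - 1 with hN
  have hN0 : N ≠ 0 := sub_ne_zero.2 h1
  obtain ⟨v, hv⟩ : ∃ v : Fin 2 → F, N.mulVec v ≠ 0 := by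
    by_contra h
    push Not at h
    exact hN0 (Matrix.ext_of_mulVec_single fun i => by rw [h, Matrix.zero_mulVec])
  have hw : N.mulVec (N.mulVec v) = 0 := by rw [Matrix.mulVec_mulVec, h2, Matrix.zero_mulVec]
  set w := N.mulVec v with hwdef
  refine ⟨!![w 0, v 0; w 1, v 1], ?_, ?_⟩
  · intro hdet
    rw [Matrix.det_fin_two_of] at hdet
    have hw0 : w ≠ 0 := hv
    obtain ⟨c, hc⟩ : ∃ c : F, v = c • w := by
      rcases eq_or_ne (w 0) 0 with hz | hz
      · have hz1 : w 1 ≠ 0 := fun h => hw0 (funext fun i => by fin_cases i <;> assumption)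
        refine ⟨v 1 / w 1, funext fun i => ?_⟩
        fin_cases i
        · rw [hz, zero_mul, zero_sub, neg_eq_zero, mul_eq_zero] at hdet
          simp [hz, hdet.resolve_right hz1]
        · simp [hz1]
      · refine ⟨v 0 / w 0, funext fun i => ?_⟩
        fin_cases i
        · simp [hz]
        · simp only [Pi.smul_apply, smul_eq_mul]
          show v 1 = v 0 / w 0 * w 1
          field_simp
          linear_combination hdet
    apply hv
    rw [hwdef, hc, Matrix.mulVec_smul, hw, smul_zero]
  · have hg : g = N + 1 := by rw [hN, sub_add_cancel]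
    have e0 := congrFun hw 0
    have e1 := congrFun hw 1
    have f0 := congrFun hwdef 0
    have f1 := congrFun hwdef 1
    simp only [Matrix.mulVec, dotProduct, Fin.sum_univ_two, Pi.zero_apply] at e0 e1 f0 f1
    rw [hg]
    ext i j
    fin_cases i <;> fin_cases j <;>
      simp [Matrix.mul_apply, Fin.sum_univ_two]
    · linear_combination e0
    · linear_combination -f0
    · linear_combination e1
    · linear_combination -f1

theorem sub_one_sq_eq_zero_of_pow (p : ℕ) [Fact p.Prime] [CharP F p] {g : Matrix (Fin 2) (Fin 2) F}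
    (h : g ^ p = 1) : (g - 1) * (g - 1) = 0 :=
  sq_eq_zero_of_pow_eq_zero (k := p) (by rw [sub_pow_char_of_commute (p := p) (Commute.one_right g), h, one_pow, sub_self])

theorem card_conjClass_mul {G : Type*} [Group G] (g : G) :
    Nat.card (ConjClasses.mk g).carrier * Nat.card (Subgroup.centralizer ({g} : Set G)) = Nat.card G := by
  rw [← ConjAct.orbit_eq_carrier_conjClasses, Subgroup.centralizer_eq_comap_stabilizer,
    ← Nat.card_prod]
  exact Nat.card_congr (MulAction.orbitProdStabilizerEquivGroup (ConjAct G) g)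

end Cfsg.Lib.Concrete
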