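import Cfsg.Agent.Lib.Concrete.SLTwoMultiplier
import Cfsg.Agent.Lib.Concrete.SteinbergHigher
import Cfsg.Agent.Lib.Chev.StStem

/-!
Central extensions of the special linear groups: the lifts of root elements satisfy the Steinberg relations, so the
multiplier of `SL n` is trivial outside the exceptional pairs; the multiplier of a central quotient follows.
-/

set_option autoImplicit false
set_option linter.unusedSectionVars false

namespace Cfsg.Lib.Concrete.SLMult

open scoped commutatorElement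
open Subgroup (center)

universe u

section Cover

/-- A perfect group with trivial multiplier is the universal cover of its central quotients. -/
theorem hasCyclic_quotient {S Q : Type u} [Group S] [Group Q] [Finite S] (hS : commutator S = ⊤)
    (hM : ∀ (Γ : Type u) [Group Γ] [Finite Γ] (σ : Γ →* S), Cfsg.IsStemExtension σ → σ.ker = ⊥)
    (θ : S →* Q) (hθ : Function.Surjective θ) (hk : θ.ker ≤ center S) [IsCyclic θ.ker] :
    Cfsg.HasCyclicSchurMultiplier Q (Nat.card θ.ker) := by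
  let e : Multiplicative (ZMod (Nat.card θ.ker)) ≃* θ.ker := zmodCyclicMulEquiv inferInstance
  refine ⟨⟨S, inferInstance, inferInstance, θ, ⟨hθ, hk, hS ▸ le_top⟩, ⟨e.symm⟩⟩, fun Γ _ _ σ hσ => ?_⟩
  have hQ : commutator Q = ⊤ := by
    have := congrArg (Subgroup.map θ) hS
    rw [commutator_def, Subgroup.map_commutator, Subgroup.map_top_of_surjective _ hθ, ← commutator_def] at this
    exact this
  let P : Subgroup (Γ × S) := (σ.comp (MonoidHom.fst Γ S)).eqLocus (θ.comp (MonoidHom.snd Γ S))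
  let p₂ : P →* S := (MonoidHom.snd Γ S).comp P.subtype
  have hp₂ : Function.Surjective p₂ := fun s => by
    obtain ⟨γ, hγ⟩ := hσ.1 (θ s)
    exact ⟨⟨(γ, s), hγ⟩, rfl⟩
  have hp₂c : p₂.ker ≤ center P := by
    intro x hx
    rw [Subgroup.mem_center_iff]
    intro y
    have h2 : x.1.2 = 1 := hx
    have h1 : x.1.1 ∈ center Γ := hσ.2.1 (by
      rw [MonoidHom.mem_ker]
      have e : σ x.1.1 = θ x.1.2 := x.2
      rw [e, h2, map_one])
    refine Subtype.ext (Prod.ext (Subgroup.mem_center_iff.1 h1 y.1.1) ?_)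
    show y.1.2 * x.1.2 = x.1.2 * y.1.2
    rw [h2, one_mul, mul_one]
  let D := commutator P
  let r : D →* S := p₂.comp D.subtype
  have hr : Function.Surjective r := by
    intro s
    have := congrArg (Subgroup.map p₂) (rfl : commutator P = commutator P)
    have hmap : D.map p₂ = ⊤ := by
      show (commutator P).map p₂ = ⊤
      rw [commutator_def, Subgroup.map_commutator, Subgroup.map_top_of_surjective _ hp₂, ← commutator_def, hS]
    obtain ⟨x, hx, hxs⟩ : s ∈ D.map p₂ := hmap ▸ Subgroup.mem_top s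
    exact ⟨⟨x, hx⟩, hxs⟩
  have hrc : r.ker ≤ center D := fun x hx =>
    Subgroup.mem_center_iff.2 fun y => Subtype.ext (Subgroup.mem_center_iff.1 (hp₂c hx) y.1)
  have hD : commutator D = ⊤ := by
    refine Subgroup.map_injective D.subtype_injective ?_
    rw [← MonoidHom.range_eq_map, Subgroup.range_subtype, commutator_def, Subgroup.map_commutator,
      ← MonoidHom.range_eq_map, Subgroup.range_subtype]
    refine le_antisymm (Subgroup.commutator_mono le_top le_top |>.trans (commutator_def P).ge) ?_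
    show commutator P ≤ ⁅D, D⁆
    rw [commutator_eq_closure, Subgroup.closure_le]
    rintro _ ⟨a, b, rfl⟩
    obtain ⟨⟨a', ha'⟩, ea⟩ := hr (p₂ a)
    obtain ⟨⟨b', hb'⟩, eb⟩ := hr (p₂ b)
    have hca : a'⁻¹ * a ∈ center P := hp₂c (by
      rw [MonoidHom.mem_ker, map_mul, map_inv]
      have : p₂ a' = p₂ a := ea
      rw [this, inv_mul_cancel])
    have hcb : b'⁻¹ * b ∈ center P := hp₂c (by
      rw [MonoidHom.mem_ker, map_mul, map_inv]
      have : p₂ b' = p₂ b := eb
      rw [this, inv_mul_cancel])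
    have e := Cfsg.Lib.Chev.comm_mul_central (a := a') (b := b') hca hcb
    rw [mul_inv_cancel_left, mul_inv_cancel_left] at e
    show ⁅a, b⁆ ∈ ⁅D, D⁆
    rw [e]
    exact Subgroup.commutator_mem_commutator ha' hb'
  have hker := hM D r ⟨hr, hrc, hD ▸ le_top⟩
  let eD : D ≃* S := MulEquiv.ofBijective r ⟨(MonoidHom.ker_eq_bot_iff r).1 hker, hr⟩
  let τ : S →* Γ := ((MonoidHom.fst Γ S).comp (P.subtype.comp D.subtype)).comp eD.symm.toMonoidHom
  have hτ : ∀ s, σ (τ s) = θ s := fun s => by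
    have h1 : σ ((eD.symm s : P) : Γ × S).1 = θ ((eD.symm s : P) : Γ × S).2 := (eD.symm s : P).2
    have h2 : ((eD.symm s : P) : Γ × S).2 = s := eD.apply_symm_apply s
    rw [h2] at h1
    exact h1
  have hτs : Function.Surjective τ := by
    rw [← MonoidHom.range_eq_top]
    refine Cfsg.Lib.Chev.top_of_stem hσ hQ (eq_top_iff.2 fun q _ => ?_)
    obtain ⟨s, rfl⟩ := hθ q
    exact ⟨τ s, ⟨s, rfl⟩, hτ s⟩
  let ρ : θ.ker →* σ.ker := (τ.comp θ.ker.subtype).codRestrict σ.ker fun y => by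
    show σ (τ y) = 1
    rw [hτ]; exact y.2
  refine ⟨ρ.comp e.toMonoidHom, fun x => ?_⟩
  obtain ⟨s, hs⟩ := hτs x.1
  have hs' : s ∈ θ.ker := by rw [MonoidHom.mem_ker, ← hτ, hs]; exact x.2
  obtain ⟨z, hz⟩ := e.surjective ⟨s, hs'⟩
  refine ⟨z, Subtype.ext ?_⟩
  show τ (e z).1 = x.1
  rw [hz]; exact hs

end Cover

variable {K : Type*} [Field K] {n : ℕ}

/-- An elementary matrix, trivial on the diagonal. -/
def tr (i j : Fin n) (t : K) : Matrix.SpecialLinearGroup (Fin n) K :=
  if h : i ≠ j then Matrix.SpecialLinearGroup.transvection h t else 1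

theorem coe_tr {i j : Fin n} (h : i ≠ j) (t : K) :
    ((tr i j t : Matrix.SpecialLinearGroup (Fin n) K) : Matrix (Fin n) (Fin n) K) = 1 + Matrix.single i j t := by
  rw [tr, dif_pos h, Matrix.SpecialLinearGroup.transvection_coe]

theorem tr_add {i j : Fin n} (h : i ≠ j) (t u : K) : tr i j t * tr i j u = tr i j (t + u) := by
  refine Subtype.ext ?_
  rw [Matrix.SpecialLinearGroup.coe_mul, coe_tr h, coe_tr h, coe_tr h, add_mul, one_mul, mul_add, mul_one,
    Matrix.single_mul_single_of_ne _ _ _ _ h.symm, Matrix.single_add]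
  abel

theorem tr_comm {i j k l : Fin n} (h1 : i ≠ j) (h2 : k ≠ l) (h3 : i ≠ l) (h4 : j ≠ k) (t u : K) :
    tr i j t * tr k l u = tr k l u * tr i j t := by
  refine Subtype.ext ?_
  simp only [Matrix.SpecialLinearGroup.coe_mul, coe_tr h1, coe_tr h2]
  rw [add_mul, one_mul, mul_add, mul_one, add_mul, one_mul, mul_add, mul_one,
    Matrix.single_mul_single_of_ne _ _ _ _ h4, Matrix.single_mul_single_of_ne _ _ _ _ h3.symm]
  abel

theorem tr_prod {i j k : Fin n} (h1 : i ≠ j) (h2 : j ≠ k) (h3 : i ≠ k) (t u : K) :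
    tr i j t * tr j k u = tr i k (t * u) * tr j k u * tr i j t := by
  refine Subtype.ext ?_
  simp only [Matrix.SpecialLinearGroup.coe_mul, coe_tr h1, coe_tr h2, coe_tr h3]
  simp only [add_mul, one_mul, mul_add, mul_one, Matrix.single_mul_single_same,
    Matrix.single_mul_single_of_ne _ _ _ _ h3.symm, Matrix.single_mul_single_of_ne _ _ _ _ h2.symm, add_zero,
    zero_add, Matrix.zero_mul]
  abel

theorem tr_bracket {i j k : Fin n} (h1 : i ≠ j) (h2 : j ≠ k) (h3 : i ≠ k) (t u : K) :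
    ⁅tr i j t, tr j k u⁆ = tr i k (t * u) := by
  rw [commutatorElement_def, tr_prod h1 h2 h3, mul_inv_cancel_right, mul_inv_cancel_right]

theorem closure_tr : Subgroup.closure {g : Matrix.SpecialLinearGroup (Fin n) K | ∃ i j t, i ≠ j ∧ g = tr i j t} = ⊤ := by
  rw [eq_top_iff, ← Cfsg.Lib.Linear.closure_transvection_eq_top, Subgroup.closure_le]
  rintro _ ⟨i, j, hij, c, rfl⟩
  exact Subgroup.subset_closure ⟨i, j, c, hij, by rw [tr, dif_pos hij]⟩

/-- A diagonal matrix of determinant one. -/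
def dia (d : Fin n → Kˣ) (hd : ∏ m, d m = 1) : Matrix.SpecialLinearGroup (Fin n) K :=
  ⟨Matrix.diagonal fun m => (d m : K), by
    rw [Matrix.det_diagonal, ← Units.coe_prod, hd, Units.val_one]⟩

theorem coe_dia (d : Fin n → Kˣ) (hd : ∏ m, d m = 1) :
    ((dia d hd : Matrix.SpecialLinearGroup (Fin n) K) : Matrix (Fin n) (Fin n) K) = Matrix.diagonal fun m => (d m : K) := rfl

theorem dia_tr (d : Fin n → Kˣ) (hd : ∏ m, d m = 1) {i j : Fin n} (h : i ≠ j) (t : K) :
    dia d hd * tr i j t = tr i j ((d i : K) / d j * t) * dia d hd := by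
  refine Subtype.ext ?_
  simp only [Matrix.SpecialLinearGroup.coe_mul, coe_tr h, coe_dia]
  rw [mul_add, mul_one, add_mul, one_mul]
  congr 1
  ext r s
  simp only [Matrix.diagonal_mul, Matrix.mul_diagonal, Matrix.single_apply]
  by_cases h' : i = r ∧ j = s
  · obtain ⟨rfl, rfl⟩ := h'
    simp
    field_simp
  · simp [h']

theorem dia_comm (d d' : Fin n → Kˣ) (hd : ∏ m, d m = 1) (hd' : ∏ m, d' m = 1) :
    dia d hd * dia d' hd' = dia d' hd' * dia d hd := by
  refine Subtype.ext ?_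
  simp only [Matrix.SpecialLinearGroup.coe_mul, coe_dia, Matrix.diagonal_mul_diagonal, mul_comm]

theorem exists_diag {i j l : Fin n} (hij : i ≠ j) (hil : i ≠ l) (hjl : j ≠ l) (x y : Kˣ) :
    ∃ d : Fin n → Kˣ, ∏ m, d m = 1 ∧ d i = x ∧ d j = y ∧ d l = (x * y)⁻¹ := by
  refine ⟨Pi.mulSingle i x * Pi.mulSingle j y * Pi.mulSingle l (x * y)⁻¹, ?_, ?_, ?_, ?_⟩
  · simp [Finset.prod_mul_distrib]
  · simp [hij, hil]
  · simp [hij.symm, hjl]
  · simp [hil.symm, hjl.symm]

variable {E : Type*} [Group E] {σ : E →* Matrix.SpecialLinearGroup (Fin n) K}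

theorem two_ne_zero_of_card [Fintype K] (h : Fintype.card K = 3) : (2 : K) ≠ 0 := by
  intro e
  have h3 : (3 : K) = 0 := by have := FiniteField.cast_card_eq_zero K; rw [h] at this; exact_mod_cast this
  exact one_ne_zero (show (1 : K) = 0 by linear_combination h3 - e)

theorem three_elems [Fintype K] (h : Fintype.card K = 3) (u : K) : u = 0 ∨ u = 1 ∨ u = -1 := by
  rcases eq_or_ne u 0 with hu | hu
  · exact Or.inl hu
  have h2 := FiniteField.pow_card_sub_one_eq_one u hu
  rw [h] at h2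
  exact Or.inr (mul_self_eq_one_iff.1 (by simpa [pow_two] using h2))

/-- The hypothesis under which the lifts of root elements satisfy the relations. -/
def Generic (K : Type*) [Field K] (n : ℕ) : Prop :=
  5 ≤ n ∨ (n = 4 ∧ ((∃ s : K, s ≠ 0 ∧ s ^ 2 ≠ 1) ∨ ((2 : K) ≠ 0 ∧ ∀ u : K, u = 0 ∨ u = 1 ∨ u = -1))) ∨
    (n = 3 ∧ ∃ s : K, s ≠ 0 ∧ s ^ 3 ≠ 1)

section Lifts

variable (hc : σ.ker ≤ center E) (hs : Function.Surjective σ)
include hc

theorem div_center {a a' : E} (h : σ a = σ a') : a'⁻¹ * a ∈ center E :=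
  hc (by rw [MonoidHom.mem_ker, map_mul, map_inv, h, inv_mul_cancel])

theorem comm_congr {a a' b b' : E} (ha : σ a = σ a') (hb : σ b = σ b') : ⁅a, b⁆ = ⁅a', b'⁆ := by
  have := Cfsg.Lib.Chev.comm_mul_central (a := a') (b := b') (div_center hc ha) (div_center hc hb)
  rwa [mul_inv_cancel_left, mul_inv_cancel_left] at this

theorem conj_congr {a a' b : E} (ha : σ a = σ a') : a * b * a⁻¹ = a' * b * a'⁻¹ := by
  obtain ⟨z, hz, rfl⟩ : ∃ z, z ∈ center E ∧ a = a' * z := ⟨_, div_center hc ha, by group⟩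
  rw [mul_inv_rev, show a' * z * b * (z⁻¹ * a'⁻¹) = a' * (z * b) * z⁻¹ * a'⁻¹ by group,
    ← Subgroup.mem_center_iff.1 hz b]
  group

theorem bracket_right {a b b' : E} (h : ⁅a, b'⁆ ∈ center E) : ⁅a, b * b'⁆ = ⁅a, b⁆ * ⁅a, b'⁆ := by
  rw [show ⁅a, b * b'⁆ = ⁅a, b⁆ * (b * ⁅a, b'⁆ * b⁻¹) by
    rw [commutatorElement_def, commutatorElement_def, commutatorElement_def]; group,
    Subgroup.mem_center_iff.1 h b, mul_inv_cancel_right]

theorem bracket_left {a a' b : E} (h : ⁅a', b⁆ ∈ center E) : ⁅a * a', b⁆ = ⁅a', b⁆ * ⁅a, b⁆ := by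
  rw [show ⁅a * a', b⁆ = a * ⁅a', b⁆ * a⁻¹ * ⁅a, b⁆ by
    rw [commutatorElement_def, commutatorElement_def, commutatorElement_def]; group,
    Subgroup.mem_center_iff.1 h a, mul_inv_cancel_right]

theorem bracket_central {i j k l : Fin n} (h1 : i ≠ j) (h2 : k ≠ l) (h3 : i ≠ l) (h4 : j ≠ k) {a b : E} {t u : K}
    (ha : σ a = tr i j t) (hb : σ b = tr k l u) : ⁅a, b⁆ ∈ center E :=
  hc (by rw [MonoidHom.mem_ker, map_commutatorElement, ha, hb, commutatorElement_eq_one_iff_commute]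
         exact tr_comm h1 h2 h3 h4 t u)

include hs

/-- Lifts of commuting root elements commute if there is a spare index. -/
theorem commute_spare {i j k l m : Fin n} (h1 : i ≠ j) (h2 : k ≠ l) (h3 : i ≠ l) (h4 : j ≠ k) (hmi : m ≠ i)
    (hmj : m ≠ j) (hmk : m ≠ k) (hml : m ≠ l) {a b : E} {t u : K} (ha : σ a = tr i j t) (hb : σ b = tr k l u) :
    Commute a b := by
  obtain ⟨x, hx⟩ := hs (tr k m u)
  obtain ⟨y, hy⟩ := hs (tr m l 1)
  rw [← commutatorElement_eq_one_iff_commute,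
    comm_congr hc (a := a) rfl (show σ b = σ ⁅x, y⁆ by
      rw [map_commutatorElement, hx, hy, hb, tr_bracket hmk.symm hml h2, mul_one]),
    commutatorElement_eq_one_iff_commute]
  have e : a * ⁅x, y⁆ * a⁻¹ = ⁅x, y⁆ := by
    rw [show a * ⁅x, y⁆ * a⁻¹ = ⁅a * x * a⁻¹, a * y * a⁻¹⁆ by
      rw [commutatorElement_def, commutatorElement_def]; group]
    refine comm_congr hc ?_ ?_
    · rw [map_mul, map_mul, map_inv, ha, hx, tr_comm h1 hmk.symm hmi.symm h4, mul_inv_cancel_right]
    · rw [map_mul, map_mul, map_inv, ha, hy, tr_comm h1 hml h3 hmj.symm, mul_inv_cancel_right]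
  exact mul_inv_eq_iff_eq_mul.1 e

/-- Lifts commute if a torus separates the characters. -/
theorem commute_torus {i j k l : Fin n} (h1 : i ≠ j) (h2 : k ≠ l) (h3 : i ≠ l) (h4 : j ≠ k) (d : Fin n → Kˣ)
    (hd : ∏ m, d m = 1) (hne : (d i : K) / d j ≠ 1) (he : (d k : K) / d l = 1) {a b : E} {t u : K}
    (ha : σ a = tr i j t) (hb : σ b = tr k l u) : Commute a b := by
  obtain ⟨h, hh⟩ := hs (dia d hd)
  set c := (d i : K) / d j
  have hsub : c - 1 ≠ 0 := sub_ne_zero.2 hne
  obtain ⟨a₁, ha₁⟩ := hs (tr i j (t / (c - 1)))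
  have hz := bracket_central hc h1 h2 h3 h4 ha₁ hb
  have e1 : ⁅h * a₁ * h⁻¹, b⁆ = ⁅a₁, b⁆ := by
    rw [comm_congr hc (a := h * a₁ * h⁻¹) rfl (show σ b = σ (h * b * h⁻¹) by
        rw [map_mul, map_mul, map_inv, hh, hb, dia_tr d hd h2, he, one_mul, mul_inv_cancel_right]),
      show ⁅h * a₁ * h⁻¹, h * b * h⁻¹⁆ = h * ⁅a₁, b⁆ * h⁻¹ by
        rw [commutatorElement_def, commutatorElement_def]; group,
      Subgroup.mem_center_iff.1 hz h, mul_inv_cancel_right]
  have e2 : ⁅h * a₁ * h⁻¹, b⁆ = ⁅a, b⁆ * ⁅a₁, b⁆ := by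
    rw [comm_congr hc (show σ (h * a₁ * h⁻¹) = σ (a₁ * a) by
        rw [map_mul, map_mul, map_inv, hh, ha₁, dia_tr d hd h1, mul_inv_cancel_right, map_mul, ha₁, ha, tr_add h1]
        congr 1
        show c * _ = _
        generalize c = w at hsub ⊢
        field_simp
        ring) (rfl : σ b = σ b)]
    exact bracket_left hc (bracket_central hc h1 h2 h3 h4 ha hb)
  rw [e1] at e2
  exact commutatorElement_eq_one_iff_commute.1 (mul_eq_right.1 e2.symm)

/-- The four index case over the field with three elements. -/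
theorem commute_three {i j k l : Fin n} (h1 : i ≠ j) (h2 : k ≠ l) (h3 : i ≠ l) (h4 : j ≠ k) (h5 : i ≠ k) (h6 : j ≠ l)
    (h2K : (2 : K) ≠ 0) (hK : ∀ u : K, u = 0 ∨ u = 1 ∨ u = -1) {a b : E} {t u : K}
    (ha : σ a = tr i j t) (hb : σ b = tr k l u) : Commute a b := by
  choose L hL using hs
  have hs' : Function.Surjective σ := fun g => ⟨L g, hL g⟩
  let β : Fin n → Fin n → Fin n → Fin n → K → K → E := fun a b c d t u => ⁅L (tr a b t), L (tr c d u)⁆
  -- the two expansions
  have hA : β i j k l 1 1 = β k j i l (-1) 1 := by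
    set x := L (tr k i 1)
    set y := L (tr i l 1)
    set w := L (tr k j (-1 : K))
    set p := L (tr i j (1 : K))
    show ⁅p, L (tr k l 1)⁆ = ⁅w, y⁆
    rw [comm_congr hc (a := p) rfl (show σ (L (tr k l 1)) = σ ⁅x, y⁆ by
      rw [map_commutatorElement, hL, hL, hL, tr_bracket h5.symm h3 h2, mul_one])]
    have hcc : Commute w ⁅x, y⁆ := commute_spare hc hs' (m := i) h4.symm h2 h2 h4 h5 h1 h5 h3 (hL _)
      (by rw [map_commutatorElement, hL, hL, tr_bracket h5.symm h3 h2])
    have e : p * ⁅x, y⁆ * p⁻¹ = ⁅w, y⁆ * ⁅x, y⁆ := by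
      rw [show p * ⁅x, y⁆ * p⁻¹ = ⁅p * x * p⁻¹, p * y * p⁻¹⁆ by
        rw [commutatorElement_def, commutatorElement_def]; group,
        comm_congr hc (show σ (p * x * p⁻¹) = σ (w * x) by
          rw [map_mul, map_mul, map_inv, hL, hL, map_mul, hL, mul_inv_eq_iff_eq_mul, hL,
            mul_assoc (tr k j (-1 : K)), tr_prod h5.symm h1 h4.symm, ← mul_assoc, ← mul_assoc, tr_add h4.symm,
            one_mul, neg_add_cancel, show tr k j (0 : K) = 1 from mul_eq_left.1 ((tr_add h4.symm 0 0).trans (by rw [add_zero])), one_mul])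
          (show σ (p * y * p⁻¹) = σ y by
            rw [map_mul, map_mul, map_inv, hL, hL, tr_comm h1 h3 h3 h1.symm, mul_inv_cancel_right]),
        show ⁅w * x, y⁆ = w * ⁅x, y⁆ * w⁻¹ * ⁅w, y⁆ by
          rw [commutatorElement_def, commutatorElement_def, commutatorElement_def]; group,
        hcc.eq, mul_inv_cancel_right]
      exact Subgroup.mem_center_iff.1 (bracket_central hc h4.symm h3 h2 h1.symm (hL _) (hL _)) _
    show p * ⁅x, y⁆ * p⁻¹ * ⁅x, y⁆⁻¹ = _
    rw [e, mul_inv_cancel_right]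
  have hB : β i j k l 1 1 = β k j i l 1 1 := by
    set x := L (tr k j (1 : K))
    set y := L (tr j l (1 : K))
    set z := L (tr i l (1 : K))
    set p := L (tr i j (1 : K))
    show ⁅p, L (tr k l 1)⁆ = ⁅x, z⁆
    rw [comm_congr hc (a := p) rfl (show σ (L (tr k l 1)) = σ ⁅x, y⁆ by
      rw [map_commutatorElement, hL, hL, hL, tr_bracket h4.symm h6 h2, mul_one])]
    have hcc : Commute z ⁅x, y⁆ := commute_spare hc hs' (m := j) h3 h2 h3 h2.symm h1.symm h6 h4 h6 (hL _)
      (by rw [map_commutatorElement, hL, hL, tr_bracket h4.symm h6 h2])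
    have e : p * ⁅x, y⁆ * p⁻¹ = ⁅x, z⁆ * ⁅x, y⁆ := by
      rw [show p * ⁅x, y⁆ * p⁻¹ = ⁅p * x * p⁻¹, p * y * p⁻¹⁆ by
        rw [commutatorElement_def, commutatorElement_def]; group,
        comm_congr hc (show σ (p * x * p⁻¹) = σ x by
          rw [map_mul, map_mul, map_inv, hL, hL, tr_comm h1 h4.symm h1 h4, mul_inv_cancel_right])
          (show σ (p * y * p⁻¹) = σ (z * y) by
            rw [map_mul, map_mul, map_inv, hL, hL, map_mul, hL, mul_inv_eq_iff_eq_mul, hL,
              tr_prod h1 h6 h3, one_mul]),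
        show ⁅x, z * y⁆ = ⁅x, z⁆ * (z * ⁅x, y⁆ * z⁻¹) by
          rw [commutatorElement_def, commutatorElement_def, commutatorElement_def]; group,
        hcc.eq, mul_inv_cancel_right]
    show p * ⁅x, y⁆ * p⁻¹ * ⁅x, y⁆⁻¹ = _
    rw [e, mul_inv_cancel_right]
  have hcen : ∀ s v, β k j i l s v ∈ center E := fun s v => bracket_central hc h4.symm h3 h2 h1.symm (hL _) (hL _)
  have hadd : ∀ s s', β k j i l (s + s') 1 = β k j i l s' 1 * β k j i l s 1 := fun s s' => by
    show ⁅L (tr k j (s + s')), L (tr i l 1)⁆ = ⁅L (tr k j s'), L (tr i l 1)⁆ * ⁅L (tr k j s), L (tr i l 1)⁆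
    rw [comm_congr hc (show σ (L (tr k j (s + s'))) = σ (L (tr k j s) * L (tr k j s')) by
      rw [map_mul, hL, hL, hL, tr_add h4.symm]) (rfl : σ (L (tr i l 1)) = _)]
    exact bracket_left hc (hcen s' 1)
  set Y := β k j i l 1 1 with hY
  have h0 : β k j i l 0 1 = 1 := by
    have := hadd 0 0
    rw [add_zero] at this
    exact mul_eq_left.1 this.symm
  have hY2 : Y * Y = 1 := by
    have := hadd 1 (-1)
    rw [add_neg_cancel, h0, ← hA, hB] at this
    exact this.symm
  have h3K : (1 : K) + 1 = -1 := by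
    rcases hK (1 + 1) with h | h | h
    · exact absurd (show (2 : K) = 0 by rw [← one_add_one_eq_two]; exact h) h2K
    · exact absurd (add_eq_left.1 h) one_ne_zero
    · exact h
  have hY1 : Y = 1 := by
    have h := hadd 1 1
    rw [h3K, ← hA, hB, ← hY, hY2] at h
    exact h
  have hz0 : ∀ (p q r s : Fin n) (u : K), β p q r s 1 u = ⁅L (tr p q 1), L (tr r s u)⁆ := fun _ _ _ _ _ => rfl
  have hone : Commute (L (tr i j 1)) (L (tr k l 1)) :=
    commutatorElement_eq_one_iff_commute.1 (by rw [← hz0, hB]; exact hY1)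
  -- every element is zero or a sign
  have hpow : ∀ {p q : Fin n}, p ≠ q → ∀ {x y : E} (s : K), σ x = tr p q s → Commute (L (tr p q 1)) y → Commute x y := by
    intro p q hpq x y s hx hcy
    have key : ∀ w : E, σ x = σ w → Commute w y → Commute x y := fun w hw hwy => by
      have : x = w * (w⁻¹ * x) := by group
      rw [this]
      exact hwy.mul_left (Subgroup.mem_center_iff.1 (div_center hc hw) y).symm
    have hz : tr p q (0 : K) = 1 := mul_eq_left.1 ((tr_add hpq 0 0).trans (by rw [add_zero]))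
    rcases hK s with rfl | rfl | rfl
    · exact key 1 (by rw [hx, hz, map_one]) (Commute.one_left y)
    · exact key _ (by rw [hx, hL]) hcy
    · refine key _ (?_ : σ x = σ (L (tr p q 1))⁻¹) hcy.inv_left
      rw [hx, map_inv, hL]
      exact (inv_eq_of_mul_eq_one_right (by rw [tr_add hpq, add_neg_cancel, hz])).symm
  exact (hpow h2 u hb (hpow h1 t ha hone).symm).symm

/-- Lifts of commuting root elements commute. -/
theorem commute_lifts (hg : Generic K n) {i j k l : Fin n} (h1 : i ≠ j) (h2 : k ≠ l) (h3 : i ≠ l) (h4 : j ≠ k)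
    {a b : E} {t u : K} (ha : σ a = tr i j t) (hb : σ b = tr k l u) : Commute a b := by
  classical
  by_cases hm : ∃ m, m ≠ i ∧ m ≠ j ∧ m ≠ k ∧ m ≠ l
  · obtain ⟨m, h5, h6, h7, h8⟩ := hm
    exact commute_spare hc hs h1 h2 h3 h4 h5 h6 h7 h8 ha hb
  push Not at hm
  have hn : n ≤ ({i, j, k, l} : Finset (Fin n)).card := by
    have : (Finset.univ : Finset (Fin n)) ⊆ {i, j, k, l} := fun m _ => by
      simp only [Finset.mem_insert, Finset.mem_singleton]
      by_cases e1 : m = i; · exact Or.inl e1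
      by_cases e2 : m = j; · exact Or.inr (Or.inl e2)
      by_cases e3 : m = k; · exact Or.inr (Or.inr (Or.inl e3))
      exact Or.inr (Or.inr (Or.inr (hm m e1 e2 e3)))
    simpa using Finset.card_le_card this
  have h4' : ({i, j, k, l} : Finset (Fin n)).card ≤ 4 := Finset.card_le_four
  rcases hg with hg | ⟨rfl, hg⟩ | ⟨rfl, s, hs0, hs3⟩
  · omega
  · have h5 : i ≠ k := fun e => by
      subst e
      have : ({i, j, i, l} : Finset (Fin 4)).card ≤ 3 := by
        refine le_trans (Finset.card_le_card (t := {i, j, l}) fun m => ?_) Finset.card_le_three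
        simp
        tauto
      omega
    have h6 : j ≠ l := fun e => by
      subst e
      have : ({i, j, k, j} : Finset (Fin 4)).card ≤ 3 := by
        refine le_trans (Finset.card_le_card (t := {i, j, k}) fun m => ?_) Finset.card_le_three
        simp
        tauto
      omega
    rcases hg with ⟨s, hs0, hs2⟩ | ⟨h2K, hK⟩
    · refine commute_torus hc hs h1 h2 h3 h4 (Pi.mulSingle i (Units.mk0 s hs0) * Pi.mulSingle j (Units.mk0 s hs0)⁻¹)
        (by simp [Finset.prod_mul_distrib]) ?_ ?_ ha hb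
      · simp [h1, h1.symm]
        intro e
        field_simp at e
        exact hs2 (by linear_combination e)
      · simp [h5.symm, h4.symm, h3.symm, h6.symm]
    · exact commute_three hc hs h1 h2 h3 h4 h5 h6 h2K hK ha hb
  · have hor : (i = k ∧ j ≠ l) ∨ (i ≠ k ∧ j = l) := by
      have hh : ¬ (i = k ∧ j = l) := by
        rintro ⟨rfl, rfl⟩
        have : ({i, j, i, j} : Finset (Fin 3)).card ≤ 2 := by
          refine le_trans (Finset.card_le_card (t := {i, j}) fun m => ?_) Finset.card_le_two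
          simp
        omega
      by_cases e : i = k
      · exact Or.inl ⟨e, fun e' => hh ⟨e, e'⟩⟩
      · refine Or.inr ⟨e, ?_⟩
        by_contra e'
        have : ({i, j, k, l} : Finset (Fin 3)).card = 4 :=
          Finset.card_eq_four.2 ⟨i, j, k, l, h1, e, h3, h4, e', h2, rfl⟩
        exact absurd (this ▸ Finset.card_le_univ _) (by simp)
    set S := Units.mk0 s hs0
    rcases hor with ⟨rfl, h6⟩ | ⟨h5, rfl⟩
    · obtain ⟨d, hd, di, dj, dl⟩ := exists_diag h1 h3 h6 S ((S ^ 2)⁻¹)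
      refine commute_torus hc hs h1 h2 h3 h4 d hd ?_ ?_ ha hb
      · rw [di, dj]
        simp only [S, Units.val_inv_eq_inv_val, Units.val_pow_eq_pow_val, Units.val_mk0]
        intro e
        field_simp at e
        exact hs3 (by linear_combination e)
      · rw [di, dl]
        simp only [S, mul_inv_rev, inv_inv, Units.val_mul, Units.val_inv_eq_inv_val, Units.val_pow_eq_pow_val, Units.val_mk0]
        field_simp
    · obtain ⟨d, hd, di, dj, dk⟩ := exists_diag h1 h5 h4 ((S ^ 2)⁻¹) S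
      refine commute_torus hc hs h1 h2 h3 h4 d hd ?_ ?_ ha hb
      · rw [di, dj]
        simp only [S, Units.val_inv_eq_inv_val, Units.val_pow_eq_pow_val, Units.val_mk0]
        intro e
        field_simp at e
        exact hs3 (by linear_combination -e)
      · rw [dk, dj]
        simp only [S, mul_inv_rev, inv_inv, Units.val_mul, Units.val_inv_eq_inv_val, Units.val_pow_eq_pow_val, Units.val_mk0]
        field_simp

end Lifts

section Relations

variable (hc : σ.ker ≤ center E) (hs : Function.Surjective σ) (hg : Generic K n) (L : Matrix.SpecialLinearGroup (Fin n) K → E)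
  (hL : ∀ g, σ (L g) = g)

/-- The commutator of two neighbouring lifts. -/
def g2 (i j k : Fin n) (t u : K) : E := ⁅L (tr i j t), L (tr j k u)⁆

include hc hs hg hL

theorem map_g2 {i j k : Fin n} (h1 : i ≠ j) (h2 : j ≠ k) (h3 : i ≠ k) (t u : K) : σ (g2 L i j k t u) = tr i k (t * u) := by
  rw [g2, map_commutatorElement, hL, hL, tr_bracket h1 h2 h3]

theorem g2_right {i j k : Fin n} (h1 : i ≠ j) (h2 : j ≠ k) (h3 : i ≠ k) (t u v : K) :
    g2 L i j k t (u + v) = g2 L i j k t u * g2 L i j k t v := by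
  have e : Commute (L (tr j k u)) (g2 L i j k t v) :=
    commute_lifts hc hs hg h2 h3 h2 h3.symm (hL _) (map_g2 hc hs hg L hL h1 h2 h3 t v)
  rw [g2, comm_congr hc (a := L (tr i j t)) rfl (show σ (L (tr j k (u + v))) = σ (L (tr j k u) * L (tr j k v)) by
      rw [map_mul, hL, hL, hL, tr_add h2]),
    show ⁅L (tr i j t), L (tr j k u) * L (tr j k v)⁆ = g2 L i j k t u * (L (tr j k u) * g2 L i j k t v * (L (tr j k u))⁻¹) by
      rw [g2, g2, commutatorElement_def, commutatorElement_def, commutatorElement_def]; group,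
    e.eq, mul_inv_cancel_right]

theorem g2_left {i j k : Fin n} (h1 : i ≠ j) (h2 : j ≠ k) (h3 : i ≠ k) (t s u : K) :
    g2 L i j k (t + s) u = g2 L i j k t u * g2 L i j k s u := by
  have e : Commute (L (tr i j t)) (g2 L i j k s u) :=
    commute_lifts hc hs hg h1 h3 h3 h1.symm (hL _) (map_g2 hc hs hg L hL h1 h2 h3 s u)
  have e' : Commute (g2 L i j k t u) (g2 L i j k s u) :=
    commute_lifts hc hs hg h3 h3 h3 h3.symm (map_g2 hc hs hg L hL h1 h2 h3 t u) (map_g2 hc hs hg L hL h1 h2 h3 s u)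
  rw [g2, comm_congr hc (b := L (tr j k u)) (show σ (L (tr i j (t + s))) = σ (L (tr i j t) * L (tr i j s)) by
      rw [map_mul, hL, hL, hL, tr_add h1]) rfl,
    show ⁅L (tr i j t) * L (tr i j s), L (tr j k u)⁆ = L (tr i j t) * g2 L i j k s u * (L (tr i j t))⁻¹ * g2 L i j k t u by
      rw [g2, g2, commutatorElement_def, commutatorElement_def, commutatorElement_def]; group,
    e.eq, mul_inv_cancel_right, e'.eq]

/-- The middle index does not matter when there is a fourth one. -/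
theorem g2_assoc {i j l k : Fin n} (hij : i ≠ j) (hjk : j ≠ k) (hik : i ≠ k) (hil : i ≠ l) (hjl : j ≠ l) (hlk : l ≠ k)
    (t u v : K) : g2 L i j k t (u * v) = g2 L i l k (t * u) v := by
  set a := L (tr i j t)
  set b := L (tr j l u)
  set c := L (tr l k v)
  set d := L (tr i l (t * u))
  show ⁅a, L (tr j k (u * v))⁆ = ⁅d, c⁆
  rw [comm_congr hc (a := a) rfl (show σ (L (tr j k (u * v))) = σ ⁅b, c⁆ by
    rw [map_commutatorElement, hL, hL, hL, tr_bracket hjl hlk hjk])]
  have he : σ ⁅b, c⁆ = tr j k (u * v) := by rw [map_commutatorElement, hL, hL, tr_bracket hjl hlk hjk]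
  have hde : Commute d ⁅b, c⁆ := commute_lifts hc hs hg hil hjk hik hjl.symm (hL _) he
  have hf : σ ⁅d, c⁆ = tr i k (t * u * v) := by rw [map_commutatorElement, hL, hL, tr_bracket hil hlk hik]
  have hef : Commute ⁅d, c⁆ ⁅b, c⁆ := commute_lifts hc hs hg hik hjk hik hjk.symm hf he
  have e : a * ⁅b, c⁆ * a⁻¹ = ⁅d, c⁆ * ⁅b, c⁆ := by
    rw [show a * ⁅b, c⁆ * a⁻¹ = ⁅a * b * a⁻¹, a * c * a⁻¹⁆ by
      rw [commutatorElement_def, commutatorElement_def]; group,
      comm_congr hc (show σ (a * b * a⁻¹) = σ (d * b) by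
        rw [map_mul, map_mul, map_inv, hL, hL, map_mul, hL, hL, tr_prod hij hjl hil, mul_inv_cancel_right])
        (show σ (a * c * a⁻¹) = σ c by
          rw [map_mul, map_mul, map_inv, hL, hL, tr_comm hij hlk hik hjl, mul_inv_cancel_right]),
      show ⁅d * b, c⁆ = d * ⁅b, c⁆ * d⁻¹ * ⁅d, c⁆ by
        rw [commutatorElement_def, commutatorElement_def, commutatorElement_def]; group,
      hde.eq, mul_inv_cancel_right, hef.eq]
  show a * ⁅b, c⁆ * a⁻¹ * ⁅b, c⁆⁻¹ = _
  rw [e, mul_inv_cancel_right]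

omit hg hs in
theorem dia_g2 {i j k : Fin n} (h1 : i ≠ j) (h2 : j ≠ k) (d : Fin n → Kˣ) (hd : ∏ m, d m = 1) (t u : K) :
    L (dia d hd) * g2 L i j k t u * (L (dia d hd))⁻¹ =
      g2 L i j k ((d i : K) / d j * t) ((d j : K) / d k * u) := by
  rw [g2, g2, show L (dia d hd) * ⁅L (tr i j t), L (tr j k u)⁆ * (L (dia d hd))⁻¹ =
    ⁅L (dia d hd) * L (tr i j t) * (L (dia d hd))⁻¹, L (dia d hd) * L (tr j k u) * (L (dia d hd))⁻¹⁆ by
      rw [commutatorElement_def, commutatorElement_def]; group]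
  refine comm_congr hc ?_ ?_
  · rw [map_mul, map_mul, map_inv, hL, hL, hL, dia_tr d hd h1, mul_inv_cancel_right]
  · rw [map_mul, map_mul, map_inv, hL, hL, hL, dia_tr d hd h2, mul_inv_cancel_right]

/-- The middle index scales when there are three indices. -/
theorem g2_three {i j k : Fin n} (hij : i ≠ j) (hjk : j ≠ k) (hik : i ≠ k) (hs3 : ∃ s : K, s ≠ 0 ∧ s ^ 3 ≠ 1) (t u : K) :
    g2 L i j k t u = g2 L i j k (t * u) 1 := by
  obtain ⟨s, hs0, hs3⟩ := hs3
  set S := Units.mk0 s hs0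
  obtain ⟨d₁, hd₁, e1i, e1j, e1k⟩ := exists_diag hij hik hjk S S
  obtain ⟨d₂, hd₂, e2j, e2k, e2i⟩ := exists_diag hjk hij.symm hik.symm S⁻¹ S⁻¹
  set c := s ^ 3 with hc3
  have c1 : (d₁ i : K) / d₁ j = 1 ∧ (d₁ j : K) / d₁ k = c := by
    rw [e1i, e1j, e1k]
    simp [S, hc3, hs0]
    field_simp
  have c2 : (d₂ i : K) / d₂ j = c ∧ (d₂ j : K) / d₂ k = 1 := by
    rw [e2i, e2j, e2k]
    simp [S, hc3, hs0]
    field_simp
  set h₁ := L (dia d₁ hd₁)
  set h₂ := L (dia d₂ hd₂)
  -- torus elements fixing the outer root fix its lifts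
  have hfix : ∀ w, Commute (h₂⁻¹ * h₁) (L (tr i k w)) := by
    have hK : ∀ w, σ (h₂⁻¹ * h₁) * tr i k w * (σ (h₂⁻¹ * h₁))⁻¹ = tr i k w := fun w => by
      rw [map_mul, map_inv, hL, hL, mul_inv_rev, inv_inv,
        show (dia d₂ hd₂)⁻¹ * dia d₁ hd₁ * tr i k w * ((dia d₁ hd₁)⁻¹ * dia d₂ hd₂) =
          (dia d₂ hd₂)⁻¹ * (dia d₁ hd₁ * tr i k w * (dia d₁ hd₁)⁻¹) * dia d₂ hd₂ by group,
        dia_tr d₁ hd₁ hik, mul_inv_cancel_right, inv_mul_eq_iff_eq_mul.mpr]
      rw [mul_assoc, inv_mul_eq_iff_eq_mul, dia_tr d₂ hd₂ hik]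
      congr 2
      rw [e1i, e1k, e2i, e2k]
      simp [S]
      field_simp
    intro w
    set q := h₂⁻¹ * h₁ with hq
    have hcen : ∀ w, ⁅q, L (tr i k w)⁆ ∈ center E := fun w => hc (by
      rw [MonoidHom.mem_ker, map_commutatorElement, hL, commutatorElement_def, hK, mul_inv_cancel])
    have hχ : (d₁ i : K) / d₁ k = c := by
      rw [e1i, e1k]
      simp [S, hc3, hs0]
      field_simp
    have hsub : c - 1 ≠ 0 := sub_ne_zero.2 hs3
    have hscale : ∀ w, ⁅q, L (tr i k (c * w))⁆ = ⁅q, L (tr i k w)⁆ := fun w => by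
      rw [comm_congr hc (show σ q = σ (h₁ * q * h₁⁻¹) by
          have hcm : Commute (dia d₁ hd₁) (σ q) := by
            rw [hq, map_mul, map_inv, hL, hL]
            exact ((show Commute (dia d₁ hd₁) (dia d₂ hd₂) from dia_comm _ _ _ _).inv_right).mul_right (Commute.refl _)
          rw [map_mul σ (h₁ * q), map_mul σ h₁, map_inv σ h₁, hL, hcm.eq, mul_inv_cancel_right])
          (show σ (L (tr i k (c * w))) = σ (h₁ * L (tr i k w) * h₁⁻¹) by
            rw [map_mul, map_mul, map_inv, hL, hL, hL, dia_tr d₁ hd₁ hik, mul_inv_cancel_right, hχ]),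
        show ⁅h₁ * q * h₁⁻¹, h₁ * L (tr i k w) * h₁⁻¹⁆ = h₁ * ⁅q, L (tr i k w)⁆ * h₁⁻¹ by
          rw [commutatorElement_def, commutatorElement_def]; group,
        Subgroup.mem_center_iff.1 (hcen w) h₁, mul_inv_cancel_right]
    refine commutatorElement_eq_one_iff_commute.1 ?_
    set v := w / (c - 1)
    have h := hscale v
    rw [show c * v = w + v by simp [v]; field_simp; ring,
      comm_congr hc (a := q) rfl (show σ (L (tr i k (w + v))) = σ (L (tr i k w) * L (tr i k v)) by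
        rw [map_mul, hL, hL, hL, tr_add hik]), bracket_right hc (hcen v)] at h
    exact mul_eq_right.1 h
  have hshift : ∀ t u, g2 L i j k t (c * u) = g2 L i j k (c * t) u := by
    intro t u
    have e1 := dia_g2 hc L hL hij hjk d₁ hd₁ t u
    have e2 := dia_g2 hc L hL hij hjk d₂ hd₂ t u
    rw [c1.1, c1.2, one_mul] at e1
    rw [c2.1, c2.2, one_mul] at e2
    rw [← e1, ← e2]
    set g := g2 L i j k t u
    have hq : Commute (h₂⁻¹ * h₁) g := by
      have hz := div_center hc (show σ g = σ (L (tr i k (t * u))) by rw [hL, map_g2 hc hs hg L hL hij hjk hik])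
      rw [show g = L (tr i k (t * u)) * ((L (tr i k (t * u)))⁻¹ * g) by group]
      exact (hfix _).mul_right (Subgroup.mem_center_iff.1 hz _)
    have : h₂⁻¹ * h₁ * g * (h₂⁻¹ * h₁)⁻¹ = g := by rw [hq.eq, mul_inv_cancel_right]
    calc h₁ * g * h₁⁻¹ = h₂ * (h₂⁻¹ * h₁ * g * (h₂⁻¹ * h₁)⁻¹) * h₂⁻¹ := by group
      _ = _ := by rw [this]
  have hsub : c - 1 ≠ 0 := sub_ne_zero.2 hs3
  set v := u / (c - 1)
  have hcv : c * v = v + u := by simp [v]; field_simp; ring
  have hz : g2 L i j k t v * (g2 L i j k (t * v) 1)⁻¹ ∈ center E := hc (by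
    rw [MonoidHom.mem_ker, map_mul, map_inv, map_g2 hc hs hg L hL hij hjk hik, map_g2 hc hs hg L hL hij hjk hik, mul_one,
      mul_inv_cancel])
  have h := (Subgroup.mem_center_iff.1 hz h₁)
  have h' : h₁ * (g2 L i j k t v * (g2 L i j k (t * v) 1)⁻¹) * h₁⁻¹ = g2 L i j k t v * (g2 L i j k (t * v) 1)⁻¹ := by
    rw [h, mul_inv_cancel_right]
  have e1 := dia_g2 hc L hL hij hjk d₁ hd₁ t v
  have e2 := dia_g2 hc L hL hij hjk d₁ hd₁ (t * v) 1
  rw [c1.1, c1.2, one_mul] at e1 e2
  rw [show h₁ * (g2 L i j k t v * (g2 L i j k (t * v) 1)⁻¹) * h₁⁻¹ =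
    (h₁ * g2 L i j k t v * h₁⁻¹) * (h₁ * g2 L i j k (t * v) 1 * h₁⁻¹)⁻¹ by group, e1, e2, hshift (t * v) 1,
    show c * (t * v) = t * v + t * u by rw [← mul_add, ← hcv]; ring, hcv, g2_right hc hs hg L hL hij hjk hik,
    g2_left hc hs hg L hL hij hjk hik] at h'
  have cc : ∀ {a b : E} {p q : K}, σ a = tr i k p → σ b = tr i k q → Commute a b := fun ha hb =>
    commute_lifts hc hs hg hik hik hik hik.symm ha hb
  have hm : ∀ a b, σ (g2 L i j k a b) = tr i k (a * b) := map_g2 hc hs hg L hL hij hjk hik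
  rw [mul_inv_rev, mul_assoc, mul_right_inj, ← mul_assoc] at h'
  exact mul_inv_eq_one.1 (mul_eq_right.1 h')

/-- All middle indices give the same element. -/
theorem g2_eq {i j m k : Fin n} (hij : i ≠ j) (hjk : j ≠ k) (hik : i ≠ k) (him : i ≠ m) (hmk : m ≠ k) (t u : K) :
    g2 L i j k t u = g2 L i m k (t * u) 1 := by
  have key : ∀ {a b : Fin n}, i ≠ a → a ≠ k → i ≠ b → b ≠ k → a ≠ b → ∀ t u, g2 L i a k t u = g2 L i b k (t * u) 1 :=
    fun h1 h2 h3 h4 h5 t u => by
      have := g2_assoc hc hs hg L hL h1 h2 hik h3 h5 h4 t u 1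
      rwa [mul_one] at this
  by_cases hjm : j = m
  · subst hjm
    rcases (show n = 3 ∨ 4 ≤ n by rcases hg with h | ⟨h, -⟩ | ⟨h, -⟩ <;> omega) with h3 | h4
    · refine g2_three hc hs hg L hL hij hjk hik ?_ t u
      rcases hg with h | ⟨h, -⟩ | ⟨-, h⟩ <;> first | omega | exact h
    · obtain ⟨l, hl⟩ : ∃ l, l ∉ ({i, j, k} : Finset (Fin n)) := by
        by_contra h
        push Not at h
        have := (Finset.card_le_card (fun l _ => h l : Finset.univ ⊆ {i, j, k})).trans Finset.card_le_three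
        simp at this
        omega
      simp only [Finset.mem_insert, Finset.mem_singleton, not_or] at hl
      have e := g2_assoc hc hs hg L hL hij hjk hik (Ne.symm hl.1) (Ne.symm hl.2.1) hl.2.2 (t * u) 1 1
      rw [key hij hjk (Ne.symm hl.1) hl.2.2 (Ne.symm hl.2.1) t u]
      rw [mul_one, mul_one] at e
      exact e.symm
  · exact key hij hjk him hmk hjm t u

end Relations

/-- A perfect central extension of a generic special linear group splits. -/
theorem ker_eq_bot [Finite K] (hg : Generic K n) (hσ : Cfsg.IsStemExtension σ)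
    (hperf : commutator (Matrix.SpecialLinearGroup (Fin n) K) = ⊤) : σ.ker = ⊥ := by
  classical
  have hn : 3 ≤ n := by rcases hg with h | ⟨h, -⟩ | ⟨h, -⟩ <;> omega
  obtain ⟨L, hL⟩ := hσ.1.hasRightInverse
  have hmid : ∀ i k : Fin n, ∃ m, i ≠ m ∧ m ≠ k := by
    intro i k
    by_contra h
    push Not at h
    have hsub : (Finset.univ : Finset (Fin n)) ⊆ {i, k} := fun m _ => by
      simp only [Finset.mem_insert, Finset.mem_singleton]
      by_cases e : i = m
      · exact Or.inl e.symm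
      · exact Or.inr (h m e)
    have := (Finset.card_le_card hsub).trans Finset.card_le_two
    simp at this
    omega
  choose m hm1 hm2 using hmid
  let X : Fin n → Fin n → K → E := fun i k w => g2 L i (m i k) k w 1
  have hX : ∀ {i k}, i ≠ k → ∀ w, σ (X i k w) = tr i k w := fun {i k} h w => by
    rw [map_g2 hσ.2.1 hσ.1 hg L hL (hm1 i k) (hm2 i k) h, mul_one]
  let f : {ij : Fin n × Fin n // ij.1 ≠ ij.2} × K → E := fun p => X p.1.1.1 p.1.1.2 p.2
  obtain ⟨e, he⟩ := Cfsg.Lib.Concrete.StHigh.presentation K n hn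
  have hrel : ∀ r ∈ ({g : FreeGroup ({ij : Fin n × Fin n // ij.1 ≠ ij.2} × K) | ∃ (a : {ij : Fin n × Fin n // ij.1 ≠ ij.2}) (t u : K),
            g = FreeGroup.of (a, t) * FreeGroup.of (a, u) * (FreeGroup.of (a, t + u))⁻¹} ∪
          {g | ∃ (a b : {ij : Fin n × Fin n // ij.1 ≠ ij.2}) (t u : K), a.1.1 ≠ b.1.2 ∧ a.1.2 ≠ b.1.1 ∧
            g = FreeGroup.of (a, t) * FreeGroup.of (b, u) * (FreeGroup.of (a, t))⁻¹ * (FreeGroup.of (b, u))⁻¹} ∪
          {g | ∃ (a b : {ij : Fin n × Fin n // ij.1 ≠ ij.2}) (h : a.1.1 ≠ b.1.2) (t u : K), a.1.2 = b.1.1 ∧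
            g = FreeGroup.of (a, t) * FreeGroup.of (b, u) * (FreeGroup.of (a, t))⁻¹ * (FreeGroup.of (b, u))⁻¹ *
              (FreeGroup.of (⟨(a.1.1, b.1.2), h⟩, t * u))⁻¹}), FreeGroup.lift f r = 1 := by
    rintro r ((⟨a, t, u, rfl⟩ | ⟨a, b, t, u, h1, h2, rfl⟩) | ⟨a, b, h, t, u, h1, rfl⟩)
    · simp only [map_mul, map_inv, FreeGroup.lift_apply_of]
      rw [mul_inv_eq_one]
      exact (g2_left hσ.2.1 hσ.1 hg L hL (hm1 _ _) (hm2 _ _) a.2 t u 1).symm
    · simp only [map_mul, map_inv, FreeGroup.lift_apply_of]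
      rw [mul_inv_eq_one, mul_inv_eq_iff_eq_mul]
      exact commute_lifts hσ.2.1 hσ.1 hg a.2 b.2 h1 h2 (hX a.2 t) (hX b.2 u)
    · simp only [map_mul, map_inv, FreeGroup.lift_apply_of]
      obtain ⟨⟨i, j⟩, hij⟩ := a
      obtain ⟨⟨j', l⟩, hjl⟩ := b
      simp only at h h1 hij hjl
      subst h1
      rw [mul_inv_eq_one]
      refine Eq.trans (comm_congr hσ.2.1 (a' := L (tr i j t)) (b' := L (tr j l u)) ?_ ?_) ?_
      · rw [hL]; exact hX hij t
      · rw [hL]; exact hX hjl u
      · exact g2_eq hσ.2.1 hσ.1 hg L hL hij hjl h (hm1 i l) (hm2 i l) t u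
  let ψ := PresentedGroup.toGroup hrel
  let s : Matrix.SpecialLinearGroup (Fin n) K →* E := ψ.comp e.symm.toMonoidHom
  have hid : ∀ g, σ (s g) = g := by
    have hcomp : σ.comp ψ = e.toMonoidHom := PresentedGroup.ext fun p => by
      show σ (ψ (PresentedGroup.of p)) = e (PresentedGroup.of p)
      rw [PresentedGroup.toGroup.of]
      show σ (X p.1.1.1 p.1.1.2 p.2) = _
      rw [hX p.1.2]
      exact Subtype.ext ((he p.1 p.2).trans (coe_tr p.1.2 p.2).symm).symm
    intro g
    show σ (ψ (e.symm g)) = g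
    exact (DFunLike.congr_fun hcomp (e.symm g)).trans (e.apply_symm_apply g)
  have hss : Function.Surjective s := by
    rw [← MonoidHom.range_eq_top]
    exact Cfsg.Lib.Chev.top_of_stem hσ hperf (eq_top_iff.2 fun q _ => ⟨s q, ⟨q, rfl⟩, hid q⟩)
  refine (Subgroup.eq_bot_iff_forall _).2 fun x hx => ?_
  obtain ⟨y, rfl⟩ := hss x
  have : y = 1 := (hid y).symm.trans hx
  rw [this, map_one]

/-- The multiplier of the projective special linear groups. -/
theorem multiplier_psl {F : Type u} [Field F] [Fintype F] {q : ℕ} (hF : Fintype.card F = q) (n : ℕ) (hn : 2 ≤ n)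
    (h2 : n = 2 → 4 ≤ q) (hexc : (n, q) ∉ ({(2, 4), (2, 9), (3, 2), (3, 4), (4, 2)} : Set (ℕ × ℕ))) :
    Cfsg.HasCyclicSchurMultiplier (Matrix.ProjectiveSpecialLinearGroup (Fin n) F) (Nat.gcd n (q - 1)) := by
  classical
  subst hF
  simp only [Set.mem_insert_iff, Set.mem_singleton_iff, Prod.mk.injEq, not_or, not_and] at hexc
  obtain ⟨e24, e29, e32, e34, e42⟩ := hexc
  have : Nonempty (Fin n) := ⟨⟨0, by omega⟩⟩
  have hperf : commutator (Matrix.SpecialLinearGroup (Fin n) F) = ⊤ := by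
    refine Cfsg.Lib.Linear.commutator_SL_eq_top' ?_
    rw [Fintype.card_fin]
    by_cases h : n = 2
    · exact Or.inr (h2 h)
    · exact Or.inl (by omega)
  have hq2 := Fintype.one_lt_card (α := F)
  have hM : ∀ (Γ : Type u) [Group Γ] [Finite Γ] (σ : Γ →* Matrix.SpecialLinearGroup (Fin n) F),
      Cfsg.IsStemExtension σ → σ.ker = ⊥ := by
    intro Γ _ _ σ hσ
    by_cases hn2 : n = 2
    · subst hn2
      obtain ⟨π, hπ⟩ := (SLTwoMult.multiplier_sl_two (K := F) (e24 rfl) (e29 rfl)).2 Γ σ hσ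
      refine (Subgroup.eq_bot_iff_forall _).2 fun x hx => ?_
      obtain ⟨z, hz⟩ := hπ ⟨x, hx⟩
      haveI : Subsingleton (Multiplicative (ZMod 1)) := inferInstanceAs (Subsingleton (ZMod 1))
      rw [Subsingleton.elim z 1, map_one] at hz
      exact (congrArg Subtype.val hz.symm :)
    refine ker_eq_bot ?_ hσ hperf
    by_cases h5 : 5 ≤ n
    · exact Or.inl h5
    have hfew : ∀ P : Polynomial F, P ≠ 0 → P.natDegree < Fintype.card F → ∃ s, ¬ P.IsRoot s := by
      intro P hP hd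
      by_contra hall
      push Not at hall
      have : Finset.univ ⊆ P.roots.toFinset := fun x _ => by
        rw [Multiset.mem_toFinset, Polynomial.mem_roots hP]; exact hall x
      have := (Finset.card_le_card this).trans ((Multiset.toFinset_card_le _).trans (Polynomial.card_roots' P))
      rw [Finset.card_univ] at this
      omega
    have hne : ∀ k : ℕ, 1 ≤ k → k + 1 < Fintype.card F → ∃ s : F, s ≠ 0 ∧ s ^ k ≠ 1 := by
      intro k hk hkq
      open Polynomial in
      obtain ⟨s, hs⟩ := hfew (X * (X ^ k - C 1)) (mul_ne_zero X_ne_zero (X_pow_sub_C_ne_zero hk 1)) (by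
        rw [natDegree_mul X_ne_zero (X_pow_sub_C_ne_zero hk 1), natDegree_X, natDegree_X_pow_sub_C]; omega)
      refine ⟨s, fun e => hs (by simp [e]), fun e => hs (by simp [e])⟩
    rcases (show n = 3 ∨ n = 4 by omega) with rfl | rfl
    · refine Or.inr (Or.inr ⟨rfl, ?_⟩)
      by_cases h : 5 ≤ Fintype.card F
      · exact hne 3 (by norm_num) (by omega)
      have h3 : Fintype.card F = 3 := by have := e32 rfl; have := e34 rfl; omega
      have h2F : (2 : F) ≠ 0 := Cfsg.Lib.Concrete.SLMult.two_ne_zero_of_card h3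
      refine ⟨-1, neg_ne_zero.2 one_ne_zero, fun e => h2F ?_⟩
      have e' : (-1 : F) = 1 := by simpa [Odd.neg_one_pow (show Odd 3 by decide)] using e
      linear_combination -e'
    · refine Or.inr (Or.inl ⟨rfl, ?_⟩)
      by_cases h : 4 ≤ Fintype.card F
      · exact Or.inl (hne 2 (by norm_num) (by omega))
      have h3 : Fintype.card F = 3 := by have := e42 rfl; omega
      exact Or.inr ⟨Cfsg.Lib.Concrete.SLMult.two_ne_zero_of_card h3, Cfsg.Lib.Concrete.SLMult.three_elems h3⟩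
  haveI : IsCyclic (Subgroup.center (Matrix.SpecialLinearGroup (Fin n) F)) :=
    isCyclic_of_surjective _ (Matrix.SpecialLinearGroup.center_equiv_rootsOfUnity' (Classical.arbitrary (Fin n))).symm.surjective
  have hk : (QuotientGroup.mk' (Subgroup.center (Matrix.SpecialLinearGroup (Fin n) F))).ker =
      Subgroup.center (Matrix.SpecialLinearGroup (Fin n) F) := QuotientGroup.ker_mk' _
  haveI : IsCyclic (QuotientGroup.mk' (Subgroup.center (Matrix.SpecialLinearGroup (Fin n) F))).ker := by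
    rw [hk]; infer_instance
  have h := hasCyclic_quotient hperf hM (QuotientGroup.mk' (Subgroup.center (Matrix.SpecialLinearGroup (Fin n) F)))
    (QuotientGroup.mk'_surjective _) hk.le
  rwa [hk, Cfsg.Lib.Linear.card_center_SL, Fintype.card_fin] at h

end Cfsg.Lib.Concrete.SLMult
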