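import Mathlib

/-!
A fast equality test for lists of numbers.
-/

set_option autoImplicit false

namespace Cfsg.Lib.Concrete

/-- Equality of lists of numbers. -/
def eqVals : List ℕ → List ℕ → Bool
  | [], [] => true
  | a :: L, b :: M => Nat.beq a b && eqVals L M
  | _, _ => false

theorem eqVals_sound : ∀ L M : List ℕ, eqVals L M = true → L = M
  | [], [], _ => rfl
  | a :: L, b :: M, h => by
    simp only [eqVals, Bool.and_eq_true, Nat.beq_eq] at h
    rw [h.1, eqVals_sound L M h.2]
  | [], _ :: _, h => by simp [eqVals] at h
  | _ :: _, [], h => by simp [eqVals] at h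

end Cfsg.Lib.Concrete
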