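import Cfsg.Agent.Lib.Concrete.FamTop
import Cfsg.Agent.Lib.Concrete.SelfOrbitData
import Cfsg.Agent.Lib.Concrete.SelfOrbitVals
import Cfsg.Agent.Lib.Concrete.SelfEqVals

/-!
Checked certificates: fSS.
-/

set_option autoImplicit false

namespace Cfsg.Lib.Concrete

theorem fSS_orbs : forbsOk mSextet fSSGens fSSTabs fSSOrbs = true := by decide +kernel

theorem fSS_classes : fclassesOk mSextet sextList fSSOrbs fSSIx = true := by decide +kernel

theorem valsSS_eq : eqVals (sextList.map (finvMask mSextet)) valsSS = true := by decide +kernel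

end Cfsg.Lib.Concrete
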