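import Cfsg.Agent.Lib.Concrete.FamTop
import Cfsg.Agent.Lib.Concrete.SelfOrbitData
import Cfsg.Agent.Lib.Concrete.SelfOrbitVals
import Cfsg.Agent.Lib.Concrete.SelfEqVals

/-!
Checked certificates: fTT.
-/

set_option autoImplicit false

namespace Cfsg.Lib.Concrete

theorem fTT_orbs : forbsOk mTrio fTTGens fTTTabs fTTOrbs = true := by decide +kernel

theorem fTT_classes : fclassesOk mTrio trioList fTTOrbs fTTIx = true := by decide +kernel

theorem valsTT_eq : eqVals (trioList.map (finvMask mTrio)) valsTT = true := by decide +kernel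

end Cfsg.Lib.Concrete
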