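import Cfsg.Agent.Lib.Concrete.FamTop
import Cfsg.Agent.Lib.Concrete.SelfOrbitData
import Cfsg.Agent.Lib.Concrete.SelfOrbitVals
import Cfsg.Agent.Lib.Concrete.SelfEqVals

/-!
Checked certificates: fYS.
-/

set_option autoImplicit false

namespace Cfsg.Lib.Concrete

theorem fYS_orbs : forbsOk [7] fYSGens fYSTabs fYSOrbs = true := by decide +kernel

theorem fYS_classes : fclassesOk [7] sextList fYSOrbs fYSIx = true := by decide +kernel

theorem valsYS_eq : eqVals (sextList.map (finvMask [7])) valsYS = true := by decide +kernel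

end Cfsg.Lib.Concrete
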