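import Cfsg.Agent.Lib.Concrete.SelfOrbitCertA
import Cfsg.Agent.Lib.Concrete.SelfOrbitCertB
import Cfsg.Agent.Lib.Concrete.SelfOrbitCertC

/-!
The checked certificates together.
-/
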