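import Cfsg.Agent.Lib.Concrete.Maximal
import Cfsg.Agent.Lib.Concrete.SelfOrbitCerts

/-!
Orbits of a sextet stabiliser on sextets, of a trio stabiliser on trios, and of a triad stabiliser
on sextets.
-/

set_option autoImplicit false

namespace Cfsg.Lib.Concrete

open Finset
open scoped Pointwise
open MulAction (stabilizer orbit)

/-- Counting a value. -/
def countVal (vals : List ℕ) (v : ℕ) : ℕ := (vals.filter fun w => Nat.beq w v).length

theorem finvCount_vals {ms : List ℕ} {L : List (List ℕ)} {vals : List ℕ} (h : eqVals (L.map (finvMask ms)) vals = true)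
    (v : ℕ) : finvCount ms L v = countVal vals v := by
  rw [← eqVals_sound _ _ h, finvCount, countVal, List.filter_map, List.length_map]
  rfl

theorem any_vals {ms : List ℕ} {L : List (List ℕ)} {vals : List ℕ} (h : eqVals (L.map (finvMask ms)) vals = true)
    {v : ℕ} (hv : vals.any (fun w => Nat.beq w v) = true) : L.any (fun l => Nat.beq (finvMask ms l) v) = true := by
  rw [← eqVals_sound _ _ h, List.any_map] at hv
  exact hv

theorem all_vals {ms : List ℕ} {L : List (List ℕ)} {vals : List ℕ} (h : eqVals (L.map (finvMask ms)) vals = true)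
    {vs : List ℕ} (hv : vals.all (fun w => vs.any (Nat.beq w)) = true) :
    L.all (fun l => vs.any (Nat.beq (finvMask ms l))) = true := by
  rw [← eqVals_sound _ _ h, List.all_map] at hv
  exact hv

theorem fibre_ncard {ms : List ℕ} {L : List (List ℕ)} (hL : famsOk L = true) (hms : famOk ms = true)
    {gens : List (ℕ × ℕ)} {tabs : List ByteTab} {os : List FOrb} {idx : ℕ} (ho : forbsOk ms gens tabs os = true)
    (hc : fclassesOk ms L os idx = true) {Q : Set (Finset (Finset GolayPt))} (hQ : Q = ↑(famSet L))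
    (hinv : ∀ k ∈ M24, ∀ X, k • X ∈ Q ↔ X ∈ Q) {S : Finset (Finset GolayPt)}
    (hS : ∃ g ∈ M24, g • S = lset ms) (v : ℕ) (hv : L.any (fun l => Nat.beq (finvMask ms l) v) = true) :
    {Y | Y ∈ Q ∧ finv S Y = v}.ncard = finvCount ms L v := by
  obtain ⟨c, hc', hcS⟩ := hS
  obtain ⟨X, hX, hn, hm⟩ := exists_orbit_of_finv hL hms ho hc hQ hinv ⟨c, hc', hcS⟩ v hv
  simp only [List.any_eq_true, Nat.beq_eq] at hv
  obtain ⟨l, hl, hlv⟩ := hv
  have hok : famOk l = true := by
    simp only [famsOk, Bool.and_eq_true, List.all_eq_true] at hL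
    exact hL.2 l hl
  have hY : c⁻¹ • lset l ∈ Q ∧ finv S (c⁻¹ • lset l) = v := by
    refine ⟨?_, ?_⟩
    · rw [hinv _ (inv_mem hc'), hQ, Finset.mem_coe, mem_famSet]; exact ⟨l, hl, rfl⟩
    · rw [← finv_smul c, hcS, smul_inv_smul, finv_lset hms hok, hlv]
  rw [← hn, orbit_by_finv hL hms ho hc hQ hinv ⟨c, hc', hcS⟩ hX]
  have hmem := hm _ hY.1 hY.2
  rw [orbit_by_finv hL hms ho hc hQ hinv ⟨c, hc', hcS⟩ hX] at hmem
  congr 1
  ext Y
  simp only [Set.mem_setOf_eq]
  rw [← hmem.2, hY.2]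

theorem lset_self {S : Finset (Finset GolayPt)} {Y : Finset (Finset GolayPt)}
    (h : Y ∈ orbit ↥(stabilizer M24 S) S) : Y = S := by
  obtain ⟨⟨g, hg⟩, rfl⟩ := h
  exact hg

set_option maxHeartbeats 1000000 in
theorem sextet_orbits_sextets {S : Finset (Finset GolayPt)} (hS : S ∈ sextets) :
    ∃ X₁ ∈ sextets, ∃ X₂ ∈ sextets, ∃ X₃ ∈ sextets, (orbit ↥(stabilizer M24 S) X₁).ncard = 90 ∧
      (orbit ↥(stabilizer M24 S) X₂).ncard = 240 ∧ (orbit ↥(stabilizer M24 S) X₃).ncard = 1440 ∧
      sextets = {S} ∪ orbit ↥(stabilizer M24 S) X₁ ∪ orbit ↥(stabilizer M24 S) X₂ ∪ orbit ↥(stabilizer M24 S) X₃ ∧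
      IsCoatom (stabilizer M24 S) := by
  classical
  have hinv : ∀ k ∈ M24, ∀ X, k • X ∈ sextets ↔ X ∈ sextets := fun _ hk X => smul_mem_sextets_iff hk X
  have hms : famOk mSextet = true := by decide +kernel
  have hstd := std_sextet hS
  obtain ⟨X₁, m₁, n₁, c₁⟩ := exists_orbit_of_finv (ms := mSextet) sextFams hms fSS_orbs fSS_classes sextets_eq hinv
    hstd 48 (any_vals valsSS_eq (by decide +kernel))
  obtain ⟨X₂, m₂, n₂, c₂⟩ := exists_orbit_of_finv (ms := mSextet) sextFams hms fSS_orbs fSS_classes sextets_eq hinv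
    hstd 36 (any_vals valsSS_eq (by decide +kernel))
  obtain ⟨X₃, m₃, n₃, c₃⟩ := exists_orbit_of_finv (ms := mSextet) sextFams hms fSS_orbs fSS_classes sextets_eq hinv
    hstd 32 (any_vals valsSS_eq (by decide +kernel))
  have hvals : ∀ Y ∈ sextets, finv S Y ∈ [96, 48, 36, 32] := fun Y hY =>
    finv_mem_values (ms := mSextet) sextFams hms sextets_eq hinv hstd _ (all_vals valsSS_eq (by decide +kernel)) hY
  have hself : finv S S = 96 := by
    obtain ⟨c, -, hcS⟩ := hstd
    rw [← finv_smul c, hcS, finv_lset hms hms]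
    decide +kernel
  have hsame : ∀ Y ∈ sextets, ∀ Z ∈ sextets, finv S Y = finv S Z → Z ∈ orbit ↥(stabilizer M24 S) Y := by
    intro Y hY Z hZ h
    rw [orbit_by_finv (ms := mSextet) sextFams hms fSS_orbs fSS_classes sextets_eq hinv hstd hY]
    exact ⟨hZ, h.symm⟩
  refine ⟨X₁, m₁, X₂, m₂, X₃, m₃, n₁.trans ((finvCount_vals valsSS_eq _).trans (by decide +kernel)), n₂.trans ((finvCount_vals valsSS_eq _).trans (by decide +kernel)),
    n₃.trans ((finvCount_vals valsSS_eq _).trans (by decide +kernel)), ?_, ?_⟩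
  · ext Y
    constructor
    · intro hY
      have := hvals Y hY
      simp only [List.mem_cons, List.not_mem_nil, or_false] at this
      rcases this with h | h | h | h
      · exact Or.inl (Or.inl (Or.inl (lset_self (hsame S hS Y hY (hself.trans h.symm)))))
      · exact Or.inl (Or.inl (Or.inr (c₁ Y hY h)))
      · exact Or.inl (Or.inr (c₂ Y hY h))
      · exact Or.inr (c₃ Y hY h)
    · rintro (((rfl | ⟨g, rfl⟩) | ⟨g, rfl⟩) | ⟨g, rfl⟩)
      exacts [hS, smul_sextets_mem g.1 m₁, smul_sextets_mem g.1 m₂, smul_sextets_mem g.1 m₃]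
  · refine isCoatom_stabilizer_of_suborbits (X := sextets.toFinite.toFinset) (n := 1771) (k0 := 96)
      (S := {96, 48, 36, 32}) (size := fun k => if k = 96 then 1 else if k = 48 then 90 else if k = 36 then 240 else 1440)
      ((Set.Finite.mem_toFinset _).2 hS) ?_ ?_ ?_ (by norm_num) (finv S) ?_ ?_ ?_ hself (by decide +kernel)
    · intro g Y hY
      rw [Set.Finite.mem_toFinset] at hY ⊢
      exact smul_sextets_mem g hY
    · intro Y hY
      obtain ⟨g, hg, hgS⟩ := hstd
      obtain ⟨k, hk, hkY⟩ := std_sextet ((Set.Finite.mem_toFinset _).1 hY)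
      refine ⟨⟨k⁻¹ * g, mul_mem (inv_mem hk) hg⟩, ?_⟩
      show (k⁻¹ * g) • S = Y
      rw [mul_smul, hgS, ← hkY, inv_smul_smul]
    · rw [← Set.ncard_eq_toFinset_card _ _, sextets_ncard]
    · intro Y hY Z hZ h
      rw [Set.Finite.mem_toFinset] at hY hZ
      obtain ⟨⟨g, hg⟩, he⟩ := hsame Y hY Z hZ h
      exact ⟨g, hg, he⟩
    · intro Y hY
      have := hvals Y ((Set.Finite.mem_toFinset _).1 hY)
      simpa using this
    · intro k hk
      rw [← Set.ncard_coe_finset, show (↑(sextets.toFinite.toFinset.filter fun Y => finv S Y = k) :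
        Set (Finset (Finset GolayPt))) = {Y | Y ∈ sextets ∧ finv S Y = k} from Set.ext fun Y => by simp]
      simp only [mem_insert, mem_singleton] at hk
      rcases hk with rfl | rfl | rfl | rfl <;>
        rw [fibre_ncard (ms := mSextet) sextFams hms fSS_orbs fSS_classes sextets_eq hinv hstd _ (any_vals valsSS_eq (by decide +kernel)), finvCount_vals valsSS_eq] <;>
        decide +kernel

set_option maxHeartbeats 1000000 in
theorem trio_orbits_trios {T : Finset (Finset GolayPt)} (hT : T ∈ trios) :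
    ∃ X₁ ∈ trios, ∃ X₂ ∈ trios, ∃ X₃ ∈ trios, ∃ X₄ ∈ trios, (orbit ↥(stabilizer M24 T) X₁).ncard = 42 ∧
      (orbit ↥(stabilizer M24 T) X₂).ncard = 56 ∧ (orbit ↥(stabilizer M24 T) X₃).ncard = 1008 ∧
      (orbit ↥(stabilizer M24 T) X₄).ncard = 2688 ∧
      trios = {T} ∪ orbit ↥(stabilizer M24 T) X₁ ∪ orbit ↥(stabilizer M24 T) X₂ ∪ orbit ↥(stabilizer M24 T) X₃ ∪
        orbit ↥(stabilizer M24 T) X₄ ∧ IsCoatom (stabilizer M24 T) := by
  classical
  have hinv : ∀ k ∈ M24, ∀ X, k • X ∈ trios ↔ X ∈ trios := fun _ hk X => smul_mem_trios_iff hk X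
  have hms : famOk mTrio = true := by decide +kernel
  have hstd := std_trio hT
  obtain ⟨X₁, m₁, n₁, c₁⟩ := exists_orbit_of_finv (ms := mTrio) trioFams hms fTT_orbs fTT_classes trios_eq hinv
    hstd 128 (any_vals valsTT_eq (by decide +kernel))
  obtain ⟨X₂, m₂, n₂, c₂⟩ := exists_orbit_of_finv (ms := mTrio) trioFams hms fTT_orbs fTT_classes trios_eq hinv
    hstd 96 (any_vals valsTT_eq (by decide +kernel))
  obtain ⟨X₃, m₃, n₃, c₃⟩ := exists_orbit_of_finv (ms := mTrio) trioFams hms fTT_orbs fTT_classes trios_eq hinv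
    hstd 80 (any_vals valsTT_eq (by decide +kernel))
  obtain ⟨X₄, m₄, n₄, c₄⟩ := exists_orbit_of_finv (ms := mTrio) trioFams hms fTT_orbs fTT_classes trios_eq hinv
    hstd 72 (any_vals valsTT_eq (by decide +kernel))
  have hvals : ∀ Y ∈ trios, finv T Y ∈ [192, 128, 96, 80, 72] := fun Y hY =>
    finv_mem_values (ms := mTrio) trioFams hms trios_eq hinv hstd _ (all_vals valsTT_eq (by decide +kernel)) hY
  have hself : finv T T = 192 := by
    obtain ⟨c, -, hcS⟩ := hstd
    rw [← finv_smul c, hcS, finv_lset hms hms]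
    decide +kernel
  have hsame : ∀ Y ∈ trios, ∀ Z ∈ trios, finv T Y = finv T Z → Z ∈ orbit ↥(stabilizer M24 T) Y := by
    intro Y hY Z hZ h
    rw [orbit_by_finv (ms := mTrio) trioFams hms fTT_orbs fTT_classes trios_eq hinv hstd hY]
    exact ⟨hZ, h.symm⟩
  refine ⟨X₁, m₁, X₂, m₂, X₃, m₃, X₄, m₄, n₁.trans ((finvCount_vals valsTT_eq _).trans (by decide +kernel)), n₂.trans ((finvCount_vals valsTT_eq _).trans (by decide +kernel)),
    n₃.trans ((finvCount_vals valsTT_eq _).trans (by decide +kernel)), n₄.trans ((finvCount_vals valsTT_eq _).trans (by decide +kernel)), ?_, ?_⟩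
  · ext Y
    constructor
    · intro hY
      have := hvals Y hY
      simp only [List.mem_cons, List.not_mem_nil, or_false] at this
      rcases this with h | h | h | h | h
      · exact Or.inl (Or.inl (Or.inl (Or.inl (lset_self (hsame T hT Y hY (hself.trans h.symm))))))
      · exact Or.inl (Or.inl (Or.inl (Or.inr (c₁ Y hY h))))
      · exact Or.inl (Or.inl (Or.inr (c₂ Y hY h)))
      · exact Or.inl (Or.inr (c₃ Y hY h))
      · exact Or.inr (c₄ Y hY h)
    · rintro ((((rfl | ⟨g, rfl⟩) | ⟨g, rfl⟩) | ⟨g, rfl⟩) | ⟨g, rfl⟩)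
      exacts [hT, smul_trios_mem g.1 m₁, smul_trios_mem g.1 m₂, smul_trios_mem g.1 m₃, smul_trios_mem g.1 m₄]
  · refine isCoatom_stabilizer_of_suborbits (X := trios.toFinite.toFinset) (n := 3795) (k0 := 192)
      (S := {192, 128, 96, 80, 72})
      (size := fun k => if k = 192 then 1 else if k = 128 then 42 else if k = 96 then 56 else if k = 80 then 1008 else 2688)
      ((Set.Finite.mem_toFinset _).2 hT) ?_ ?_ ?_ (by norm_num) (finv T) ?_ ?_ ?_ hself (by decide +kernel)
    · intro g Y hY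
      rw [Set.Finite.mem_toFinset] at hY ⊢
      exact smul_trios_mem g hY
    · intro Y hY
      obtain ⟨g, hg, hgS⟩ := hstd
      obtain ⟨k, hk, hkY⟩ := std_trio ((Set.Finite.mem_toFinset _).1 hY)
      refine ⟨⟨k⁻¹ * g, mul_mem (inv_mem hk) hg⟩, ?_⟩
      show (k⁻¹ * g) • T = Y
      rw [mul_smul, hgS, ← hkY, inv_smul_smul]
    · rw [← Set.ncard_eq_toFinset_card _ _, trios_ncard]
    · intro Y hY Z hZ h
      rw [Set.Finite.mem_toFinset] at hY hZ
      obtain ⟨⟨g, hg⟩, he⟩ := hsame Y hY Z hZ h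
      exact ⟨g, hg, he⟩
    · intro Y hY
      have := hvals Y ((Set.Finite.mem_toFinset _).1 hY)
      simpa using this
    · intro k hk
      rw [← Set.ncard_coe_finset, show (↑(trios.toFinite.toFinset.filter fun Y => finv T Y = k) :
        Set (Finset (Finset GolayPt))) = {Y | Y ∈ trios ∧ finv T Y = k} from Set.ext fun Y => by simp]
      simp only [mem_insert, mem_singleton] at hk
      rcases hk with rfl | rfl | rfl | rfl | rfl <;>
        rw [fibre_ncard (ms := mTrio) trioFams hms fTT_orbs fTT_classes trios_eq hinv hstd _ (any_vals valsTT_eq (by decide +kernel)), finvCount_vals valsTT_eq] <;>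
        decide +kernel

/-- Tetrads of a sextet meeting a set. -/
def metBy (Y : Finset GolayPt) (S : Finset (Finset GolayPt)) : Finset (Finset GolayPt) :=
  S.filter fun t => (t ∩ Y).Nonempty

theorem finv_triad {Y : Finset GolayPt} (hY : Y.card = 3) {S : Finset (Finset GolayPt)} (hS : S ∈ sextets) :
    (metBy Y S).card = 1 ∧ finv {Y} S = 9 ∨ (metBy Y S).card = 2 ∧ finv {Y} S = 5 ∨
      (metBy Y S).card = 3 ∧ finv {Y} S = 3 := by
  have hsum : ∑ t ∈ S, (Y ∩ t).card = 3 := by
    rw [← card_biUnion fun t ht u hu hne => (sextets_disjoint hS ht hu hne).mono inter_subset_right inter_subset_right,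
      ← hY]
    congr 1
    ext p
    simp only [mem_biUnion, mem_inter]
    exact ⟨fun ⟨_, _, h, _⟩ => h, fun h => let ⟨t, ht, hp⟩ := sextet_covers hS p; ⟨t, ht, h, hp⟩⟩
  have hout : ∀ t ∈ S, t ∉ metBy Y S → (Y ∩ t).card = 0 := fun t ht hn => by
    rw [card_eq_zero, inter_comm, ← not_nonempty_iff_eq_empty]
    exact fun h => hn (mem_filter.2 ⟨ht, h⟩)
  have h1 : ∑ t ∈ metBy Y S, (Y ∩ t).card = 3 := by
    rw [← hsum]; exact sum_subset (filter_subset _ _) hout
  have h2 : finv {Y} S = ∑ t ∈ metBy Y S, (Y ∩ t).card * (Y ∩ t).card := by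
    rw [finv, sum_singleton]
    exact (sum_subset (filter_subset _ _) fun t ht hn => by rw [hout t ht hn, mul_zero]).symm
  have hpos : ∀ t ∈ metBy Y S, 1 ≤ (Y ∩ t).card := fun t ht => by
    rw [inter_comm]; exact card_pos.2 (mem_filter.1 ht).2
  have hle : (metBy Y S).card ≤ 3 := by
    have := card_nsmul_le_sum (metBy Y S) (fun t => (Y ∩ t).card) 1 hpos
    rw [h1, smul_eq_mul, mul_one] at this
    exact this
  rcases (show (metBy Y S).card = 0 ∨ (metBy Y S).card = 1 ∨ (metBy Y S).card = 2 ∨ (metBy Y S).card = 3 by omega)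
    with h | h | h | h
  · rw [card_eq_zero] at h
    rw [h, sum_empty] at h1
    omega
  · refine Or.inl ⟨h, ?_⟩
    obtain ⟨a, ha⟩ := card_eq_one.1 h
    rw [ha, sum_singleton] at h1 h2
    rw [h2, h1]
  · refine Or.inr (Or.inl ⟨h, ?_⟩)
    obtain ⟨a, b, hab, ha⟩ := card_eq_two.1 h
    have hpa := hpos a (by rw [ha]; simp)
    have hpb := hpos b (by rw [ha]; simp)
    rw [ha, sum_pair hab] at h1 h2
    rw [h2]
    generalize (Y ∩ a).card = x at *
    generalize (Y ∩ b).card = y at *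
    rcases (show x = 1 ∧ y = 2 ∨ x = 2 ∧ y = 1 by omega) with ⟨rfl, rfl⟩ | ⟨rfl, rfl⟩ <;> rfl
  · refine Or.inr (Or.inr ⟨h, ?_⟩)
    rw [h2, ← h]
    rw [card_eq_sum_ones]
    refine sum_congr rfl fun t ht => ?_
    have hone : ∀ u ∈ metBy Y S, (Y ∩ u).card = 1 := by
      intro u hu
      have := (sum_eq_sum_iff_of_le (f := fun _ => 1) (g := fun u => (Y ∩ u).card) hpos).1
        (by rw [← card_eq_sum_ones, h, h1]) u hu
      exact this.symm
    rw [hone t ht]

theorem triad_orbits_sextets {Y : Finset GolayPt} (hY : Y.card = 3) :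
    {S | S ∈ sextets ∧ (metBy Y S).card = 1}.ncard = 21 ∧ {S | S ∈ sextets ∧ (metBy Y S).card = 2}.ncard = 630 ∧
    {S | S ∈ sextets ∧ (metBy Y S).card = 3}.ncard = 1120 ∧
    ∀ S S' : Finset (Finset GolayPt), S ∈ sextets → S' ∈ sextets → (metBy Y S).card = (metBy Y S').card →
      ∃ g ∈ M24, g • Y = Y ∧ g • S = S' := by
  have hinv : ∀ k ∈ M24, ∀ X, k • X ∈ sextets ↔ X ∈ sextets := fun _ hk X => smul_mem_sextets_iff hk X
  have hms : famOk [7] = true := by decide +kernel
  obtain ⟨g, hg, hgY⟩ := triad_transitive hY (T' := mset mTri) (by decide +kernel)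
  have hstd : ∃ g ∈ M24, g • ({Y} : Finset (Finset GolayPt)) = lset [7] :=
    ⟨g, hg, by rw [Finset.smul_finset_singleton, hgY, lset_singleton]; rfl⟩
  have hk : ∀ (k v : ℕ), (k = 1 ∧ v = 9 ∨ k = 2 ∧ v = 5 ∨ k = 3 ∧ v = 3) →
      {S | S ∈ sextets ∧ (metBy Y S).card = k} = {S | S ∈ sextets ∧ finv {Y} S = v} := fun k v hkv => by
    ext S
    simp only [Set.mem_setOf_eq]
    refine and_congr_right fun hS => ?_
    have := finv_triad hY hS
    omega
  refine ⟨?_, ?_, ?_, fun S S' hS hS' h => ?_⟩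
  · rw [hk 1 9 (by norm_num), fibre_ncard (ms := [7]) sextFams hms fYS_orbs fYS_classes sextets_eq hinv hstd 9
      (any_vals valsYS_eq (by decide +kernel)), finvCount_vals valsYS_eq]
    decide +kernel
  · rw [hk 2 5 (by norm_num), fibre_ncard (ms := [7]) sextFams hms fYS_orbs fYS_classes sextets_eq hinv hstd 5
      (any_vals valsYS_eq (by decide +kernel)), finvCount_vals valsYS_eq]
    decide +kernel
  · rw [hk 3 3 (by norm_num), fibre_ncard (ms := [7]) sextFams hms fYS_orbs fYS_classes sextets_eq hinv hstd 3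
      (any_vals valsYS_eq (by decide +kernel)), finvCount_vals valsYS_eq]
    decide +kernel
  · have h1 := finv_triad hY hS
    have h2 := finv_triad hY hS'
    have he : finv {Y} S' = finv {Y} S := by omega
    have hm : S' ∈ orbit ↥(stabilizer M24 ({Y} : Finset (Finset GolayPt))) S := by
      rw [orbit_by_finv (ms := [7]) sextFams hms fYS_orbs fYS_classes sextets_eq hinv hstd hS]
      exact ⟨hS', he⟩
    rw [stabilizer_singleton Y] at hm
    obtain ⟨⟨k, hk⟩, hkS⟩ := hm
    exact ⟨k.1, k.2, hk, hkS⟩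

end Cfsg.Lib.Concrete
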