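import Cfsg.Agent.Lib.Concrete.Steiner
import Cfsg.Agent.Lib.Concrete.Octad
import Cfsg.Prelude.Def_SporadicCombinatorics

/-!
Sextets: every tetrad lies in exactly one sextet; the coset leaders of the code.
-/

set_option autoImplicit false

namespace Cfsg.Lib.Concrete

open scoped symmDiff
open Finset

/-- The octads containing a given tetrad. -/
noncomputable def octadsAbove (t : Finset GolayPt) : Finset (Finset GolayPt) :=
  (blocksFinset octads).filter (t ⊆ ·)

theorem mem_octadsAbove {t o : Finset GolayPt} : o ∈ octadsAbove t ↔ o ∈ octads ∧ t ⊆ o := by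
  rw [octadsAbove, mem_filter, mem_blocksFinset]

theorem card_octadsAbove {t : Finset GolayPt} (ht : t.card = 4) : (octadsAbove t).card = 5 := by
  have h := steiner_card_containing octads_steiner (s := t) (by omega)
  rw [ht, show Fintype.card GolayPt = 24 from rfl] at h
  norm_num at h
  rw [octadsAbove]
  omega

/-- The sextet of a tetrad. -/
noncomputable def sextetOf (t : Finset GolayPt) : Finset (Finset GolayPt) :=
  insert t ((octadsAbove t).image (· \ t))

theorem octadsAbove_inter {t o o' : Finset GolayPt} (ht : t.card = 4) (ho : o ∈ octadsAbove t)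
    (ho' : o' ∈ octadsAbove t) (hne : o ≠ o') : o ∩ o' = t := by
  obtain ⟨ho, hto⟩ := mem_octadsAbove.1 ho
  obtain ⟨ho', hto'⟩ := mem_octadsAbove.1 ho'
  refine (eq_of_subset_of_card_le (subset_inter hto hto') ?_).symm
  by_contra h
  exact hne (octads_eq_of_five ho ho' (show 5 ≤ (o ∩ o').card by omega)
    inter_subset_left inter_subset_right)

theorem sextetOf_mem {t : Finset GolayPt} (ht : t.card = 4) : sextetOf t ∈ sextets := by
  have hcard : ∀ o ∈ octadsAbove t, (o \ t).card = 4 := fun o ho => by
    obtain ⟨ho, hto⟩ := mem_octadsAbove.1 ho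
    rw [card_sdiff_of_subset hto, ho.2, ht]
  refine ⟨?_, ?_, ?_⟩
  · rw [sextetOf, card_insert_of_notMem, card_image_of_injOn, card_octadsAbove ht]
    · intro o ho o' ho' e
      have h1 := (mem_octadsAbove.1 ho).2
      have h2 := (mem_octadsAbove.1 ho').2
      calc o = t ∪ o \ t := (union_sdiff_of_subset h1).symm
        _ = t ∪ o' \ t := by rw [show o \ t = o' \ t from e]
        _ = o' := union_sdiff_of_subset h2
    · rw [mem_image]
      rintro ⟨o, -, e⟩
      obtain ⟨x, hx⟩ := card_pos.1 (show 0 < t.card by omega)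
      exact (mem_sdiff.1 (e.symm ▸ hx)).2 hx
  · intro u hu
    rcases mem_insert.1 hu with rfl | hu
    · exact ht
    · obtain ⟨o, ho, rfl⟩ := mem_image.1 hu
      exact hcard o ho
  · have hpair : ∀ o ∈ octadsAbove t, t ∪ o \ t ∈ octads := fun o ho => by
      rw [union_sdiff_of_subset (mem_octadsAbove.1 ho).2]
      exact (mem_octadsAbove.1 ho).1
    intro u hu v hv huv
    rcases mem_insert.1 hu with rfl | hu <;> rcases mem_insert.1 hv with rfl | hv
    · exact absurd rfl huv
    · obtain ⟨o, ho, rfl⟩ := mem_image.1 hv; exact hpair o ho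
    · obtain ⟨o, ho, rfl⟩ := mem_image.1 hu; rw [union_comm]; exact hpair o ho
    · obtain ⟨o, ho, rfl⟩ := mem_image.1 hu
      obtain ⟨o', ho', rfl⟩ := mem_image.1 hv
      have hne : o ≠ o' := fun e => huv (e ▸ rfl)
      have hi := octadsAbove_inter ht ho ho' hne
      have e : (o \ t) ∪ (o' \ t) = o ∆ o' := by
        ext x
        have hx : x ∈ o ∩ o' ↔ x ∈ t := by rw [hi]
        simp only [mem_inter] at hx
        simp only [mem_union, mem_sdiff, mem_symmDiff, ← hx]
        tauto
      rw [e]
      obtain ⟨ho, hto⟩ := mem_octadsAbove.1 ho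
      obtain ⟨ho', hto'⟩ := mem_octadsAbove.1 ho'
      refine ⟨symmDiff_mem_supports ho.1 ho'.1, ?_⟩
      have hd : Disjoint (o \ t) (o' \ t) := disjoint_left.2 fun x hx hx' =>
        (mem_sdiff.1 hx).2 (hi ▸ mem_inter.2 ⟨(mem_sdiff.1 hx).1, (mem_sdiff.1 hx').1⟩)
      rw [← e, card_union_of_disjoint hd, card_sdiff_of_subset hto, card_sdiff_of_subset hto',
        ho.2, ho'.2, ht]

theorem sextets_disjoint {S : Finset (Finset GolayPt)} (hS : S ∈ sextets) {t u : Finset GolayPt}
    (ht : t ∈ S) (hu : u ∈ S) (hne : t ≠ u) : Disjoint t u := by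
  rw [← card_union_eq_card_add_card, (hS.2.2 t ht u hu hne).2, hS.2.1 t ht, hS.2.1 u hu]

theorem sextet_eq {S : Finset (Finset GolayPt)} (hS : S ∈ sextets) {t : Finset GolayPt}
    (ht : t ∈ S) : S = sextetOf t := by
  have htc := hS.2.1 t ht
  have hsub : S ⊆ sextetOf t := by
    intro u hu
    by_cases hne : t = u
    · exact hne ▸ mem_insert_self _ _
    · refine mem_insert_of_mem (mem_image.2 ⟨t ∪ u, mem_octadsAbove.2
        ⟨hS.2.2 t ht u hu hne, subset_union_left⟩, ?_⟩)
      exact union_sdiff_cancel_left (sextets_disjoint hS ht hu hne)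
  exact eq_of_subset_of_card_le hsub (by rw [hS.1, (sextetOf_mem htc).1])

theorem exists_unique_sextet {t : Finset GolayPt} (ht : t.card = 4) :
    ∃! S : Finset (Finset GolayPt), S ∈ sextets ∧ t ∈ S :=
  ⟨sextetOf t, ⟨sextetOf_mem ht, mem_insert_self _ _⟩, fun _ h => sextet_eq h.1 h.2⟩

theorem sextet_covers {S : Finset (Finset GolayPt)} (hS : S ∈ sextets) (p : GolayPt) :
    ∃ t ∈ S, p ∈ t := by
  have h : S.biUnion (fun t => t) = univ := by
    refine eq_univ_of_card _ ?_
    rw [card_biUnion fun t ht u hu hne => sextets_disjoint hS ht hu hne,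
      sum_const_nat (m := 4) fun t ht => hS.2.1 t ht, hS.1]
    rfl
  obtain ⟨t, ht, hp⟩ := mem_biUnion.1 (h ▸ mem_univ p)
  exact ⟨t, ht, hp⟩

theorem sextets_ncard : sextets.ncard = 1771 := by
  classical
  set F := ((univ : Finset GolayPt).powersetCard 4).image sextetOf with hF
  have hs : sextets = (F : Set (Finset (Finset GolayPt))) := by
    ext S
    rw [mem_coe, hF, mem_image]
    constructor
    · intro hS
      obtain ⟨t, ht⟩ := card_pos.1 (show 0 < S.card by rw [hS.1]; norm_num)
      exact ⟨t, mem_powersetCard.2 ⟨subset_univ _, hS.2.1 t ht⟩, (sextet_eq hS ht).symm⟩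
    · rintro ⟨t, ht, rfl⟩; exact sextetOf_mem (mem_powersetCard.1 ht).2
  rw [hs, Set.ncard_coe_finset]
  have h := card_eq_sum_card_image sextetOf ((univ : Finset GolayPt).powersetCard 4)
  rw [sum_const_nat (m := 6) ?_, ← hF, card_powersetCard, card_univ,
    show Fintype.card GolayPt = 24 from rfl, show Nat.choose 24 4 = 10626 from by decide +kernel] at h
  · omega
  · intro S hS
    obtain ⟨t, ht, rfl⟩ := mem_image.1 hS
    have hS' := sextetOf_mem (mem_powersetCard.1 ht).2
    rw [show ((univ : Finset GolayPt).powersetCard 4).filter (fun u => sextetOf u = sextetOf t) =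
      sextetOf t from ?_, hS'.1]
    ext u
    rw [mem_filter, mem_powersetCard]
    exact ⟨fun ⟨_, e⟩ => e ▸ mem_insert_self _ _,
      fun hu => ⟨⟨subset_univ _, hS'.2.1 u hu⟩, (sextet_eq hS' hu).symm⟩⟩

/-- All masks with at most `n` bits among the positions of a list. -/
def smallMasks : List ℕ → ℕ → List ℕ
  | [], _ => [0]
  | _, 0 => [0]
  | i :: l, n + 1 => smallMasks l (n + 1) ++ (smallMasks l n).map (Nat.lor (1 <<< i))

/-- The syndrome of a mask. -/
def syndrome (m : ℕ) : ℕ := Nat.shiftRight (Nat.xor m (combo (Nat.land m 4095))) 12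

theorem small_weight_check :
    (smallMasks bits24 4).all (fun m => decide (m < 16777216) && decide (pcnt m ≤ 4)) = true := by
  decide +kernel

theorem syndrome_cover :
    ((smallMasks bits24 4).map syndrome).foldl (fun a s => Nat.lor a (1 <<< s)) 0 =
      2 ^ 4096 - 1 := by
  decide +kernel

theorem testBit_foldl_lor (L : List ℕ) (a k : ℕ) :
    (L.foldl (fun a s => Nat.lor a (1 <<< s)) a).testBit k = true ↔
      a.testBit k = true ∨ k ∈ L := by
  induction L generalizing a with
  | nil => simp
  | cons s L ih =>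
    rw [List.foldl_cons, ih, show Nat.lor a (1 <<< s) = a ||| (1 <<< s) from rfl, Nat.testBit_or,
      Bool.or_eq_true, Nat.one_shiftLeft, Nat.testBit_two_pow, decide_eq_true_eq, List.mem_cons]
    tauto

theorem word_shift_decomp {m : ℕ} (hm : m < 2 ^ 24) :
    syndrome m < 4096 ∧ m = combo (m &&& 4095) ^^^ (syndrome m <<< 12) := by
  have hc : m &&& 4095 < 4096 := lt_of_le_of_lt Nat.and_le_right (by norm_num)
  set u := m ^^^ combo (m &&& 4095) with hu
  have hlt : u < 2 ^ 24 := Nat.xor_lt_two_pow hm (combo_lt hc)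
  have hlow : u % 2 ^ 12 = 0 := by
    rw [← Nat.and_two_pow_sub_one_eq_mod, hu, Nat.and_xor_distrib_right,
      show (2 : ℕ) ^ 12 - 1 = 4095 from rfl, combo_and hc, Nat.xor_self]
  have hs : syndrome m = u >>> 12 := rfl
  rw [Nat.shiftRight_eq_div_pow] at hs
  refine ⟨by rw [hs]; omega, ?_⟩
  rw [Nat.shiftLeft_eq, hs, show u / 2 ^ 12 * 2 ^ 12 = u by omega, hu, ← Nat.xor_assoc,
    Nat.xor_comm (combo _) m, Nat.xor_assoc, Nat.xor_self, Nat.xor_zero]

/-- Every coset of the code has a member of weight at most four. -/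
theorem exists_coset_leader (w : GolayPt → ZMod 2) :
    ∃ v : GolayPt → ZMod 2, hammingNorm v ≤ 4 ∧ w - v ∈ golayCode := by
  set m := fmask (support₂ w) with hm
  have hlt : m < 2 ^ 24 := fmask_lt (support₂ w)
  obtain ⟨hs, hdec⟩ := word_shift_decomp hlt
  have hbit : (((smallMasks bits24 4).map syndrome).foldl
      (fun a s => Nat.lor a (1 <<< s)) 0).testBit (syndrome m) = true := by
    rw [syndrome_cover, Nat.testBit_two_pow_sub_one]
    simpa using hs
  rw [testBit_foldl_lor] at hbit
  obtain ⟨n, hn, hns⟩ := List.mem_map.1 (hbit.resolve_left (by simp))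
  have hchk := List.all_eq_true.1 small_weight_check n hn
  simp only [Bool.and_eq_true, decide_eq_true_eq] at hchk
  obtain ⟨-, hdec'⟩ := word_shift_decomp (show n < 2 ^ 24 by simpa using hchk.1)
  refine ⟨word n, by rw [hammingNorm_word, mcnt_eq_pcnt]; exact hchk.2, ?_⟩
  have h2 : ∀ u : GolayPt → ZMod 2, u + u = 0 := fun u => funext fun p => by
    show u p + u p = 0
    generalize u p = a; revert a; decide
  have hw : word m = w := word_fmask_support₂ w
  have hc : ∀ k : ℕ, word (combo (k &&& 4095)) ∈ golayCode := fun k =>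
    mem_golayCode_iff.2 ⟨_, lt_of_le_of_lt Nat.and_le_right (by norm_num), rfl⟩
  have e : w - word n = word (combo (m &&& 4095)) + word (combo (n &&& 4095)) := by
    rw [sub_eq_add_neg, neg_eq_of_add_eq_zero_left (h2 _), ← hw]
    conv_lhs => rw [hdec, hdec', hns, word_xor, word_xor]
    calc _ = word (combo (m &&& 4095)) + word (combo (n &&& 4095)) +
          (word (syndrome m <<< 12) + word (syndrome m <<< 12)) := by abel
      _ = _ := by rw [h2, add_zero]
  rw [e]
  exact add_mem (hc m) (hc n)

theorem hammingNorm_eq_card_support₂ (v : GolayPt → ZMod 2) : hammingNorm v = (support₂ v).card :=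
  rfl

theorem support₂_add (v u : GolayPt → ZMod 2) : support₂ (v + u) = support₂ v ∆ support₂ u := by
  ext p
  simp only [support₂, mem_filter, mem_univ, true_and, mem_symmDiff, Pi.add_apply]
  generalize v p = a
  generalize u p = b
  revert a b
  decide

/-- Two leaders of one coset: equal, or disjoint tetrads forming an octad. -/
theorem coset_leaders {v u : GolayPt → ZMod 2} (hv : hammingNorm v ≤ 4) (hu : hammingNorm u ≤ 4)
    (hc : v - u ∈ golayCode) :
    v = u ∨ (hammingNorm v = 4 ∧ hammingNorm u = 4 ∧ support₂ v ∪ support₂ u ∈ octads) := by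
  have h2 : -u = u := funext fun p => by
    show -(u p) = u p
    generalize u p = a; revert a; decide
  rw [sub_eq_add_neg, h2] at hc
  have hs : support₂ (v + u) ∈ supports (golayCode : Set (GolayPt → ZMod 2)) := ⟨_, hc, rfl⟩
  rw [support₂_add] at hs
  by_cases he : (support₂ v ∆ support₂ u).Nonempty
  · right
    have h8 := supports_card_ge hs he
    rw [hammingNorm_eq_card_support₂] at hv hu ⊢
    rw [hammingNorm_eq_card_support₂]
    have hle : support₂ v ∆ support₂ u ⊆ support₂ v ∪ support₂ u := fun x hx => by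
      simp only [mem_symmDiff] at hx
      simp only [mem_union]
      tauto
    have := card_le_card hle
    have := card_union_le (support₂ v) (support₂ u)
    refine ⟨by omega, by omega, ?_⟩
    have heq := eq_of_subset_of_card_le hle (by omega)
    exact ⟨heq ▸ hs, by omega⟩
  · left
    exact support₂_injective (symmDiff_eq_bot.1 (not_nonempty_iff_eq_empty.1 he))

end Cfsg.Lib.Concrete
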