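import Cfsg.Agent.Lib.Concrete.SimpleTools

/-!
Sharply multiply transitive groups of degree eleven and twelve.
-/

set_option autoImplicit false

namespace Cfsg.Lib.Concrete

open MulAction

variable {G : Type*} [Group G] {α : Type*} [MulAction G α]

/-- A sharply `k`-transitive group has as many elements as there are `k`-tuples. -/
theorem card_of_sharply_transitive {k : ℕ} [IsMultiplyPretransitive G α k] (x : Fin k ↪ α)
    (hx : stabilizer G x = ⊥) : Nat.card G = Nat.card (Fin k ↪ α) := by
  rw [← index_stabilizer_of_transitive G x, hx, Subgroup.index_bot]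

/-- In a faithful group of prime degree, an element of that order has a centraliser of at most
that size. -/
theorem card_centralizer_le_degree [FaithfulSMul G α] {p : ℕ} [Fact p.Prime]
    (hcard : Nat.card α = p) (x : G) (hx : orderOf x = p) :
    Nat.card (Subgroup.centralizer {x}) ≤ p := by
  classical
  have : Finite α := Nat.finite_of_card_ne_zero (hcard ▸ (Fact.out : p.Prime).ne_zero)
  obtain ⟨a, ha⟩ : ∃ a : α, x • a ≠ a := by
    by_contra h
    push Not at h
    refine (Fact.out : p.Prime).one_lt.ne' ?_
    rw [← hx, orderOf_eq_one_iff]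
    exact eq_of_smul_eq_smul (α := α) fun a => by rw [h a, one_smul]
  have horb : orbit (Subgroup.zpowers x) a = Set.univ := by
    have hd : Nat.card (orbit (Subgroup.zpowers x) a) ∣ p := by
      rw [Nat.card_congr (orbitEquivQuotientStabilizer _ a), ← hx, ← Nat.card_zpowers x]
      exact Subgroup.card_quotient_dvd_card _
    rcases (Nat.dvd_prime Fact.out).1 hd with h | h
    · exfalso
      obtain ⟨hs, -⟩ := Nat.card_eq_one_iff_unique.1 h
      exact ha (congrArg Subtype.val (hs.elim
        (⟨x • a, ⟨⟨x, Subgroup.mem_zpowers x⟩, rfl⟩⟩ : orbit (Subgroup.zpowers x) a)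
        ⟨a, mem_orbit_self a⟩))
    · refine Set.eq_of_subset_of_ncard_le (Set.subset_univ _) ?_
      rw [Set.ncard_univ, hcard, ← Nat.card_coe_set_eq, h]
  have hinj : Function.Injective fun c : Subgroup.centralizer {x} => (c : G) • a := by
    intro c d hcd
    refine Subtype.ext (eq_of_smul_eq_smul (α := α) fun b => ?_)
    obtain ⟨⟨y, i, rfl⟩, rfl⟩ := horb.ge (Set.mem_univ b)
    have hc : Commute x (c : G) := (Subgroup.mem_centralizer_singleton_iff.1 c.2).symm
    have hd : Commute x (d : G) := (Subgroup.mem_centralizer_singleton_iff.1 d.2).symm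
    show (c : G) • x ^ i • a = (d : G) • x ^ i • a
    rw [← mul_smul, ← mul_smul, ← (hc.zpow_left i).eq, ← (hd.zpow_left i).eq, mul_smul, mul_smul]
    exact congrArg _ hcd
  exact (Nat.card_le_card_of_injective _ hinj).trans hcard.le

/-- A faithful primitive group of degree eleven and order 7920 is simple. -/
theorem isSimple_of_degree_eleven [Finite G] [FaithfulSMul G α] [IsQuasiPreprimitive G α]
    (hα : Nat.card α = 11) (hG : Nat.card G = 7920) : IsSimpleGroup G := by
  classical
  have := Fact.mk (show Nat.Prime 11 by norm_num)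
  -- the Sylow normaliser
  have hsyl : ∀ P : Sylow 11 G, Nat.card P = 11 := by
    intro P
    rw [P.card_eq_multiplicity, hG]
    have : Nat.factorization 7920 11 = 1 := by
      rw [show 7920 = 11 * 720 from rfl, Nat.factorization_mul (by norm_num) (by norm_num)]
      simp [Nat.Prime.factorization_self (show Nat.Prime 11 by norm_num),
        Nat.factorization_eq_zero_of_not_dvd]
    rw [this, pow_one]
  have hnor : ∀ P : Sylow 11 G, Nat.card (Subgroup.normalizer (P : Set G)) = 55 := by
    intro P
    have hcyc : IsCyclic P := isCyclic_of_prime_card (hsyl P)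
    obtain ⟨g, hg⟩ := IsCyclic.exists_generator (α := P)
    have hgo : orderOf (g : G) = 11 := by
      rw [Subgroup.orderOf_coe, orderOf_eq_card_of_forall_mem_zpowers hg, hsyl P]
    have hker : Nat.card ((P : Subgroup G).normalizerMonoidHom.ker) ≤ 11 := by
      refine le_trans ?_ (card_centralizer_le_degree hα (g : G) hgo)
      refine Nat.card_le_card_of_injective (fun c => ⟨c.1.1, ?_⟩) (fun c d h => ?_)
      · have hc := c.2
        simp only [Subgroup.normalizerMonoidHom_ker, Subgroup.mem_subgroupOf] at hc
        exact Subgroup.mem_centralizer_singleton_iff.2 (hc (g : G) g.2).symm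
      · exact Subtype.ext (Subtype.ext (congrArg Subtype.val h :))
    have h1 : (P : Subgroup G).normalizerMonoidHom.ker.index ∣ 10 := by
      rw [Subgroup.index_ker]
      refine (Subgroup.card_subgroup_dvd_card _).trans ?_
      rw [IsCyclic.card_mulAut, hsyl P, Nat.totient_prime (by norm_num)]
    have h2 := (P : Subgroup G).normalizerMonoidHom.ker.card_mul_index
    have hP : 11 ∣ Nat.card (Subgroup.normalizer (P : Set G)) :=
      by
      have := Subgroup.card_dvd_of_le (Subgroup.le_normalizer (H := (P : Subgroup G)))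
      rwa [hsyl P] at this
    have h3 : Nat.card (Sylow 11 G) * Nat.card (Subgroup.normalizer (P : Set G)) = 7920 := by
      rw [P.card_eq_index_normalizer, mul_comm, Subgroup.card_mul_index, hG]
    have hmod : Nat.card (Sylow 11 G) % 11 = 1 := card_sylow_modEq_one 11 G
    have hle : Nat.card (Subgroup.normalizer (P : Set G)) ≤ 110 := by
      exact h2.symm.le.trans (Nat.mul_le_mul hker (Nat.le_of_dvd (by norm_num) h1))
    obtain ⟨k, hk⟩ := hP
    rw [hk] at h3 hle ⊢
    have hk10 : k ≤ 10 := by omega
    interval_cases k <;> omega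
  refine { toNontrivial := (Finite.one_lt_card_iff_nontrivial).1 (by omega),
           eq_bot_or_eq_top_of_normal := fun N hN => ?_ }
  by_cases hb : N = ⊥
  · exact Or.inl hb
  right
  have hdeg : ∀ K : Subgroup G, K.Normal → K ≠ ⊥ → 11 ∣ Nat.card K := by
    intro K hK hKb
    have hfix : fixedPoints K α ≠ .univ := by
      intro h
      refine hKb ((Subgroup.eq_bot_iff_forall K).2 fun g hg => ?_)
      refine eq_of_smul_eq_smul (α := α) fun a => ?_
      have := Set.eq_univ_iff_forall.1 h a ⟨g, hg⟩
      rw [one_smul]
      exact this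
    have := IsQuasiPreprimitive.isPretransitive_of_normal hfix
    obtain ⟨a⟩ : Nonempty α := (Nat.card_ne_zero.1 (by omega : Nat.card α ≠ 0)).1
    rw [← hα, ← index_stabilizer_of_transitive K a]
    exact Subgroup.index_dvd_card _
  have h11N := hdeg N hN hb
  obtain ⟨P⟩ : Nonempty (Sylow 11 N) := inferInstance
  have hfr := Sylow.normalizer_sup_eq_top P
  set Q : Subgroup G := (P : Subgroup N).map N.subtype with hQ
  have hPN : Nat.card (P : Subgroup N) = 11 := by
    obtain ⟨n, hn⟩ := IsPGroup.iff_card.1 P.isPGroup'
    have h1 : 11 ∣ Nat.card (P : Subgroup N) := P.dvd_card_of_dvd_card h11N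
    have h2 : Nat.card (P : Subgroup N) ∣ 7920 :=
      hG ▸ (Subgroup.card_subgroup_dvd_card _).trans N.card_subgroup_dvd_card
    rw [hn] at h1 h2 ⊢
    have hn2 : n < 2 := by
      by_contra hge
      exact absurd (dvd_trans (pow_dvd_pow 11 (by omega : 2 ≤ n)) h2) (by norm_num)
    interval_cases n <;> simp_all
  have hcardQ : Nat.card Q = 11 := by
    rw [hQ, Subgroup.card_map_of_injective N.subtype_injective, hPN]
  have hQS : Nat.card (Subgroup.normalizer (Q : Set G)) = 55 := by
    obtain ⟨S, hS⟩ := (IsPGroup.of_card (show Nat.card Q = 11 ^ 1 by rw [hcardQ, pow_one])).exists_le_sylow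
    have : (S : Subgroup G) = Q := (Subgroup.eq_of_le_of_card_ge hS (by rw [hcardQ, hsyl S])).symm
    rw [← this]
    exact hnor S
  have hQle : Q ≤ N := Subgroup.map_subtype_le _
  -- the part of the normaliser inside the subgroup
  have hrel : N.index = N.relIndex (Subgroup.normalizer (Q : Set G)) := by
    rw [← Subgroup.relIndex_top_right, ← hfr, Subgroup.relIndex_sup_right]
  set M : Subgroup G := Subgroup.normalizer (Q : Set G) ⊓ N with hM
  have hMidx : N.relIndex (Subgroup.normalizer (Q : Set G)) * Nat.card M = 55 := by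
    rw [mul_comm, ← Subgroup.inf_relIndex_left, ← hQS, ← Subgroup.relIndex_bot_left,
      ← Subgroup.relIndex_bot_left]
    exact Subgroup.relIndex_mul_relIndex _ _ _ bot_le inf_le_left
  have hMdvd : 11 ∣ Nat.card M := by
    rw [← hcardQ]
    exact Subgroup.card_dvd_of_le (le_inf Subgroup.le_normalizer hQle)
  have hNG := N.card_mul_index
  rw [hG, hrel] at hNG
  obtain ⟨m, hm⟩ := hMdvd
  have hm5 : m = 1 ∨ m = 5 := by
    have : m ∣ 5 := by
      refine (Nat.mul_dvd_mul_iff_left (by norm_num : 0 < 11)).1 ?_
      rw [← hm]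
      exact Dvd.intro_left _ hMidx
    exact (Nat.dvd_prime (by norm_num)).1 this
  rcases hm5 with rfl | rfl
  · exfalso
    have hr : N.relIndex (Subgroup.normalizer (Q : Set G)) = 5 := by rw [hm] at hMidx; omega
    rw [hr] at hNG
    have hNc : Nat.card N = 11 * 144 := by omega
    have hQM : Q = M := Subgroup.eq_of_le_of_card_ge (le_inf Subgroup.le_normalizer hQle)
      (by omega)
    have hP : Subgroup.normalizer (P : Set N) ≤ Subgroup.centralizer (P : Set N) := by
      intro n hn q hq
      have hnG : (n : G) ∈ Subgroup.normalizer (Q : Set G) := by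
        rw [hQ]
        exact Subgroup.le_normalizer_map N.subtype (Subgroup.mem_map_of_mem _ hn)
      have hnP : n ∈ (P : Subgroup N) := by
        have hnQ : (n : G) ∈ Q := hQM ▸ ⟨hnG, n.2⟩
        obtain ⟨n', hn', he⟩ := hnQ
        rwa [← N.subtype_injective he]
      have : IsCyclic (P : Subgroup N) := isCyclic_of_prime_card hPN
      have := IsCyclic.isMulCommutative (α := (P : Subgroup N))
      exact congrArg Subtype.val (mul_comm' (⟨q, hq⟩ : (P : Subgroup N)) ⟨n, hnP⟩)
    set K := (MonoidHom.transferSylow P hP).ker with hK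
    have hcomp := MonoidHom.ker_transferSylow_isComplement' P hP
    have hKc : Nat.card K = 144 := by
      have := hcomp.card_mul_card
      rw [← hK] at this
      rw [hPN, hNc] at this
      omega
    have hKi : K.index = 11 := by rw [hcomp.symm.index_eq_card, hPN]
    have hmem : ∀ n : N, n ∈ K ↔ n ^ 144 = 1 := by
      intro n
      constructor
      · intro hn
        have : (⟨n, hn⟩ : K) ^ 144 = 1 := hKc ▸ pow_card_eq_one'
        exact congrArg Subtype.val this
      · intro hn
        have h1 : n ^ (11 : ℕ) ∈ K := hKi ▸ Subgroup.pow_index_mem K n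
        have h2 : n ^ ((144 : ℕ) : ℤ) * (n ^ ((11 : ℕ) : ℤ)) ^ (-13 : ℤ) = n := by
          rw [← zpow_mul, ← zpow_add]
          norm_num
        rw [← h2, zpow_natCast, hn, one_mul, zpow_natCast]
        exact K.zpow_mem h1 _
    have hKn : (K.map N.subtype).Normal := ⟨fun y hy g => by
      obtain ⟨n, hn, rfl⟩ := hy
      refine ⟨⟨g * n * g⁻¹, hN.conj_mem _ n.2 g⟩, ?_, rfl⟩
      show (⟨g * n * g⁻¹, hN.conj_mem _ n.2 g⟩ : N) ∈ K
      rw [hmem, Subtype.ext_iff, SubmonoidClass.coe_pow]
      show (g * n * g⁻¹) ^ 144 = 1
      rw [conj_pow, ← SubmonoidClass.coe_pow, (hmem n).1 hn]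
      simp⟩
    have hKb : K.map N.subtype ≠ ⊥ := by
      intro h
      have : Nat.card (K.map N.subtype) = Nat.card K :=
        Subgroup.card_map_of_injective N.subtype_injective
      rw [h, Subgroup.card_bot, hKc] at this
      omega
    have := hdeg _ hKn hKb
    rw [Subgroup.card_map_of_injective N.subtype_injective, hKc] at this
    norm_num at this
  · have hr : N.relIndex (Subgroup.normalizer (Q : Set G)) = 1 := by rw [hm] at hMidx; omega
    rw [hr] at hNG
    exact N.eq_top_of_card_eq (by omega)

/-- A sharply four-transitive group of degree eleven is simple of order 7920. -/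
theorem simple_and_card_of_sharply_four [Finite G] [FaithfulSMul G α] (hα : Nat.card α = 11)
    [IsMultiplyPretransitive G α 4] (hsharp : ∀ x : Fin 4 ↪ α, stabilizer G x = ⊥) :
    IsSimpleGroup G ∧ Nat.card G = 7920 := by
  have : Finite α := Nat.finite_of_card_ne_zero (hα ▸ by norm_num)
  have := Fintype.ofFinite α
  have hfc : Fintype.card α = 11 := Nat.card_eq_fintype_card.symm.trans hα
  obtain ⟨x⟩ : Nonempty (Fin 4 ↪ α) :=
    Function.Embedding.nonempty_of_card_le (by simp [hfc])
  have hG : Nat.card G = 7920 := by
    classical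
    rw [card_of_sharply_transitive x (hsharp x), Nat.card_eq_fintype_card,
      Fintype.card_embedding_eq, hfc, Fintype.card_fin]
    rfl
  have h2 : IsMultiplyPretransitive G α 2 := isMultiplyPretransitive_of_le (n := 4) (by norm_num)
    (by rw [hα]; norm_num)
  have := isPreprimitive_of_is_two_pretransitive h2
  exact ⟨isSimple_of_degree_eleven hα hG, hG⟩

/-- A sharply five-transitive group of degree twelve is simple of order 95040. -/
theorem simple_and_card_of_sharply_five [Finite G] [FaithfulSMul G α] (hα : Nat.card α = 12)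
    [IsMultiplyPretransitive G α 5] (hsharp : ∀ x : Fin 5 ↪ α, stabilizer G x = ⊥) :
    IsSimpleGroup G ∧ Nat.card G = 95040 := by
  classical
  have : Finite α := Nat.finite_of_card_ne_zero (hα ▸ by norm_num)
  have := Fintype.ofFinite α
  have hfc : Fintype.card α = 12 := Nat.card_eq_fintype_card.symm.trans hα
  obtain ⟨x⟩ : Nonempty (Fin 5 ↪ α) :=
    Function.Embedding.nonempty_of_card_le (by simp [hfc])
  have hG : Nat.card G = 95040 := by
    rw [card_of_sharply_transitive x (hsharp x), Nat.card_eq_fintype_card,
      Fintype.card_embedding_eq, hfc, Fintype.card_fin]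
    rfl
  have h2 : IsMultiplyPretransitive G α 2 := isMultiplyPretransitive_of_le (n := 5) (by norm_num)
    (by rw [hα]; norm_num)
  have : IsPretransitive G α := (isPreprimitive_of_is_two_pretransitive h2).toIsPretransitive
  have : Nontrivial α := Fintype.one_lt_card_iff_nontrivial.1 (by omega)
  set a := x 0
  have h4 : IsMultiplyPretransitive (stabilizer G a) (SubMulAction.ofStabilizer G a) 4 :=
    SubMulAction.ofStabilizer.isMultiplyPretransitive.1 inferInstance
  have hβ : Nat.card (SubMulAction.ofStabilizer G a) = 11 := by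
    have : Nat.card (SubMulAction.ofStabilizer G a) = ({a}ᶜ : Set α).ncard := by
      rw [← Nat.card_coe_set_eq]; rfl
    rw [this, Set.ncard_compl, Set.ncard_singleton, hα]
  have hfix : ∀ (g : stabilizer G a), (∀ y : SubMulAction.ofStabilizer G a, g • y = y) →
      ∀ b : α, (g : G) • b = b := by
    intro g hg b
    by_cases hb : b = a
    · subst hb; exact g.2
    · exact congrArg Subtype.val (hg ⟨b, hb⟩)
  have : FaithfulSMul (stabilizer G a) (SubMulAction.ofStabilizer G a) := ⟨fun {g h} he => by
    refine Subtype.ext (eq_of_smul_eq_smul (α := α) fun b => ?_)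
    have := hfix (h⁻¹ * g) (fun y => by rw [mul_smul, he, inv_smul_smul]) b
    rwa [Subgroup.coe_mul, Subgroup.coe_inv, mul_smul, inv_smul_eq_iff] at this⟩
  have hsharp4 : ∀ y : Fin 4 ↪ SubMulAction.ofStabilizer G a,
      stabilizer (stabilizer G a) y = ⊥ := by
    intro y
    let z : Fin 5 ↪ α := ⟨Fin.cons a (fun i => (y i : α)), Fin.cons_injective_iff.2
      ⟨fun ⟨i, hi⟩ => (y i).2 hi, fun i j h => y.injective (Subtype.ext h)⟩⟩
    refine (Subgroup.eq_bot_iff_forall _).2 fun g hg => Subtype.ext ?_
    have : (g : G) ∈ stabilizer G z := by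
      refine mem_stabilizer_iff.2 (Function.Embedding.ext fun i => ?_)
      show (g : G) • (Fin.cons a (fun i => (y i : α)) : Fin 5 → α) i = _
      refine Fin.cases ?_ (fun j => ?_) i
      · exact g.2
      · simp only [Fin.cons_succ]
        exact congrArg Subtype.val (DFunLike.congr_fun (mem_stabilizer_iff.1 hg) j)
    rw [hsharp z, Subgroup.mem_bot] at this
    exact this
  have := (simple_and_card_of_sharply_four hβ hsharp4).1
  exact ⟨isSimple_of_simple_stabilizer h2 a Nat.prime_two Nat.prime_three (by norm_num)
    (by rw [hα]; norm_num) (by rw [hα]; norm_num), hG⟩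

end Cfsg.Lib.Concrete
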