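import Cfsg.Agent.Lib.Concrete.HSRankThree
import Cfsg.Agent.Lib.Concrete.LeechHundred

/-!
The group `Spor.HS` as a rank three group on a hundred lattice vectors.
-/

set_option autoImplicit false

namespace Cfsg.Lib.Concrete

open MulAction

/-- The joint stabiliser of two vectors of norm six with product `-4`. -/
abbrev hsFive : Subgroup Co0 := stabilizer Co0 fiveL ⊓ stabilizer Co0 fiveNegL

theorem exists_move_five {v w : leechLattice} (hv : sqNorm (v : GolayPt → ℤ) = 48)
    (hw : sqNorm (w : GolayPt → ℤ) = 48) (hvw : dotInt (v : GolayPt → ℤ) (w : GolayPt → ℤ) = -32) :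
    ∃ g : Co0, g • fiveL = v ∧ g • fiveNegL = w := by
  obtain ⟨hz, hzv⟩ := neg_sum_facts hv hw hvw
  obtain ⟨hz0, hzv0⟩ := neg_sum_facts fiveL_norm fiveNegL_norm five_dot
  set z0 : leechLattice := -(fiveL + fiveNegL) with hz0def
  obtain ⟨g, hg⟩ := exists_smul_eq_of_moves (moves32 z0.2 hz0) (moves32 (-(v + w)).2 hz)
  have hd : dotInt ((-(v + w) : leechLattice) : GolayPt → ℤ) ((g • fiveL : leechLattice) : GolayPt → ℤ) = -16 := by
    rw [← hg, co0_dot, hzv0]
  obtain ⟨k, k1, k2⟩ := exists_fix_fortyEight hz ((co0_sqNorm g _).trans fiveL_norm) hv hd hzv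
  have kz : (k * g) • z0 = -(v + w) := by rw [mul_smul, hg, k1]
  have kv : (k * g) • fiveL = v := by rw [mul_smul, k2]
  refine ⟨k * g, kv, ?_⟩
  have h3 : co0Hom (k * g) z0 = -(v + w) := kz
  rw [hz0def, map_neg, map_add, neg_inj, show co0Hom (k * g) fiveL = v from kv] at h3
  exact add_left_cancel h3

/-- The Higman-Sims subgroup of the automorphism group of the lattice is the joint stabiliser of two vectors. -/
theorem sporHS_equiv : Nonempty (Spor.HS ≃* hsFive) := by
  set v := Spor.leechV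
  set u := Spor.leechU'
  have hv : sqNorm (v : GolayPt → ℤ) = 48 := by
    show sqNorm Spor.vecV = 48
    decide +kernel
  have hw : sqNorm ((-(v + u) : leechLattice) : GolayPt → ℤ) = 48 := by
    rw [AddSubgroup.coe_neg, AddSubgroup.coe_add]
    show sqNorm (-(Spor.vecV + Spor.vecU')) = 48
    decide +kernel
  have hvw : dotInt (v : GolayPt → ℤ) ((-(v + u) : leechLattice) : GolayPt → ℤ) = -32 := by
    rw [AddSubgroup.coe_neg, AddSubgroup.coe_add]
    show dotInt Spor.vecV (-(Spor.vecV + Spor.vecU')) = -32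
    decide +kernel
  obtain ⟨g, g1, g2⟩ := exists_move_five hv hw hvw
  have hle : Spor.HS ≤ Co0 := inf_le_left.trans inf_le_left
  have hmap : hsFive.map (MulAut.conj g).toMonoidHom = Spor.HS.subgroupOf Co0 := by
    rw [stab_inf_map, g1, g2]
    ext k
    have hadd : co0Hom k (-(v + u)) = -(co0Hom k v + co0Hom k u) := by rw [map_neg, map_add]
    constructor
    · rintro ⟨h1, h2⟩
      refine ⟨⟨k.2, h1⟩, ?_⟩
      have h3 : co0Hom k (-(v + u)) = -(v + u) := h2
      rw [hadd, neg_inj, show co0Hom k v = v from h1] at h3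
      exact add_left_cancel h3
    · rintro ⟨⟨-, h1⟩, h2⟩
      refine ⟨h1, ?_⟩
      show co0Hom k (-(v + u)) = -(v + u)
      rw [hadd, show co0Hom k v = v from h1, show co0Hom k u = u from h2]
  exact ⟨(Subgroup.subgroupOfEquivOfLe hle).symm.trans
    ((MulEquiv.subgroupCongr hmap.symm).trans ((MulAut.conj g).subgroupMap hsFive).symm)⟩

/-- The hundred vectors. -/
abbrev Hund : Type := ↥(hundredSet fiveL fiveNegL)

theorem card_hund : Nat.card Hund = 100 := by
  rw [Nat.card_coe_set_eq]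
  exact (Cfsg.Agent.S1583.result fiveL fiveNegL fiveL_norm fiveNegL_norm five_dot).1

theorem hund_smul (k : hsFive) (y : leechLattice) :
    (k : Co0) • y ∈ hundredSet fiveL fiveNegL ↔ y ∈ hundredSet fiveL fiveNegL := by
  conv_lhs => rw [← (k.2.1 : (k : Co0) • fiveL = fiveL), ← (k.2.2 : (k : Co0) • fiveNegL = fiveNegL)]
  exact smul_hundred (k : Co0)

/-- The action on the hundred vectors. -/
def hundHom : hsFive →* Equiv.Perm Hund :=
  MonoidHom.mk' (fun k => (MulAction.toPerm (k : Co0)).subtypePerm fun y => hund_smul k y)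
    fun k l => Equiv.ext fun y => Subtype.ext (mul_smul (k : Co0) (l : Co0) y.1)

theorem hundHom_apply (k : hsFive) (y : Hund) : (hundHom k y : leechLattice) = (k : Co0) • (y : leechLattice) := rfl

theorem hund_data : ∃ (_ : Fintype Hund) (a b c : Hund), HSRankThree.Data hundHom.range a b c ∧
    Function.Injective hundHom := by
  classical
  haveI : Finite Hund := Nat.finite_of_card_ne_zero (by rw [card_hund]; norm_num)
  haveI := Fintype.ofFinite Hund
  obtain ⟨-, htr⟩ := Cfsg.Agent.S1583.result fiveL fiveNegL fiveL_norm fiveNegL_norm five_dot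
  obtain ⟨h22, h77, htr2⟩ := hundred_rank_three
  let a : Hund := ⟨Spor.leechU, leechU_mem_hundred⟩
  have hU : dotInt ((Spor.leechU : leechLattice) : GolayPt → ℤ) ((Spor.leechU : leechLattice) : GolayPt → ℤ) = 32 := by
    rw [dotInt_self]; exact leechU_norm'
  obtain ⟨y, hy, hy8⟩ := Set.nonempty_of_ncard_ne_zero (s := {y | y ∈ hundredSet fiveL fiveNegL ∧
    dotInt ((Spor.leechU : leechLattice) : GolayPt → ℤ) (y : GolayPt → ℤ) = 8}) (by rw [h22]; norm_num)
  obtain ⟨z, hz, hzne, hz8⟩ := Set.nonempty_of_ncard_ne_zero (s := {y | y ∈ hundredSet fiveL fiveNegL ∧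
    y ≠ Spor.leechU ∧ dotInt ((Spor.leechU : leechLattice) : GolayPt → ℤ) (y : GolayPt → ℤ) ≠ 8})
    (by rw [h77]; norm_num)
  have hyne : y ≠ Spor.leechU := fun e => by rw [e, hU] at hy8; omega
  have horb : ∀ d : Hund, (d : leechLattice) ≠ Spor.leechU →
      Subtype.val '' orbit (stabilizer hundHom.range a) d = {y | y ∈ hundredSet fiveL fiveNegL ∧ y ≠ Spor.leechU ∧
        (dotInt ((Spor.leechU : leechLattice) : GolayPt → ℤ) (d : GolayPt → ℤ) = 8 ↔
          dotInt ((Spor.leechU : leechLattice) : GolayPt → ℤ) (y : GolayPt → ℤ) = 8)} := by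
    intro d hd
    ext x
    constructor
    · rintro ⟨_, ⟨⟨⟨_, k, rfl⟩, hk⟩, rfl⟩, rfl⟩
      have hk' : (k : Co0) • Spor.leechU = Spor.leechU := congrArg Subtype.val hk
      refine ⟨(hundHom k d).2, fun e => hd (MulAction.injective (k : Co0) (e.trans hk'.symm)), ?_⟩
      show _ ↔ dotInt _ (((k : Co0) • (d : leechLattice) : leechLattice) : GolayPt → ℤ) = 8
      conv_rhs => rw [← hk', co0_dot]
    · rintro ⟨hx, hxne, hiff⟩
      obtain ⟨g, g1, g2, g3, g4⟩ := htr2 d d.2 x hx hd hxne hiff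
      exact ⟨⟨x, hx⟩, ⟨⟨⟨_, ⟨g, g1, g2⟩, rfl⟩, Subtype.ext g3⟩, Subtype.ext g4⟩, rfl⟩
  have hdis : (dotInt ((Spor.leechU : leechLattice) : GolayPt → ℤ) (z : GolayPt → ℤ) = 8) = False :=
    eq_false hz8
  have horbB : (orbit (stabilizer hundHom.range a) (⟨y, hy⟩ : Hund)).ncard = 22 := by
    rw [← Set.ncard_image_of_injective _ Subtype.val_injective, horb _ hyne]
    refine Eq.trans ?_ h22
    congr 1
    ext x
    simp only [Set.mem_setOf_eq, hy8, true_iff]
    exact ⟨fun e => ⟨e.1, e.2.2⟩, fun e => ⟨e.1, fun e' => (by rw [e', hU] at e; exact absurd e.2 (by norm_num)), e.2⟩⟩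
  refine ⟨inferInstance, a, ⟨y, hy⟩, ⟨z, hz⟩, ?_⟩
  obtain ⟨hs, hcard⟩ := isHS_five
  have hinj : Function.Injective hundHom := by
    rw [← MonoidHom.ker_eq_bot_iff]
    haveI := hs
    refine (hundHom.normal_ker.eq_bot_or_eq_top).resolve_right fun htop => ?_
    have h1 : (orbit (stabilizer hundHom.range a) (⟨y, hy⟩ : Hund)).ncard ≤ 1 := by
      rw [Set.ncard_le_one_iff]
      rintro _ _ ⟨⟨⟨_, k, rfl⟩, -⟩, rfl⟩ ⟨⟨⟨_, l, rfl⟩, -⟩, rfl⟩
      have hk : hundHom k = 1 := MonoidHom.mem_ker.1 (htop ▸ Subgroup.mem_top k)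
      have hl : hundHom l = 1 := MonoidHom.mem_ker.1 (htop ▸ Subgroup.mem_top l)
      show hundHom k _ = hundHom l _
      rw [hk, hl]
    rw [horbB] at h1
    omega
  refine ⟨{ hcard := by rw [← Nat.card_eq_fintype_card, card_hund]
            trans := fun x => ?_
            orbB := horbB
            orbC := ?_
            order := ?_ }, hinj⟩
  · obtain ⟨g, g1, g2, g3⟩ := htr _ leechU_mem_hundred _ x.2
    exact ⟨_, ⟨⟨g, g1, g2⟩, rfl⟩, Subtype.ext g3⟩
  · rw [← Set.ncard_image_of_injective _ Subtype.val_injective, horb _ hzne]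
    refine Eq.trans ?_ h77
    congr 1
    ext x
    simp only [Set.mem_setOf_eq, hdis, false_iff]
  · rw [← Nat.card_congr (MonoidHom.ofInjective hinj).toEquiv, hcard]

/-- Recognition of the group on a hundred points. -/
theorem iso_HS_of_data {Ω : Type*} [Fintype Ω] [DecidableEq Ω] {G : Subgroup (Equiv.Perm Ω)} {a b c : Ω}
    (h : HSRankThree.Data G a b c) : Spor.IsoHS G := by
  classical
  obtain ⟨_, a', b', c', h', hinj⟩ := hund_data
  obtain ⟨e1⟩ := HSRankThree.nonempty_equiv h h'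
  obtain ⟨e2⟩ := sporHS_equiv
  exact ⟨e1.trans ((MonoidHom.ofInjective hinj).symm.trans e2.symm)⟩

end Cfsg.Lib.Concrete
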