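import Cfsg.Agent.Lib.Concrete.PointBlockEqns

/-!
A strongly regular graph with parameters (100, 22, 0, 6) is the point-block graph of an S(3, 6, 22).
-/

set_option autoImplicit false

namespace Cfsg.Lib.Concrete.SrgHundred

open Finset

variable {V : Type*} [Fintype V] [DecidableEq V] {G : SimpleGraph V} [DecidableRel G.Adj]

/-- The neighbours of the root. -/
abbrev Pt (G : SimpleGraph V) (r : V) := {p : V // G.Adj r p}

/-- The vertices at distance two from the root. -/
abbrev Far (G : SimpleGraph V) (r : V) := {b : V // b ≠ r ∧ ¬ G.Adj r b}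

/-- The neighbours of a far vertex near the root. -/
def blk (r : V) (b : Far G r) : Finset (Pt G r) := univ.filter fun p => G.Adj b.1 p.1

variable (hG : G.IsSRGWith 100 22 0 6)

include hG

theorem common {u w : V} (h : u ≠ w) :
    (univ.filter fun x => G.Adj u x ∧ G.Adj w x).card = if G.Adj u w then 0 else 6 := by
  have e : (univ.filter fun x => G.Adj u x ∧ G.Adj w x).card = Fintype.card (G.commonNeighbors u w) := by
    rw [← Set.toFinset_card]
    congr 1
    ext x
    simp [SimpleGraph.mem_commonNeighbors]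
  rw [e]
  split
  · rename_i ha; exact hG.of_adj u w ha
  · rename_i ha; exact hG.of_not_adj h ha

theorem no_triangle {u v w : V} (h1 : G.Adj u v) (h2 : G.Adj u w) : ¬ G.Adj v w := fun h3 => by
  have h := common hG h1.ne
  rw [if_pos h1, card_eq_zero] at h
  have hw : w ∈ univ.filter fun x => G.Adj u x ∧ G.Adj v x := mem_filter.2 ⟨mem_univ _, h2, h3⟩
  rw [h] at hw
  exact absurd hw (notMem_empty _)

theorem card_pt (r : V) : Fintype.card (Pt G r) = 22 := by
  rw [Fintype.card_subtype]
  have h : G.degree r = 22 := hG.regular r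
  rw [← h, ← SimpleGraph.card_neighborFinset_eq_degree]
  congr 1
  ext x
  simp

theorem card_far (r : V) : Fintype.card (Far G r) = 77 := by
  rw [Fintype.card_subtype]
  have h := Finset.card_filter_add_card_filter_not (s := (univ : Finset V)) (fun b => b ≠ r ∧ ¬ G.Adj r b)
  have h2 : (univ.filter fun b => ¬ (b ≠ r ∧ ¬ G.Adj r b)) = insert r (univ.filter fun b => G.Adj r b) := by
    ext x
    simp only [mem_filter, mem_univ, true_and, mem_insert]
    tauto
  rw [h2, card_insert_of_notMem (by simp), card_univ, hG.card] at h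
  have h3 := card_pt hG r
  rw [Fintype.card_subtype] at h3
  omega

theorem card_blk (r : V) (b : Far G r) : (blk r b).card = 6 := by
  have h := common hG (u := b.1) (w := r) b.2.1
  rw [if_neg fun ha => b.2.2 ha.symm] at h
  rw [← h]
  refine card_bij (fun p _ => p.1) (fun p hp => ?_) (fun a _ c _ e => Subtype.ext e) fun x hx => ?_
  · exact mem_filter.2 ⟨mem_univ _, (mem_filter.1 hp).2, p.2⟩
  · obtain ⟨hb, hr⟩ := (mem_filter.1 hx).2
    exact ⟨⟨x, hr⟩, mem_filter.2 ⟨mem_univ _, hb⟩, rfl⟩

theorem count_point (r : V) (p : Pt G r) : (univ.filter fun b : Far G r => p ∈ blk r b).card = 21 := by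
  have hd : (univ.filter fun x => G.Adj p.1 x).card = 22 := by
    have h : G.degree p.1 = 22 := hG.regular p.1
    rw [← h, ← SimpleGraph.card_neighborFinset_eq_degree]
    congr 1
    ext x
    simp
  have hr : r ∈ univ.filter fun x => G.Adj p.1 x := mem_filter.2 ⟨mem_univ _, p.2.symm⟩
  have he := card_erase_of_mem hr
  rw [hd] at he
  show _ = 22 - 1
  rw [← he]
  refine card_bij (fun b _ => b.1) (fun b hb => ?_) (fun a _ c _ e => Subtype.ext e) fun x hx => ?_
  · have := (mem_filter.1 (mem_filter.1 hb).2).2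
    exact mem_erase.2 ⟨b.2.1, mem_filter.2 ⟨mem_univ _, this.symm⟩⟩
  · obtain ⟨hne, hx⟩ := mem_erase.1 hx
    have hadj := (mem_filter.1 hx).2
    exact ⟨⟨x, hne, fun h => no_triangle hG p.2 h hadj⟩,
      mem_filter.2 ⟨mem_univ _, mem_filter.2 ⟨mem_univ _, hadj.symm⟩⟩, rfl⟩

theorem count_pair (r : V) {p q : Pt G r} (hpq : p ≠ q) :
    (univ.filter fun b : Far G r => p ∈ blk r b ∧ q ∈ blk r b).card = 5 := by
  have h := common hG (u := p.1) (w := q.1) (fun e => hpq (Subtype.ext e))
  rw [if_neg (no_triangle hG p.2 q.2)] at h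
  have hr : r ∈ univ.filter fun x => G.Adj p.1 x ∧ G.Adj q.1 x := mem_filter.2 ⟨mem_univ _, p.2.symm, q.2.symm⟩
  have he := card_erase_of_mem hr
  rw [h] at he
  show _ = 6 - 1
  rw [← he]
  refine card_bij (fun b _ => b.1) (fun b hb => ?_) (fun a _ c _ e => Subtype.ext e) fun x hx => ?_
  · obtain ⟨hp, hq⟩ := (mem_filter.1 hb).2
    exact mem_erase.2 ⟨b.2.1, mem_filter.2 ⟨mem_univ _, (mem_filter.1 hp).2.symm, (mem_filter.1 hq).2.symm⟩⟩
  · obtain ⟨hne, hx⟩ := mem_erase.1 hx
    obtain ⟨hp, hq⟩ := (mem_filter.1 hx).2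
    exact ⟨⟨x, hne, fun h => no_triangle hG p.2 h hp⟩, mem_filter.2 ⟨mem_univ _,
      mem_filter.2 ⟨mem_univ _, hp.symm⟩, mem_filter.2 ⟨mem_univ _, hq.symm⟩⟩, rfl⟩

theorem blk_disjoint (r : V) {b c : Far G r} (h : G.Adj b.1 c.1) : blk r b ∩ blk r c = ∅ := by
  rw [eq_empty_iff_forall_notMem]
  intro p hp
  rw [mem_inter, blk, blk, mem_filter, mem_filter] at hp
  exact no_triangle hG h hp.1.2 hp.2.2

theorem count_far_adj (r : V) (b : Far G r) : (univ.filter fun c : Far G r => G.Adj b.1 c.1).card = 16 := by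
  have hd : (univ.filter fun x => G.Adj b.1 x).card = 22 := by
    have h : G.degree b.1 = 22 := hG.regular b.1
    rw [← h, ← SimpleGraph.card_neighborFinset_eq_degree]
    congr 1
    ext x
    simp
  have hs := Finset.card_filter_add_card_filter_not (s := univ.filter fun x => G.Adj b.1 x) (fun x => G.Adj r x)
  rw [hd] at hs
  have h6 : ((univ.filter fun x => G.Adj b.1 x).filter fun x => G.Adj r x).card = 6 := by
    have h := common hG (u := b.1) (w := r) b.2.1
    rw [if_neg fun ha => b.2.2 ha.symm] at h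
    rw [filter_filter, h]
  have h16 : (univ.filter fun c : Far G r => G.Adj b.1 c.1).card =
      ((univ.filter fun x => G.Adj b.1 x).filter fun x => ¬ G.Adj r x).card := by
    refine card_bij (fun c _ => c.1) (fun c hc => ?_) (fun a _ c _ e => Subtype.ext e) fun x hx => ?_
    · exact mem_filter.2 ⟨mem_filter.2 ⟨mem_univ _, (mem_filter.1 hc).2⟩, c.2.2⟩
    · obtain ⟨hb, hr⟩ := mem_filter.1 hx
      have hb' := (mem_filter.1 hb).2
      exact ⟨⟨x, fun e => b.2.2 (e ▸ hb').symm, hr⟩, mem_filter.2 ⟨mem_univ _, hb'⟩, rfl⟩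
  omega

theorem inter_card (r : V) {b c : Far G r} (hne : c ≠ b) (hadj : ¬ G.Adj b.1 c.1) :
    (blk r b ∩ blk r c).card = 2 := by
  classical
  set N := univ.filter fun c : Far G r => c ≠ b ∧ ¬ G.Adj b.1 c.1 with hN
  set f : Far G r → ℤ := fun c => ((blk r b ∩ blk r c).card : ℤ) with hf
  have cN : N.card = 60 := by
    have h := Finset.card_filter_add_card_filter_not (s := (univ : Finset (Far G r))) (fun c => c ≠ b ∧ ¬ G.Adj b.1 c.1)
    have h2 : (univ.filter fun c : Far G r => ¬ (c ≠ b ∧ ¬ G.Adj b.1 c.1)) =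
        insert b (univ.filter fun c : Far G r => G.Adj b.1 c.1) := by
      ext x
      simp only [mem_filter, mem_univ, true_and, mem_insert]
      tauto
    rw [h2, card_insert_of_notMem (by simp), count_far_adj hG r b, card_univ, card_far hG r] at h
    rw [hN]; omega
  have split : ∀ g : Far G r → ℤ, (∀ c : Far G r, G.Adj b.1 c.1 → g c = 0) → ∑ c, g c = g b + ∑ c ∈ N, g c := by
    intro g hg
    rw [← sum_filter_add_sum_filter_not univ (fun c : Far G r => c ≠ b ∧ ¬ G.Adj b.1 c.1) g, add_comm]
    refine congrArg (· + _) ?_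
    rw [Finset.sum_eq_single b]
    · intro c hc hcb
      refine hg c ?_
      have := (mem_filter.1 hc).2
      tauto
    · intro h
      exact absurd (mem_filter.2 ⟨mem_univ b, fun h => h.1 rfl⟩) h
  have hself : f b = 6 := by
    show ((blk r b ∩ blk r b).card : ℤ) = 6
    rw [inter_self, card_blk hG]; rfl
  have hfa : ∀ c : Far G r, G.Adj b.1 c.1 → f c = 0 := fun c h => by
    show ((blk r b ∩ blk r c).card : ℤ) = 0
    rw [blk_disjoint hG r h]; rfl
  have hexp : ∀ c, f c = ∑ p ∈ blk r b, if p ∈ blk r c then (1 : ℤ) else 0 := fun c => by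
    rw [Finset.sum_boole, filter_mem_eq_inter]
  have s1 : ∑ c, f c = 126 := by
    simp only [hexp]
    rw [sum_comm]
    simp only [Finset.sum_boole, count_point hG r, sum_const, card_blk hG, nsmul_eq_mul]
    norm_num
  have s2 : ∑ c, f c * f c = 276 := by
    simp only [hexp, sum_mul_sum, ite_mul, one_mul, zero_mul, ← ite_and]
    rw [sum_comm]
    have : ∀ p ∈ blk r b, ∑ c : Far G r, ∑ q ∈ blk r b, (if p ∈ blk r c ∧ q ∈ blk r c then (1 : ℤ) else 0) = 46 := by
      intro p hp
      rw [sum_comm]
      simp only [Finset.sum_boole]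
      rw [← add_sum_erase _ _ hp]
      rw [Finset.sum_congr rfl fun q hq => by
        rw [count_pair hG r (Ne.symm (mem_erase.1 hq).1)]]
      simp only [and_self, count_point hG r, sum_const, card_erase_of_mem hp, card_blk hG]
      norm_num
    rw [sum_congr rfl this, sum_const, card_blk hG]
    norm_num
  rw [split f hfa, hself] at s1
  rw [split (fun c => f c * f c) (fun c h => by simp [hfa c h]), hself] at s2
  have hz : ∑ c ∈ N, (f c - 2) * (f c - 2) = 0 := by
    have e : ∀ c, (f c - 2) * (f c - 2) = f c * f c - 4 * f c + 4 := fun c => by ring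
    simp only [e, sum_add_distrib, sum_sub_distrib, ← mul_sum, sum_const, cN]
    norm_num
    linarith
  have h2 := (sum_eq_zero_iff_of_nonneg (fun c _ => mul_self_nonneg _)).1 hz c
    (mem_filter.2 ⟨mem_univ _, hne, hadj⟩)
  rw [mul_self_eq_zero, sub_eq_zero] at h2
  simp only [hf] at h2
  exact_mod_cast h2

theorem adj_iff (r : V) {b c : Far G r} (hne : b ≠ c) : G.Adj b.1 c.1 ↔ Disjoint (blk r b) (blk r c) := by
  rw [disjoint_iff_inter_eq_empty]
  refine ⟨blk_disjoint hG r, fun h => ?_⟩
  by_contra ha
  have := inter_card hG r (Ne.symm hne) ha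
  rw [h, card_empty] at this
  omega

theorem blk_injective (r : V) : Function.Injective (blk (G := G) r) := by
  intro b c h
  by_contra hne
  have h6 := card_blk hG r b
  by_cases ha : G.Adj b.1 c.1
  · have := blk_disjoint hG r ha
    rw [← h, inter_self] at this
    rw [this] at h6; simp at h6
  · have := inter_card hG r (Ne.symm hne) ha
    rw [← h, inter_self] at this
    omega

theorem steiner (r : V) : IsSteinerSystem 3 6 (Set.range (blk (G := G) r)) := by
  refine ⟨by rintro _ ⟨b, rfl⟩; exact card_blk hG r b, fun s hs => ?_⟩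
  have uniq : ∀ b c : Far G r, s ⊆ blk r b → s ⊆ blk r c → b = c := by
    intro b c hb hc
    by_contra hne
    have h3 := card_le_card (subset_inter hb hc)
    by_cases ha : G.Adj b.1 c.1
    · rw [blk_disjoint hG r ha, card_empty] at h3; omega
    · rw [inter_card hG r (Ne.symm hne) ha] at h3; omega
  have hdis : ((univ : Finset (Far G r)) : Set (Far G r)).PairwiseDisjoint (fun b => (blk r b).powersetCard 3) := by
    intro b _ c _ hne
    refine disjoint_left.2 fun t htb htc => hne ?_
    obtain ⟨t1, t3⟩ := mem_powersetCard.1 htb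
    obtain ⟨t2, -⟩ := mem_powersetCard.1 htc
    by_contra hne
    have h3 := card_le_card (subset_inter t1 t2)
    by_cases ha : G.Adj b.1 c.1
    · rw [blk_disjoint hG r ha, card_empty] at h3; omega
    · rw [inter_card hG r (Ne.symm hne) ha] at h3; omega
  have hall : univ.biUnion (fun b : Far G r => (blk r b).powersetCard 3) = (univ : Finset (Pt G r)).powersetCard 3 := by
    refine eq_of_subset_of_card_le (fun t ht => ?_) ?_
    · obtain ⟨b, -, hb⟩ := mem_biUnion.1 ht
      exact mem_powersetCard.2 ⟨subset_univ _, (mem_powersetCard.1 hb).2⟩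
    · rw [card_biUnion hdis]
      simp only [card_powersetCard, card_blk hG, card_univ, card_pt hG, sum_const, card_far hG]
      decide
  have hmem : s ∈ univ.biUnion (fun b : Far G r => (blk r b).powersetCard 3) :=
    hall ▸ mem_powersetCard.2 ⟨subset_univ _, hs⟩
  obtain ⟨b, -, hb⟩ := mem_biUnion.1 hmem
  refine ⟨blk r b, ⟨⟨b, rfl⟩, (mem_powersetCard.1 hb).1⟩, ?_⟩
  rintro _ ⟨⟨c, rfl⟩, hc⟩
  rw [uniq c b hc (mem_powersetCard.1 hb).1]

theorem exists_iso (r : V) :
    Nonempty (pointBlockGraph (Set.range (blk (G := G) r)) ≃g G) := by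
  classical
  have ee := Equiv.ofInjective (blk (G := G) r) (blk_injective hG r)
  set f : Option (Pt G r ⊕ Set.range (blk (G := G) r)) → V := fun o =>
    o.elim r (Sum.elim Subtype.val fun B => ((Equiv.ofInjective _ (blk_injective hG r)).symm B).1) with hfdef
  have hbij : Function.Bijective f := by
    constructor
    · rintro (_ | (p | B)) (_ | (q | C)) h <;> simp only [hfdef, Option.elim, Sum.elim_inl, Sum.elim_inr] at h
      · rfl
      · exact absurd (show G.Adj r r by have := q.2; rwa [← h] at this) G.irrefl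
      · exact absurd h.symm ((Equiv.ofInjective _ (blk_injective hG r)).symm C).2.1
      · exact absurd (show G.Adj r r by have := p.2; rwa [h] at this) G.irrefl
      · rw [Subtype.ext h]
      · exact absurd (show G.Adj r _ by have := p.2; rwa [h] at this) ((Equiv.ofInjective _ (blk_injective hG r)).symm C).2.2
      · exact absurd h ((Equiv.ofInjective _ (blk_injective hG r)).symm B).2.1
      · exact absurd (show G.Adj r _ by have := q.2; rwa [← h] at this) ((Equiv.ofInjective _ (blk_injective hG r)).symm B).2.2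
      · rw [(Equiv.ofInjective _ (blk_injective hG r)).symm.injective (Subtype.ext h)]
    · intro x
      by_cases hx : x = r
      · exact ⟨none, hx.symm⟩
      by_cases ha : G.Adj r x
      · exact ⟨some (Sum.inl ⟨x, ha⟩), rfl⟩
      · refine ⟨some (Sum.inr (Equiv.ofInjective _ (blk_injective hG r) ⟨x, hx, ha⟩)), ?_⟩
        simp only [hfdef, Option.elim, Sum.elim_inr, Equiv.symm_apply_apply]
  refine ⟨{ toEquiv := Equiv.ofBijective f hbij, map_rel_iff' := ?_ }⟩
  intro u v
  show G.Adj (f u) (f v) ↔ (pointBlockGraph _).Adj u v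
  rw [pointBlockGraph, SimpleGraph.fromRel_adj]
  rcases u with _ | (p | B) <;> rcases v with _ | (q | C) <;>
    simp only [hfdef, Option.elim, Sum.elim_inl, Sum.elim_inr, pointBlockRel]
  · simp
  · simp [q.2]
  · obtain ⟨c, rfl⟩ := (Equiv.ofInjective _ (blk_injective hG r)).surjective C
    simp [c.2.2]
  · simp [p.2.symm]
  · simp [no_triangle hG p.2 q.2]
  · obtain ⟨c, rfl⟩ := (Equiv.ofInjective _ (blk_injective hG r)).surjective C
    rw [Equiv.symm_apply_apply]
    simp [blk, G.adj_comm p.1 c.1]
  · obtain ⟨b, rfl⟩ := (Equiv.ofInjective _ (blk_injective hG r)).surjective B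
    simp [G.adj_comm b.1 r, b.2.2]
  · obtain ⟨b, rfl⟩ := (Equiv.ofInjective _ (blk_injective hG r)).surjective B
    rw [Equiv.symm_apply_apply]
    simp [blk]
  · obtain ⟨b, rfl⟩ := (Equiv.ofInjective _ (blk_injective hG r)).surjective B
    obtain ⟨c, rfl⟩ := (Equiv.ofInjective _ (blk_injective hG r)).surjective C
    rw [Equiv.symm_apply_apply, Equiv.symm_apply_apply]
    simp only [ne_eq, Option.some.injEq, Sum.inr.injEq, EmbeddingLike.apply_eq_iff_eq]
    simp only [Equiv.ofInjective_apply, disjoint_comm (a := blk r c), or_self]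
    constructor
    · intro h
      have hne : b ≠ c := fun e => G.irrefl (e ▸ h)
      exact ⟨hne, (adj_iff hG r hne).1 h⟩
    · exact fun h => (adj_iff hG r h.1).2 h.2

omit hG in
/-- An isomorphism of set systems gives one of point-block graphs. -/
theorem iso_of_setSystemIso {α β : Type*} [DecidableEq β] {B : Set (Finset α)} {B' : Set (Finset β)}
    (h : SetSystemIso B B') : Nonempty (pointBlockGraph B ≃g pointBlockGraph B') := by
  classical
  obtain ⟨e, he⟩ := h
  let eB : B ≃ B' := (Equiv.Set.image (fun b => b.image e) B (image_injective e.injective)).trans (Equiv.setCongr he)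
  have heB : ∀ b : B, ((eB b : Finset β)) = (b : Finset α).image e := fun _ => rfl
  refine ⟨{ toEquiv := (e.sumCongr eB).optionCongr, map_rel_iff' := ?_ }⟩
  intro u v
  show (pointBlockGraph B').Adj _ _ ↔ (pointBlockGraph B).Adj u v
  rw [pointBlockGraph, pointBlockGraph, SimpleGraph.fromRel_adj, SimpleGraph.fromRel_adj]
  rcases u with _ | (a | b) <;> rcases v with _ | (a' | b') <;>
    simp [pointBlockRel, heB, disjoint_image e.injective, e.injective.eq_iff]

end Cfsg.Lib.Concrete.SrgHundred
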