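import Cfsg.Agent.Lib.Linear.SLBasic

/-!
The Steinberg presentation of the special linear group of degree two over a finite field.
-/

set_option autoImplicit false

namespace Cfsg.Lib.Concrete.StTwo

/-- Two root groups satisfying the rank one Steinberg relations and generating the group. -/
structure Sys (K : Type*) [Field K] (P : Type*) [Group P] where
  x : K → P
  y : K → P
  x_add : ∀ t u, x t * x u = x (t + u)
  y_add : ∀ t u, y t * y u = y (t + u)
  conj_x : ∀ t u, t ≠ 0 → (x t * y (-t⁻¹) * x t) * x u * (x t * y (-t⁻¹) * x t)⁻¹ = y (-(t⁻¹ ^ 2 * u))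
  conj_y : ∀ t u, t ≠ 0 → (y t * x (-t⁻¹) * y t) * y u * (y t * x (-t⁻¹) * y t)⁻¹ = x (-(t⁻¹ ^ 2 * u))
  gen : Subgroup.closure (Set.range x ∪ Set.range y) = ⊤

variable {K : Type*} [Field K] {P : Type*} [Group P] (S : Sys K P)

theorem x_zero : S.x 0 = 1 := by
  have := S.x_add 0 0
  rw [add_zero] at this
  simpa using this

theorem y_zero : S.y 0 = 1 := by
  have := S.y_add 0 0
  rw [add_zero] at this
  simpa using this

theorem x_inv (t : K) : (S.x t)⁻¹ = S.x (-t) := by
  rw [inv_eq_iff_mul_eq_one, S.x_add, add_neg_cancel, x_zero]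

theorem y_inv (t : K) : (S.y t)⁻¹ = S.y (-t) := by
  rw [inv_eq_iff_mul_eq_one, S.y_add, add_neg_cancel, y_zero]

/-- The Weyl element. -/
def w (t : K) : P := S.x t * S.y (-t⁻¹) * S.x t

/-- The torus element. -/
def h (t : K) : P := w S t * w S (-1)

theorem w_inv (t : K) : (w S t)⁻¹ = w S (-t) := by
  simp only [w, mul_inv_rev, x_inv, y_inv, neg_neg, inv_neg, mul_assoc]

theorem w_x {t : K} (ht : t ≠ 0) (u : K) : w S t * S.x u = S.y (-(t⁻¹ ^ 2 * u)) * w S t := by
  rw [← S.conj_x t u ht, w]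
  group

theorem w_y {t : K} (ht : t ≠ 0) (v : K) : w S t * S.y v = S.x (-(t ^ 2 * v)) * w S t := by
  have h1 := w_x S (neg_ne_zero.2 ht) (-(t ^ 2 * v))
  rw [← w_inv, show -((-t)⁻¹ ^ 2 * -(t ^ 2 * v)) = v by field_simp] at h1
  calc w S t * S.y v = w S t * (S.y v * (w S t)⁻¹) * w S t := by group
    _ = w S t * ((w S t)⁻¹ * S.x (-(t ^ 2 * v))) * w S t := by rw [h1]
    _ = _ := by group

theorem y_form {t : K} (ht : t ≠ 0) : S.y (-t⁻¹) = S.x (-t) * w S t * S.x (-t) := by
  rw [w, ← x_inv]; group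

theorem w_eq_y {t : K} (ht : t ≠ 0) : w S t = S.y (-t⁻¹) * S.x t * S.y (-t⁻¹) := by
  have h1 : w S t * w S t * (w S t)⁻¹ = w S t := by group
  rw [← h1]
  conv_lhs => arg 1; arg 2; rw [w]
  rw [← mul_assoc, ← mul_assoc, w_x S ht t, mul_assoc (S.y _) (w S t) (S.y _), w_y S ht, ← mul_assoc,
    mul_assoc _ (w S t) (S.x t), w_x S ht t]
  rw [show -(t⁻¹ ^ 2 * t) = -t⁻¹ by field_simp, show -(t ^ 2 * -t⁻¹) = t by field_simp]
  group

theorem x_form {t : K} (ht : t ≠ 0) : S.x t = S.y t⁻¹ * w S t * S.y t⁻¹ := by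
  rw [w_eq_y S ht]
  simp only [← mul_assoc, S.y_add, add_neg_cancel, y_zero, one_mul]
  rw [mul_assoc, S.y_add, neg_add_cancel, y_zero, mul_one]

theorem w_conj_w {t s : K} (ht : t ≠ 0) (hs : s ≠ 0) : w S t * w S s * (w S t)⁻¹ = w S (t ^ 2 / s) := by
  have hts : t ^ 2 / s ≠ 0 := div_ne_zero (pow_ne_zero 2 ht) hs
  rw [mul_inv_eq_iff_eq_mul]
  conv_lhs => arg 2; rw [w]
  rw [← mul_assoc, ← mul_assoc, w_x S ht s, mul_assoc (S.y _) (w S t) (S.y _), w_y S ht, ← mul_assoc,
    mul_assoc _ (w S t) (S.x s), w_x S ht s, w_eq_y S hts, show -(t⁻¹ ^ 2 * s) = -(t ^ 2 / s)⁻¹ by field_simp,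
    show -(t ^ 2 * -s⁻¹) = t ^ 2 / s by field_simp]
  group

theorem h_one : h S 1 = 1 := by
  rw [h, ← w_inv, mul_inv_cancel]

theorem h_x {t : K} (ht : t ≠ 0) (u : K) : h S t * S.x u = S.x (t ^ 2 * u) * h S t := by
  rw [h, mul_assoc, w_x S (by norm_num) u, ← mul_assoc, w_y S ht, show -(t ^ 2 * -((-1 : K)⁻¹ ^ 2 * u)) = t ^ 2 * u by
    rw [inv_neg_one]; ring, mul_assoc]

theorem h_y {t : K} (ht : t ≠ 0) (v : K) : h S t * S.y v = S.y (t⁻¹ ^ 2 * v) * h S t := by
  rw [h, mul_assoc, w_y S (by norm_num) v, ← mul_assoc, w_x S ht, show -(t⁻¹ ^ 2 * -((-1 : K) ^ 2 * v)) = t⁻¹ ^ 2 * v by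
    ring, mul_assoc]

theorem eq_one_of_commute_gens {z : P} (hx : ∀ u, Commute z (S.x u)) (hy : ∀ u, Commute z (S.y u)) :
    z ∈ Subgroup.center P := by
  rw [Subgroup.mem_center_iff]
  intro g
  have hg : g ∈ Subgroup.centralizer {z} := by
    have hle : Subgroup.closure (Set.range S.x ∪ Set.range S.y) ≤ Subgroup.centralizer {z} := by
      rw [Subgroup.closure_le]
      rintro _ (⟨u, rfl⟩ | ⟨u, rfl⟩)
      · exact Subgroup.mem_centralizer_singleton_iff.2 (hx u).eq.symm
      · exact Subgroup.mem_centralizer_singleton_iff.2 (hy u).eq.symm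
    exact hle (S.gen ▸ Subgroup.mem_top g)
  exact Subgroup.mem_centralizer_singleton_iff.1 hg

theorem h_pow_x {g : K} (hg : g ≠ 0) (k : ℕ) (u : K) :
    h S g ^ k * S.x u = S.x ((g ^ k) ^ 2 * u) * h S g ^ k ∧
      h S g ^ k * S.y u = S.y ((g ^ k)⁻¹ ^ 2 * u) * h S g ^ k := by
  induction k generalizing u with
  | zero => simp
  | succ k ih =>
    constructor
    · rw [pow_succ, mul_assoc, h_x S hg, ← mul_assoc, (ih _).1, mul_assoc]
      congr 2; ring
    · rw [pow_succ, mul_assoc, h_y S hg, ← mul_assoc, (ih _).2, mul_assoc]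
      congr 2
      rw [pow_succ g k, mul_inv]; ring

variable [Finite K]

theorem h_comm {s t : K} (hs : s ≠ 0) (ht : t ≠ 0) : Commute (h S s) (h S t) := by
  obtain ⟨g, hg⟩ := IsCyclic.exists_generator (α := Kˣ)
  have key : ∀ {r : K}, r ≠ 0 → ∃ (k : ℕ), (h S (g : K) ^ k)⁻¹ * h S r ∈ Subgroup.center P := by
    intro r hr
    obtain ⟨k, hk⟩ := (mem_powers_iff_mem_zpowers.2 (hg (Units.mk0 r hr)) : Units.mk0 r hr ∈ Submonoid.powers g)
    have hr' : (g : K) ^ k = r := by
      have := congrArg Units.val hk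
      simpa using this
    refine ⟨k, eq_one_of_commute_gens S (fun u => ?_) fun u => ?_⟩
    · show _ * _ = _ * _
      rw [mul_assoc, h_x S hr, inv_mul_eq_iff_eq_mul, ← mul_assoc, ← mul_assoc, (h_pow_x S g.ne_zero k u).1, hr']
      group
    · show _ * _ = _ * _
      rw [mul_assoc, h_y S hr, inv_mul_eq_iff_eq_mul, ← mul_assoc, ← mul_assoc, (h_pow_x S g.ne_zero k u).2, hr']
      group
  obtain ⟨a, ha⟩ := key hs
  obtain ⟨b, hb⟩ := key ht
  have e1 : h S s = h S (g : K) ^ a * ((h S (g : K) ^ a)⁻¹ * h S s) := by group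
  have e2 : h S t = h S (g : K) ^ b * ((h S (g : K) ^ b)⁻¹ * h S t) := by group
  have hc : ∀ {z : P}, z ∈ Subgroup.center P → ∀ q, Commute q z := fun hz q => Subgroup.mem_center_iff.1 hz q
  rw [e1, e2]
  refine Commute.mul_right (Commute.mul_left ?_ (hc ha _).symm) (hc hb _)
  exact Commute.pow_pow_self _ a b

theorem h_mul_sq {a c : K} (ha : a ≠ 0) (hc : c ≠ 0) : h S (a * c ^ 2) = h S a * h S (c ^ 2) := by
  have h1 : h S c * w S a * (h S c)⁻¹ = w S (c ^ 2 * a) := by
    calc h S c * w S a * (h S c)⁻¹ = w S c * (w S (-1) * w S a * (w S (-1))⁻¹) * (w S c)⁻¹ := by rw [h]; group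
      _ = w S c * w S (((-1) ^ 2) / a) * (w S c)⁻¹ := by rw [w_conj_w S (by norm_num) ha]
      _ = w S (c ^ 2 * a) := by
        rw [w_conj_w S hc (div_ne_zero (by norm_num) ha)]
        congr 1
        field_simp
  have h2 : h S c * w S (-1) * (h S c)⁻¹ = w S (c ^ 2 * -1) := by
    calc h S c * w S (-1) * (h S c)⁻¹ = w S c * (w S (-1) * w S (-1) * (w S (-1))⁻¹) * (w S c)⁻¹ := by rw [h]; group
      _ = w S c * w S (((-1) ^ 2) / (-1)) * (w S c)⁻¹ := by rw [w_conj_w S (by norm_num) (by norm_num)]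
      _ = w S (c ^ 2 * -1) := by
        rw [w_conj_w S hc (by norm_num)]
        congr 1
        ring
  have h3 : h S c * h S a * (h S c)⁻¹ = h S (a * c ^ 2) * (h S (c ^ 2))⁻¹ := by
    calc h S c * h S a * (h S c)⁻¹ = (h S c * w S a * (h S c)⁻¹) * (h S c * w S (-1) * (h S c)⁻¹) := by
          simp only [h]; group
      _ = w S (c ^ 2 * a) * w S (c ^ 2 * -1) := by rw [h1, h2]
      _ = _ := by
        rw [h, h, mul_inv_rev, w_inv, w_inv, neg_neg, mul_comm a, mul_neg_one]
        rw [show w S (c ^ 2 * a) * w S (-1) * (w S 1 * w S (-c ^ 2)) =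
          w S (c ^ 2 * a) * (w S (-1) * w S 1) * w S (-c ^ 2) by group,
          show w S (-1) * w S 1 = 1 by rw [← w_inv, inv_mul_cancel]]
        group
  rw [(h_comm S hc ha).eq, mul_inv_cancel_right] at h3
  exact (eq_mul_inv_iff_mul_eq.1 h3).symm

theorem h_product_relation {a b : K} (hab : a + b = 1) (ha : a ≠ 0) (hb : b ≠ 0) :
    h S a * h S b * h S (-(a * b)⁻¹) = h S (-1) := by
  have h1 : S.x 1 = S.x a * S.x b := by rw [S.x_add, hab]
  rw [x_form S one_ne_zero, x_form S ha, x_form S hb, inv_one] at h1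
  have hab0 : a * b ≠ 0 := mul_ne_zero ha hb
  have h2 : S.y a⁻¹ * S.y b⁻¹ = S.x (a * b) * w S (-(a * b)) * S.x (a * b) := by
    rw [S.y_add, show a⁻¹ + b⁻¹ = -(-(a * b))⁻¹ by field_simp; linear_combination hab, y_form S (neg_ne_zero.2 hab0),
      neg_neg]
  have h3 : S.x (a * b) * w S b = w S b * S.y (-(a / b)) := by
    have := w_y S hb (-(a / b))
    rw [show -(b ^ 2 * -(a / b)) = a * b by field_simp] at this
    exact this.symm
  have h4 : S.y 1 * w S 1 * S.y 1 = S.y 1 * (w S a * w S (-(a * b)) * w S b) * S.y 1 := by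
    rw [h1]
    calc S.y a⁻¹ * w S a * S.y a⁻¹ * (S.y b⁻¹ * w S b * S.y b⁻¹)
        = S.y a⁻¹ * w S a * (S.y a⁻¹ * S.y b⁻¹) * w S b * S.y b⁻¹ := by group
      _ = S.y a⁻¹ * (w S a * S.x (a * b)) * w S (-(a * b)) * (S.x (a * b) * w S b) * S.y b⁻¹ := by rw [h2]; group
      _ = S.y a⁻¹ * S.y (-(a⁻¹ ^ 2 * (a * b))) * w S a * w S (-(a * b)) * w S b * (S.y (-(a / b)) * S.y b⁻¹) := by
        rw [w_x S ha, h3]; group
      _ = _ := by
        rw [S.y_add, S.y_add, show a⁻¹ + -(a⁻¹ ^ 2 * (a * b)) = 1 by field_simp; linear_combination -hab,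
          show -(a / b) + b⁻¹ = 1 by field_simp; linear_combination -hab]
        group
  have h5 : w S 1 = w S a * w S (-(a * b)) * w S b := mul_left_cancel (mul_right_cancel h4)
  have hw : ∀ t, w S t = h S t * w S 1 := fun t => by
    rw [h, mul_assoc, ← w_inv, inv_mul_cancel, mul_one]
  have hswap : ∀ {t : K}, t ≠ 0 → w S 1 * h S t = h S t⁻¹ * w S 1 := by
    intro t ht
    calc w S 1 * h S t = (w S 1 * w S t * (w S 1)⁻¹) * (w S 1 * w S (-1)) := by rw [h]; group
      _ = w S t⁻¹ * 1 := by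
        rw [w_conj_w S one_ne_zero ht, ← w_inv S 1, mul_inv_cancel, one_pow, one_div]
      _ = h S t⁻¹ * w S 1 := by rw [← hw, mul_one]
  have hsq : w S 1 * w S 1 = (h S (-1))⁻¹ := by rw [h, mul_inv_rev, w_inv, neg_neg]
  rw [hw a, hw (-(a * b)), hw b] at h5
  have h6 : w S 1 = h S a * h S (-(a * b))⁻¹ * (h S (-1))⁻¹ * h S b * w S 1 := by
    conv_lhs => rw [h5]
    calc h S a * w S 1 * (h S (-(a * b)) * w S 1) * (h S b * w S 1)
        = h S a * (w S 1 * h S (-(a * b))) * w S 1 * (h S b * w S 1) := by group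
      _ = h S a * h S (-(a * b))⁻¹ * (w S 1 * w S 1) * h S b * w S 1 := by
        rw [hswap (neg_ne_zero.2 hab0)]; group
      _ = _ := by rw [hsq]
  have h7 : h S a * h S (-(a * b))⁻¹ * (h S (-1))⁻¹ * h S b = 1 := mul_right_cancel ((one_mul _).trans h6).symm
  have hm1 : (-1 : K) ≠ 0 := by norm_num
  have hn : -(a * b)⁻¹ ≠ 0 := neg_ne_zero.2 (inv_ne_zero hab0)
  rw [inv_neg, mul_assoc (h S a * _), ((h_comm S hm1 hb).inv_left).eq, ← mul_assoc, mul_inv_eq_one,
    mul_assoc, (h_comm S hn hb).eq, ← mul_assoc] at h7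
  exact h7

/-- The torus map is multiplicative. -/
theorem h_mul {a b : K} (ha : a ≠ 0) (hb : b ≠ 0) : h S (a * b) = h S a * h S b := by
  classical
  have := Fintype.ofFinite K
  by_cases hsqb : IsSquare b
  · obtain ⟨c, rfl⟩ := hsqb
    rw [← pow_two]
    exact h_mul_sq S ha (left_ne_zero_of_mul hb)
  by_cases hsqa : IsSquare a
  · obtain ⟨c, rfl⟩ := hsqa
    rw [mul_comm, ← pow_two, h_mul_sq S hb (left_ne_zero_of_mul ha), (h_comm S hb (pow_ne_zero 2 (left_ne_zero_of_mul ha))).eq]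
  -- both are non-squares; two non-squares add up to one
  have hchar : ringChar K ≠ 2 := fun hc => hsqa (FiniteField.isSquare_of_char_two hc a)
  obtain ⟨u, hu, hu1⟩ : ∃ u : K, ¬ IsSquare u ∧ ¬ IsSquare (1 - u) := by
    by_contra hall
    push Not at hall
    set T : Finset K := Finset.univ.filter fun u => ¬ IsSquare u with hT
    set Q : Finset K := Finset.univ.filter fun u => IsSquare u ∧ u ≠ 0 ∧ u ≠ 1 with hQ
    have hle : T.card ≤ Q.card := Finset.card_le_card_of_injOn (fun u => 1 - u) (fun u hu => by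
        have hu' : ¬ IsSquare u := (Finset.mem_filter.1 hu).2
        refine Finset.mem_filter.2 ⟨Finset.mem_univ _, hall u hu', fun e => ?_, fun e => ?_⟩
        · exact hu' (by rw [← sub_eq_zero.1 e]; exact IsSquare.one)
        · exact hu' (by rw [sub_eq_self.1 e]; exact IsSquare.zero)) (fun u _ v _ e => sub_right_injective e)
    have hlt : Q.card + 1 ≤ T.card := by
      obtain ⟨ε, hε⟩ := FiniteField.exists_nonsquare hchar
      have hε0 : ε ≠ 0 := fun e => hε (e ▸ IsSquare.zero)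
      rw [← Finset.card_insert_of_notMem (s := Q) (a := 1) (by simp [hQ])]
      refine Finset.card_le_card_of_injOn (fun u => ε * u) (fun u hu => ?_) (fun u _ v _ e => mul_left_cancel₀ hε0 e)
      have hu' : IsSquare u ∧ u ≠ 0 := by
        rcases Finset.mem_insert.1 hu with rfl | hu
        · exact ⟨IsSquare.one, one_ne_zero⟩
        · exact ⟨(Finset.mem_filter.1 hu).2.1, (Finset.mem_filter.1 hu).2.2.1⟩
      refine Finset.mem_filter.2 ⟨Finset.mem_univ _, fun h => hε ?_⟩
      obtain ⟨c, hc⟩ := hu'.1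
      obtain ⟨d, hd⟩ := h
      have hc0 : c ≠ 0 := fun e => hu'.2 (by rw [hc, e, zero_mul])
      exact ⟨d / c, by rw [div_mul_div_comm, ← hd, ← hc, mul_div_assoc, div_self hu'.2, mul_one]⟩
    omega
  -- reduce to the pair
  have hu0 : u ≠ 0 := fun e => hu (e ▸ IsSquare.zero)
  have hu10 : 1 - u ≠ 0 := fun e => hu1 (e ▸ IsSquare.zero)
  have hprod : ∀ {a b : K}, ¬ IsSquare a → ¬ IsSquare b → ∃ c : K, c ≠ 0 ∧ a = b * c ^ 2 := by
    intro a b ha hb
    have ha0 : a ≠ 0 := fun e => ha (e ▸ IsSquare.zero)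
    have hb0 : b ≠ 0 := fun e => hb (e ▸ IsSquare.zero)
    obtain ⟨c, hc⟩ : IsSquare (a * b) := by
      rw [FiniteField.isSquare_iff hchar (mul_ne_zero ha0 hb0), mul_pow]
      rw [FiniteField.isSquare_iff hchar ha0] at ha
      rw [FiniteField.isSquare_iff hchar hb0] at hb
      rw [(FiniteField.pow_dichotomy hchar ha0).resolve_left ha, (FiniteField.pow_dichotomy hchar hb0).resolve_left hb]
      ring
    refine ⟨c / b, div_ne_zero (fun e => mul_ne_zero ha0 hb0 (by rw [hc, e, zero_mul])) hb0, ?_⟩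
    rw [div_pow, pow_two c, ← hc]
    field_simp
  obtain ⟨c, hc0, rfl⟩ := hprod hsqa hu
  obtain ⟨d, hd0, rfl⟩ := hprod hsqb hu1
  have huu : h S (u * (1 - u)) = h S u * h S (1 - u) := by
    have hp : u * (1 - u) ≠ 0 := mul_ne_zero hu0 hu10
    have h1 := h_product_relation S (add_sub_cancel u 1) hu0 hu10
    obtain ⟨e, he⟩ : IsSquare (u * (1 - u)) := by
      obtain ⟨f, -, hf⟩ := hprod hu1 hu
      exact ⟨u * f, by rw [hf]; ring⟩
    have he0 : e ≠ 0 := fun h => hp (by rw [he, h, zero_mul])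
    have e1 : -(u * (1 - u))⁻¹ = -1 * (e⁻¹) ^ 2 := by rw [he, mul_inv, neg_one_mul, pow_two]
    rw [e1, h_mul_sq S (by norm_num) (inv_ne_zero he0)] at h1
    have e2 : h S (u * (1 - u)) * h S ((e⁻¹) ^ 2) = 1 := by
      rw [← h_mul_sq S hp (inv_ne_zero he0), he, show e * e * e⁻¹ ^ 2 = 1 by field_simp, h_one]
    rw [(h_comm S (by norm_num : (-1 : K) ≠ 0) (pow_ne_zero 2 (inv_ne_zero he0))).eq, ← mul_assoc, mul_eq_right] at h1
    exact mul_right_cancel (e2.trans h1.symm)
  rw [show u * c ^ 2 * ((1 - u) * d ^ 2) = u * (1 - u) * (c * d) ^ 2 by ring,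
    h_mul_sq S (mul_ne_zero hu0 hu10) (mul_ne_zero hc0 hd0), huu, h_mul_sq S hu0 hc0, h_mul_sq S hu10 hd0,
    show (c * d) ^ 2 = c ^ 2 * d ^ 2 by ring, h_mul_sq S (pow_ne_zero 2 hc0) hd0]
  simp only [mul_assoc]
  congr 1
  rw [← mul_assoc, (h_comm S hu10 (pow_ne_zero 2 hc0)).eq, mul_assoc]

/-- The two cells. -/
def InCells (g : P) : Prop :=
  (∃ t u, t ≠ 0 ∧ g = h S t * S.x u) ∨ ∃ t u v, t ≠ 0 ∧ g = h S t * S.x u * w S 1 * S.x v

theorem w_one_sq : w S 1 * w S 1 = h S (-1) := by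
  have hm1 : (-1 : K) ≠ 0 := by norm_num
  have h2 : h S (-1) * h S (-1) = 1 := by
    rw [← h_mul S hm1 hm1, show (-1 : K) * -1 = 1 by ring, h_one]
  rw [eq_inv_of_mul_eq_one_left h2, h, mul_inv_rev, w_inv, neg_neg]

theorem inCells_mul_x {g : P} (hg : InCells S g) (c : K) : InCells S (g * S.x c) := by
  rcases hg with ⟨t, u, ht, rfl⟩ | ⟨t, u, v, ht, rfl⟩
  · exact Or.inl ⟨t, u + c, ht, by rw [mul_assoc, S.x_add]⟩
  · exact Or.inr ⟨t, u, v + c, ht, by rw [mul_assoc, S.x_add]⟩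

theorem x_h {s : K} (hs : s ≠ 0) (a : K) : S.x a * h S s = h S s * S.x (a / s ^ 2) := by
  rw [h_x S hs, show s ^ 2 * (a / s ^ 2) = a by field_simp]

theorem inCells_mul_w {g : P} (hg : InCells S g) : InCells S (g * w S 1) := by
  rcases hg with ⟨t, u, ht, rfl⟩ | ⟨t, u, v, ht, rfl⟩
  · exact Or.inr ⟨t, u, 0, ht, by rw [x_zero, mul_one]⟩
  have hm1 : (-1 : K) ≠ 0 := by norm_num
  by_cases hv : v = 0
  · subst hv
    refine Or.inl ⟨t * -1, u / (-1) ^ 2, mul_ne_zero ht hm1, ?_⟩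
    rw [x_zero, mul_one, mul_assoc (h S t * S.x u), w_one_sq, mul_assoc, x_h S hm1, ← mul_assoc, ← h_mul S ht hm1]
  · have hw : ∀ s, w S s = h S s * w S 1 := fun s => by
      rw [h, mul_assoc, ← w_inv, inv_mul_cancel, mul_one]
    have e1 : w S 1 * S.y v⁻¹ = S.x (-v⁻¹) * w S 1 := by
      rw [w_y S one_ne_zero, one_pow, one_mul]
    have e2 : S.y v⁻¹ * w S 1 = w S 1 * S.x (-v⁻¹) := by
      rw [w_x S one_ne_zero, inv_one, one_pow, one_mul, neg_neg]
    have e3 : w S 1 * S.x v * w S 1 = S.x (-v⁻¹) * (w S 1 * w S v * w S 1) * S.x (-v⁻¹) := by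
      conv_lhs => rw [x_form S hv]
      calc w S 1 * (S.y v⁻¹ * w S v * S.y v⁻¹) * w S 1
          = (w S 1 * S.y v⁻¹) * w S v * (S.y v⁻¹ * w S 1) := by group
        _ = _ := by rw [e1, e2]; group
    have e4 : w S 1 * w S v * w S 1 = h S (-v⁻¹) * w S 1 := by
      calc w S 1 * w S v * w S 1 = (w S 1 * w S v * (w S 1)⁻¹) * (w S 1 * w S 1) := by group
        _ = h S v⁻¹ * (w S 1 * h S (-1)) := by
          rw [w_conj_w S one_ne_zero hv, w_one_sq, one_pow, one_div, hw v⁻¹]
          group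
        _ = h S v⁻¹ * (h S (-1) * w S 1) := by
          rw [← w_one_sq]; group
        _ = h S (-v⁻¹) * w S 1 := by
          rw [← mul_assoc, ← h_mul S (inv_ne_zero hv) hm1, mul_neg_one]
    have hs : -v⁻¹ ≠ 0 := neg_ne_zero.2 (inv_ne_zero hv)
    refine Or.inr ⟨t * -v⁻¹, (u + -v⁻¹) / (-v⁻¹) ^ 2, -v⁻¹, mul_ne_zero ht hs, ?_⟩
    calc h S t * S.x u * w S 1 * S.x v * w S 1 = h S t * S.x u * (w S 1 * S.x v * w S 1) := by group
      _ = h S t * (S.x u * S.x (-v⁻¹)) * h S (-v⁻¹) * w S 1 * S.x (-v⁻¹) := by rw [e3, e4]; group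
      _ = h S t * (S.x (u + -v⁻¹) * h S (-v⁻¹)) * w S 1 * S.x (-v⁻¹) := by rw [S.x_add]; group
      _ = h S t * h S (-v⁻¹) * S.x ((u + -v⁻¹) / (-v⁻¹) ^ 2) * w S 1 * S.x (-v⁻¹) := by rw [x_h S hs]; group
      _ = _ := by rw [← h_mul S ht hs]

theorem inCells_all (g : P) : InCells S g := by
  have hm1 : (-1 : K) ≠ 0 := by norm_num
  have hy : ∀ {g : P}, InCells S g → ∀ c, InCells S (g * S.y c) := by
    intro g hg c
    have e : S.y c = w S 1 * S.x (-c) * w S 1 * (w S 1 * w S 1) := by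
      have h4 : w S 1 * w S 1 * (w S 1 * w S 1) = 1 := by
        rw [w_one_sq, ← h_mul S hm1 hm1, show (-1 : K) * -1 = 1 by ring, h_one]
      calc S.y c = S.y c * (w S 1 * w S 1 * (w S 1 * w S 1)) := by rw [h4, mul_one]
        _ = (S.y c * w S 1) * (w S 1 * (w S 1 * w S 1)) := by group
        _ = _ := by rw [show S.y c * w S 1 = w S 1 * S.x (-c) by rw [w_x S one_ne_zero, inv_one, one_pow, one_mul, neg_neg]]; group
    rw [e, ← mul_assoc, ← mul_assoc, ← mul_assoc, ← mul_assoc]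
    exact inCells_mul_w S (inCells_mul_w S (inCells_mul_w S (inCells_mul_x S (inCells_mul_w S hg) _)))
  have hmem : g ∈ Subgroup.closure (Set.range S.x ∪ Set.range S.y) := S.gen ▸ Subgroup.mem_top g
  induction hmem using Subgroup.closure_induction_right with
  | one => exact Or.inl ⟨1, 0, one_ne_zero, by rw [h_one, x_zero, mul_one]⟩
  | mul_right a _ b hb ih =>
    rcases hb with ⟨c, rfl⟩ | ⟨c, rfl⟩
    · exact inCells_mul_x S ih c
    · exact hy ih c
  | mul_inv_cancel a _ b hb ih =>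
    rcases hb with ⟨c, rfl⟩ | ⟨c, rfl⟩
    · rw [x_inv]; exact inCells_mul_x S ih _
    · rw [y_inv]; exact hy ih _

/-- A homomorphism to SL(2) with the standard images of the root groups is injective. -/
theorem injective_of_standard (φ : P →* Matrix.SpecialLinearGroup (Fin 2) K)
    (hx : ∀ t, (φ (S.x t) : Matrix (Fin 2) (Fin 2) K) = !![1, t; 0, 1])
    (hy : ∀ t, (φ (S.y t) : Matrix (Fin 2) (Fin 2) K) = !![1, 0; t, 1]) : Function.Injective φ := by
  have hw : ∀ t : K, t ≠ 0 → (φ (w S t) : Matrix (Fin 2) (Fin 2) K) = !![0, t; -t⁻¹, 0] := by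
    intro t ht
    rw [w, map_mul, map_mul, Matrix.SpecialLinearGroup.coe_mul, Matrix.SpecialLinearGroup.coe_mul, hx, hy,
      Matrix.mul_fin_two, Matrix.mul_fin_two]
    ext i j
    fin_cases i <;> fin_cases j <;> simp [ht]
  have hh : ∀ t : K, t ≠ 0 → (φ (h S t) : Matrix (Fin 2) (Fin 2) K) = !![t, 0; 0, t⁻¹] := by
    intro t ht
    rw [h, map_mul, Matrix.SpecialLinearGroup.coe_mul, hw t ht, hw (-1) (by norm_num), Matrix.mul_fin_two]
    ext i j
    fin_cases i <;> fin_cases j <;> simp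
  refine (injective_iff_map_eq_one φ).2 fun g hg => ?_
  have hg' := congrArg Subtype.val hg
  rcases inCells_all S g with ⟨t, u, ht, rfl⟩ | ⟨t, u, v, ht, rfl⟩
  · rw [map_mul, Matrix.SpecialLinearGroup.coe_mul, hh t ht, hx, Matrix.mul_fin_two, Matrix.SpecialLinearGroup.coe_one] at hg'
    have h1 := congrFun (congrFun hg' 0) 0
    have h2 := congrFun (congrFun hg' 0) 1
    simp at h1 h2
    subst h1
    simp at h2
    rw [h_one, h2, x_zero, mul_one]
  · exfalso
    rw [map_mul, map_mul, map_mul, Matrix.SpecialLinearGroup.coe_mul, Matrix.SpecialLinearGroup.coe_mul,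
      Matrix.SpecialLinearGroup.coe_mul, hh t ht, hx, hw 1 one_ne_zero, hx, Matrix.mul_fin_two, Matrix.mul_fin_two,
      Matrix.mul_fin_two, Matrix.SpecialLinearGroup.coe_one] at hg'
    have h1 := congrFun (congrFun hg' 1) 0
    simp at h1
    exact ht h1

/-- The transvections in matrix form. -/
def upper (t : K) : Matrix.SpecialLinearGroup (Fin 2) K := ⟨!![1, t; 0, 1], by simp [Matrix.det_fin_two_of]⟩

/-- The lower transvections. -/
def lower (t : K) : Matrix.SpecialLinearGroup (Fin 2) K := ⟨!![1, 0; t, 1], by simp [Matrix.det_fin_two_of]⟩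

theorem presentation (K : Type*) [Field K] [Finite K] :
    ∃ e : PresentedGroup
        ({g : FreeGroup (Bool × K) | ∃ (b : Bool) (t u : K), g = FreeGroup.of (b, t) * FreeGroup.of (b, u) * (FreeGroup.of (b, t + u))⁻¹} ∪
          {g | ∃ (b : Bool) (t u : K), t ≠ 0 ∧
            g = (FreeGroup.of (b, t) * FreeGroup.of (!b, -t⁻¹) * FreeGroup.of (b, t)) * FreeGroup.of (b, u) *
                  (FreeGroup.of (b, t) * FreeGroup.of (!b, -t⁻¹) * FreeGroup.of (b, t))⁻¹ * (FreeGroup.of (!b, -(t⁻¹ ^ 2 * u)))⁻¹})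
        ≃* Matrix.SpecialLinearGroup (Fin 2) K,
      (∀ t : K, ((e (PresentedGroup.of (true, t)) : Matrix (Fin 2) (Fin 2) K)) = !![1, t; 0, 1]) ∧
      (∀ t : K, ((e (PresentedGroup.of (false, t)) : Matrix (Fin 2) (Fin 2) K)) = !![1, 0; t, 1]) := by
  set rels := ({g : FreeGroup (Bool × K) | ∃ (b : Bool) (t u : K), g = FreeGroup.of (b, t) * FreeGroup.of (b, u) * (FreeGroup.of (b, t + u))⁻¹} ∪
          {g | ∃ (b : Bool) (t u : K), t ≠ 0 ∧
            g = (FreeGroup.of (b, t) * FreeGroup.of (!b, -t⁻¹) * FreeGroup.of (b, t)) * FreeGroup.of (b, u) *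
                  (FreeGroup.of (b, t) * FreeGroup.of (!b, -t⁻¹) * FreeGroup.of (b, t))⁻¹ * (FreeGroup.of (!b, -(t⁻¹ ^ 2 * u)))⁻¹})
    with hrels
  let f : Bool × K → Matrix.SpecialLinearGroup (Fin 2) K := fun p => bif p.1 then upper p.2 else lower p.2
  have hft : ∀ t, f (true, t) = upper t := fun _ => rfl
  have hff : ∀ t, f (false, t) = lower t := fun _ => rfl
  have hf : ∀ r ∈ rels, FreeGroup.lift f r = 1 := by
    rintro r (⟨b, t, u, rfl⟩ | ⟨b, t, u, ht, rfl⟩)
    · simp only [map_mul, map_inv, FreeGroup.lift_apply_of]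
      rw [mul_inv_eq_one]
      refine Matrix.SpecialLinearGroup.ext _ _ fun i j => ?_
      cases b <;>
        · simp only [hft, hff, Matrix.SpecialLinearGroup.coe_mul]
          simp only [upper, lower, Matrix.mul_fin_two]
          fin_cases i <;> fin_cases j <;> simp <;> ring
    · simp only [map_mul, map_inv, FreeGroup.lift_apply_of]
      rw [mul_inv_eq_one, mul_inv_eq_iff_eq_mul]
      refine Matrix.SpecialLinearGroup.ext _ _ fun i j => ?_
      cases b <;>
        · simp only [Bool.not_true, Bool.not_false, hft, hff, Matrix.SpecialLinearGroup.coe_mul]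
          simp only [upper, lower, Matrix.mul_fin_two]
          fin_cases i <;> fin_cases j <;> simp [ht] <;> field_simp <;> (first | ring | (simp [ht]; try ring))
  have hone : ∀ r ∈ rels, PresentedGroup.mk rels r = 1 := fun r hr =>
    (QuotientGroup.eq_one_iff r).2 (Subgroup.subset_normalClosure hr)
  let S : Sys K (PresentedGroup rels) :=
    { x := fun t => PresentedGroup.of (true, t)
      y := fun t => PresentedGroup.of (false, t)
      x_add := fun t u => by
        have := hone _ (Or.inl ⟨true, t, u, rfl⟩)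
        simp only [map_mul, map_inv] at this; exact mul_inv_eq_one.1 this
      y_add := fun t u => by
        have := hone _ (Or.inl ⟨false, t, u, rfl⟩)
        simp only [map_mul, map_inv] at this; exact mul_inv_eq_one.1 this
      conj_x := fun t u ht => by
        have := hone _ (Or.inr ⟨true, t, u, ht, rfl⟩)
        simp only [map_mul, map_inv, Bool.not_true] at this; exact mul_inv_eq_one.1 this
      conj_y := fun t u ht => by
        have := hone _ (Or.inr ⟨false, t, u, ht, rfl⟩)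
        simp only [map_mul, map_inv, Bool.not_false] at this; exact mul_inv_eq_one.1 this
      gen := by
        rw [← PresentedGroup.closure_range_of rels]
        congr 1
        ext g
        constructor
        · rintro (⟨t, rfl⟩ | ⟨t, rfl⟩) <;> exact ⟨_, rfl⟩
        · rintro ⟨⟨b, t⟩, rfl⟩
          cases b
          · exact Or.inr ⟨t, rfl⟩
          · exact Or.inl ⟨t, rfl⟩ }
  have hinj : Function.Injective (PresentedGroup.toGroup hf) :=
    injective_of_standard S _ (fun t => by rw [PresentedGroup.toGroup.of]; rfl) (fun t => by rw [PresentedGroup.toGroup.of]; rfl)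
  have hsurj : Function.Surjective (PresentedGroup.toGroup hf) := by
    rw [← MonoidHom.range_eq_top, eq_top_iff, ← Cfsg.Lib.Linear.closure_transvection_eq_top, Subgroup.closure_le]
    rintro _ ⟨i, j, hij, c, rfl⟩
    refine ⟨PresentedGroup.of (decide (i = 0), c), ?_⟩
    rw [PresentedGroup.toGroup.of]
    refine Subtype.ext ?_
    ext a b
    fin_cases i <;> fin_cases j <;> first
      | exact absurd rfl hij
      | (fin_cases a <;> fin_cases b <;>
          simp [hft, hff, upper, lower, Matrix.SpecialLinearGroup.transvection, Matrix.transvection, Matrix.single])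
  exact ⟨MulEquiv.ofBijective _ ⟨hinj, hsurj⟩, fun t => by
      show (PresentedGroup.toGroup hf (PresentedGroup.of (true, t))).1 = _
      rw [PresentedGroup.toGroup.of]; rfl,
    fun t => by
      show (PresentedGroup.toGroup hf (PresentedGroup.of (false, t))).1 = _
      rw [PresentedGroup.toGroup.of]; rfl⟩

end Cfsg.Lib.Concrete.StTwo
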