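import Cfsg.Agent.Lib.Concrete.StemSplit
import Cfsg.Agent.Lib.Concrete.ReachMask

/-!
# Stem certificates for groups acting faithfully on a certified table of points
-/

set_option autoImplicit false

namespace Cfsg.Lib.Concrete.StemPerm

open MulAction

variable {G : Type} [Group G] {Ω : Type} [MulAction G Ω]

theorem shape_of_check {p : ℕ} {c : StemCert} (A : SVec p c.m) (hc : c.check A = true) : c.shapeOk = true := by
  simp only [StemCert.check, Bool.and_eq_true] at hc
  exact hc.1.1.1.1

theorem path_eq (c : StemCert) (hsh : c.shapeOk = true) (P : ℕ → Ω) (s : ℕ → G)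
    (hact : ∀ i < 2, ∀ x < c.N, s i • P x = P (c.tab i x)) :
    ∀ W : List ℕ, (∀ i ∈ W, i < 2) → ∀ x < c.N, wordProd s W • P x = P (c.endPt W x) := by
  intro W
  induction W with
  | nil => intro _ x _; simp [wordProd, StemCert.endPt]
  | cons i W ih =>
    intro hW x hx
    have hW' : ∀ j ∈ W, j < 2 := fun j hj => hW j (List.mem_cons_of_mem _ hj)
    rw [show wordProd s (i :: W) = s i * wordProd s W by simp [wordProd], mul_smul, ih hW' x hx,
      hact i (hW i (List.mem_cons_self ..)) _ (StemCert.endPt_lt hsh hW' hx), StemCert.endPt]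

/-- The relators of a certificate hold in a group acting faithfully on its points. -/
theorem rels_of_faithful (c : StemCert) (hsh : c.shapeOk = true) (P : ℕ → Ω) (s : ℕ → G)
    (hact : ∀ i < 2, ∀ x < c.N, s i • P x = P (c.tab i x))
    (hfaith : ∀ g : G, (∀ x < c.N, g • P x = P x) → g = 1) : ∀ W ∈ c.rels, wordProd s W = 1 := by
  intro W hW
  obtain ⟨h2, hfix⟩ := StemCert.shape_rel hsh hW
  exact hfaith _ fun x hx => by rw [path_eq c hsh P s hact W h2 x hx, hfix x hx]

theorem orbit_eq (c : StemCert) (hsh : c.shapeOk = true) (P : ℕ → Ω) (s : ℕ → G)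
    (hgen : Subgroup.closure {g | g = s 0 ∨ g = s 1} = ⊤) [Finite G]
    (hact : ∀ i < 2, ∀ x < c.N, s i • P x = P (c.tab i x)) :
    orbit G (P 0) = P '' {x | x < c.N} := by
  have hN : 0 < c.N := by
    have h := hsh
    simp only [StemCert.shapeOk, Bool.and_eq_true, decide_eq_true_eq] at h
    exact h.1.1.1.1.1.1
  ext w
  constructor
  · rintro ⟨g, rfl⟩
    have hg : g ∈ Submonoid.closure {g | g = s 0 ∨ g = s 1} := by
      rw [← Subgroup.closure_toSubmonoid_of_finite, hgen]; trivial
    have key : ∀ x < c.N, ∃ y < c.N, g • P x = P y := by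
      refine Submonoid.closure_induction ?_ ?_ ?_ hg
      · rintro t (rfl | rfl) x hx
        · exact ⟨_, StemCert.shape_lt hsh (by norm_num) hx, hact 0 (by norm_num) x hx⟩
        · exact ⟨_, StemCert.shape_lt hsh (by norm_num) hx, hact 1 (by norm_num) x hx⟩
      · intro x hx; exact ⟨x, hx, one_smul ..⟩
      · intro a b _ _ ha hb x hx
        obtain ⟨y, hy, h1⟩ := hb x hx
        obtain ⟨z, hz, h2⟩ := ha y hy
        exact ⟨z, hz, by rw [mul_smul, h1, h2]⟩
    obtain ⟨y, hy, e⟩ := key 0 hN
    exact ⟨y, hy, e.symm⟩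
  · rintro ⟨x, hx, rfl⟩
    have hx' : x < c.N := hx
    clear hx
    induction x using Nat.strong_induction_on with
    | _ x ih =>
      rcases Nat.eq_zero_or_pos x with rfl | hpos
      · exact mem_orbit_self _
      obtain ⟨hlt, htab⟩ := StemCert.shape_par hsh hpos hx'
      obtain ⟨g, hg⟩ := ih _ hlt (by omega)
      refine ⟨s (c.pi' x) * g, ?_⟩
      show (s (c.pi' x) * g) • P 0 = P x
      rw [mul_smul, show g • P 0 = P (c.px x) from hg, hact _ (c.pi'_lt x) _ (by omega), htab]

theorem index_stab (c : StemCert) (hsh : c.shapeOk = true) (P : ℕ → Ω) (s : ℕ → G)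
    (hgen : Subgroup.closure {g | g = s 0 ∨ g = s 1} = ⊤) [Finite G]
    (hact : ∀ i < 2, ∀ x < c.N, s i • P x = P (c.tab i x))
    (hinj : ∀ x < c.N, ∀ y < c.N, P x = P y → x = y) : (stabilizer G (P 0)).index = c.N := by
  rw [index_stabilizer, orbit_eq c hsh P s hgen hact,
    Set.InjOn.ncard_image (s := {x | x < c.N}) (fun x hx y hy e => hinj x hx y hy e)]
  rw [show {x | x < c.N} = ↑(Finset.range c.N) by ext; simp, Set.ncard_coe_finset, Finset.card_range]

/-- No stem extension when the stabiliser of a point has order prime to `p`. -/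
theorem noStem_of_points [Finite G] {p : ℕ} [Fact p.Prime] (c : StemCert) (A : SVec p c.m) (hc : c.check A = true)
    (P : ℕ → Ω) (s : ℕ → G) (hgen : Subgroup.closure {g | g = s 0 ∨ g = s 1} = ⊤)
    (hact : ∀ i < 2, ∀ x < c.N, s i • P x = P (c.tab i x))
    (hinj : ∀ x < c.N, ∀ y < c.N, P x = P y → x = y) (hrel : ∀ W ∈ c.rels, wordProd s W = 1)
    {k : ℕ} (hcard : Nat.card G = c.N * k) (hk : ¬ p ∣ k) : NoStem p G := by
  have hsh := shape_of_check A hc
  have hN : 0 < c.N := by
    have h := hsh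
    simp only [StemCert.shapeOk, Bool.and_eq_true, decide_eq_true_eq] at h
    exact h.1.1.1.1.1.1
  refine noStem_of_cert c A hc P s hgen hact (fun y hy e => hinj y hy 0 hN e) hrel (liftsAt_of_coprime ?_)
  have h := (stabilizer G (P 0)).card_mul_index
  rw [index_stab c hsh P s hgen hact hinj, hcard, Nat.mul_comm c.N k] at h
  rw [Nat.eq_of_mul_eq_mul_right hN h]
  exact (Fact.out : p.Prime).coprime_iff_not_dvd.2 hk

end Cfsg.Lib.Concrete.StemPerm
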