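import Cfsg.Agent.Lib.Concrete.StemTools
import Cfsg.Agent.Lib.Concrete.StemCert
import Cfsg.Agent.Lib.Concrete.MathieuSearch

/-!
A certificate for a two-generated group acting on points shows that it has no stem extension with
kernel of order `p`, given that the point stabiliser lifts.
-/

set_option autoImplicit false

namespace Cfsg.Lib.Concrete

open scoped Pointwise
open MulAction

/-- A point stabiliser lifts to every central extension with kernel of order `p`. -/
def LiftsAt (p : ℕ) {G : Type} [Group G] (H : Subgroup G) : Prop :=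
  ∀ (Γ : Type) [Group Γ] [Finite Γ] (σ : Γ →* G), Function.Surjective σ → σ.ker ≤ Subgroup.center Γ →
    Nat.card σ.ker = p → ∃ K : Subgroup Γ, K ≤ H.comap σ ∧ K ⊓ σ.ker = ⊥ ∧ K ⊔ σ.ker = H.comap σ

theorem liftsAt_of_noStem {G : Type} [Group G] {p : ℕ} (hp : p.Prime) {H : Subgroup G}
    (hperf : ⁅H, H⁆ = H) (hno : NoStem p H) : LiftsAt p H := fun _ _ _ σ hs hc hcard =>
  exists_complement_of_noStem hp σ hs hc hcard H hperf hno

theorem liftsAt_of_coprime {G : Type} [Group G] [Finite G] {p : ℕ} {H : Subgroup G}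
    (h : Nat.Coprime p (Nat.card H)) : LiftsAt p H := by
  intro Γ _ _ σ hs hc hcard
  have hle : σ.ker ≤ H.comap σ := fun x hx => by
    show σ x ∈ H
    rw [MonoidHom.mem_ker.1 hx]; exact H.one_mem
  set N := σ.ker.subgroupOf (H.comap σ)
  have hN : N.Normal := (MonoidHom.normal_ker σ).subgroupOf _
  have hNcard : Nat.card N = p := by
    rw [Nat.card_congr (Subgroup.subgroupOfEquivOfLe hle).toEquiv, hcard]
  have hidx : N.index = Nat.card H := by
    have e : N = (σ.subgroupComap H).ker := by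
      ext x
      exact ⟨fun hx => Subtype.ext hx, fun hx => congrArg Subtype.val hx⟩
    rw [e, Subgroup.index_ker, Subgroup.card_eq_iff_eq_top (σ.subgroupComap H).range |>.2]
    exact MonoidHom.range_eq_top.2 (MonoidHom.subgroupComap_surjective_of_surjective σ H hs)
  obtain ⟨K, hK⟩ := Subgroup.exists_left_complement'_of_coprime (N := N) (by rw [hNcard, hidx]; exact h)
  refine ⟨K.map (H.comap σ).subtype, Subgroup.map_subtype_le _, ?_, ?_⟩
  · rw [Subgroup.eq_bot_iff_forall]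
    rintro _ ⟨⟨x, hx, rfl⟩, hz⟩
    have : x ∈ K ⊓ N := ⟨hx, hz⟩
    rw [hK.disjoint.eq_bot, Subgroup.mem_bot] at this
    rw [this]; rfl
  · have := congrArg (Subgroup.map (H.comap σ).subtype) hK.sup_eq_top
    rw [Subgroup.map_sup, ← MonoidHom.range_eq_map, Subgroup.range_subtype] at this
    rw [show N.map (H.comap σ).subtype = σ.ker from Subgroup.map_subgroupOf_eq_of_le hle] at this
    exact this

theorem endPt_path {G : Type} [Group G] (c : StemCert) {p : ℕ} [Fact p.Prime] {X : Type} [MulAction G X]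
    (hsh : c.shapeOk = true) (s : ℕ → G) (e : ℕ → X) (ζ : ZMod p → G)
    (hadd : ∀ a b, ζ (a + b) = ζ a * ζ b) (h0 : ζ 0 = 1) (hcomm : ∀ a g, g * ζ a = ζ a * g)
    (v : ℕ → ℕ → ZMod p) (hv : ∀ i < 2, ∀ x < c.N, s i • e x = ζ (v i x) • e (c.tab i x)) :
    ∀ (W : List ℕ), (∀ i ∈ W, i < 2) → ∀ x < c.N,
      wordProd s W • e x = ζ (c.pathSum v W x) • e (c.endPt W x) := by
  intro W
  induction W with
  | nil => intro _ x _; simp [wordProd, StemCert.pathSum, StemCert.endPt, h0]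
  | cons i W ih =>
    intro hW x hx
    have hW' : ∀ j ∈ W, j < 2 := fun j hj => hW j (List.mem_cons_of_mem _ hj)
    rw [show wordProd s (i :: W) = s i * wordProd s W by simp [wordProd], mul_smul, ih hW' x hx,
      ← mul_smul, hcomm, mul_smul, hv i (hW i (List.mem_cons_self ..)) _ (StemCert.endPt_lt hsh hW' hx),
      ← mul_smul, ← hadd, StemCert.pathSum, StemCert.endPt, add_comm]

/-- The certificate theorem. -/
theorem noStem_of_cert {G : Type} [Group G] [Finite G] {p : ℕ} [Fact p.Prime] (c : StemCert)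
    (A : SVec p c.m) (hc : c.check A = true) {Ω : Type} [MulAction G Ω] (P : ℕ → Ω) (s : ℕ → G)
    (hgen : Subgroup.closure {g | g = s 0 ∨ g = s 1} = ⊤)
    (hact : ∀ i < 2, ∀ x < c.N, s i • P x = P (c.tab i x))
    (hsep : ∀ y < c.N, P y = P 0 → y = 0)
    (hrel : ∀ W ∈ c.rels, wordProd s W = 1)
    (hlift : LiftsAt p (stabilizer G (P 0))) : NoStem p G := by
  intro Γ _ _ σ hs hcen hcard hle
  have hp : p.Prime := Fact.out
  obtain ⟨hsh, -⟩ : c.shapeOk = true ∧ True := by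
    simp only [StemCert.check, Bool.and_eq_true] at hc
    exact ⟨hc.1.1.1.1, trivial⟩
  have hN : 0 < c.N := by
    simp only [StemCert.shapeOk, Bool.and_eq_true, decide_eq_true_eq] at hsh
    exact hsh.1.1.1.1.1.1
  obtain ⟨K, hKle, hKd, hKs⟩ := hlift Γ σ hs hcen hcard
  have hzn : σ.ker.Normal := MonoidHom.normal_ker σ
  let eZ : Multiplicative (ZMod p) ≃* σ.ker := mulEquivOfPrimeCardEq (p := p) (by simp) hcard
  let ζ : ZMod p → Γ := fun a => (eZ (Multiplicative.ofAdd a) : Γ)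
  have hζmem : ∀ a, ζ a ∈ σ.ker := fun a => (eZ _).2
  have hadd : ∀ a b, ζ (a + b) = ζ a * ζ b := fun a b => by
    simp only [ζ, ofAdd_add, map_mul, Subgroup.coe_mul]
  have h0 : ζ 0 = 1 := by simp [ζ]
  have hcomm : ∀ a g, g * ζ a = ζ a * g := fun a g => Subgroup.mem_center_iff.1 (hcen (hζmem a)) g
  have hsurj : ∀ z ∈ σ.ker, ∃ a, ζ a = z := fun z hz =>
    ⟨Multiplicative.toAdd (eZ.symm ⟨z, hz⟩), by simp [ζ]⟩
  have hinj : ∀ a, ζ a ∈ K → a = 0 := fun a ha => by
    have : ζ a ∈ K ⊓ σ.ker := ⟨ha, hζmem a⟩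
    rw [hKd, Subgroup.mem_bot] at this
    have h1 : eZ (Multiplicative.ofAdd a) = 1 := Subtype.ext this
    rwa [MulEquiv.map_eq_one_iff, ofAdd_eq_one] at h1
  -- representatives of the points
  have hrep : ∀ x, x < c.N → ∃ r : G, r • P 0 = P x := by
    intro x
    induction x using Nat.strong_induction_on with
    | _ x ih =>
      intro hx
      rcases Nat.eq_zero_or_pos x with rfl | hpos
      · exact ⟨1, one_smul ..⟩
      obtain ⟨hlt, htab⟩ := StemCert.shape_par hsh hpos hx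
      obtain ⟨r, hr⟩ := ih _ hlt (by omega)
      exact ⟨s (c.pi' x) * r, by rw [mul_smul, hr, hact _ (c.pi'_lt x) _ (by omega), htab]⟩
  have hrep' : ∀ x, ∃ r : Γ, x < c.N → σ r • P 0 = P x := fun x => by
    by_cases hx : x < c.N
    · obtain ⟨r, hr⟩ := hrep x hx
      obtain ⟨t, rfl⟩ := hs r
      exact ⟨t, fun _ => hr⟩
    · exact ⟨1, fun h => absurd h hx⟩
  choose rt hrt using hrep'
  choose st hst using fun i => hs (s i)
  let e : ℕ → Γ ⧸ K := fun x => (rt x : Γ ⧸ K)
  have hv : ∀ i x, ∃ v : ZMod p, i < 2 → x < c.N → st i • e x = ζ v • e (c.tab i x) := by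
    intro i x
    by_cases h : i < 2 ∧ x < c.N
    swap
    · exact ⟨0, fun h1 h2 => absurd ⟨h1, h2⟩ h⟩
    obtain ⟨hi, hx⟩ := h
    have hy := StemCert.shape_lt hsh hi hx
    have hmem : (rt (c.tab i x))⁻¹ * st i * rt x ∈ K ⊔ σ.ker := by
      rw [hKs, Subgroup.mem_comap, mem_stabilizer_iff, map_mul, map_mul, map_inv, mul_smul, mul_smul,
        hrt x hx, hst, hact i hi x hx, inv_smul_eq_iff, hrt _ hy]
    obtain ⟨k, hk, z, hz, hkz⟩ := Set.mem_mul.1
      (Subgroup.mul_normal K σ.ker ▸ hmem : (rt (c.tab i x))⁻¹ * st i * rt x ∈ (↑K * ↑σ.ker : Set Γ))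
    obtain ⟨a, rfl⟩ := hsurj z hz
    refine ⟨a, fun _ _ => ?_⟩
    show ((st i * rt x : Γ) : Γ ⧸ K) = ((ζ a * rt (c.tab i x) : Γ) : Γ ⧸ K)
    rw [QuotientGroup.eq]
    have hsx : st i * rt x = ζ a * rt (c.tab i x) * k := by
      calc st i * rt x = rt (c.tab i x) * ((rt (c.tab i x))⁻¹ * st i * rt x) := by group
        _ = rt (c.tab i x) * (k * ζ a) := by rw [hkz]
        _ = ζ a * rt (c.tab i x) * k := by rw [hcomm a k, ← mul_assoc, hcomm a]
    rw [hsx]
    simpa [mul_assoc] using K.inv_mem hk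
  choose v hv using hv
  have hz : ∀ r, ∃ z : ZMod p, r < c.rels.length →
      ∀ x < c.N, c.pathSum v (c.rels.getD r []) x = z := by
    intro r
    by_cases hr : r < c.rels.length
    swap
    · exact ⟨0, fun h => absurd h hr⟩
    have hW : c.rels.getD r [] ∈ c.rels := List.getD_eq_getElem c.rels [] hr ▸ List.getElem_mem hr
    obtain ⟨hW2, hWx⟩ := StemCert.shape_rel hsh hW
    have hwk : wordProd st (c.rels.getD r []) ∈ σ.ker := by
      rw [MonoidHom.mem_ker]
      have : σ (wordProd st (c.rels.getD r [])) = wordProd s (c.rels.getD r []) := by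
        simp only [wordProd, map_list_prod, List.map_map]
        congr 1
        exact List.map_congr_left fun i _ => hst i
      rw [this, hrel _ hW]
    obtain ⟨z, hz⟩ := hsurj _ hwk
    refine ⟨z, fun _ x hx => ?_⟩
    have h1 := endPt_path c hsh st e ζ hadd h0 hcomm v (fun i hi x hx => hv i x hi hx) _ hW2 x hx
    rw [hWx x hx, ← hz] at h1
    change ((ζ z * rt x : Γ) : Γ ⧸ K) = ((ζ (c.pathSum v (c.rels.getD r []) x) * rt x : Γ) : Γ ⧸ K) at h1
    rw [QuotientGroup.eq] at h1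
    have hsum : ζ (c.pathSum v (c.rels.getD r []) x) =
        ζ (c.pathSum v (c.rels.getD r []) x - z) * ζ z := by rw [← hadd, sub_add_cancel]
    have key : ∀ (w : Γ) (q : ZMod p), w⁻¹ * (ζ q * w) = ζ q := fun w q => by
      rw [← hcomm q w, inv_mul_cancel_left]
    rw [hsum, mul_assoc, key] at h1
    exact sub_eq_zero.1 (hinj _ h1)
  choose z hz using hz
  obtain ⟨a, d, had⟩ := StemCert.exists_coboundary A hc v z hz
  let e' : ℕ → Γ ⧸ K := fun x => ζ (d x) • e x
  let st' : ℕ → Γ := fun i => ζ (-a i) * st i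
  set S := Subgroup.closure {g | g = st' 0 ∨ g = st' 1}
  have hstep : ∀ i < 2, ∀ x < c.N, st' i • e' x = e' (c.tab i x) := by
    intro i hi x hx
    show (ζ (-a i) * st i) • ζ (d x) • e x = ζ (d (c.tab i x)) • e (c.tab i x)
    rw [← mul_smul, mul_assoc, hcomm (d x), ← mul_assoc, ← hadd, mul_smul, hv i x hi hx, ← mul_smul,
      ← hadd, had i hi x hx]
    congr 2; ring
  have hmap : ∀ g ∈ S, ∀ x < c.N, ∃ y < c.N, g • e' x = e' y := by
    intro g hg
    have : g ∈ Submonoid.closure {g | g = st' 0 ∨ g = st' 1} := by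
      rwa [← Subgroup.closure_toSubmonoid_of_finite]
    refine Submonoid.closure_induction ?_ ?_ ?_ this
    · rintro g (rfl | rfl) x hx
      · exact ⟨_, StemCert.shape_lt hsh (by norm_num) hx, hstep 0 (by norm_num) x hx⟩
      · exact ⟨_, StemCert.shape_lt hsh (by norm_num) hx, hstep 1 (by norm_num) x hx⟩
    · intro x hx; exact ⟨x, hx, one_smul ..⟩
    · intro g h _ _ hg hh x hx
      obtain ⟨y, hy, h1⟩ := hh x hx
      obtain ⟨w, hw, h2⟩ := hg y hy
      exact ⟨w, hw, by rw [mul_smul, h1, h2]⟩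
  have hsup : S ⊔ σ.ker = ⊤ := by
    rw [← Subgroup.comap_map_eq, MonoidHom.map_closure, ← Subgroup.comap_top σ]
    congr 1
    refine le_antisymm le_top (hgen ▸ Subgroup.closure_mono ?_)
    have hσ : ∀ i, σ (st' i) = s i := fun i => by
      rw [map_mul, MonoidHom.mem_ker.1 (hζmem _), one_mul, hst]
    rintro g (rfl | rfl)
    · exact ⟨st' 0, Or.inl rfl, hσ 0⟩
    · exact ⟨st' 1, Or.inr rfl, hσ 1⟩
  have hzS : ζ 1 ∈ S := commutator_le_of_abelian_quot hcen hsup (hle (hζmem 1))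
  obtain ⟨y, hy, hey⟩ := hmap _ hzS 0 hN
  change ((ζ 1 * (ζ (d 0) * rt 0) : Γ) : Γ ⧸ K) = ((ζ (d y) * rt y : Γ) : Γ ⧸ K) at hey
  rw [QuotientGroup.eq] at hey
  have hy0 : y = 0 := by
    have h1 : σ ((ζ 1 * (ζ (d 0) * rt 0))⁻¹ * (ζ (d y) * rt y)) • P 0 = P 0 := hKle hey
    rw [map_mul, map_inv, map_mul, map_mul, map_mul, MonoidHom.mem_ker.1 (hζmem 1),
      MonoidHom.mem_ker.1 (hζmem (d 0)), MonoidHom.mem_ker.1 (hζmem (d y)), one_mul, one_mul, one_mul,
      mul_smul, inv_smul_eq_iff, hrt y hy, hrt 0 hN] at h1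
    exact hsep y hy h1
  subst hy0
  have h2 : (ζ 1 * (ζ (d 0) * rt 0))⁻¹ * (ζ (d 0) * rt 0) = (ζ 1)⁻¹ := by
    rw [← hcomm 1 (ζ (d 0) * rt 0)]
    group
  rw [h2] at hey
  exact one_ne_zero (hinj 1 (K.inv_mem_iff.1 hey))

end Cfsg.Lib.Concrete
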