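import Cfsg.Agent.Lib.Concrete.WeightFlips

/-!
A faithful representation of the symplectic group in its own characteristic has degree at least the natural one.
-/

set_option autoImplicit false

namespace Cfsg.Lib.Concrete

open Matrix

variable {F : Type*} [Field F] {n : ℕ}

/-- The product of the copies of SL(2) on the hyperbolic pairs. -/
def pairEmbed : (Fin n → Matrix.SpecialLinearGroup (Fin 2) F) →* Matrix.symplecticGroup (Fin n) F where
  toFun g := ⟨Matrix.fromBlocks (diagonal fun i => g i 0 0) (diagonal fun i => g i 0 1)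
      (diagonal fun i => g i 1 0) (diagonal fun i => g i 1 1), by
    rw [SymplecticGroup.mem_iff, Matrix.J, fromBlocks_transpose, fromBlocks_multiply, fromBlocks_multiply]
    have hdet : ∀ i, g i 0 0 * g i 1 1 - g i 0 1 * g i 1 0 = 1 := fun i => by
      have := (g i).2
      rwa [Matrix.det_fin_two] at this
    congr 1 <;>
      simp only [diagonal_transpose, Matrix.mul_zero, Matrix.zero_mul, Matrix.mul_neg, Matrix.mul_one, Matrix.neg_mul,
        zero_add, add_zero, diagonal_mul_diagonal, diagonal_neg, diagonal_add, ← diagonal_one, ← diagonal_zero,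
        diagonal_eq_diagonal_iff] <;>
      intro i
    · ring
    · linear_combination (-1 : F) * hdet i
    · linear_combination hdet i
    · ring⟩
  map_one' := Subtype.ext (by
    show Matrix.fromBlocks _ _ _ _ = (1 : Matrix (Fin n ⊕ Fin n) (Fin n ⊕ Fin n) F)
    rw [← fromBlocks_one]
    simp)
  map_mul' g h := Subtype.ext (by
    show Matrix.fromBlocks _ _ _ _ = Matrix.fromBlocks _ _ _ _ * Matrix.fromBlocks _ _ _ _
    rw [fromBlocks_multiply]
    congr 1 <;>
      simp [diagonal_mul_diagonal, diagonal_add, Matrix.mul_apply, Fin.sum_univ_two])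

theorem pairEmbed_injective : Function.Injective (pairEmbed (F := F) (n := n)) := by
  intro g h e
  have hM : Matrix.fromBlocks (diagonal fun i => g i 0 0) (diagonal fun i => g i 0 1)
      (diagonal fun i => g i 1 0) (diagonal fun i => g i 1 1) = Matrix.fromBlocks (diagonal fun i => h i 0 0)
      (diagonal fun i => h i 0 1) (diagonal fun i => h i 1 0) (diagonal fun i => h i 1 1) := congrArg Subtype.val e
  rw [fromBlocks_inj] at hM
  simp only [diagonal_eq_diagonal_iff] at hM
  funext i
  refine Subtype.ext (Matrix.ext fun a b => ?_)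
  fin_cases a <;> fin_cases b
  exacts [hM.1 i, hM.2.1 i, hM.2.2.1 i, hM.2.2.2 i]

theorem exists_flip_pair [Finite F] :
    ∃ (x w : Matrix.SpecialLinearGroup (Fin 2) F) (N : ℕ), (N : F) ≠ 0 ∧ x ^ N = 1 ∧ x ^ 2 ≠ 1 ∧ x * (w * x) = w := by
  obtain ⟨p, hp⟩ := CharP.exists F
  have hprime : p.Prime := (CharP.char_is_prime_or_zero F p).resolve_right fun h => by
    subst h
    have := CharP.charP_to_charZero F
    exact not_finite F
  have := Fact.mk hprime
  by_cases h2 : p = 2
  · subst h2
    have e2 : (2 : F) = 0 := by exact_mod_cast CharP.cast_eq_zero F 2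
    let x : Matrix.SpecialLinearGroup (Fin 2) F := ⟨!![0, 1; 1, 1], by
      rw [Matrix.det_fin_two_of]; linear_combination (-1 : F) * e2⟩
    let w : Matrix.SpecialLinearGroup (Fin 2) F := ⟨!![0, 1; 1, 0], by
      rw [Matrix.det_fin_two_of]; linear_combination (-1 : F) * e2⟩
    refine ⟨x, w, 3, ?_, ?_, ?_, ?_⟩
    · intro h3
      exact one_ne_zero (α := F) (by linear_combination (h3 : ((3 : ℕ) : F) = 0).trans (by rfl) - e2)
    · refine Subtype.ext ?_
      show (!![0, 1; 1, 1] : Matrix (Fin 2) (Fin 2) F) ^ 3 = 1
      rw [pow_succ, pow_two]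
      ext i j
      fin_cases i <;> fin_cases j <;> simp [Matrix.mul_apply, Fin.sum_univ_two] <;>
        first
          | linear_combination e2
          | skip
    · intro h
      have h' : (!![0, 1; 1, 1] : Matrix (Fin 2) (Fin 2) F) * !![0, 1; 1, 1] = 1 := by
        rw [← pow_two]; exact congrArg Subtype.val h
      have := congrFun (congrFun h' 0) 1
      simp [Matrix.mul_apply, Fin.sum_univ_two] at this
    · refine Subtype.ext ?_
      show (!![0, 1; 1, 1] : Matrix (Fin 2) (Fin 2) F) * (!![0, 1; 1, 0] * !![0, 1; 1, 1]) = !![0, 1; 1, 0]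
      ext i j
      fin_cases i <;> fin_cases j <;> simp [Matrix.mul_apply, Fin.sum_univ_two] <;>
        first
          | linear_combination e2
          | skip
  · have e2 : (2 : F) ≠ 0 := fun h => by
      have : ((2 : ℕ) : F) = 0 := by exact_mod_cast h
      exact h2 ((Nat.prime_dvd_prime_iff_eq hprime Nat.prime_two).1 ((CharP.cast_eq_zero_iff F p 2).1 this))
    have : NeZero p := ⟨hprime.ne_zero⟩
    obtain ⟨a, b, hab⟩ := CharP.sq_add_sq F p (-1)
    let x : Matrix.SpecialLinearGroup (Fin 2) F := ⟨!![0, 1; -1, 0], by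
      rw [Matrix.det_fin_two_of]; ring⟩
    have hab' : (a : F) ^ 2 + (b : F) ^ 2 = -1 := by exact_mod_cast hab
    let w : Matrix.SpecialLinearGroup (Fin 2) F := ⟨!![(a : F), (b : F); (b : F), -(a : F)], by
      rw [Matrix.det_fin_two_of]; linear_combination -hab'⟩
    refine ⟨x, w, 4, ?_, ?_, ?_, ?_⟩
    · intro h4
      have : (2 : F) * 2 = 0 := by rw [← h4]; norm_num
      exact e2 (mul_self_eq_zero.1 this)
    · refine Subtype.ext ?_
      show (!![0, 1; -1, 0] : Matrix (Fin 2) (Fin 2) F) ^ 4 = 1
      rw [show 4 = 2 * 2 from rfl, pow_mul, pow_two, pow_two]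
      ext i j
      fin_cases i <;> fin_cases j <;> simp [Matrix.mul_apply, Fin.sum_univ_two]
    · intro h
      have h' : (!![0, 1; -1, 0] : Matrix (Fin 2) (Fin 2) F) * !![0, 1; -1, 0] = 1 := by
        rw [← pow_two]; exact congrArg Subtype.val h
      have := congrFun (congrFun h' 0) 0
      simp [Matrix.mul_apply, Fin.sum_univ_two] at this
      exact e2 (by linear_combination (-1 : F) * this)
    · refine Subtype.ext ?_
      show (!![0, 1; -1, 0] : Matrix (Fin 2) (Fin 2) F) * (!![(a : F), (b : F); (b : F), -(a : F)] * !![0, 1; -1, 0]) = _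
      ext i j
      fin_cases i <;> fin_cases j <;> simp [w, Matrix.mul_apply, Fin.sum_univ_two]

theorem symp_faithful_degree [Finite F] {d : ℕ} (ρ : Matrix.symplecticGroup (Fin n) F →* GL (Fin d) F)
    (hρ : Function.Injective ρ) : 2 * n ≤ d := by
  obtain ⟨x, w, N, hN, hxN, hx2, hflip⟩ := exists_flip_pair (F := F)
  let L := AlgebraicClosure F
  let A : (Fin n → Matrix.SpecialLinearGroup (Fin 2) F) →* Module.End L (Fin d → L) :=
    ((Matrix.toLinAlgEquiv' (R := L) (n := Fin d)).toMonoidHom.comp
      ((algebraMap F L).mapMatrix.toMonoidHom.comp ((Units.coeHom _).comp ρ))).comp pairEmbed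
  have hA : Function.Injective A := fun g h e => pairEmbed_injective (hρ (Units.ext
    (Matrix.map_injective (algebraMap F L).injective (Matrix.toLinAlgEquiv'.injective e))))
  have hcomm : ∀ (u v : Matrix.SpecialLinearGroup (Fin 2) F) (i j : Fin n), i ≠ j →
      Commute (Pi.mulSingle (M := fun _ => Matrix.SpecialLinearGroup (Fin 2) F) i u)
        (Pi.mulSingle (M := fun _ => Matrix.SpecialLinearGroup (Fin 2) F) j v) :=
    fun u v i j h => by
      funext k
      by_cases hk : k = i
      · subst hk; simp [h]
      · simp [hk]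
  have h := two_mul_card_le_finrank (fun i => A (Pi.mulSingle i x)) (fun i => A (Pi.mulSingle i w)) (N := N)
    (fun e => hN ((algebraMap F L).injective (((map_natCast (algebraMap F L) N).trans e).trans (map_zero _).symm)))
    (fun i j => by
      rcases eq_or_ne i j with rfl | hij
      · exact Commute.refl _
      · exact (hcomm x x i j hij).map A)
    (fun i => by rw [← map_pow, ← Pi.mulSingle_pow, hxN, Pi.mulSingle_one, map_one])
    (fun i e => hx2 (by
      rw [← map_pow, ← map_one A] at e
      have := congrFun (hA e) i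
      simpa using this))
    (fun i => by
      refine Function.LeftInverse.injective (g := A (Pi.mulSingle i w)⁻¹) fun v => ?_
      rw [← Module.End.mul_apply, ← map_mul, inv_mul_cancel, map_one, Module.End.one_apply])
    (fun i j hij => (hcomm w x i j hij).map A)
    (fun i => by rw [← map_mul, ← map_mul, ← Pi.mulSingle_mul, ← Pi.mulSingle_mul, hflip])
  simpa using h

end Cfsg.Lib.Concrete
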