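import Cfsg.Prelude.Def_SporadicCombinatorics
import Cfsg.Agent.Lib.Concrete.TernaryData

/-!
The ternary code of length 12 as a list of 729 words with digits 0, 1, 2.
-/

set_option autoImplicit false

namespace Cfsg.Lib.Concrete.Ternary

open Finset

/-- Position of a point of the array. -/
def tidx (p : ArrayPt) : ℕ := 3 * p.1.val + p.2.val

/-- Point at a position. -/
def tpt (k : Fin 12) : ArrayPt := (⟨k.val / 3, by omega⟩, (k.val % 3 : ℕ))

theorem tidx_tpt : ∀ k : Fin 12, tidx (tpt k) = k.val := by decide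

theorem tidx_lt : ∀ p : ArrayPt, tidx p < 12 := by decide

theorem tpt_tidx : ∀ p : ArrayPt, tpt ⟨tidx p, tidx_lt p⟩ = p := by decide

theorem tidx_injective : Function.Injective tidx := fun p q h => by
  rw [← tpt_tidx p, ← tpt_tidx q]
  exact congrArg tpt (Fin.ext h)

/-- The digit at a position. -/
def dget (n k : ℕ) : ℕ := Nat.land (Nat.shiftRight n (Nat.mul 2 k)) 3

/-- The number with the given digits. -/
def horner : List ℕ → ℕ
  | [] => 0
  | a :: L => Nat.add a (Nat.mul 4 (horner L))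

theorem dget_horner : ∀ (L : List ℕ), (∀ a ∈ L, a < 4) → ∀ k, dget (horner L) k = L.getD k 0 := by
  intro L
  induction L with
  | nil => intro _ k; show Nat.land (0 >>> (2 * k)) 3 = _; simp
  | cons a L ih =>
    intro h k
    have ha := h a (List.mem_cons_self ..)
    cases k with
    | zero =>
      show (a + 4 * horner L) &&& 3 = _
      rw [show (3 : ℕ) = 2 ^ 2 - 1 from rfl, Nat.and_two_pow_sub_one_eq_mod]
      simp [Nat.mod_eq_of_lt ha]
    | succ k =>
      rw [List.getD_cons_succ, ← ih (fun b hb => h b (List.mem_cons_of_mem _ hb))]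
      show ((a + 4 * horner L) >>> (2 * (k + 1))) &&& 3 = (horner L >>> (2 * k)) &&& 3
      rw [show 2 * (k + 1) = 2 + 2 * k by ring, Nat.shiftRight_add, Nat.shiftRight_eq_div_pow _ 2]
      congr 2
      omega

/-- The twelve positions. -/
def tpos : List ℕ := [0, 1, 2, 3, 4, 5, 6, 7, 8, 9, 10, 11]

/-- The word of a number. -/
def tword (n : ℕ) : ArrayPt → ZMod 3 := fun p => (dget n (tidx p) : ℕ)

/-- The number of a word. -/
def tdigits (x : ArrayPt → ZMod 3) : ℕ := horner (List.ofFn fun k : Fin 12 => (x (tpt k)).val)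

theorem dget_tdigits (x : ArrayPt → ZMod 3) (p : ArrayPt) : dget (tdigits x) (tidx p) = (x p).val := by
  rw [tdigits, dget_horner _ (fun a ha => ?_), List.getD_eq_getElem?_getD,
    List.getElem?_eq_getElem (by simpa using tidx_lt p), Option.getD_some, List.getElem_ofFn, tpt_tidx]
  obtain ⟨k, rfl⟩ := List.mem_ofFn.1 ha
  exact lt_trans (ZMod.val_lt _) (by norm_num)

theorem tword_tdigits (x : ArrayPt → ZMod 3) : tword (tdigits x) = x := by
  funext p
  rw [tword, dget_tdigits, ZMod.natCast_val, ZMod.cast_id]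

/-- The positions read off by the nine words of the tetracode. -/
def tetPos : List (ℕ × ℕ × ℕ × ℕ) :=
  [0, 1, 2].flatMap fun a => [0, 1, 2].map fun b =>
    (b, Nat.add 3 a, Nat.add 6 ((a + b) % 3), Nat.add 9 ((a + 2 * b) % 3))

/-- The parameter of a number. -/
def tpar (n : ℕ) : ℕ := Nat.mod (Nat.mul 2 (Nat.add (Nat.add (dget n 0) (dget n 1)) (dget n 2))) 3

/-- The defining conditions. -/
def isT (n : ℕ) : Bool :=
  ([0, 3, 6, 9].all fun i =>
    Nat.beq (Nat.mod (Nat.add (Nat.add (Nat.add (dget n i) (dget n (Nat.add i 1))) (dget n (Nat.add i 2))) (tpar n)) 3) 0) &&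
    tetPos.all fun t => Nat.beq
      (Nat.mod (Nat.add (Nat.add (Nat.add (dget n t.1) (dget n t.2.1)) (dget n t.2.2.1)) (dget n t.2.2.2)) 3) (tpar n)

/-- The possible columns with a given parameter. -/
def tcols (s : ℕ) : List ℕ :=
  [0, 1, 2].flatMap fun a => [0, 1, 2].map fun b =>
    Nat.add a (Nat.add (Nat.mul 4 b) (Nat.mul 16 (Nat.mod (Nat.sub (Nat.sub (Nat.sub 9 s) a) b) 3)))

/-- The candidates: all four columns have the prescribed sum. -/
def tcands : List ℕ :=
  [0, 1, 2].flatMap fun s => (tcols s).flatMap fun c0 => (tcols s).flatMap fun c1 => (tcols s).flatMap fun c2 =>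
    (tcols s).map fun c3 => Nat.add c0 (Nat.add (Nat.mul 64 c1) (Nat.add (Nat.mul 4096 c2) (Nat.mul 262144 c3)))

/-- The code. -/
abbrev tlist : List ℕ := tcodes

theorem tlist_eq : tcands.filter isT = tlist := by decide +kernel

theorem tetracode_iff {t : Fin 4 → ZMod 3} :
    t ∈ tetracode ↔ ∃ a b : ZMod 3, t = ![b, a, a + b, a + 2 * b] := by
  have key : ∀ a b : ZMod 3, a • (![0, 1, 1, 1] : Fin 4 → ZMod 3) + b • ![1, 0, 1, 2] = ![b, a, a + b, a + 2 * b] := fun a b => by
    funext i
    fin_cases i <;> simp [mul_comm]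
  simp only [tetracode, Submodule.mem_span_pair, key, eq_comm]

theorem tetPos_mem : ∀ a b : ZMod 3, (b.val, 3 + a.val, 6 + (a + b).val, 9 + (a + 2 * b).val) ∈ tetPos := by decide

theorem tetPos_spec : ∀ t ∈ tetPos, ∃ a b : ZMod 3, (b.val, 3 + a.val, 6 + (a + b).val, 9 + (a + 2 * b).val) = t := by decide

theorem isTernary_iff (x : ArrayPt → ZMod 3) : IsTernaryGolayWord x ↔ isT (tdigits x) = true := by
  set l := tdigits x with hl
  have hg : ∀ (i : Fin 4) (r : ZMod 3), dget l (3 * i.val + r.val) = (x (i, r)).val := fun i r => dget_tdigits x (i, r)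
  have hsum3 : ∀ f : ZMod 3 → ZMod 3, ∑ r, f r = f 0 + f 1 + f 2 := fun f => Fin.sum_univ_three f
  have v0 : (0 : ZMod 3).val = 0 := rfl
  have v1 : (1 : ZMod 3).val = 1 := rfl
  have v2 : (2 : ZMod 3).val = 2 := rfl
  have key3 : ∀ a b c : ZMod 3, (((2 * (a.val + b.val + c.val)) % 3 : ℕ) : ZMod 3) = -(a + b + c) := by decide
  have hpar : (tpar l : ZMod 3) = -∑ r, x (0, r) := by
    rw [hsum3, ← key3]
    have e0 := hg 0 0
    have e1 := hg 0 1
    have e2 := hg 0 2
    simp only [Fin.val_zero, mul_zero, zero_add, v0, v1, v2] at e0 e1 e2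
    show (((2 * (dget l 0 + dget l 1 + dget l 2)) % 3 : ℕ) : ZMod 3) = _
    rw [e0, e1, e2]
  have hlt : tpar l < 3 := Nat.mod_lt _ (by norm_num)
  have keyc : ∀ a b c : ZMod 3, ∀ t < 3, Nat.beq ((a.val + b.val + c.val + t) % 3) 0 = true ↔ a + b + c = -((t : ℕ) : ZMod 3) := by decide
  have hcol : ∀ i : Fin 4, Nat.beq ((dget l (3 * i.val) + dget l (3 * i.val + 1) + dget l (3 * i.val + 2) + tpar l) % 3) 0 = true ↔
      ∑ r, x (i, r) = -(tpar l : ZMod 3) := fun i => by
    have e0 := hg i 0
    have e1 := hg i 1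
    have e2 := hg i 2
    simp only [v0, v1, v2, add_zero] at e0 e1 e2
    rw [e0, e1, e2, hsum3]
    exact keyc _ _ _ _ hlt
  have keyt : ∀ a b c d : ZMod 3, ∀ t < 3, Nat.beq ((a.val + b.val + c.val + d.val) % 3) t = true ↔ a + b + c + d = ((t : ℕ) : ZMod 3) := by decide
  have htet : ∀ a b : ZMod 3, Nat.beq ((dget l b.val + dget l (3 + a.val) + dget l (6 + (a + b).val) +
      dget l (9 + (a + 2 * b).val)) % 3) (tpar l) = true ↔
      ∑ i : Fin 4, x (i, (![b, a, a + b, a + 2 * b] : Fin 4 → ZMod 3) i) = (tpar l : ZMod 3) := fun a b => by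
    rw [show dget l b.val = (x (0, b)).val by simpa using hg 0 b, show dget l (3 + a.val) = (x (1, a)).val from hg 1 a,
      show dget l (6 + (a + b).val) = (x (2, a + b)).val from hg 2 (a + b),
      show dget l (9 + (a + 2 * b).val) = (x (3, a + 2 * b)).val from hg 3 (a + 2 * b), keyt _ _ _ _ _ hlt, Fin.sum_univ_four]
    simp
  simp only [isT, Bool.and_eq_true, List.all_eq_true]
  constructor
  · rintro ⟨s, h1, h2⟩
    have hs : (tpar l : ZMod 3) = s := by rw [hpar, h1 0, neg_neg]
    refine ⟨fun i hi => ?_, fun t ht => ?_⟩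
    · obtain ⟨j, rfl⟩ : ∃ j : Fin 4, i = 3 * j.val :=
        (show ∀ i ∈ [0, 3, 6, 9], ∃ j : Fin 4, i = 3 * j.val by decide) i hi
      exact (hcol j).2 (by rw [h1, hs])
    · obtain ⟨a, b, rfl⟩ := tetPos_spec t ht
      exact (htet a b).2 (by rw [hs]; exact h2 _ (tetracode_iff.2 ⟨a, b, rfl⟩))
  · rintro ⟨h1, h2⟩
    refine ⟨(tpar l : ZMod 3), fun i => (hcol i).1 (h1 (3 * i.val) ((show ∀ j : Fin 4, 3 * j.val ∈ [0, 3, 6, 9] by decide) i)), fun t ht => ?_⟩
    obtain ⟨a, b, rfl⟩ := tetracode_iff.1 ht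
    exact (htet a b).1 (h2 _ (tetPos_mem a b))

theorem tdigits_mem_cands {x : ArrayPt → ZMod 3} (h : IsTernaryGolayWord x) : tdigits x ∈ tcands := by
  obtain ⟨s, h1, -⟩ := h
  have hcols : ∀ s a b : ZMod 3, a.val + (4 * b.val + 16 * (-s - a - b).val) ∈ tcols s.val := by decide
  have hthree : ∀ i : Fin 4, x (i, 2) = -s - x (i, 0) - x (i, 1) := fun i => by
    have := h1 i
    rw [show ∑ r : ZMod 3, x (i, r) = x (i, 0) + x (i, 1) + x (i, 2) from Fin.sum_univ_three fun r : ZMod 3 => x (i, r)] at this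
    linear_combination this
  have hmem : ∀ i : Fin 4, (x (i, 0)).val + (4 * (x (i, 1)).val + 16 * (x (i, 2)).val) ∈ tcols s.val := fun i => by
    rw [hthree]; exact hcols _ _ _
  have hs3 : s.val ∈ [0, 1, 2] := (show ∀ s : ZMod 3, s.val ∈ [0, 1, 2] by decide) s
  simp only [tcands, List.mem_flatMap, List.mem_map]
  refine ⟨s.val, hs3, _, hmem 0, _, hmem 1, _, hmem 2, _, hmem 3, ?_⟩
  have hp : (List.ofFn fun k : Fin 12 => (x (tpt k)).val) = [(x (0, 0)).val, (x (0, 1)).val, (x (0, 2)).val,
      (x (1, 0)).val, (x (1, 1)).val, (x (1, 2)).val, (x (2, 0)).val, (x (2, 1)).val, (x (2, 2)).val,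
      (x (3, 0)).val, (x (3, 1)).val, (x (3, 2)).val] := by
    simp [List.ofFn_succ]
    refine ⟨?_, ?_, ?_, ?_, ?_, ?_, ?_, ?_, ?_, ?_, ?_, ?_⟩ <;> rfl
  simp only [tdigits, hp, horner, Nat.add_eq, Nat.mul_eq]
  ring

theorem tlist_check :
    tlist.all (fun n => Nat.beq (horner (tpos.map (dget n))) n && tpos.all fun k => Nat.blt (dget n k) 3) = true := by
  decide +kernel

theorem dget_lt {n : ℕ} (h : n ∈ tlist) {k : ℕ} (hk : k < 12) : dget n k < 3 := by
  have := List.all_eq_true.1 tlist_check n h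
  simp only [Bool.and_eq_true, List.all_eq_true, Nat.blt_eq] at this
  exact this.2 k ((show ∀ k < 12, k ∈ tpos by decide) k hk)

theorem tdigits_tword {n : ℕ} (h : n ∈ tlist) : tdigits (tword n) = n := by
  have := List.all_eq_true.1 tlist_check n h
  simp only [Bool.and_eq_true, Nat.beq_eq] at this
  conv_rhs => rw [← this.1]
  rw [tdigits]
  congr 1
  refine List.ext_getElem (by simp [tpos]) fun k hk1 hk2 => ?_
  have hk : k < 12 := by simpa using hk1
  have hpk : ∀ (k : ℕ) (hk : k < tpos.length), tpos[k] = k := by decide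
  rw [List.getElem_ofFn, List.getElem_map, hpk, tword, ZMod.val_natCast, tidx_tpt, Nat.mod_eq_of_lt (dget_lt h hk)]

theorem mem_code_iff {x : ArrayPt → ZMod 3} : x ∈ ternaryGolayCode ↔ ∃ l ∈ tlist, tword l = x := by
  show IsTernaryGolayWord x ↔ _
  constructor
  · exact fun h => ⟨tdigits x, tlist_eq ▸ List.mem_filter.2 ⟨tdigits_mem_cands h, (isTernary_iff x).1 h⟩, tword_tdigits x⟩
  · rintro ⟨l, hl, rfl⟩
    rw [isTernary_iff, tdigits_tword hl]
    exact (List.mem_filter.1 (tlist_eq ▸ hl : l ∈ tcands.filter isT)).2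

/-- The sorting key. -/
def tkey (n : ℕ) : ℕ :=
  Nat.add (Nat.mul 531441 (tpar n)) (tpos.foldl (fun a k => Nat.add (Nat.mul 3 a) (dget n k)) 0)

/-- Strictly increasing list. -/
def increasing : List ℕ → Bool
  | [] => true
  | [_] => true
  | a :: b :: L => Nat.blt a b && increasing (b :: L)

theorem isChain_of_increasing : ∀ {L : List ℕ}, increasing L = true → L.IsChain (· < ·)
  | [], _ => List.isChain_nil
  | [_], _ => List.isChain_singleton _
  | a :: b :: L, h => by
    simp only [increasing, Bool.and_eq_true, Nat.blt_eq] at h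
    exact List.isChain_cons_cons.2 ⟨h.1, isChain_of_increasing h.2⟩

theorem nodup_of_increasing {L : List ℕ} (h : increasing L = true) : L.Nodup :=
  (List.isChain_iff_pairwise.1 (isChain_of_increasing h)).imp fun h => ne_of_lt h

theorem tlist_nodup : tlist.Nodup := by
  exact List.Nodup.of_map tkey (nodup_of_increasing (by decide +kernel))

theorem ncard_code_filter (P : (ArrayPt → ZMod 3) → Prop) (p : ℕ → Bool)
    (h : ∀ l ∈ tlist, P (tword l) ↔ p l = true) :
    {x : ArrayPt → ZMod 3 | x ∈ ternaryGolayCode ∧ P x}.ncard = (tlist.filter p).length := by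
  classical
  have hinj : Set.InjOn tword ↑(tlist.filter p).toFinset := fun a ha b hb e => by
    rw [← tdigits_tword (List.mem_filter.1 (List.mem_toFinset.1 ha)).1,
      ← tdigits_tword (List.mem_filter.1 (List.mem_toFinset.1 hb)).1, e]
  rw [← List.toFinset_card_of_nodup (tlist_nodup.filter p), ← Finset.card_image_of_injOn hinj, ← Set.ncard_coe_finset]
  congr 1
  ext x
  simp only [Set.mem_setOf_eq, Finset.coe_image, Set.mem_image, List.coe_toFinset, List.mem_filter, mem_code_iff]
  constructor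
  · rintro ⟨⟨l, hl, rfl⟩, hP⟩; exact ⟨l, ⟨hl, (h l hl).1 hP⟩, rfl⟩
  · rintro ⟨l, ⟨hl, hp⟩, rfl⟩; exact ⟨⟨l, hl, rfl⟩, (h l hl).2 hp⟩

/-- The set of positions of a mask. -/
def tset (m : ℕ) : Finset ArrayPt := Finset.univ.filter fun p => m.testBit (tidx p)

theorem tset_injOn {a b : ℕ} (ha : a < 4096) (hb : b < 4096) (h : tset a = tset b) : a = b := by
  apply Nat.eq_of_testBit_eq
  intro i
  by_cases hi : i < 12
  · have := Finset.ext_iff.1 h (tpt ⟨i, hi⟩)
    simp only [tset, Finset.mem_filter, Finset.mem_univ, true_and, tidx_tpt] at this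
    exact Bool.eq_iff_iff.2 this
  · have hle : 2 ^ 12 ≤ 2 ^ i := Nat.pow_le_pow_right (by norm_num) (by omega)
    rw [Nat.testBit_lt_two_pow (lt_of_lt_of_le (by norm_num; exact ha) hle),
      Nat.testBit_lt_two_pow (lt_of_lt_of_le (by norm_num; exact hb) hle)]

theorem exists_tset (s : Finset ArrayPt) : ∃ m < 4096, tset m = s := by
  have hbij : Function.Bijective fun m : Fin 4096 => tset m.val :=
    (Fintype.bijective_iff_injective_and_card _).2
      ⟨fun a b h => Fin.ext (tset_injOn a.2 b.2 h), by simp⟩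
  obtain ⟨m, hm⟩ := hbij.2 s
  exact ⟨m.val, m.2, hm⟩

/-- Number of set bits among twelve. -/
def tcnt (m : ℕ) : ℕ := tpos.countP fun k => Nat.beq (Nat.land (Nat.shiftRight m k) 1) 1

theorem tbit_eq (m k : ℕ) : Nat.beq (Nat.land (Nat.shiftRight m k) 1) 1 = m.testBit k := by
  rw [Bool.eq_iff_iff, Nat.beq_eq]
  show (m >>> k) &&& 1 = 1 ↔ _
  rw [Nat.and_one_is_mod, Nat.testBit_eq_decide_div_mod_eq, decide_eq_true_eq, Nat.shiftRight_eq_div_pow]

theorem tset_card (m : ℕ) : (tset m).card = tcnt m := by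
  have hnd : tpos.Nodup := by decide
  rw [tcnt, List.countP_eq_length_filter, ← List.toFinset_card_of_nodup (hnd.filter _)]
  refine Finset.card_bij (fun p _ => tidx p) ?_ ?_ ?_
  · intro p hp
    simp only [tset, Finset.mem_filter] at hp
    exact List.mem_toFinset.2 (List.mem_filter.2 ⟨(show ∀ k < 12, k ∈ tpos by decide) _ (tidx_lt p), by rw [tbit_eq]; exact hp.2⟩)
  · exact fun p _ q _ h => tidx_injective h
  · intro i hi
    simp only [List.mem_toFinset, List.mem_filter, tbit_eq] at hi
    have h12 : i < 12 := (show ∀ k ∈ tpos, k < 12 by decide) i hi.1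
    exact ⟨tpt ⟨i, h12⟩, by simp [tset, tidx_tpt, hi.2], by simp [tidx_tpt]⟩

/-- The support mask of a number. -/
def tmask (n : ℕ) : ℕ :=
  tpos.foldr (fun k a => bif Nat.beq (dget n k) 0 then a else Nat.add a (Nat.shiftLeft 1 k)) 0

theorem tmask_check :
    tlist.all (fun n => tpos.all fun k => Nat.beq (Nat.land (Nat.shiftRight (tmask n) k) 1) (bif Nat.beq (dget n k) 0 then 0 else 1)) = true := by
  decide +kernel

theorem support_eq_tset {l : ℕ} (hl : l ∈ tlist) : ternarySupport (tword l) = tset (tmask l) := by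
  ext p
  have h := List.all_eq_true.1 (List.all_eq_true.1 tmask_check l hl) (tidx p) ((show ∀ k < 12, k ∈ tpos by decide) _ (tidx_lt p))
  have hlt := dget_lt hl (tidx_lt p)
  rw [ternarySupport, tset, Finset.mem_filter, Finset.mem_filter]
  simp only [Finset.mem_univ, true_and, ← tbit_eq]
  show ((dget l (tidx p) : ℕ) : ZMod 3) ≠ 0 ↔ _
  generalize dget l (tidx p) = d at h hlt
  rw [Nat.beq_eq] at h
  rw [h]
  interval_cases d <;> decide

/-- The weight of a number. -/
def twt (l : ℕ) : ℕ := tcnt (tmask l)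

theorem card_support {l : ℕ} (h : l ∈ tlist) : (ternarySupport (tword l)).card = twt l := by
  rw [support_eq_tset h, tset_card]; rfl

theorem counts : tlist.length = 729 ∧ (tlist.filter fun l => Nat.beq (twt l) 6).length = 264 ∧
    (tlist.filter fun l => Nat.beq (twt l) 9).length = 440 ∧ (tlist.filter fun l => Nat.beq (twt l) 12).length = 24 ∧
    (tlist.all fun l => Nat.beq (twt l) 0 || Nat.beq (twt l) 6 || Nat.beq (twt l) 9 || Nat.beq (twt l) 12) = true := by
  decide +kernel

theorem ncard_weight (k : ℕ) :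
    {x : ArrayPt → ZMod 3 | x ∈ ternaryGolayCode ∧ (ternarySupport x).card = k}.ncard =
      (tlist.filter fun l => Nat.beq (twt l) k).length :=
  ncard_code_filter _ _ fun l hl => by rw [card_support hl, Nat.beq_eq]

theorem card_code : Nat.card ternaryGolayCode = 729 := by
  rw [← SetLike.coe_sort_coe, Nat.card_coe_set_eq]
  have h := ncard_code_filter (fun _ => True) (fun _ => true) fun _ _ => by simp
  simp only [and_true, List.filter_true] at h
  rw [← counts.1, ← h]
  rfl

theorem weights {x : ArrayPt → ZMod 3} (hx : x ∈ ternaryGolayCode) (h0 : x ≠ 0) :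
    (ternarySupport x).card = 6 ∨ (ternarySupport x).card = 9 ∨ (ternarySupport x).card = 12 := by
  obtain ⟨l, hl, rfl⟩ := mem_code_iff.1 hx
  have h := List.all_eq_true.1 counts.2.2.2.2 l hl
  simp only [Bool.or_eq_true, Nat.beq_eq] at h
  have hne : (ternarySupport (tword l)).card ≠ 0 := fun h => h0 (funext fun p => by
    by_contra hp
    have hmem : p ∈ ternarySupport (tword l) := Finset.mem_filter.2 ⟨Finset.mem_univ _, hp⟩
    rw [Finset.card_eq_zero.1 h] at hmem
    exact Finset.notMem_empty _ hmem)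
  rw [card_support hl] at hne ⊢
  omega

theorem self_orthogonal {x y : ArrayPt → ZMod 3} (hx : x ∈ ternaryGolayCode) (hy : y ∈ ternaryGolayCode) :
    ∑ p, x p * y p = 0 := by
  have hsq : ∀ z ∈ ternaryGolayCode, ∑ p, z p * z p = 0 := fun z hz => by
    have he : ∀ a : ZMod 3, a * a = if a ≠ 0 then 1 else 0 := by decide
    simp only [he]
    rw [Finset.sum_boole]
    rcases eq_or_ne z 0 with rfl | h0
    · simp
    · rcases weights hz h0 with h | h | h <;> unfold ternarySupport at h <;> rw [h] <;> rfl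
  have h := hsq (x + y) (add_mem hx hy)
  simp only [Pi.add_apply, add_mul, mul_add, Finset.sum_add_distrib, hsq x hx, hsq y hy, zero_add, add_zero] at h
  rw [Finset.sum_congr rfl fun p _ => mul_comm (y p) (x p)] at h
  have : ∀ a : ZMod 3, a + a = 0 → a = 0 := by decide
  exact this _ h

theorem hex_check :
    (tlist.all fun l => !(Nat.beq (twt l) 6) || hexList.any (Nat.beq (tmask l))) = true ∧
    hexList.all (fun m => Nat.blt m 4096 && tlist.any fun l => Nat.beq (twt l) 6 && Nat.beq (tmask l) m) = true ∧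
    hexList.length = 132 ∧
    ((List.range 4096).all fun m => !(Nat.beq (tcnt m) 5) ||
      Nat.beq (hexList.countP fun h => Nat.beq (Nat.land m h) m) 1) = true := by
  decide +kernel

theorem hexList_lt {m : ℕ} (hm : m ∈ hexList) : m < 4096 := by
  have := List.all_eq_true.1 hex_check.2.1 m hm
  simp only [Bool.and_eq_true, Nat.blt_eq] at this
  exact this.1

theorem hexList_nodup : hexList.Nodup := by decide +kernel

theorem hexad_set_eq :
    {h : Finset ArrayPt | ∃ x ∈ ternaryGolayCode, ternarySupport x = h ∧ h.card = 6} = ↑(hexList.toFinset.image tset) := by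
  ext h
  simp only [Set.mem_setOf_eq, Finset.coe_image, Set.mem_image, List.coe_toFinset]
  constructor
  · rintro ⟨x, hx, rfl, hc⟩
    obtain ⟨l, hl, rfl⟩ := mem_code_iff.1 hx
    rw [card_support hl] at hc
    have h1 := List.all_eq_true.1 hex_check.1 l hl
    simp only [Bool.or_eq_true, Bool.not_eq_true', List.any_eq_true, Nat.beq_eq] at h1
    rcases h1 with h1 | ⟨m, hm, hme⟩
    · rw [hc] at h1; exact absurd h1 (by decide)
    · exact ⟨m, hm, by rw [support_eq_tset hl, hme]⟩
  · rintro ⟨m, hm, rfl⟩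
    have h1 := List.all_eq_true.1 hex_check.2.1 m hm
    simp only [Bool.and_eq_true, List.any_eq_true, Nat.beq_eq] at h1
    obtain ⟨-, l, hl, h6, hlm⟩ := h1
    exact ⟨tword l, mem_code_iff.2 ⟨l, hl, rfl⟩, by rw [support_eq_tset hl, hlm], by
      rw [← hlm, ← support_eq_tset hl, card_support hl, h6]⟩

theorem tset_subset {a b : ℕ} (ha : a < 4096) : tset a ⊆ tset b ↔ Nat.land a b = a := by
  have hand : tset (Nat.land a b) = tset a ∩ tset b := by
    ext p
    simp only [tset, Finset.mem_inter, Finset.mem_filter, Finset.mem_univ, true_and]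
    show (a &&& b).testBit (tidx p) = true ↔ _
    rw [Nat.testBit_and, Bool.and_eq_true]
  rw [← Finset.inter_eq_left, ← hand]
  exact ⟨tset_injOn (lt_of_le_of_lt Nat.and_le_left ha) ha, fun h => by rw [h]⟩

theorem hexads_steiner :
    IsSteinerSystem 5 6 {h : Finset ArrayPt | ∃ x ∈ ternaryGolayCode, ternarySupport x = h ∧ h.card = 6} := by
  refine ⟨fun b hb => by obtain ⟨x, -, -, hc⟩ := hb; exact hc, fun s hs => ?_⟩
  obtain ⟨m, hm, rfl⟩ := exists_tset s
  have h := List.all_eq_true.1 hex_check.2.2.2 m (List.mem_range.2 hm)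
  simp only [Bool.or_eq_true, Bool.not_eq_true', Nat.beq_eq] at h
  rw [tset_card] at hs
  rcases h with h | h
  · rw [hs] at h; exact absurd h (by decide)
  rw [hexad_set_eq]
  simp only [Finset.coe_image, Set.mem_image, List.coe_toFinset, Set.mem_setOf_eq]
  rw [List.countP_eq_length_filter, List.length_eq_one_iff] at h
  obtain ⟨b, hb⟩ := h
  have hbm : b ∈ hexList.filter fun h => Nat.beq (Nat.land m h) m := by rw [hb]; simp
  obtain ⟨hb1, hb2⟩ := List.mem_filter.1 hbm
  refine ⟨tset b, ⟨⟨b, hb1, rfl⟩, (tset_subset hm).2 (Nat.eq_of_beq_eq_true hb2)⟩, ?_⟩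
  rintro _ ⟨⟨c, hc, rfl⟩, hsub⟩
  have hcm : c ∈ hexList.filter fun h => Nat.beq (Nat.land m h) m :=
    List.mem_filter.2 ⟨hc, by rw [(tset_subset hm).1 hsub, Nat.beq_eq]⟩
  rw [hb, List.mem_singleton] at hcm
  rw [hcm]

theorem hexads_ncard :
    {h : Finset ArrayPt | ∃ x ∈ ternaryGolayCode, ternarySupport x = h ∧ h.card = 6}.ncard = 132 := by
  rw [hexad_set_eq, Set.ncard_coe_finset, Finset.card_image_of_injOn, List.toFinset_card_of_nodup hexList_nodup,
    hex_check.2.2.1]
  intro a ha b hb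
  exact tset_injOn (hexList_lt (by simpa using ha)) (hexList_lt (by simpa using hb))

/-- Change the signs at the positions of a mask. -/
def tflip (m n : ℕ) : ℕ :=
  horner (tpos.map fun k =>
    bif Nat.beq (Nat.land (Nat.shiftRight m k) 1) 1 then Nat.mod (Nat.sub 3 (dget n k)) 3 else dget n k)

theorem flip_check :
    ((List.range 4096).all fun m => Nat.beq m 0 || Nat.beq m 4095 || tlist.any fun l => !(isT (tflip m l))) = true := by
  decide +kernel

theorem kernel_trivial (c : ArrayPt → (ZMod 3)ˣ)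
    (h : ∀ x ∈ ternaryGolayCode, monomialMap 1 c x ∈ ternaryGolayCode) : (∀ p, c p = 1) ∨ (∀ p, c p = -1) := by
  obtain ⟨m, hm, hme⟩ := exists_tset (Finset.univ.filter fun p => c p = -1)
  have hu : ∀ u : (ZMod 3)ˣ, u = 1 ∨ u = -1 := by decide
  have hb : ∀ p, m.testBit (tidx p) = true ↔ c p = -1 := fun p => by
    have := Finset.ext_iff.1 hme p
    simpa [tset] using this
  have hc := List.all_eq_true.1 flip_check m (List.mem_range.2 hm)
  simp only [Bool.or_eq_true, Nat.beq_eq, List.any_eq_true, Bool.not_eq_true'] at hc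
  rcases hc with (rfl | rfl) | ⟨l, hl, hbad⟩
  · refine Or.inl fun p => (hu (c p)).resolve_right fun hp => ?_
    have := (hb p).2 hp
    simp at this
  · refine Or.inr fun p => (hb p).1 ?_
    exact (show ∀ k, k < 12 → (4095 : ℕ).testBit k = true by decide) _ (tidx_lt p)
  · exfalso
    have hmem := h (tword l) (mem_code_iff.2 ⟨l, hl, rfl⟩)
    have hd : tdigits (monomialMap 1 c (tword l)) = tflip m l := by
      rw [tflip, tdigits]
      congr 1
      refine List.ext_getElem (by simp [tpos]) fun k hk1 hk2 => ?_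
      have hk : k < 12 := by simpa using hk1
      have hlt := dget_lt hl hk
      have hpk : ∀ (k : ℕ) (hk : k < tpos.length), tpos[k] = k := by decide
      rw [List.getElem_ofFn, List.getElem_map, hpk, tbit_eq]
      show ((c (tpt ⟨k, hk⟩) : ZMod 3) * ((dget l (tidx (tpt ⟨k, hk⟩)) : ℕ) : ZMod 3)).val = _
      have hb' := hb (tpt ⟨k, hk⟩)
      rw [tidx_tpt] at hb' ⊢
      generalize dget l k = d at hlt
      rcases hu (c (tpt ⟨k, hk⟩)) with e | e <;> rw [e] at hb' ⊢
      · have hf : m.testBit k = false := by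
          rw [Bool.eq_false_iff]; exact fun h => absurd (hb'.1 h) (by decide)
        rw [hf]
        interval_cases d <;> decide
      · rw [hb'.2 rfl]
        interval_cases d <;> decide
    have := (isTernary_iff _).1 hmem
    rw [hd, hbad] at this
    exact Bool.false_ne_true this

end Cfsg.Lib.Concrete.Ternary
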