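import Cfsg.Agent.Lib.Concrete.FamStructure
import Cfsg.Prelude.Def_Sporadic

/-!
The stabiliser of a trio: it acts as GL(3, 2) × S3 on the seven sextets refining the trio and on
its three octads, with kernel elementary abelian of order 64.
-/

set_option autoImplicit false
set_option maxRecDepth 20000

namespace Cfsg.Lib.Concrete

open scoped Pointwise symmDiff
open MulAction Matrix

/-- The `i`-th refining sextet as masks. -/
def refL (i : Fin 7) : List ℕ := trioRefs.getD i.val []

/-- Every tetrad lies in a member of the trio. -/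
def refB (l : List ℕ) : Bool := l.all fun t => mTrio.any fun o => Nat.beq (Nat.land t o) t

/-- Three families with a triple adding to zero. -/
def lineB (a b c : List ℕ) : Bool := a.any fun x => b.any fun y => c.any fun z => Nat.beq (Nat.xor x y) z

theorem refs_check :
    (∀ i : Fin 7, famOk (refL i) = true ∧ refB (refL i) = true ∧ sextList.any (fun l => sameList l (refL i)) = true) ∧
    (sextList.all fun l => !refB l || trioRefs.any fun r => sameList l r) = true ∧
    trioRefs.length = 7 ∧ (∀ i j : Fin 7, sameList (refL i) (refL j) = true → i = j) ∧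
    (∀ i j k : Fin 7, (lineB (refL i) (refL j) (refL k) = true ↔ Nat.xor (i.val + 1) (j.val + 1) = k.val + 1)) := by
  decide +kernel

theorem mTrio_ok : famOk mTrio = true ∧ mTrio.length = 3 := by decide +kernel

theorem trio_std_mem : lset mTrio ∈ trios := by
  obtain ⟨l, hl, hs⟩ := List.any_eq_true.1
    (show trioList.any (fun l => sameList l mTrio) = true by decide +kernel)
  exact sameList_sound _ _ hs ▸ lset_mem_trios hl

theorem mem_lset_iff {l : List ℕ} {t : Finset GolayPt} : t ∈ lset l ↔ ∃ m ∈ l, mset m = t := by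
  simp [lset]

theorem lset_ref_inj {i j : Fin 7} (h : lset (refL i) = lset (refL j)) : i = j := by
  refine refs_check.2.2.2.1 i j ?_
  have hp := perm_of_lset_eq (refs_check.1 i).1 (refs_check.1 j).1 h
  simp only [sameList, Bool.and_eq_true, List.all_eq_true, List.any_eq_true, Nat.beq_eq]
  exact ⟨fun x hx => ⟨x, hp.mem_iff.1 hx, rfl⟩, fun x hx => ⟨x, hp.mem_iff.2 hx, rfl⟩⟩

/-- The sextets refining the trio. -/
def Refines (T X : Finset (Finset GolayPt)) : Prop := X ∈ sextets ∧ ∀ t ∈ X, ∃ o ∈ T, t ⊆ o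

theorem refB_iff {l : List ℕ} (hl : famOk l = true) : refB l = true ↔ ∀ t ∈ lset l, ∃ o ∈ lset mTrio, t ⊆ o := by
  have hsub : ∀ a b, a < 2 ^ 24 → (Nat.land a b = a ↔ mset a ⊆ mset b) := fun a b ha => by
    rw [← Finset.inter_eq_left, ← mset_and]
    exact ⟨fun h => congrArg mset h, fun h => mset_inj (lt_of_le_of_lt Nat.and_le_left ha) ha h⟩
  simp only [refB, List.all_eq_true, List.any_eq_true, Nat.beq_eq, mem_lset_iff]
  constructor
  · rintro h _ ⟨m, hm, rfl⟩
    obtain ⟨o, ho, he⟩ := h m hm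
    exact ⟨_, ⟨o, ho, rfl⟩, (hsub m o ((famOk_sound hl).2 m hm)).1 he⟩
  · intro h m hm
    obtain ⟨_, ⟨o, ho, rfl⟩, he⟩ := h _ ⟨m, hm, rfl⟩
    exact ⟨o, ho, (hsub m o ((famOk_sound hl).2 m hm)).2 he⟩

theorem refines_ref (i : Fin 7) : Refines (lset mTrio) (lset (refL i)) := by
  obtain ⟨hok, hr, hm⟩ := refs_check.1 i
  obtain ⟨l, hl, hs⟩ := List.any_eq_true.1 hm
  exact ⟨sameList_sound _ _ hs ▸ lset_mem_sextets hl, (refB_iff hok).1 hr⟩

theorem exists_ref {X : Finset (Finset GolayPt)} (h : Refines (lset mTrio) X) : ∃ i : Fin 7, X = lset (refL i) := by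
  obtain ⟨hX, hsub⟩ := h
  rw [sextets_eq, Finset.mem_coe, mem_famSet] at hX
  obtain ⟨l, hl, rfl⟩ := hX
  have hc := List.all_eq_true.1 refs_check.2.1 l hl
  rw [(refB_iff (famOk_sext hl)).2 hsub, Bool.not_true, Bool.false_or, List.any_eq_true] at hc
  obtain ⟨r, hr, hs⟩ := hc
  obtain ⟨i, hi, rfl⟩ := List.getElem_of_mem hr
  refine ⟨⟨i, refs_check.2.2.1 ▸ hi⟩, ?_⟩
  rw [sameList_sound _ _ hs, refL, List.getD_eq_getElem _ _ hi]

theorem exists_moved_trioStructure (g : stabilizer M24 (lset mTrio)) (i : Fin 7) :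
    ∃ j : Fin 7, g.1.1 • lset (refL i) = lset (refL j) := by
  obtain ⟨h1, h2⟩ := refines_ref i
  refine exists_ref ⟨smul_mem_sextets g.1.2 h1, fun t ht => ?_⟩
  obtain ⟨u, hu, rfl⟩ := Finset.mem_smul_finset.1 ht
  obtain ⟨o, ho, huo⟩ := h2 u hu
  exact ⟨g.1.1 • o, (smul_mem_fam_iff g o).2 ho, Finset.smul_finset_subset_smul_finset huo⟩

/-- The permutation of the seven refining sextets. -/
noncomputable def refMove (g : stabilizer M24 (lset mTrio)) (i : Fin 7) : Fin 7 := (exists_moved_trioStructure g i).choose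

theorem refMove_spec (g : stabilizer M24 (lset mTrio)) (i : Fin 7) :
    g.1.1 • lset (refL i) = lset (refL (refMove g i)) := (exists_moved_trioStructure g i).choose_spec

theorem refMove_eq {g : stabilizer M24 (lset mTrio)} {i j : Fin 7} (h : g.1.1 • lset (refL i) = lset (refL j)) :
    refMove g i = j := lset_ref_inj ((refMove_spec g i).symm.trans h)

theorem refMove_mul (g h : stabilizer M24 (lset mTrio)) (i : Fin 7) :
    refMove (g * h) i = refMove g (refMove h i) := refMove_eq (by
  show (g.1.1 * h.1.1) • _ = _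
  rw [mul_smul, refMove_spec h i, refMove_spec g])

theorem refMove_one (i : Fin 7) : refMove 1 i = i := refMove_eq (one_smul _ _)

/-- Three of the refining sextets add up. -/
def AddUp (A B C : Finset (Finset GolayPt)) : Prop := ∃ x ∈ A, ∃ y ∈ B, ∃ z ∈ C, x ∆ y = z

theorem addUp_ref (i j k : Fin 7) :
    AddUp (lset (refL i)) (lset (refL j)) (lset (refL k)) ↔ Nat.xor (i.val + 1) (j.val + 1) = k.val + 1 := by
  rw [← refs_check.2.2.2.2 i j k]
  simp only [AddUp, lineB, List.any_eq_true, Nat.beq_eq, mem_lset_iff]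
  constructor
  · rintro ⟨_, ⟨a, ha, rfl⟩, _, ⟨b, hb, rfl⟩, _, ⟨c, hc, rfl⟩, he⟩
    have h1 := (famOk_sound (refs_check.1 i).1).2 a ha
    have h2 := (famOk_sound (refs_check.1 j).1).2 b hb
    have h3 := (famOk_sound (refs_check.1 k).1).2 c hc
    exact ⟨a, ha, b, hb, c, hc, mset_inj (Nat.xor_lt_two_pow h1 h2) h3 ((mset_xor a b).trans he)⟩
  · rintro ⟨a, ha, b, hb, c, hc, he⟩
    exact ⟨_, ⟨a, ha, rfl⟩, _, ⟨b, hb, rfl⟩, _, ⟨c, hc, rfl⟩, by
      rw [← mset_xor, show a ^^^ b = c from he]⟩

theorem AddUp.smul {A B C : Finset (Finset GolayPt)} (h : AddUp A B C) (g : Equiv.Perm GolayPt) :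
    AddUp (g • A) (g • B) (g • C) := by
  obtain ⟨x, hx, y, hy, z, hz, he⟩ := h
  exact ⟨_, Finset.smul_mem_smul_finset hx, _, Finset.smul_mem_smul_finset hy, _,
    Finset.smul_mem_smul_finset hz, by rw [← smul_symmDiff_points, he]⟩

theorem refMove_xor (g : stabilizer M24 (lset mTrio)) {i j k : Fin 7}
    (h : Nat.xor (i.val + 1) (j.val + 1) = k.val + 1) :
    Nat.xor ((refMove g i).val + 1) ((refMove g j).val + 1) = (refMove g k).val + 1 := by
  rw [← addUp_ref, ← refMove_spec, ← refMove_spec, ← refMove_spec]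
  exact ((addUp_ref i j k).2 h).smul _

/-- The vector of an index. -/
def refVec (i : Fin 7) : Fin 3 → ZMod 2 := fun b => if (i.val + 1).testBit b.val then 1 else 0

/-- The indices of the unit vectors. -/
def refUnit : Fin 3 → Fin 7 := ![0, 1, 3]

theorem refVec_facts : (∀ i j k : Fin 7, Nat.xor (i.val + 1) (j.val + 1) = k.val + 1 → refVec k = refVec i + refVec j) ∧
    (∀ i j : Fin 7, refVec i = refVec j → i = j) ∧ (∀ c : Fin 3, refVec (refUnit c) = Pi.single c 1) := by
  decide +kernel

/-- The matrix of an element. -/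
noncomputable def refMat (g : stabilizer M24 (lset mTrio)) : Matrix (Fin 3) (Fin 3) (ZMod 2) :=
  Matrix.of fun r c => refVec (refMove g (refUnit c)) r

theorem refMat_mulVec_unit (g : stabilizer M24 (lset mTrio)) (c : Fin 3) :
    refMat g *ᵥ Pi.single c 1 = refVec (refMove g (refUnit c)) := by
  funext r; simp [refMat]

theorem refMat_mulVec (g : stabilizer M24 (lset mTrio)) (i : Fin 7) :
    refMat g *ᵥ refVec i = refVec (refMove g i) := by
  have hu : ∀ c, refMat g *ᵥ refVec (refUnit c) = refVec (refMove g (refUnit c)) := fun c => by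
    rw [refVec_facts.2.2, refMat_mulVec_unit]
  have hadd : ∀ {a b k : Fin 7}, Nat.xor (a.val + 1) (b.val + 1) = k.val + 1 →
      refMat g *ᵥ refVec a = refVec (refMove g a) → refMat g *ᵥ refVec b = refVec (refMove g b) →
      refMat g *ᵥ refVec k = refVec (refMove g k) := fun {a b k} h ha hb => by
    rw [refVec_facts.1 a b k h, Matrix.mulVec_add, ha, hb, ← refVec_facts.1 _ _ _ (refMove_xor g h)]
  have h2 := hadd (show Nat.xor ((0 : Fin 7).val + 1) ((1 : Fin 7).val + 1) = (2 : Fin 7).val + 1 by decide)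
    (hu 0) (hu 1)
  fin_cases i
  · exact hu 0
  · exact hu 1
  · exact h2
  · exact hu 2
  · exact hadd (show Nat.xor ((0 : Fin 7).val + 1) ((3 : Fin 7).val + 1) = (4 : Fin 7).val + 1 by decide) (hu 0) (hu 2)
  · exact hadd (show Nat.xor ((1 : Fin 7).val + 1) ((3 : Fin 7).val + 1) = (5 : Fin 7).val + 1 by decide) (hu 1) (hu 2)
  · exact hadd (show Nat.xor ((2 : Fin 7).val + 1) ((3 : Fin 7).val + 1) = (6 : Fin 7).val + 1 by decide) h2 (hu 2)

theorem refMat_ext {A B : Matrix (Fin 3) (Fin 3) (ZMod 2)} (h : ∀ c, A *ᵥ Pi.single c 1 = B *ᵥ Pi.single c 1) :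
    A = B := by
  ext r c
  have := congrFun (h c) r
  simpa using this

/-- The action on the refining sextets, as matrices. -/
noncomputable def refMatHom : stabilizer M24 (lset mTrio) →* Matrix (Fin 3) (Fin 3) (ZMod 2) where
  toFun := refMat
  map_one' := refMat_ext fun c => by
    rw [refMat_mulVec_unit, refMove_one, refVec_facts.2.2, Matrix.one_mulVec]
  map_mul' g h := refMat_ext fun c => by
    rw [refMat_mulVec_unit, ← Matrix.mulVec_mulVec, refMat_mulVec_unit, refMat_mulVec, refMove_mul]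

/-- The action on the refining sextets and on the octads. -/
noncomputable def trioHom : stabilizer M24 (lset mTrio) →* GL (Fin 3) (ZMod 2) × Equiv.Perm ↥(lset mTrio) :=
  (refMatHom.toHomUnits).prod (toFamPerm (lset mTrio))

theorem trioHom_fst_val (g : stabilizer M24 (lset mTrio)) : ((trioHom g).1 : Matrix _ _ _) = refMat g := rfl

/-- The index of the image of a refining sextet under a packed permutation. -/
def refIndex (p i : ℕ) : ℕ :=
  ((List.range 7).filter fun j => sameList ((trioRefs.getD i []).map (pimg p)) (trioRefs.getD j [])).getD 0 7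

/-- The images of the three unit sextets. -/
def refTriple (p : ℕ) : List ℕ := [refIndex p 0, refIndex p 1, refIndex p 3]

theorem trioLinear_check : (trioLinear.all fun e => m24Check e.1 e.2 && (mTrio.all fun m => Nat.beq (pimg e.1 m) m) &&
      (List.range 7).all fun i => Nat.ble (refIndex e.1 i) 6) = true ∧
    (trioLinear.map fun e => refTriple e.1).Nodup ∧ trioLinear.length = 168 := by
  decide +kernel

theorem trioKer_check : (trioKer.all fun e => m24Check e.1 e.2 && (mTrio.all fun m => Nat.beq (pimg e.1 m) m) &&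
      invol e.1 && Nat.beq (refIndex e.1 0) 0 && Nat.beq (refIndex e.1 1) 1 && Nat.beq (refIndex e.1 3) 3) = true ∧
    (trioKer.map fun e => pkey e.1).Nodup ∧ trioKer.length = 64 := by
  decide +kernel

theorem trioGens_check : PermsMasks mTrio (trioGens.getD 0 (0, 0)) 3 (finRotate 3) ∧
    PermsMasks mTrio (trioGens.getD 1 (0, 0)) 3 (Equiv.swap (0 : Fin 3) 1) := by
  unfold PermsMasks; decide +kernel

theorem trio_std_surj : Function.Surjective (toFamPerm (lset mTrio)) :=
  toFamPerm_surjective (n := 1) mTrio_ok.1 mTrio_ok.2 trioGens_check.1 trioGens_check.2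

theorem exists_of_trio_fixer {e : ℕ × ℕ} (hc : m24Check e.1 e.2 = true)
    (hfix : ∀ m ∈ mTrio, pimg e.1 m = m) :
    ∃ g : stabilizer M24 (lset mTrio), Rep g.1.1 e.1 ∧ toFamPerm (lset mTrio) g = 1 := by
  obtain ⟨g, hg, hr, -⟩ := exists_of_m24Check hc
  have hf : ∀ t ∈ lset mTrio, g • t = t := fun t ht => by
    obtain ⟨m, hm, rfl⟩ := mem_lset_iff.1 ht
    rw [hr.smul_mset, hfix m hm]
  have hst : (⟨g, hg⟩ : M24) ∈ stabilizer M24 (lset mTrio) := by
    rw [MulAction.mem_stabilizer_iff]
    refine Finset.eq_of_subset_of_card_le (fun t ht => ?_) (Finset.card_smul_finset (⟨g, hg⟩ : M24) (lset mTrio)).ge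
    obtain ⟨u, hu, hut⟩ := Finset.mem_smul_finset.1 ht
    rw [← hut, show (⟨g, hg⟩ : M24) • u = u from hf u hu]
    exact hu
  exact ⟨⟨⟨g, hg⟩, hst⟩, hr, Equiv.ext fun t => Subtype.ext (hf t.1 t.2)⟩

theorem refIndex_spec {g : stabilizer M24 (lset mTrio)} {p : ℕ} (hr : Rep g.1.1 p) {i : Fin 7}
    (h : refIndex p i.val ≤ 6) : refIndex p i.val = (refMove g i).val := by
  set L := (List.range 7).filter fun j => sameList ((trioRefs.getD i.val []).map (pimg p)) (trioRefs.getD j [])
  have hL : 0 < L.length := by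
    by_contra hn
    have : refIndex p i.val = 7 := List.getD_eq_default _ _ (by show L.length ≤ 0; omega)
    omega
  have hmem : refIndex p i.val ∈ L := by
    show L.getD 0 7 ∈ L
    rw [List.getD_eq_getElem _ _ hL]; exact List.getElem_mem _
  obtain ⟨hj, hs⟩ := List.mem_filter.1 hmem
  have : g.1.1 • lset (refL i) = lset (refL ⟨refIndex p i.val, List.mem_range.1 hj⟩) := by
    rw [lmap_sound g.1.1 p _ hr]
    exact sameList_sound _ _ hs
  rw [refMove_eq this]

theorem trioHom_surjective : Function.Surjective trioHom := by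
  obtain ⟨hall, hnd, hlen⟩ := trioLinear_check
  have hel : ∀ i : Fin trioLinear.length, ∃ g : stabilizer M24 (lset mTrio),
      toFamPerm (lset mTrio) g = 1 ∧ refTriple (trioLinear[i.val]).1 =
        [(refMove g 0).val, (refMove g 1).val, (refMove g 3).val] := fun i => by
    have h := List.all_eq_true.1 hall _ (List.getElem_mem i.isLt)
    simp only [Bool.and_eq_true, List.all_eq_true, Nat.beq_eq, List.mem_range] at h
    obtain ⟨g, hr, hg⟩ := exists_of_trio_fixer h.1.1 h.1.2
    have hle : ∀ j : Fin 7, refIndex (trioLinear[i.val]).1 j.val ≤ 6 := fun j => Nat.le_of_ble_eq_true (h.2 _ j.isLt)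
    exact ⟨g, hg, by rw [refTriple, ← refIndex_spec hr (hle 0), ← refIndex_spec hr (hle 1),
      ← refIndex_spec hr (hle 3)]; rfl⟩
  choose F hF using hel
  have hinj : Function.Injective fun i => (trioHom (F i)).1 := fun i j h => by
    have hm : refMat (F i) = refMat (F j) := congrArg Units.val h
    have key : ∀ c, refMove (F i) (refUnit c) = refMove (F j) (refUnit c) := fun c =>
      refVec_facts.2.1 _ _ (by rw [← refMat_mulVec_unit, ← refMat_mulVec_unit, hm])
    have : refTriple (trioLinear[i.val]).1 = refTriple (trioLinear[j.val]).1 := by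
      rw [(hF i).2, (hF j).2, show refMove (F i) 0 = _ from key 0, show refMove (F i) 1 = _ from key 1,
        show refMove (F i) 3 = _ from key 2]
      rfl
    exact Fin.ext ((hnd.getElem_inj_iff (hi := by simp) (hj := by simp)).1
      (by rw [List.getElem_map, List.getElem_map]; exact this))
  have hcard : Nat.card (GL (Fin 3) (ZMod 2)) = 168 := by
    rw [Matrix.card_GL_field, ZMod.card]
    simp [Fin.prod_univ_three]
  have hb := hinj.bijective_of_nat_card_le (by rw [hcard, Nat.card_fin, hlen])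
  rintro ⟨A, σ⟩
  obtain ⟨h, hh⟩ := trio_std_surj σ
  obtain ⟨i, hi⟩ := hb.2 ((trioHom h).1⁻¹ * A)
  refine ⟨h * F i, Prod.ext ?_ ?_⟩
  · rw [map_mul, Prod.fst_mul]
    simp only at hi
    rw [hi, mul_inv_cancel_left]
  · show toFamPerm (lset mTrio) (h * F i) = σ
    rw [map_mul, (hF i).1, mul_one, hh]

theorem trioHom_ker : Nat.card trioHom.ker = 64 ∧ ∀ x ∈ trioHom.ker, x * x = 1 := by
  have hcard : Nat.card trioHom.ker = 64 := by
    have h := card_ker_mul _ trioHom_surjective
    rw [card_trio_stabilizer trio_std_mem, Nat.card_prod, Matrix.card_GL_field, ZMod.card, Nat.card_perm,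
      Nat.card_eq_finsetCard, trio_std_mem.1] at h
    simp only [Fin.prod_univ_three, show Nat.factorial 3 = 6 from rfl] at h
    norm_num at h
    change Nat.card { x // trioHom x = 1 } = 64
    omega
  refine ⟨hcard, ?_⟩
  obtain ⟨hall, hnd, hlen⟩ := trioKer_check
  have hin : ∀ e ∈ trioKer, ∃ g ∈ trioHom.ker, Rep g.1.1 e.1 := fun e he => by
    have h := List.all_eq_true.1 hall e he
    simp only [Bool.and_eq_true, List.all_eq_true, Nat.beq_eq] at h
    obtain ⟨⟨⟨⟨⟨hc, hfix⟩, -⟩, h0⟩, h1⟩, h3⟩ := h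
    obtain ⟨g, hr, hg⟩ := exists_of_trio_fixer hc hfix
    refine ⟨g, ?_, hr⟩
    rw [MonoidHom.mem_ker]
    refine Prod.ext (Units.ext (refMat_ext fun c => ?_)) hg
    rw [trioHom_fst_val, refMat_mulVec_unit, Prod.fst_one, Units.val_one, Matrix.one_mulVec, ← refVec_facts.2.2]
    congr 1
    have hb : refIndex e.1 (refUnit c).val = (refUnit c).val := by
      fin_cases c
      · exact h0
      · exact h1
      · exact h3
    exact Fin.ext ((refIndex_spec hr (by omega)).symm.trans hb)
  intro x hx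
  obtain ⟨e, he, hr⟩ := covers trioHom.ker hin hnd (by rw [hcard, hlen]) x hx
  have h := List.all_eq_true.1 hall e he
  simp only [Bool.and_eq_true] at h
  exact Subtype.ext (Subtype.ext ((invol_iff hr).1 h.1.1.1.2))

theorem trio_structure {T : Finset (Finset GolayPt)} (hT : T ∈ trios) :
    Function.Surjective (toFamPerm T) ∧ ∃ (N : Subgroup (stabilizer M24 T)) (_ : N.Normal),
      Nat.card N = 64 ∧ (∀ x ∈ N, x * x = 1) ∧
      Nonempty (stabilizer M24 T ⧸ N ≃* GL (Fin 3) (ZMod 2) × Equiv.Perm (Fin 3)) := by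
  obtain ⟨c, hc, hcT⟩ := std_trio hT
  refine ⟨toFamPerm_surjective_of_equiv hc hcT trio_std_surj, ?_⟩
  let E : stabilizer M24 T ≃* stabilizer M24 (lset mTrio) :=
    MulAction.stabilizerEquivStabilizer (show lset mTrio = (⟨c, hc⟩ : M24) • T from hcT.symm)
  let pe : Equiv.Perm ↥(lset mTrio) ≃* Equiv.Perm (Fin 3) :=
    (((lset mTrio).equivFin).trans (finCongr trio_std_mem.1)).permCongrHom
  let f : stabilizer M24 T →* GL (Fin 3) (ZMod 2) × Equiv.Perm (Fin 3) :=
    ((MulEquiv.refl _).prodCongr pe).toMonoidHom.comp (trioHom.comp E.toMonoidHom)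
  have hker : f.ker = trioHom.ker.comap E.toMonoidHom := by
    ext x
    rw [Subgroup.mem_comap, MonoidHom.mem_ker, MonoidHom.mem_ker]
    exact (map_eq_one_iff _ ((MulEquiv.refl (GL (Fin 3) (ZMod 2))).prodCongr pe).injective)
  have hsurj : Function.Surjective f :=
    ((MulEquiv.refl _).prodCongr pe).surjective.comp (trioHom_surjective.comp E.surjective)
  refine ⟨f.ker, inferInstance, ?_, fun x hx => E.injective ?_,
    ⟨QuotientGroup.quotientKerEquivOfSurjective f hsurj⟩⟩
  · rw [hker, ← trioHom_ker.1]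
    exact Nat.card_congr (E.toEquiv.subtypeEquiv fun _ => Iff.rfl)
  · rw [hker] at hx
    rw [map_mul, map_one]
    exact trioHom_ker.2 _ hx

end Cfsg.Lib.Concrete
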