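import Mathlib

/-!
A group with a non-trivial normal three-subgroup and prescribed maximal element orders: the twisted tensor
square of the natural module extended by the projective group and minus one.
-/

set_option autoImplicit false

namespace Cfsg.Lib.Concrete.TwTensor

open scoped Matrix
open Polynomial

variable (K : Type) [Field K] [CharP K 3]

abbrev M2 := Matrix (Fin 2) (Fin 2) K

/-- The cube map on the special linear group. -/
noncomputable def cube : Matrix.SpecialLinearGroup (Fin 2) K →* Matrix.SpecialLinearGroup (Fin 2) K :=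
  have : Fact (Nat.Prime 3) := ⟨Nat.prime_three⟩
  Matrix.SpecialLinearGroup.map (frobenius K 3)

theorem cube_apply (g : Matrix.SpecialLinearGroup (Fin 2) K) (i j : Fin 2) :
    (cube K g : M2 K) i j = (g : M2 K) i j ^ 3 := by
  simp [cube, frobenius_def]

/-- The action on two by two matrices. -/
noncomputable def rho : Matrix.SpecialLinearGroup (Fin 2) K × ℤˣ →* MulAut (Multiplicative (M2 K)) where
  toFun s := AddEquiv.toMultiplicative
    { toFun := fun X => ((s.2 : ℤ) : K) • ((s.1 : M2 K) * X * (cube K s.1 : M2 K)ᵀ)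
      invFun := fun X => (((s.2⁻¹ : ℤˣ) : ℤ) : K) • (((s.1⁻¹ : Matrix.SpecialLinearGroup (Fin 2) K) : M2 K) * X *
        (cube K s.1⁻¹ : M2 K)ᵀ)
      left_inv := fun X => by
        have e1 : ((s.1⁻¹ : Matrix.SpecialLinearGroup (Fin 2) K) : M2 K) * (s.1 : M2 K) = 1 := by
          rw [← Matrix.SpecialLinearGroup.coe_mul, inv_mul_cancel]; rfl
        have e2 : (cube K s.1 : M2 K)ᵀ * (cube K s.1⁻¹ : M2 K)ᵀ = 1 := by
          rw [← Matrix.transpose_mul, ← Matrix.SpecialLinearGroup.coe_mul, ← map_mul, inv_mul_cancel, map_one]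
          simp
        simp only [Matrix.smul_mul, Matrix.mul_smul, smul_smul]
        rw [show ((s.1⁻¹ : Matrix.SpecialLinearGroup (Fin 2) K) : M2 K) * ((s.1 : M2 K) * X * (cube K s.1 : M2 K)ᵀ) *
          (cube K s.1⁻¹ : M2 K)ᵀ = (((s.1⁻¹ : Matrix.SpecialLinearGroup (Fin 2) K) : M2 K) * (s.1 : M2 K)) * X *
            ((cube K s.1 : M2 K)ᵀ * (cube K s.1⁻¹ : M2 K)ᵀ) by simp only [Matrix.mul_assoc], e1, e2]
        rcases Int.units_eq_one_or s.2 with h | h <;> simp [h]
      right_inv := fun X => by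
        have e1 : (s.1 : M2 K) * ((s.1⁻¹ : Matrix.SpecialLinearGroup (Fin 2) K) : M2 K) = 1 := by
          rw [← Matrix.SpecialLinearGroup.coe_mul, mul_inv_cancel]; rfl
        have e2 : (cube K s.1⁻¹ : M2 K)ᵀ * (cube K s.1 : M2 K)ᵀ = 1 := by
          rw [← Matrix.transpose_mul, ← Matrix.SpecialLinearGroup.coe_mul, ← map_mul, mul_inv_cancel, map_one]
          simp
        simp only [Matrix.smul_mul, Matrix.mul_smul, smul_smul]
        rw [show (s.1 : M2 K) * (((s.1⁻¹ : Matrix.SpecialLinearGroup (Fin 2) K) : M2 K) * X * (cube K s.1⁻¹ : M2 K)ᵀ) *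
          (cube K s.1 : M2 K)ᵀ = ((s.1 : M2 K) * ((s.1⁻¹ : Matrix.SpecialLinearGroup (Fin 2) K) : M2 K)) * X *
            ((cube K s.1⁻¹ : M2 K)ᵀ * (cube K s.1 : M2 K)ᵀ) by simp only [Matrix.mul_assoc], e1, e2]
        rcases Int.units_eq_one_or s.2 with h | h <;> simp [h]
      map_add' := fun X Y => by rw [Matrix.mul_add, Matrix.add_mul, smul_add] }
  map_one' := by
    refine MulEquiv.ext fun X => Multiplicative.toAdd.injective ?_
    show (((1 : ℤˣ) : ℤ) : K) • (((1 : Matrix.SpecialLinearGroup (Fin 2) K) : M2 K) * X.toAdd *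
      (cube K 1 : M2 K)ᵀ) = X.toAdd
    simp
  map_mul' s t := by
    refine MulEquiv.ext fun X => Multiplicative.toAdd.injective ?_
    show (((s.2 * t.2 : ℤˣ) : ℤ) : K) • (((s.1 * t.1 : Matrix.SpecialLinearGroup (Fin 2) K) : M2 K) * X.toAdd *
        (cube K (s.1 * t.1) : M2 K)ᵀ) =
      ((s.2 : ℤ) : K) • ((s.1 : M2 K) * (((t.2 : ℤ) : K) • ((t.1 : M2 K) * X.toAdd * (cube K t.1 : M2 K)ᵀ)) *
        (cube K s.1 : M2 K)ᵀ)
    simp only [map_mul, Matrix.SpecialLinearGroup.coe_mul, Matrix.transpose_mul, Matrix.mul_assoc, Units.val_mul,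
      Int.cast_mul, Matrix.smul_mul, Matrix.mul_smul, smul_smul]

theorem rho_apply (g : Matrix.SpecialLinearGroup (Fin 2) K) (e : ℤˣ) (X : M2 K) :
    (rho K (g, e) (Multiplicative.ofAdd X)).toAdd = ((e : ℤ) : K) • ((g : M2 K) * X * (cube K g : M2 K)ᵀ) := rfl

theorem rho_toAdd (g : Matrix.SpecialLinearGroup (Fin 2) K) (e : ℤˣ) (X : Multiplicative (M2 K)) :
    (rho K (g, e) X).toAdd = ((e : ℤ) : K) • ((g : M2 K) * X.toAdd * (cube K g : M2 K)ᵀ) := rfl

/-- The group. -/
abbrev Grp := Multiplicative (M2 K) ⋊[(rho K).range.subtype] (rho K).range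

theorem rho_neg_one : rho K (-1, 1) = 1 := by
  refine MulEquiv.ext fun X => Multiplicative.toAdd.injective ?_
  rw [show X = Multiplicative.ofAdd X.toAdd from rfl, rho_apply]
  have h : (cube K (-1) : M2 K) = -1 := by
    ext i j
    rw [cube_apply]
    fin_cases i <;> fin_cases j <;> norm_num
  rw [h]
  simp

theorem rho_scalar_one {g : Matrix.SpecialLinearGroup (Fin 2) K} (h : g = 1 ∨ g = -1) : rho K (g, 1) = 1 := by
  rcases h with rfl | rfl
  · exact map_one _
  · exact rho_neg_one K

theorem eq_one_or_neg {g : Matrix.SpecialLinearGroup (Fin 2) K} (h : rho K (g, 1) = 1) : g = 1 ∨ g = -1 := by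
  have happ : ∀ X : M2 K, (g : M2 K) * X * (cube K g : M2 K)ᵀ = X := fun X => by
    have := rho_apply K g 1 X
    rw [h] at this
    simpa using this.symm
  have h1 : (g : M2 K) * (cube K g : M2 K)ᵀ = 1 := by simpa using happ 1
  have h2 : (cube K g : M2 K)ᵀ * (g : M2 K) = 1 := mul_eq_one_comm.1 h1
  have hc : ∀ X : M2 K, (g : M2 K) * X = X * (g : M2 K) := fun X => by
    conv_rhs => rw [← happ X]
    rw [Matrix.mul_assoc _ _ (g : M2 K), h2, Matrix.mul_one]
  have hcen : g ∈ Subgroup.center (Matrix.SpecialLinearGroup (Fin 2) K) :=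
    Subgroup.mem_center_iff.2 fun x => Subtype.ext (hc x).symm
  obtain ⟨c, hc2, hg⟩ := Matrix.SpecialLinearGroup.mem_center_iff.1 hcen
  rw [Fintype.card_fin] at hc2
  rcases sq_eq_one_iff.1 hc2 with rfl | rfl
  · exact Or.inl (Subtype.ext (by simp [← hg]))
  · exact Or.inr (Subtype.ext (by simp [← hg]; ext i j; fin_cases i <;> fin_cases j <;> simp))

variable {K}

theorem pow_left (h : Grp K) (n : ℕ) : (h ^ n).right = h.right ^ n := map_pow SemidirectProduct.rightHom h n

theorem pow_eq_one_of_no_fixed (h : Grp K) {n : ℕ} (hn : h.right ^ n = 1)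
    (hfix : ∀ X, (h.right : MulAut (Multiplicative (M2 K))) X = X → X = 1) : h ^ n = 1 := by
  refine SemidirectProduct.ext ?_ (by rw [pow_left]; exact hn)
  refine hfix _ ?_
  have e : h * h ^ n = h ^ n * h := (Commute.self_pow h n).eq
  have h1 := congrArg SemidirectProduct.left e
  rw [SemidirectProduct.mul_left, SemidirectProduct.mul_left, pow_left, hn, map_one, MulAut.one_apply,
    mul_comm (h ^ n).left] at h1
  exact mul_left_cancel h1

theorem pow_three_mul_eq_one (h : Grp K) {n : ℕ} (hn : h.right ^ n = 1) : h ^ (n * 3) = 1 := by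
  rw [pow_mul, ← SemidirectProduct.inl_left_mul_inr_right (h ^ n), pow_left, hn, map_one, mul_one, ← map_pow]
  rw [show (h ^ n).left ^ 3 = 1 by
    apply Multiplicative.toAdd.injective
    rw [toAdd_pow, toAdd_one]
    ext i j
    rw [Matrix.smul_apply, nsmul_eq_mul, CharP.cast_eq_zero K 3, zero_mul]; rfl, map_one]

theorem sq_char (g : Matrix.SpecialLinearGroup (Fin 2) K) :
    (g : M2 K) * (g : M2 K) - (g : M2 K).trace • (g : M2 K) + 1 = 0 := by
  have h := Matrix.aeval_self_charpoly (g : M2 K)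
  rw [Matrix.charpoly_fin_two] at h
  simpa [pow_two, g.2, Algebra.smul_def] using h

theorem pow_three_of_trace {g : Matrix.SpecialLinearGroup (Fin 2) K} {s : K} (hs : s = 1 ∨ s = -1)
    (ht : (g : M2 K).trace = 2 * s) : g ^ 3 = 1 ∨ g ^ 3 = -1 := by
  have h := sq_char g
  rw [ht] at h
  have hs2 : s * s = 1 := by rcases hs with rfl | rfl <;> norm_num
  have h3 : (3 : K) = 0 := by exact_mod_cast CharP.cast_eq_zero K 3
  have e : (g : M2 K) * (g : M2 K) * (g : M2 K) = s • 1 := by
    have h1 : (g : M2 K) * (g : M2 K) = (2 * s) • (g : M2 K) - 1 := by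
      rw [← sub_eq_zero, ← h]; abel
    rw [h1, Matrix.sub_mul, Matrix.smul_mul, h1, one_mul, smul_sub, smul_smul]
    ext i j
    simp only [Matrix.sub_apply, Matrix.smul_apply, smul_eq_mul]
    linear_combination ((g : M2 K) i j * (s * s) - s * (1 : M2 K) i j) * h3 + (g : M2 K) i j * hs2
  rcases hs with rfl | rfl
  · exact Or.inl (Subtype.ext (by rw [Matrix.SpecialLinearGroup.coe_pow, pow_succ, pow_two, e, one_smul]; rfl))
  · refine Or.inr (Subtype.ext ?_)
    rw [Matrix.SpecialLinearGroup.coe_pow, pow_succ, pow_two, e]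
    simp

theorem sq_of_trace_zero {g : Matrix.SpecialLinearGroup (Fin 2) K} (ht : (g : M2 K).trace = 0) : g ^ 2 = -1 := by
  have h := sq_char g
  rw [ht, zero_smul, sub_zero, add_eq_zero_iff_eq_neg] at h
  exact Subtype.ext (by rw [Matrix.SpecialLinearGroup.coe_pow, pow_two, h]; simp)

variable [Fintype K]

theorem no_neg_one_square {α : ℕ} (hodd : Odd α) (hK : Fintype.card K = 3 ^ α) (t : K) : t * t ≠ -1 := by
  intro h
  have h4 : Fintype.card K % 4 ≠ 3 := FiniteField.isSquare_neg_one_iff.1 ⟨t, h.symm⟩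
  apply h4
  obtain ⟨k, rfl⟩ := hodd
  rw [hK, pow_succ, pow_mul, Nat.mul_mod, Nat.pow_mod]
  norm_num

theorem no_fixed {α : ℕ} (hodd : Odd α) (hK : Fintype.card K = 3 ^ α) {g : Matrix.SpecialLinearGroup (Fin 2) K}
    (e : ℤˣ) (h0 : (g : M2 K).trace ≠ 0) (h1 : (g : M2 K).trace ≠ 2) (h2 : (g : M2 K).trace ≠ -2)
    (X : Multiplicative (M2 K)) (hX : rho K (g, e) X = X) : X = 1 := by
  have h3 : (3 : K) = 0 := by exact_mod_cast CharP.cast_eq_zero K 3
  set ε : K := ((e : ℤ) : K) with hε
  have hεε : ε * ε = 1 := by rcases Int.units_eq_one_or e with h | h <;> simp [hε, h]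
  set t := (g : M2 K).trace with ht
  set Y := X.toAdd with hY
  have hfix : ε • ((g : M2 K) * Y * (cube K g : M2 K)ᵀ) = Y := by
    have := rho_apply K g e Y
    rw [show Multiplicative.ofAdd Y = X from rfl, hX] at this
    exact this.symm
  set h : M2 K := ε • (((cube K g)⁻¹ : Matrix.SpecialLinearGroup (Fin 2) K) : M2 K)ᵀ with hh
  have hinv : (cube K g : M2 K)ᵀ * (((cube K g)⁻¹ : Matrix.SpecialLinearGroup (Fin 2) K) : M2 K)ᵀ = 1 := by
    rw [← Matrix.transpose_mul, ← Matrix.SpecialLinearGroup.coe_mul, inv_mul_cancel]; simp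
  have hgY : (g : M2 K) * Y = Y * h := by
    conv_rhs => rw [← hfix]
    rw [hh, Matrix.mul_smul, Matrix.smul_mul, smul_smul, hεε, one_smul, Matrix.mul_assoc, hinv, Matrix.mul_one]
  have htr : h.trace = ε * t ^ 3 := by
    have e1 : (cube K g : M2 K).trace = t ^ 3 := by
      rw [ht, Matrix.trace_fin_two, Matrix.trace_fin_two, cube_apply, cube_apply]
      exact (add_pow_char _ _ 3).symm
    rw [hh, Matrix.trace_smul, Matrix.trace_transpose, Matrix.SpecialLinearGroup.coe_inv, Matrix.trace_fin_two,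
      Matrix.adjugate_fin_two, ← e1, Matrix.trace_fin_two]
    simp [add_comm]
  have hdet : h.det = 1 := by
    rw [hh, Matrix.det_smul, Matrix.det_transpose, Matrix.SpecialLinearGroup.det_coe, Fintype.card_fin, pow_two, hεε,
      mul_one]
  have hch : h * h - (ε * t ^ 3) • h + 1 = 0 := by
    have hc := sq_char (⟨h, hdet⟩ : Matrix.SpecialLinearGroup (Fin 2) K)
    rwa [show ((⟨h, hdet⟩ : Matrix.SpecialLinearGroup (Fin 2) K) : M2 K) = h from rfl, htr] at hc
  clear_value h
  have h4 : Y * (h * h - t • h + 1) = 0 := by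
    have : ((g : M2 K) * (g : M2 K) - t • (g : M2 K) + 1) * Y = 0 := by rw [ht, sq_char, Matrix.zero_mul]
    rw [← this, Matrix.mul_add, Matrix.mul_sub, Matrix.add_mul, Matrix.sub_mul, Matrix.mul_one, Matrix.one_mul,
      Matrix.smul_mul, Matrix.mul_smul, Matrix.mul_assoc (g : M2 K), hgY, ← Matrix.mul_assoc (g : M2 K), hgY,
      Matrix.mul_assoc]
  have h5 : (ε * t ^ 3 - t) • (Y * h) = 0 := by
    rw [← h4, show h * h - t • h + 1 = (h * h - (ε * t ^ 3) • h + 1) + (ε * t ^ 3 - t) • h by
      rw [sub_smul]; abel, hch, zero_add, Matrix.mul_smul]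
  have hne : ε * t ^ 3 - t ≠ 0 := by
    intro h6
    have h7 : t * t = ε := by
      apply mul_left_cancel₀ h0
      linear_combination ε * h6 - t ^ 3 * hεε
    rcases Int.units_eq_one_or e with he | he
    · rw [hε, he] at h7
      push_cast at h7
      rcases mul_self_eq_one_iff.1 h7 with h8 | h8
      · exact h2 (by rw [h8]; linear_combination h3)
      · exact h1 (by rw [h8]; linear_combination -h3)
    · rw [hε, he] at h7
      push_cast at h7
      exact no_neg_one_square hodd hK t h7
  have h6 : Y * h = 0 := (smul_eq_zero.1 h5).resolve_left hne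
  have hu : IsUnit h := (Matrix.isUnit_iff_isUnit_det h).2 (by rw [hdet]; exact isUnit_one)
  have : Y = 0 := hu.mul_left_eq_zero.1 h6
  exact Multiplicative.toAdd.injective this

theorem semisimple_pow {g : Matrix.SpecialLinearGroup (Fin 2) K} (h1 : (g : M2 K).trace ≠ 2)
    (h2 : (g : M2 K).trace ≠ -2) :
    g ^ (Fintype.card K - 1) = 1 ∨ g ^ ((Fintype.card K + 1) / 2) = 1 ∨ g ^ ((Fintype.card K + 1) / 2) = -1 := by
  classical
  set t := (g : M2 K).trace
  set q := Fintype.card K with hq
  set f : K[X] := X ^ 2 - C t * X + 1 with hf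
  have hfg : aeval (g : M2 K) f = 0 := by
    have := sq_char g
    simpa [hf, pow_two, Algebra.smul_def] using this
  have hdvd : ∀ (p : K[X]), f ∣ p → aeval (g : M2 K) p = 0 := by
    rintro p ⟨r, rfl⟩
    rw [map_mul, hfg, zero_mul]
  by_cases hroot : ∃ a : K, a * a - t * a + 1 = 0
  · left
    obtain ⟨a, ha⟩ := hroot
    have ha0 : a ≠ 0 := fun h => by simp [h] at ha
    have hb0 : t - a ≠ 0 := fun h => by
      have : (1 : K) = 0 := by linear_combination ha + a * h
      exact one_ne_zero this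
    have hab : a ≠ t - a := by
      intro h
      have h4 : a * a = 1 := by linear_combination -ha + a * h
      rcases mul_self_eq_one_iff.1 h4 with rfl | rfl
      · exact h1 (by linear_combination -h)
      · exact h2 (by linear_combination -h)
    have hfac : f = (X - C a) * (X - C (t - a)) := by
      have hC : C (a * (t - a)) = 1 := by rw [← map_one C]; congr 1; linear_combination -ha
      rw [hf, ← hC, map_mul, map_sub]; ring
    have hd : f ∣ X ^ (q - 1) - 1 := by
      rw [hfac]
      refine IsCoprime.mul_dvd (isCoprime_X_sub_C_of_isUnit_sub (sub_ne_zero.2 hab).isUnit)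
        (dvd_iff_isRoot.2 ?_) (dvd_iff_isRoot.2 ?_)
      · simp [FiniteField.pow_card_sub_one_eq_one a ha0, hq]
      · simp [FiniteField.pow_card_sub_one_eq_one _ hb0, hq]
    have := hdvd _ hd
    rw [map_sub, map_pow, aeval_X, map_one, sub_eq_zero] at this
    exact Subtype.ext this
  · right
    have hdeg : f.natDegree = 2 := by rw [hf]; compute_degree!
    have hmonic : f.Monic := by rw [hf]; monicity!
    have hirr : Irreducible f := by
      rw [hmonic.irreducible_iff_roots_eq_zero_of_degree_le_three (by omega) (by omega)]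
      refine Multiset.eq_zero_of_forall_notMem fun a ha => hroot ⟨a, ?_⟩
      rw [mem_roots hmonic.ne_zero, IsRoot] at ha
      simpa [hf, pow_two] using ha
    have := Fact.mk hirr
    set lam := AdjoinRoot.root f with hlam
    have hl : lam ^ 2 - algebraMap K _ t * lam + 1 = 0 := by
      have := AdjoinRoot.aeval_eq (f := f) f
      rw [AdjoinRoot.mk_self, ← hlam] at this
      simpa [hf] using this
    have hfrob : (lam ^ q) ^ 2 - algebraMap K _ t * lam ^ q + 1 = 0 := by
      have := congrArg (FiniteField.frobeniusAlgHom K (AdjoinRoot f)) hl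
      rw [map_add, map_sub, map_pow, map_mul, map_one, map_zero, AlgHom.commutes] at this
      simp only [FiniteField.frobeniusAlgHom_apply, ← hq] at this
      exact this
    have hne : lam ^ q ≠ lam := by
      intro h
      have hmem : lam ∈ (⊥ : Subfield (AdjoinRoot f)) ∨ True := Or.inr trivial
      have hall : ∀ x : AdjoinRoot f, x ^ q = x := by
        intro x
        induction x using AdjoinRoot.induction_on with
        | ih p =>
          have := Polynomial.aeval_algHom_apply (FiniteField.frobeniusAlgHom K (AdjoinRoot f)) lam p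
          simp only [FiniteField.frobeniusAlgHom_apply, ← hq] at this
          rw [h, hlam, AdjoinRoot.aeval_eq] at this
          exact this.symm
      have : (Finset.univ.image (algebraMap K (AdjoinRoot f))).card = q := by
        rw [Finset.card_image_of_injective _ (algebraMap K (AdjoinRoot f)).injective, Finset.card_univ]
      let p : (AdjoinRoot f)[X] := X ^ q - X
      have hp0 : p ≠ 0 := FiniteField.X_pow_card_sub_X_ne_zero _ Fintype.one_lt_card
      have hsub : insert lam (Finset.univ.image (algebraMap K (AdjoinRoot f))) ⊆ p.roots.toFinset := by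
        intro x hx
        rw [Multiset.mem_toFinset, mem_roots hp0, IsRoot]
        simp [p, hall x]
      have hnotin : lam ∉ Finset.univ.image (algebraMap K (AdjoinRoot f)) := by
        intro hx
        obtain ⟨a, -, ha⟩ := Finset.mem_image.1 hx
        apply hroot
        refine ⟨a, (algebraMap K (AdjoinRoot f)).injective ?_⟩
        rw [map_zero, ← hl, ← ha]
        simp [pow_two]
      have hle := (Finset.card_le_card hsub).trans (Multiset.toFinset_card_le _) |>.trans (card_roots' p)
      rw [Finset.card_insert_of_notMem hnotin, this, FiniteField.X_pow_card_sub_X_natDegree_eq _ Fintype.one_lt_card]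
        at hle
      omega
    have hsum : lam ^ q + lam = algebraMap K _ t := by
      have : (lam ^ q - lam) * (lam ^ q + lam - algebraMap K _ t) = 0 := by linear_combination hfrob - hl
      exact sub_eq_zero.1 ((mul_eq_zero.1 this).resolve_left (sub_ne_zero.2 hne))
    have hnorm : lam ^ (q + 1) = 1 := by
      rw [pow_succ]
      linear_combination lam * hsum - hl
    have hq2 : (q + 1) / 2 * 2 = q + 1 := by
      have : q % 2 = 1 := FiniteField.odd_card_of_char_ne_two (by
        rw [ringChar.eq K 3]; decide)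
      omega
    have hs : lam ^ ((q + 1) / 2) = algebraMap K _ 1 ∨ lam ^ ((q + 1) / 2) = algebraMap K _ (-1) := by
      rw [map_neg, map_one, ← sq_eq_one_iff, ← pow_mul, hq2, hnorm]
    have key : ∀ s : K, lam ^ ((q + 1) / 2) = algebraMap K _ s → (g : M2 K) ^ ((q + 1) / 2) = algebraMap K _ s := by
      intro s hs
      have hd : f ∣ X ^ ((q + 1) / 2) - C s := by
        rw [← AdjoinRoot.mk_eq_zero, map_sub, map_pow, AdjoinRoot.mk_X, AdjoinRoot.mk_C, ← AdjoinRoot.algebraMap_eq,
          ← hlam, hs, sub_self]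
      have := hdvd _ hd
      rwa [map_sub, map_pow, aeval_X, aeval_C, sub_eq_zero] at this
    rcases hs with h | h
    · exact Or.inl (Subtype.ext (by rw [Matrix.SpecialLinearGroup.coe_pow, key 1 h, map_one]; rfl))
    · refine Or.inr (Subtype.ext ?_)
      rw [Matrix.SpecialLinearGroup.coe_pow, key (-1) h, map_neg, map_one]
      simp

theorem mod_four {α : ℕ} (hodd : Odd α) : (3 : ℕ) ^ α % 4 = 3 := by
  obtain ⟨k, rfl⟩ := hodd
  rw [pow_succ, pow_mul, Nat.mul_mod, Nat.pow_mod]
  norm_num

theorem order_dvd {α : ℕ} (hodd : Odd α) (hK : Fintype.card K = 3 ^ α) (h : Grp K) :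
    orderOf h ∣ 6 ∨ orderOf h ∣ 9 ∨ orderOf h ∣ 3 ^ α - 1 ∨ orderOf h ∣ (3 ^ α + 1) / 2 := by
  obtain ⟨⟨g, e⟩, hge⟩ := h.right.2
  have hpow : ∀ n : ℕ, rho K (g ^ n, e ^ n) = 1 → h.right ^ n = 1 := fun n hn =>
    Subtype.ext (by rw [Subgroup.coe_pow, ← hge, ← map_pow]; exact hn)
  have he : ∀ n : ℕ, Even n → e ^ n = 1 := fun n hn => by
    rcases Int.units_eq_one_or e with rfl | rfl <;> simp [hn.neg_one_pow]
  have hs : ∀ (n : ℕ), (g ^ n = 1 ∨ g ^ n = -1) → e ^ n = 1 → h.right ^ n = 1 := fun n hg he' =>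
    hpow n (by rw [he']; exact rho_scalar_one K hg)
  have hfixof : ∀ X, (h.right : MulAut (Multiplicative (M2 K))) X = X → rho K (g, e) X = X := fun X hX => by
    rw [hge]; exact hX
  by_cases h0 : (g : M2 K).trace = 0
  · left
    exact orderOf_dvd_of_pow_eq_one
      (pow_three_mul_eq_one h (n := 2) (hs 2 (Or.inr (sq_of_trace_zero h0)) (he 2 even_two)))
  by_cases h12 : (g : M2 K).trace = 2 * 1 ∨ (g : M2 K).trace = 2 * -1
  · obtain ⟨s, hsv, hst⟩ : ∃ s : K, (s = 1 ∨ s = -1) ∧ (g : M2 K).trace = 2 * s := by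
      rcases h12 with h' | h'
      · exact ⟨1, Or.inl rfl, h'⟩
      · exact ⟨-1, Or.inr rfl, h'⟩
    have hg3 := pow_three_of_trace hsv hst
    rcases Int.units_eq_one_or e with he1 | he1
    · right; left
      exact orderOf_dvd_of_pow_eq_one (pow_three_mul_eq_one h (n := 3) (hs 3 hg3 (by rw [he1, one_pow])))
    · left
      refine orderOf_dvd_of_pow_eq_one (pow_eq_one_of_no_fixed h ?_ fun X hX => ?_)
      · refine hs 6 (Or.inl ?_) (he 6 (by decide))
        rw [show (6 : ℕ) = 3 * 2 from rfl, pow_mul]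
        rcases hg3 with h' | h' <;> rw [h'] <;> simp
      · have hX' := hfixof X hX
        have h3 : rho K (g ^ 3, e ^ 3) X = X := by
          rw [show (g ^ 3, e ^ 3) = (g, e) ^ 3 from rfl, map_pow, pow_succ, pow_two, MulAut.mul_apply,
            MulAut.mul_apply, hX', hX', hX']
        rw [show (g ^ 3, e ^ 3) = (g ^ 3, (1 : ℤˣ)) * (1, -1) from Prod.ext (by simp) (by simp [he1]; decide), map_mul, rho_scalar_one K hg3,
          one_mul, show X = Multiplicative.ofAdd X.toAdd from rfl] at h3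
        have h4 := congrArg Multiplicative.toAdd h3
        rw [rho_apply] at h4
        simp at h4
        refine Multiplicative.toAdd.injective ?_
        ext i j
        have h5 := congrFun (congrFun h4 i) j
        simp at h5
        have h3' : (3 : K) = 0 := by exact_mod_cast CharP.cast_eq_zero K 3
        show X.toAdd i j = 0
        linear_combination h5 + X.toAdd i j * h3'
  push Not at h12
  have hno : ∀ X, (h.right : MulAut (Multiplicative (M2 K))) X = X → X = 1 := fun X hX =>
    no_fixed hodd hK e h0 (by simpa using h12.1) (by simpa using h12.2) X (hfixof X hX)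
  right; right
  have hm := mod_four hodd
  rcases semisimple_pow (g := g) (by simpa using h12.1) (by simpa using h12.2) with hg | hg
  · left
    rw [hK] at hg
    exact orderOf_dvd_of_pow_eq_one (pow_eq_one_of_no_fixed h (hs _ (Or.inl hg) (he _ (by
      rw [Nat.even_iff]; omega))) hno)
  · right
    rw [hK] at hg
    exact orderOf_dvd_of_pow_eq_one (pow_eq_one_of_no_fixed h (hs _ hg (he _ (by
      rw [Nat.even_iff]; omega))) hno)

theorem order_inr (s : Matrix.SpecialLinearGroup (Fin 2) K × ℤˣ) :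
    orderOf (SemidirectProduct.inr ⟨rho K s, s, rfl⟩ : Grp K) = orderOf (rho K s) := by
  rw [orderOf_injective _ SemidirectProduct.inr_injective, ← Subgroup.orderOf_coe]

/-- A transvection. -/
def unip (K : Type) [Field K] : Matrix.SpecialLinearGroup (Fin 2) K := ⟨!![1, 1; 0, 1], by simp [Matrix.det_fin_two_of]⟩

theorem coe_unip : (unip K : M2 K) = !![1, 1; 0, 1] := rfl

theorem cube_unip : (cube K (unip K) : M2 K) = !![1, 1; 0, 1] := by
  ext i j
  rw [cube_apply, coe_unip]
  fin_cases i <;> fin_cases j <;> simp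

/-- A diagonal element. -/
def dg (a : Kˣ) : Matrix.SpecialLinearGroup (Fin 2) K :=
  ⟨!![(a : K), 0; 0, ((a⁻¹ : Kˣ) : K)], by simp [Matrix.det_fin_two_of]⟩

omit [CharP K 3] [Fintype K] in
theorem coe_dg (a : Kˣ) : (dg a : M2 K) = !![(a : K), 0; 0, ((a⁻¹ : Kˣ) : K)] := rfl

omit [Fintype K] in
theorem cube_dg (a : Kˣ) : (cube K (dg a) : M2 K) = !![((a ^ 3 : Kˣ) : K), 0; 0, (((a ^ 3)⁻¹ : Kˣ) : K)] := by
  ext i j
  rw [cube_apply, coe_dg]
  fin_cases i <;> fin_cases j <;> simp

theorem exists_six {α : ℕ} : ∃ h : Grp K, orderOf h = 6 := by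
  classical
  let u : Matrix.SpecialLinearGroup (Fin 2) K := unip K
  refine ⟨SemidirectProduct.inr ⟨rho K (u, -1), (u, -1), rfl⟩, ?_⟩
  rw [order_inr]
  have h3 : (3 : K) = 0 := by exact_mod_cast CharP.cast_eq_zero K 3
  have hu3 : u ^ 3 = 1 := Subtype.ext (by
    rw [Matrix.SpecialLinearGroup.coe_pow]
    ext i j
    fin_cases i <;> fin_cases j <;> simp [u, coe_unip, pow_succ, Matrix.mul_apply, Fin.sum_univ_two]
    linear_combination h3)
  have h6 : rho K (u, -1) ^ 6 = 1 := by
    rw [← map_pow, show ((u, (-1 : ℤˣ))) ^ 6 = (u ^ 6, 1) by rw [Prod.pow_mk]; rfl, show (6 : ℕ) = 3 * 2 from rfl,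
      pow_mul, hu3, one_pow]
    exact map_one _
  have hne2 : ¬ rho K (u, -1) ^ 2 = 1 := by
    rw [← map_pow, show ((u, (-1 : ℤˣ))) ^ 2 = (u ^ 2, 1) by rw [Prod.pow_mk]; rfl]
    intro h
    rcases eq_one_or_neg K h with h | h <;>
      · have := congrArg (fun g : Matrix.SpecialLinearGroup (Fin 2) K => (g : M2 K) 0 1) h
        simp only [Matrix.SpecialLinearGroup.coe_pow] at this
        simp [u, coe_unip, pow_two, Matrix.mul_apply, Fin.sum_univ_two] at this
        exact one_ne_zero (by linear_combination h3 - this)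
  have hne3 : ¬ rho K (u, -1) ^ 3 = 1 := by
    rw [← map_pow, show ((u, (-1 : ℤˣ))) ^ 3 = (u ^ 3, -1) by rw [Prod.pow_mk]; rfl, hu3]
    intro h
    have := congrArg (fun f : MulAut (Multiplicative (M2 K)) => (f (Multiplicative.ofAdd 1)).toAdd 0 0) h
    simp [rho_apply] at this
    exact one_ne_zero (by linear_combination h3 + this)
  have hd : orderOf (rho K (u, -1)) ∣ 6 := orderOf_dvd_of_pow_eq_one h6
  have hle : orderOf (rho K (u, -1)) ≤ 6 := Nat.le_of_dvd (by norm_num) hd
  rw [← orderOf_dvd_iff_pow_eq_one] at hne2 hne3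
  interval_cases orderOf (rho K (u, -1)) <;> simp_all

theorem exists_nine : ∃ h : Grp K, orderOf h = 9 := by
  classical
  let u : Matrix.SpecialLinearGroup (Fin 2) K := unip K
  have h3 : (3 : K) = 0 := by exact_mod_cast CharP.cast_eq_zero K 3
  have hu3 : u ^ 3 = 1 := Subtype.ext (by
    rw [Matrix.SpecialLinearGroup.coe_pow]
    ext i j
    fin_cases i <;> fin_cases j <;> simp [u, coe_unip, pow_succ, Matrix.mul_apply, Fin.sum_univ_two]
    linear_combination h3)
  let a : (rho K).range := ⟨rho K (u, 1), (u, 1), rfl⟩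
  let h : Grp K := ⟨Multiplicative.ofAdd !![0, 0; 0, 1], a⟩
  have ha : h.right ^ 3 = 1 := Subtype.ext (by
    show rho K (u, 1) ^ 3 = 1
    rw [← map_pow, Prod.pow_mk, hu3, one_pow]; exact map_one _)
  have h9 : h ^ 3 ^ 2 = 1 := pow_three_mul_eq_one h (n := 3) ha
  have hne : ¬ h ^ 3 ^ 1 = 1 := by
    intro h0
    have h1 := congrArg (fun x : Grp K => x.left.toAdd 0 0) h0
    simp only [pow_one] at h1
    rw [pow_succ, pow_two] at h1
    simp only [SemidirectProduct.mul_left, SemidirectProduct.mul_right, map_mul, MulAut.mul_apply, toAdd_mul,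
      SemidirectProduct.one_left, toAdd_one] at h1
    simp only [h, a] at h1
    simp [rho_toAdd, cube_unip, u, coe_unip, Matrix.mul_apply, Matrix.vecMul, Matrix.vecHead, dotProduct, Fin.sum_univ_two, pow_succ] at h1
    exact (one_ne_zero : (1 : K) ≠ 0) (by linear_combination h3 * 2 - h1)
  exact ⟨h, orderOf_eq_prime_pow (p := 3) (n := 1) hne h9⟩

theorem exists_split {α : ℕ} (hodd : Odd α) (hK : Fintype.card K = 3 ^ α) : ∃ h : Grp K, orderOf h = 3 ^ α - 1 := by
  classical
  obtain ⟨a, ha⟩ := IsCyclic.exists_ofOrder_eq_natCard (α := Kˣ)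
  rw [Nat.card_eq_fintype_card, Fintype.card_units, hK] at ha
  let g : Matrix.SpecialLinearGroup (Fin 2) K := dg a
  refine ⟨SemidirectProduct.inr ⟨rho K (g, -1), (g, -1), rfl⟩, ?_⟩
  rw [order_inr]
  have hm := mod_four hodd
  have hgn : ∀ n : ℕ, (g ^ n : Matrix.SpecialLinearGroup (Fin 2) K) = dg (a ^ n) := by
    intro n
    induction n with
    | zero => exact Subtype.ext (by ext i j; fin_cases i <;> fin_cases j <;> simp [coe_dg])
    | succ n ih =>
      rw [pow_succ, ih]
      refine Subtype.ext ?_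
      rw [Matrix.SpecialLinearGroup.coe_mul]
      ext i j
      fin_cases i <;> fin_cases j <;> simp [g, coe_dg, Matrix.mul_apply, Fin.sum_univ_two, pow_succ, mul_comm]
  refine Nat.dvd_antisymm (orderOf_dvd_of_pow_eq_one ?_) ?_
  · rw [← map_pow, Prod.pow_mk, Even.neg_one_pow (by rw [Nat.even_iff]; omega)]
    refine rho_scalar_one K (Or.inl ?_)
    rw [hgn]
    refine Subtype.ext ?_
    ext i j
    fin_cases i <;> fin_cases j <;> simp [coe_dg, ← ha, ← Units.val_pow_eq_pow_val, pow_orderOf_eq_one]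
  · set n := orderOf (rho K (g, -1)) with hn
    have h1 : rho K (g ^ n, (-1) ^ n) = 1 := by
      rw [show (g ^ n, (-1 : ℤˣ) ^ n) = (g, -1) ^ n from rfl, map_pow, hn, pow_orderOf_eq_one]
    have hev : Even n := by
      by_contra hne
      rw [Nat.not_even_iff_odd] at hne
      rw [hne.neg_one_pow] at h1
      have h2 := congrArg (fun f : MulAut (Multiplicative (M2 K)) => (f (Multiplicative.ofAdd !![1, 0; 0, 0])).toAdd 0 0) h1
      have h3' := congrArg (fun f : MulAut (Multiplicative (M2 K)) => (f (Multiplicative.ofAdd !![0, 1; 0, 0])).toAdd 0 1) h1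
      simp [rho_apply, hgn, coe_dg, cube_dg, Matrix.mul_apply, Matrix.vecMul, dotProduct, Fin.sum_univ_two] at h2 h3'
      have hA : (a : K) ^ n ≠ 0 := pow_ne_zero _ a.ne_zero
      field_simp at h3'
      refine no_neg_one_square hodd hK ((a : K) ^ n) ?_
      linear_combination -h3'
    rw [hev.neg_one_pow] at h1
    have h2 : a ^ (2 * n) = 1 := by
      rcases eq_one_or_neg K h1 with h | h
      all_goals
        have := congrArg (fun x : Matrix.SpecialLinearGroup (Fin 2) K => (x : M2 K) 0 0) h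
        simp [hgn, coe_dg] at this
        refine Units.ext ?_
        rw [mul_comm, pow_mul, Units.val_pow_eq_pow_val, Units.val_pow_eq_pow_val, this]
        norm_num
    have h3 : 3 ^ α - 1 ∣ 2 * n := ha ▸ orderOf_dvd_of_pow_eq_one h2
    obtain ⟨k, hk⟩ := hev
    obtain ⟨c, hc⟩ : 2 ∣ 3 ^ α - 1 := by omega
    have hco : Nat.Coprime c 2 := by rw [Nat.coprime_two_right, Nat.odd_iff]; omega
    rw [hk, ← two_mul] at h3 ⊢
    rw [hc] at h3 ⊢
    exact Nat.mul_dvd_mul_left 2 (hco.dvd_of_dvd_mul_left (Nat.dvd_of_mul_dvd_mul_left two_pos h3))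

theorem exists_nonsplit {α : ℕ} (hodd : Odd α) (hK : Fintype.card K = 3 ^ α) :
    ∃ h : Grp K, orderOf h = (3 ^ α + 1) / 2 := by
  classical
  have hm := mod_four hodd
  set f : K[X] := X ^ 2 + 1 with hf
  have hdeg : f.natDegree = 2 := by rw [hf]; compute_degree!
  have hmonic : f.Monic := by rw [hf]; monicity!
  have hirr : Irreducible f := by
    rw [hmonic.irreducible_iff_roots_eq_zero_of_degree_le_three (by omega) (by omega)]
    refine Multiset.eq_zero_of_forall_notMem fun a ha => no_neg_one_square hodd hK a ?_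
    rw [mem_roots hmonic.ne_zero, IsRoot] at ha
    simp [hf, pow_two] at ha
    linear_combination ha
  have := Fact.mk hirr
  let E := AdjoinRoot f
  let pb := AdjoinRoot.powerBasis hmonic.ne_zero
  have hdim : pb.dim = 2 := by simp [pb, hdeg]
  let b : Module.Basis (Fin 2) K E := pb.basis.reindex (finCongr hdim)
  have : Module.Finite K E := Module.Finite.of_basis b
  have : Finite E := Module.finite_of_finite K
  have := Fintype.ofFinite E
  have hcardE : Nat.card E = (3 ^ α) ^ 2 := by
    rw [Module.natCard_eq_pow_finrank (K := K), pb.finrank, hdim, Nat.card_eq_fintype_card, hK]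
  obtain ⟨z, hz⟩ := IsCyclic.exists_ofOrder_eq_natCard (α := Eˣ)
  have hq2 : 2 ≤ 3 ^ α := by omega
  have hunits : Nat.card Eˣ = (3 ^ α - 1) * (3 ^ α + 1) := by
    rw [Nat.card_units, hcardE]
    zify [Nat.one_le_pow 2 (3 ^ α) (by omega), (by omega : 1 ≤ 3 ^ α)]
    ring
  let l : Eˣ := z ^ (3 ^ α - 1)
  have hl : orderOf l = 3 ^ α + 1 := by
    rw [orderOf_pow' z (by omega), hz, hunits, Nat.gcd_eq_right (Dvd.intro _ rfl), Nat.mul_div_cancel_left _ (by omega)]
  let L : E →ₐ[K] M2 K := Algebra.leftMulMatrix b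
  have hdet : (L (l : E)).det = 1 := by
    rw [show L (l : E) = Algebra.leftMulMatrix b (l : E) from rfl, ← Algebra.norm_eq_matrix_det]
    apply (algebraMap K E).injective
    rw [map_one, FiniteField.algebraMap_norm_eq_pow, hcardE, Nat.card_eq_fintype_card, hK]
    have he : ((3 ^ α) ^ 2 - 1) / (3 ^ α - 1) = 3 ^ α + 1 := by
      rw [show (3 ^ α) ^ 2 - 1 = (3 ^ α - 1) * (3 ^ α + 1) by
        zify [Nat.one_le_pow 2 (3 ^ α) (by omega), (by omega : 1 ≤ 3 ^ α)]; ring, Nat.mul_div_cancel_left _ (by omega)]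
    rw [he, ← Units.val_pow_eq_pow_val, ← hl, pow_orderOf_eq_one, Units.val_one]
  let g : Matrix.SpecialLinearGroup (Fin 2) K := ⟨L (l : E), hdet⟩
  have hgn : ∀ n : ℕ, ((g ^ n : Matrix.SpecialLinearGroup (Fin 2) K) : M2 K) = L ((l ^ n : Eˣ) : E) := fun n => by
    rw [Matrix.SpecialLinearGroup.coe_pow, Units.val_pow_eq_pow_val, map_pow]
  have hLinj : Function.Injective L := Algebra.leftMulMatrix_injective b
  refine ⟨SemidirectProduct.inr ⟨rho K (g, 1), (g, 1), rfl⟩, ?_⟩
  rw [order_inr]
  have hq : (3 ^ α + 1) / 2 * 2 = 3 ^ α + 1 := by omega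
  refine Nat.dvd_antisymm (orderOf_dvd_of_pow_eq_one ?_) ?_
  · rw [← map_pow, Prod.pow_mk, one_pow]
    refine rho_scalar_one K ?_
    have h2 : ((l ^ ((3 ^ α + 1) / 2) : Eˣ) : E) ^ 2 = 1 := by
      rw [← Units.val_pow_eq_pow_val, ← pow_mul, hq, ← hl, pow_orderOf_eq_one, Units.val_one]
    rcases sq_eq_one_iff.1 h2 with h | h
    · exact Or.inl (Subtype.ext (by rw [hgn, h, map_one]; rfl))
    · exact Or.inr (Subtype.ext (by rw [hgn, h, map_neg, map_one]; simp))
  · set n := orderOf (rho K (g, 1)) with hn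
    have h1 : rho K (g ^ n, 1) = 1 := by
      rw [show (g ^ n, (1 : ℤˣ)) = (g, 1) ^ n by simp, map_pow, hn, pow_orderOf_eq_one]
    have h2 : (l ^ n) ^ 2 = 1 := by
      refine Units.ext (hLinj ?_)
      rw [Units.val_pow_eq_pow_val, map_pow, ← hgn, Units.val_one, map_one]
      rcases eq_one_or_neg K h1 with h | h <;> rw [h] <;> simp
    rw [← pow_mul] at h2
    have h3 := orderOf_dvd_of_pow_eq_one h2
    rw [hl, ← hq] at h3
    exact Nat.dvd_of_mul_dvd_mul_right two_pos h3

end Cfsg.Lib.Concrete.TwTensor
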