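import Mathlib

/-!
Orders of unipotent matrices in characteristic `p`.
-/

set_option autoImplicit false

namespace Cfsg.Lib.Concrete

open Matrix

variable {F : Type*} [Field F] {d : ℕ}

theorem pow_dim_eq_zero_of_isNilpotent {N : Matrix (Fin d) (Fin d) F} (h : IsNilpotent N) : N ^ d = 0 := by
  have h1 := Matrix.isNilpotent_charpoly_sub_pow_of_isNilpotent h
  rw [Fintype.card_fin] at h1
  have h2 : N.charpoly = Polynomial.X ^ d := sub_eq_zero.1 h1.eq_zero
  have h3 := Matrix.aeval_self_charpoly N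
  rwa [h2, map_pow, Polynomial.aeval_X] at h3

variable (p : ℕ) [hp : Fact p.Prime] [CharP F p]

theorem unipotent_pow_eq_one_iff (u : GL (Fin d) F) (n : ℕ) :
    u ^ p ^ n = 1 ↔ ((u : Matrix (Fin d) (Fin d) F) - 1) ^ p ^ n = 0 := by
  rcases isEmpty_or_nonempty (Fin d) with he | he
  · exact iff_of_true (Units.ext (Subsingleton.elim _ _)) (Subsingleton.elim _ _)
  rw [sub_pow_char_pow_of_commute (p := p) (n := n) (Commute.one_right _), one_pow, sub_eq_zero,
    ← Units.val_pow_eq_pow_val, Units.val_eq_one]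

theorem unipotent_order_dvd {u : GL (Fin d) F} (hu : IsNilpotent ((u : Matrix (Fin d) (Fin d) F) - 1)) :
    orderOf u ∣ p ^ Nat.clog p d :=
  orderOf_dvd_of_pow_eq_one ((unipotent_pow_eq_one_iff p u _).2
    (pow_eq_zero_of_le (Nat.le_pow_clog hp.out.one_lt d) (pow_dim_eq_zero_of_isNilpotent hu)))

theorem unipotent_order_eq {u : GL (Fin d) F} (hu : IsNilpotent ((u : Matrix (Fin d) (Fin d) F) - 1))
    (hN : ((u : Matrix (Fin d) (Fin d) F) - 1) ^ (d - 1) ≠ 0) : orderOf u = p ^ Nat.clog p d := by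
  obtain ⟨j, hj, hju⟩ := (Nat.dvd_prime_pow hp.out).1 (unipotent_order_dvd p hu)
  rcases hj.eq_or_lt with rfl | hlt
  · exact hju
  exfalso
  apply hN
  have h1 : u ^ p ^ j = 1 := hju ▸ pow_orderOf_eq_one u
  refine pow_eq_zero_of_le ?_ ((unipotent_pow_eq_one_iff p u j).1 h1)
  have : p ^ j < d := by
    by_contra h
    rw [not_lt] at h
    exact absurd (Nat.clog_le_of_le_pow h) (not_le.2 hlt)
  omega

/-- Elements of `p`-power order are unipotent and their order is less than `p * d`. -/
theorem pow_order_lt (hd : 1 ≤ d) {g : GL (Fin d) F} {j : ℕ} (hg : orderOf g = p ^ j) : orderOf g < p * d := by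
  have hp1 := hp.out.two_le
  have hnil : IsNilpotent ((g : Matrix (Fin d) (Fin d) F) - 1) :=
    ⟨p ^ j, (unipotent_pow_eq_one_iff p g j).1 (hg ▸ pow_orderOf_eq_one g)⟩
  refine lt_of_le_of_lt (Nat.le_of_dvd (pow_pos (by omega) _) (unipotent_order_dvd p hnil)) ?_
  rcases Nat.eq_zero_or_pos (Nat.clog p d) with h | h
  · rw [h, pow_zero]; nlinarith
  · have hd1 : 1 < d := by
      by_contra h'
      rw [Nat.clog_of_right_le_one (by omega)] at h
      omega
    have h1 : p ^ (Nat.clog p d - 1) < d := Nat.pow_pred_clog_lt_self hp.out.one_lt hd1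
    calc p ^ Nat.clog p d = p * p ^ (Nat.clog p d - 1) := by rw [← pow_succ']; congr 1; omega
      _ < p * d := Nat.mul_lt_mul_of_pos_left h1 (by omega)

/-- The nilpotent shift matrix. -/
def shiftMat (F : Type*) [Field F] (d : ℕ) : Matrix (Fin d) (Fin d) F :=
  Matrix.of fun i j => if i.val + 1 = j.val then 1 else 0

theorem shiftMat_pow (k : ℕ) : ∀ i j : Fin d, (shiftMat F d ^ k) i j = if i.val + k = j.val then 1 else 0 := by
  induction k with
  | zero => intro i j; simp [Matrix.one_apply, Fin.ext_iff]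
  | succ k ih =>
    intro i j
    rw [pow_succ, Matrix.mul_apply]
    simp only [ih]
    simp only [shiftMat, Matrix.of_apply]
    by_cases h : i.val + (k + 1) = j.val
    · rw [if_pos h, Finset.sum_eq_single (⟨i.val + k, by omega⟩ : Fin d)]
      · simp; omega
      · intro x _ hx
        have : i.val + k ≠ x.val := fun e => hx (Fin.ext e.symm)
        simp [this]
      · simp
    · rw [if_neg h]
      refine Finset.sum_eq_zero fun x _ => ?_
      split_ifs <;> first | omega | simp

theorem exists_regular_unipotent : ∃ u : GL (Fin d) F,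
    IsNilpotent ((u : Matrix (Fin d) (Fin d) F) - 1) ∧
    (1 ≤ d → ((u : Matrix (Fin d) (Fin d) F) - 1) ^ (d - 1) ≠ 0) := by
  have hnil : IsNilpotent (shiftMat F d) := ⟨d, by ext i j; rw [shiftMat_pow, Matrix.zero_apply]; simp; omega⟩
  refine ⟨hnil.isUnit_one_add.unit, ?_, ?_⟩
  · simpa using hnil
  · intro hd h
    simp only [IsUnit.unit_spec, add_sub_cancel_left] at h
    have := congrFun (congrFun h ⟨0, by omega⟩) ⟨d - 1, by omega⟩
    rw [shiftMat_pow] at this
    simp at this

end Cfsg.Lib.Concrete
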