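import Mathlib

/-!
Commuting finite order operators with a sign flip for each of them need twice as many dimensions.
-/

set_option autoImplicit false

namespace Cfsg.Lib.Concrete

open Module Module.End

section Counting

variable {ι L : Type*} [DecidableEq ι] [Field L]

open scoped Classical in
theorem two_mul_le_card_of_flips : ∀ (J : Finset ι) (S : Finset (ι → L)),
    (∀ c ∈ S, ∀ j ∈ J, Function.update c j (c j)⁻¹ ∈ S) → (∀ j ∈ J, ∃ c ∈ S, c j ≠ (c j)⁻¹) →
    2 * J.card ≤ S.card := by
  intro J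
  induction J using Finset.strongInduction with
  | _ J ih =>
    intro S hflip hwit
    rcases J.eq_empty_or_nonempty with rfl | ⟨i, hi⟩
    · simp
    obtain ⟨c, hc, hci⟩ := hwit i hi
    set K := J.filter fun j => c j ≠ (c j)⁻¹ with hK
    let sg : Finset ι → (ι → L) := fun A j => if j ∈ A then (c j)⁻¹ else c j
    set O := K.powerset.image sg with hO
    have hinj : Set.InjOn sg ↑K.powerset := by
      intro A hA B hB h
      ext j
      have hne : ∀ A' ∈ K.powerset, j ∈ A' → c j ≠ (c j)⁻¹ := fun A' h1 h2 =>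
        (Finset.mem_filter.1 (Finset.mem_powerset.1 h1 h2)).2
      have hj := congrFun h j
      simp only [sg] at hj
      by_cases h1 : j ∈ A <;> by_cases h2 : j ∈ B <;> simp only [h1, h2, if_true, if_false] at hj ⊢
      · exact absurd hj.symm (hne A hA h1)
      · exact absurd hj (hne B hB h2)
    have hOc : O.card = 2 ^ K.card := by rw [hO, Finset.card_image_of_injOn hinj, Finset.card_powerset]
    have hOS : O ⊆ S := by
      intro x hx
      obtain ⟨A, hA, rfl⟩ := Finset.mem_image.1 hx
      rw [Finset.mem_powerset] at hA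
      clear hx
      induction A using Finset.induction_on with
      | empty => simpa [sg] using hc
      | insert a A ha ih' =>
        have haJ : a ∈ J := (Finset.mem_filter.1 (hA (Finset.mem_insert_self a A))).1
        have := hflip _ (ih' fun x hx => hA (Finset.mem_insert_of_mem hx)) a haJ
        convert this using 1
        funext j
        rcases eq_or_ne j a with rfl | hj
        · simp [sg, ha]
        · simp [sg, hj]
    have hOflip : ∀ x ∈ O, ∀ j ∈ J, Function.update x j (x j)⁻¹ ∈ O := by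
      intro x hx j hj
      obtain ⟨A, hA, rfl⟩ := Finset.mem_image.1 hx
      rw [Finset.mem_powerset] at hA
      by_cases hjK : j ∈ K
      · refine Finset.mem_image.2 ⟨if j ∈ A then A.erase j else insert j A, Finset.mem_powerset.2 ?_, ?_⟩
        · split_ifs
          · exact (Finset.erase_subset _ _).trans hA
          · exact Finset.insert_subset hjK hA
        · funext k
          rcases eq_or_ne k j with rfl | hk
          · by_cases h : k ∈ A <;> simp [sg, h]
          · by_cases h : j ∈ A <;> simp [sg, h, hk]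
      · have hfix : c j = (c j)⁻¹ := by
          by_contra h
          exact hjK (Finset.mem_filter.2 ⟨hj, h⟩)
        have hjA : j ∉ A := fun h => hjK (hA h)
        rw [show Function.update (sg A) j (sg A j)⁻¹ = sg A by
          funext k
          rcases eq_or_ne k j with rfl | hk
          · simp [sg, hjA, ← hfix]
          · simp [hk]]
        exact hx
    have hrest := ih (J \ K) (by
        rw [Finset.ssubset_iff_of_subset Finset.sdiff_subset]
        exact ⟨i, hi, fun h => (Finset.mem_sdiff.1 h).2 (Finset.mem_filter.2 ⟨hi, hci⟩)⟩) (S \ O)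
      (fun x hx j hj => Finset.mem_sdiff.2 ⟨hflip x (Finset.mem_sdiff.1 hx).1 j (Finset.mem_sdiff.1 hj).1, fun h => by
        have h2 := hOflip _ h j (Finset.mem_sdiff.1 hj).1
        simp only [Function.update_self, inv_inv, Function.update_idem, Function.update_eq_self] at h2
        exact (Finset.mem_sdiff.1 hx).2 h2⟩)
      (fun j hj => by
        obtain ⟨d, hd, hdj⟩ := hwit j (Finset.mem_sdiff.1 hj).1
        refine ⟨d, Finset.mem_sdiff.2 ⟨hd, fun h => ?_⟩, hdj⟩
        obtain ⟨A, hA, rfl⟩ := Finset.mem_image.1 h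
        have hjA : j ∉ A := fun h' => (Finset.mem_sdiff.1 hj).2 (Finset.mem_powerset.1 hA h')
        simp only [sg, hjA, if_false] at hdj
        exact (Finset.mem_sdiff.1 hj).2 (Finset.mem_filter.2 ⟨(Finset.mem_sdiff.1 hj).1, hdj⟩))
    have h1 : J.card = (J \ K).card + K.card := (Finset.card_sdiff_add_card_eq_card (Finset.filter_subset _ J)).symm
    have h2 : (S \ O).card + O.card = S.card := Finset.card_sdiff_add_card_eq_card hOS
    have hK1 : 0 < K.card := Finset.card_pos.2 ⟨i, Finset.mem_filter.2 ⟨hi, hci⟩⟩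
    have h3 : 2 * K.card ≤ 2 ^ K.card := by
      obtain ⟨k, hk⟩ := Nat.exists_eq_succ_of_ne_zero hK1.ne'
      rw [hk, pow_succ', Nat.mul_le_mul_left_iff (by norm_num)]
      exact Nat.lt_two_pow_self
    omega

end Counting

variable {ι L V : Type*} [Fintype ι] [DecidableEq ι] [Field L] [IsAlgClosed L] [AddCommGroup V] [Module L V]
  [FiniteDimensional L V]

theorem exists_common_eigenvector (T : ι → End L V) (hT : ∀ i j, Commute (T i) (T j)) (U : Submodule L V)
    (hU : U ≠ ⊥) (hinv : ∀ i, ∀ u ∈ U, T i u ∈ U) :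
    ∃ v ∈ U, v ≠ 0 ∧ ∀ i, ∃ μ : L, T i v = μ • v := by
  suffices h : ∀ s : Finset ι, ∃ U' ≤ U, U' ≠ ⊥ ∧ (∀ i, ∀ u ∈ U', T i u ∈ U') ∧
      ∀ i ∈ s, ∃ μ : L, ∀ u ∈ U', T i u = μ • u by
    obtain ⟨U', hle, hne, -, hsc⟩ := h Finset.univ
    obtain ⟨v, hv, hv0⟩ := Submodule.exists_mem_ne_zero_of_ne_bot hne
    exact ⟨v, hle hv, hv0, fun i => (hsc i (Finset.mem_univ i)).imp fun μ hμ => hμ v hv⟩
  intro s
  induction s using Finset.induction_on with
  | empty => exact ⟨U, le_rfl, hU, hinv, by simp⟩
  | insert a s _ ih =>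
    obtain ⟨U', hle, hne, hinv', hsc⟩ := ih
    have : Nontrivial U' := Submodule.nontrivial_iff_ne_bot.2 hne
    obtain ⟨μ, hμ⟩ := Module.End.exists_eigenvalue ((T a).restrict fun u hu => hinv' a u hu)
    obtain ⟨⟨u, hu⟩, hu1, hu0⟩ := hμ.exists_hasEigenvector
    refine ⟨U' ⊓ eigenspace (T a) μ, inf_le_left.trans hle, ?_, ?_, ?_⟩
    · refine (Submodule.ne_bot_iff _).2 ⟨u, ⟨hu, mem_eigenspace_iff.2 ?_⟩, fun h => hu0 (Subtype.ext h)⟩
      exact congrArg Subtype.val (mem_eigenspace_iff.1 hu1)
    · intro i x hx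
      obtain ⟨hx1, hx2⟩ := Submodule.mem_inf.1 hx
      refine Submodule.mem_inf.2 ⟨hinv' i x hx1, mem_eigenspace_iff.2 ?_⟩
      rw [← Module.End.mul_apply, (hT a i).eq, Module.End.mul_apply, mem_eigenspace_iff.1 hx2, map_smul]
    · intro i hi
      rcases Finset.mem_insert.1 hi with rfl | hi
      · exact ⟨μ, fun x hx => mem_eigenspace_iff.1 (Submodule.mem_inf.1 hx).2⟩
      · exact (hsc i hi).imp fun ν hν x hx => hν x (Submodule.mem_inf.1 hx).1

/-- An operator of finite order prime to the characteristic whose square is not the identity has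
an eigenvalue different from its inverse. -/
theorem exists_eigenvalue_sq_ne_one (T : End L V) {N : ℕ} (hN : (N : L) ≠ 0) (hTN : T ^ N = 1) (hT : T ^ 2 ≠ 1) :
    ∃ μ : L, T.HasEigenvalue μ ∧ μ ^ 2 ≠ 1 := by
  by_contra hall
  push Not at hall
  set U : Submodule L V := LinearMap.range (T ^ 2 - 1) with hU
  have hne : U ≠ ⊥ := by
    rw [hU, Ne, LinearMap.range_eq_bot, sub_eq_zero]
    exact hT
  obtain ⟨u, hu, hu0, hev⟩ := exists_common_eigenvector (fun _ : Unit => T) (fun _ _ => Commute.refl T) U hne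
    (fun _ u hu => by
      obtain ⟨z, rfl⟩ := hu
      refine ⟨T z, ?_⟩
      rw [← Module.End.mul_apply, ← Module.End.mul_apply, sub_mul, mul_sub, one_mul, mul_one, ← pow_succ, ← pow_succ'])
  obtain ⟨μ, hμ⟩ := hev ()
  obtain ⟨z, hz⟩ := hu
  have hμe : T.HasEigenvalue μ := Module.End.hasEigenvalue_of_hasEigenvector ⟨mem_eigenspace_iff.2 hμ, hu0⟩
  have h2 : (T ^ 2) u = u := by
    rw [pow_two, Module.End.mul_apply, hμ, map_smul, hμ, smul_smul, ← pow_two, hall μ hμe, one_smul]
  have hz2 : (T ^ 2) z = z + u := by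
    rw [← hz, LinearMap.sub_apply, Module.End.one_apply]
    abel
  have hpow : ∀ k : ℕ, ((T ^ 2) ^ k) z = z + (k : L) • u := by
    intro k
    induction k with
    | zero => simp
    | succ k ih =>
      rw [pow_succ', Module.End.mul_apply, ih, map_add, map_smul, hz2, h2, Nat.cast_succ, add_smul, one_smul]
      abel
  have h := hpow N
  rw [← pow_mul, mul_comm, pow_mul, hTN, one_pow, Module.End.one_apply, left_eq_add, smul_eq_zero] at h
  exact h.elim hN hu0

theorem two_mul_card_le_finrank (T W : ι → End L V) {N : ℕ} (hN : (N : L) ≠ 0)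
    (hTT : ∀ i j, Commute (T i) (T j)) (hTN : ∀ i, T i ^ N = 1) (hT2 : ∀ i, T i ^ 2 ≠ 1)
    (hW : ∀ i, Function.Injective (W i)) (hWT : ∀ i j, i ≠ j → Commute (W i) (T j))
    (hflip : ∀ i, T i * (W i * T i) = W i) :
    2 * Fintype.card ι ≤ finrank L V := by
  classical
  set E : (ι → L) → Submodule L V := fun c => ⨅ i, eigenspace (T i) (c i) with hE
  have hmem : ∀ {c v}, v ∈ E c ↔ ∀ i, T i v = c i • v := fun {c v} => by
    simp only [hE, Submodule.mem_iInf, mem_eigenspace_iff]
  have hind : iSupIndep E := by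
    refine iSupIndep.mono (independent_iInf_maxGenEigenspace_of_forall_mapsTo T fun i j φ => ?_)
      fun c => iInf_mono fun i => eigenspace_le_maxGenEigenspace
    exact Module.End.mapsTo_maxGenEigenspace_of_comm (hTT j i) φ
  have := hind.fintypeNeBotOfFiniteDimensional
  have hle := hind.subtype_ne_bot_le_finrank
  let S : Finset (ι → L) := (Finset.univ : Finset {c // E c ≠ ⊥}).image Subtype.val
  have hS : ∀ {c}, c ∈ S ↔ E c ≠ ⊥ := fun {c} => by simp [S]
  have hScard : S.card = Fintype.card {c // E c ≠ ⊥} := Finset.card_image_of_injective _ Subtype.val_injective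
  have hnz : ∀ c ∈ S, ∀ i, c i ≠ 0 := by
    intro c hc i h0
    obtain ⟨v, hv, hv0⟩ := Submodule.exists_mem_ne_zero_of_ne_bot (hS.1 hc)
    refine hv0 ?_
    have hNpos : N ≠ 0 := fun h => hN (by rw [h, Nat.cast_zero])
    obtain ⟨k, rfl⟩ := Nat.exists_eq_succ_of_ne_zero hNpos
    calc v = (T i ^ (k + 1)) v := by rw [hTN]; rfl
      _ = 0 := by rw [pow_succ, Module.End.mul_apply, hmem.1 hv i, h0, zero_smul, map_zero]
  have h := two_mul_le_card_of_flips (Finset.univ : Finset ι) S ?_ ?_
  · rw [Finset.card_univ, hScard] at h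
    omega
  · intro c hc i _
    obtain ⟨v, hv, hv0⟩ := Submodule.exists_mem_ne_zero_of_ne_bot (hS.1 hc)
    refine hS.2 ((Submodule.ne_bot_iff _).2 ⟨W i v, hmem.2 fun j => ?_, fun h => hv0 (hW i (h.trans (map_zero _).symm))⟩)
    rcases eq_or_ne j i with rfl | hj
    · rw [Function.update_self]
      have h1 : T j (W j (c j • v)) = W j v := by
        rw [← hmem.1 hv j]
        exact congrArg (fun f : End L V => f v) (hflip j)
      rw [map_smul, map_smul] at h1
      conv_rhs => rw [← h1]
      rw [smul_smul, inv_mul_cancel₀ (hnz c hc j), one_smul]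
    · rw [Function.update_of_ne hj, ← Module.End.mul_apply, ← (hWT i j hj.symm).eq, Module.End.mul_apply,
        hmem.1 hv j, map_smul]
  · intro i _
    obtain ⟨μ, hμ, hμ2⟩ := exists_eigenvalue_sq_ne_one (T i) hN (hTN i) (hT2 i)
    obtain ⟨v, hv, hv0, hev⟩ := exists_common_eigenvector T hTT (eigenspace (T i) μ) hμ fun j u hu => by
      rw [mem_eigenspace_iff, ← Module.End.mul_apply, (hTT i j).eq, Module.End.mul_apply, mem_eigenspace_iff.1 hu, map_smul]
    choose c hc using hev
    have hcS : c ∈ S := hS.2 ((Submodule.ne_bot_iff _).2 ⟨v, hmem.2 hc, hv0⟩)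
    refine ⟨c, hcS, fun h => hμ2 ?_⟩
    have : c i = μ := smul_left_injective L hv0 ((hc i).symm.trans (mem_eigenspace_iff.1 hv))
    rw [← this, pow_two]
    conv_lhs => arg 2; rw [h]
    exact mul_inv_cancel₀ (hnz c hcS i)

end Cfsg.Lib.Concrete
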